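import Cfsg.Prelude.Def_OddOrderLocal
import Mathlib

/-!
The subgroups attached to a maximal subgroup of Type I follow automorphisms of the ambient group.
-/

set_option autoImplicit false

namespace Cfsg.Agent.OddOrder.PF

open Cfsg
open scoped Pointwise

universe u

theorem fittingHall_map_equiv {X Y : Type u} [Group X] [Group Y] (e : X ≃* Y) :
    (fittingHall X).map e.toMonoidHom = fittingHall Y := by
  have key : ∀ {A B : Type u} [Group A] [Group B] (f : A ≃* B),
      (fittingHall A).map f.toMonoidHom ≤ fittingHall B := by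
    intro A B _ _ f
    rw [Subgroup.map_le_iff_le_comap]
    refine sSup_le fun N hN => Subgroup.map_le_iff_le_comap.1 (le_sSup ?_)
    obtain ⟨h1, h2, h3⟩ := hN
    haveI := h2
    refine ⟨h1.map _ f.surjective,
      Group.nilpotent_of_mulEquiv (N.equivMapOfInjective f.toMonoidHom f.injective), ?_⟩
    rw [Subgroup.card_map_of_injective f.injective,
      Subgroup.index_map_of_bijective f.bijective]
    exact h3
  refine le_antisymm (key e) fun y hy => ?_
  have h := key e.symm (Subgroup.mem_map_of_mem _ hy)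
  exact ⟨e.symm y, h, e.apply_symm_apply y⟩

variable {G : Type u} [Group G]

theorem fittingHallOf_map (φ : G ≃* G) (M : Subgroup G) :
    (fittingHallOf M).map φ.toMonoidHom = fittingHallOf (M.map φ.toMonoidHom) := by
  rw [fittingHallOf, fittingHallOf, ← fittingHall_map_equiv (M.equivMapOfInjective φ.toMonoidHom φ.injective), Subgroup.map_map,
    Subgroup.map_map]
  rfl

theorem centralizer_map (φ : G ≃* G) (x : G) :
    Subgroup.centralizer ({φ x} : Set G) =
      (Subgroup.centralizer ({x} : Set G)).map φ.toMonoidHom := by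
  ext y
  rw [Subgroup.mem_map_equiv, Subgroup.mem_centralizer_singleton_iff,
    Subgroup.mem_centralizer_singleton_iff, ← φ.symm.injective.eq_iff, map_mul, map_mul,
    φ.symm_apply_apply]

theorem isCoatom_map (φ : G ≃* G) {L : Subgroup G} (h : IsCoatom L) :
    IsCoatom (L.map φ.toMonoidHom) :=
  (OrderIso.isCoatom_iff (φ.mapSubgroup) L).2 h

theorem supportR_map (φ : G ≃* G) (M : Subgroup G) (x : G) :
    supportR (M.map φ.toMonoidHom) (φ x) = (supportR M x).map φ.toMonoidHom := by
  classical
  have hmap : ∀ A : Subgroup G, (A.map φ.toMonoidHom).map φ.symm.toMonoidHom = A := fun A => by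
    rw [Subgroup.map_map, show φ.symm.toMonoidHom.comp φ.toMonoidHom = MonoidHom.id G from
      MonoidHom.ext fun z => φ.symm_apply_apply z, Subgroup.map_id]
  have hle : ∀ A B : Subgroup G, A.map φ.toMonoidHom ≤ B.map φ.toMonoidHom ↔ A ≤ B := fun A B =>
    Subgroup.map_le_map_iff_of_injective φ.injective
  have hC := centralizer_map φ x
  by_cases h : ¬ Subgroup.centralizer ({x} : Set G) ≤ M ∧
      ∃! L : Subgroup G, IsCoatom L ∧ Subgroup.centralizer ({x} : Set G) ≤ L
  · obtain ⟨L, ⟨hL, hCL⟩, huniq⟩ := h.2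
    have hLu : ∀ N : Subgroup G, IsCoatom N ∧ Subgroup.centralizer ({φ x} : Set G) ≤ N →
        N = L.map φ.toMonoidHom := by
      rintro N ⟨hN, hCN⟩
      have e : (N.map φ.symm.toMonoidHom).map φ.toMonoidHom = N := by
        rw [Subgroup.map_map, show φ.toMonoidHom.comp φ.symm.toMonoidHom = MonoidHom.id G from
          MonoidHom.ext fun z => φ.apply_symm_apply z, Subgroup.map_id]
      rw [← e, huniq (N.map φ.symm.toMonoidHom) ⟨isCoatom_map φ.symm hN,
        (hle _ _).1 (by rwa [← hC, e])⟩]
    have h' : ¬ Subgroup.centralizer ({φ x} : Set G) ≤ M.map φ.toMonoidHom ∧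
        ∃! N : Subgroup G, IsCoatom N ∧ Subgroup.centralizer ({φ x} : Set G) ≤ N :=
      ⟨by rw [hC, hle]; exact h.1,
        L.map φ.toMonoidHom, ⟨isCoatom_map φ hL, by rw [hC, hle]; exact hCL⟩, hLu⟩
    rw [supportR, dif_pos h', supportR, dif_pos h,
      hLu _ (Classical.choose_spec h'.2.exists), huniq _ (Classical.choose_spec h.2.exists),
      Subgroup.map_inf _ _ _ φ.injective, fittingHallOf_map, ← hC]
  · rw [supportR, dif_neg, supportR, dif_neg h, Subgroup.map_bot]
    rintro ⟨h1, N, ⟨hN, hCN⟩, hNu⟩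
    refine h ⟨fun hc => h1 (by rw [hC, hle]; exact hc), N.map φ.symm.toMonoidHom,
      ⟨isCoatom_map φ.symm hN, ?_⟩, fun K hK => ?_⟩
    · rw [← hmap (Subgroup.centralizer {x}), ← hC]
      exact Subgroup.map_mono hCN
    · rw [← hNu (K.map φ.toMonoidHom) ⟨isCoatom_map φ hK.1, by rw [hC, hle]; exact hK.2⟩, hmap]

end Cfsg.Agent.OddOrder.PF
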