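import Cfsg.Agent.Lib.OddOrder.PF.BGFacts
import Cfsg.Agent.Lib.OddOrder.MaximalSubgroups
import Cfsg.Agent.Lib.OddOrder.FittingHall
import Cfsg.Prelude.Def_OddOrderChar

/-!
The types of maximal subgroups of a minimal simple group of odd order, from the bundle `BGFacts`:
the five types are told apart by the standard factorisation, the type core is the sigma core, the
sets `A₁ ⊆ A ⊆ A₀` satisfy the Dade hypothesis, and for Type II they are TI-subsets.
-/

set_option autoImplicit false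

namespace Cfsg.Agent.OddOrder.PF

open Cfsg Cfsg.Agent.OddOrder
open scoped Pointwise

variable {G : Type*} [Group G] {M : Subgroup G}

theorem le_normalizer_map_subtype (N : Subgroup M) [hN : N.Normal] :
    M ≤ Subgroup.normalizer (N.map M.subtype : Set G) := by
  rw [← Subgroup.normal_subgroupOf_iff_le_normalizer (Subgroup.map_subtype_le N),
    show (N.map M.subtype).subgroupOf M = N from
      Subgroup.comap_map_eq_self_of_injective M.subtype_injective N]
  exact hN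

theorem conj_mem_map_subtype (N : Subgroup M) [N.Normal] {m x : G} (hm : m ∈ M)
    (hx : x ∈ N.map M.subtype) : m * x * m⁻¹ ∈ N.map M.subtype :=
  (Subgroup.mem_normalizer_iff.1 (le_normalizer_map_subtype N hm) x).1 hx

theorem conj_mem_commutator {m x : G} (hm : m ∈ M) (hx : x ∈ ⁅M, M⁆) : m * x * m⁻¹ ∈ ⁅M, M⁆ := by
  have h : (⁅M, M⁆).map (MulAut.conj m).toMonoidHom = ⁅M, M⁆ := by
    have hM : M.map (MulAut.conj m).toMonoidHom = M := by
      ext y
      constructor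
      · rintro ⟨z, hz, rfl⟩
        exact M.mul_mem (M.mul_mem hm hz) (M.inv_mem hm)
      · intro hy
        exact ⟨m⁻¹ * y * m, M.mul_mem (M.mul_mem (M.inv_mem hm) hy) hm,
          by simp [mul_assoc]⟩
    rw [Subgroup.map_commutator, hM]
  exact h ▸ Subgroup.mem_map_of_mem _ hx

theorem conj_mem_typeCore {m x : G} (hm : m ∈ M) (hx : x ∈ typeCore M) :
    m * x * m⁻¹ ∈ typeCore M := by
  classical
  unfold typeCore at hx ⊢
  split_ifs at hx ⊢
  · exact conj_mem_commutator hm hx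
  · exact conj_mem_map_subtype _ hm hx

theorem typeP_W_le {W₁ U W₂ : Subgroup G} (hP : IsTypePWith M W₁ U W₂) : W₁ ⊔ W₂ ≤ M :=
  sup_le hP.W₁_compl.2.1 ((hP.W₂_le.trans inf_le_left).trans (Subgroup.map_subtype_le _))

variable [Finite G] (B : BGFacts G)
include B

/-! ### The standard factorisation and the types -/

theorem exists_decomp (hM : IsCoatom M) : ∃ K U : Subgroup G, IsSigmaDecomposition M K U := by
  obtain ⟨⟨K, hK⟩, hc⟩ := B.s1351 M hM
  exact ⟨K, (B.s1352 M hM K (hc K hK) hK).1⟩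

theorem type_cases (hM : IsCoatom M) :
    IsOfTypeI' M ∨ IsOfTypeII M ∨ (IsOfTypeIII M ∨ IsOfTypeIV M) ∨ IsOfTypeV M := by
  obtain ⟨K, U, hKU⟩ := exists_decomp B hM
  by_cases hK : K = ⊥
  · by_cases hU : U = ⊥
    · -- `M = M_σ ≤ M'` is impossible
      obtain ⟨-, -, hle, hlt, -⟩ := B.s1355 M hM
      refine absurd (fun m hm => ?_) (not_le_of_gt hlt)
      obtain ⟨u, hu, c, hc, rfl⟩ := hKU.compl.2.2.2 m hm
      rw [hU, Subgroup.mem_bot] at hu
      rw [hK, bot_sup_eq] at hc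
      rw [hu, one_mul]
      exact hle hc
    · exact Or.inl ((B.s1380 M hM K U hKU).2 ⟨hK, hU⟩)
  · by_cases hU : U = ⊥
    · by_cases he : fittingHallOf M = sigmaCore M
      · exact Or.inr (Or.inr (Or.inr ((B.s1383 M hM K U hKU).2 ⟨hK, hU, he⟩)))
      · exact Or.inr (Or.inr (Or.inl ((B.s1382 M hM K U hKU).2 ⟨hK, hU, he⟩)))
    · exact Or.inr (Or.inl ((B.s1381 M hM K U hKU).2 ⟨hK, hU⟩))

theorem not_typeI_of_typeII (hM : IsCoatom M) (h : IsOfTypeII M) : ¬ IsOfTypeI' M := by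
  obtain ⟨K, U, hKU⟩ := exists_decomp B hM
  exact fun h' => ((B.s1381 M hM K U hKU).1 h).1 ((B.s1380 M hM K U hKU).1 h').1

theorem not_typeI_of_typeIII_IV (hM : IsCoatom M) (h : IsOfTypeIII M ∨ IsOfTypeIV M) :
    ¬ IsOfTypeI' M := by
  obtain ⟨K, U, hKU⟩ := exists_decomp B hM
  exact fun h' => ((B.s1382 M hM K U hKU).1 h).1 ((B.s1380 M hM K U hKU).1 h').1

theorem not_typeI_of_typeV (hM : IsCoatom M) (h : IsOfTypeV M) : ¬ IsOfTypeI' M := by
  obtain ⟨K, U, hKU⟩ := exists_decomp B hM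
  exact fun h' => ((B.s1383 M hM K U hKU).1 h).1 ((B.s1380 M hM K U hKU).1 h').1

theorem not_typeIII_IV_of_typeII (hM : IsCoatom M) (h : IsOfTypeII M) :
    ¬ (IsOfTypeIII M ∨ IsOfTypeIV M) := by
  obtain ⟨K, U, hKU⟩ := exists_decomp B hM
  exact fun h' => ((B.s1381 M hM K U hKU).1 h).2 ((B.s1382 M hM K U hKU).1 h').2.1

theorem not_typeV_of_typeII (hM : IsCoatom M) (h : IsOfTypeII M) : ¬ IsOfTypeV M := by
  obtain ⟨K, U, hKU⟩ := exists_decomp B hM
  exact fun h' => ((B.s1381 M hM K U hKU).1 h).2 ((B.s1383 M hM K U hKU).1 h').2.1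

theorem not_typeV_of_typeIII_IV (hM : IsCoatom M) (h : IsOfTypeIII M ∨ IsOfTypeIV M) :
    ¬ IsOfTypeV M := by
  obtain ⟨K, U, hKU⟩ := exists_decomp B hM
  exact fun h' => ((B.s1382 M hM K U hKU).1 h).2.2 ((B.s1383 M hM K U hKU).1 h').2.2

omit [Finite G] B in
theorem typeCore_eq_fittingHallOf (h : ¬ (IsOfTypeIII M ∨ IsOfTypeIV M)) :
    typeCore M = fittingHallOf M := by
  classical exact if_neg h

theorem typeCore_eq_sigmaCore (hM : IsCoatom M) : typeCore M = sigmaCore M := by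
  classical
  obtain ⟨K, U, hKU⟩ := exists_decomp B hM
  by_cases h : IsOfTypeIII M ∨ IsOfTypeIV M
  · obtain ⟨hK, hU, -⟩ := (B.s1382 M hM K U hKU).1 h
    rw [typeCore, if_pos h, (B.s1365 M hM K U hKU hK).1, hU, bot_sup_eq]
  · rw [typeCore_eq_fittingHallOf h]
    by_contra hne
    obtain ⟨hU, -, -⟩ := B.s1357 M hM K U hKU hne
    by_cases hK : K = ⊥
    · rcases type_cases B hM with h' | h' | h' | h'
      · exact ((B.s1380 M hM K U hKU).1 h').2 hU
      · exact ((B.s1381 M hM K U hKU).1 h').1 hK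
      · exact h h'
      · exact ((B.s1383 M hM K U hKU).1 h').1 hK
    · exact h ((B.s1382 M hM K U hKU).2 ⟨hK, hU, hne⟩)

theorem fittingHallOf_le_typeCore (hM : IsCoatom M) : fittingHallOf M ≤ typeCore M := by
  rw [typeCore_eq_sigmaCore B hM]; exact (B.s1355 M hM).2.1

theorem typeCore_le_commutator (hM : IsCoatom M) : typeCore M ≤ ⁅M, M⁆ := by
  rw [typeCore_eq_sigmaCore B hM]; exact (B.s1355 M hM).2.2.1

theorem typeCore_le (hM : IsCoatom M) : typeCore M ≤ M :=
  (typeCore_le_commutator B hM).trans M.commutator_le_self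

theorem typeCore_ne_bot (hM : IsCoatom M) : typeCore M ≠ ⊥ := fun h =>
  (B.s1355 M hM).1 (le_bot_iff.1 (h ▸ fittingHallOf_le_typeCore B hM))

/-! ### The sets `A₁ ⊆ A ⊆ A₀` -/

theorem typeA1_subset_typeA (hM : IsCoatom M) : typeA1 M ⊆ typeA' M := by
  classical
  rintro x ⟨hx, hx1⟩
  unfold typeA'
  split_ifs with hI
  · have hne : ¬ (IsOfTypeIII M ∨ IsOfTypeIV M) := fun h => not_typeI_of_typeIII_IV B hM h hI
    rw [SetLike.mem_coe, typeCore_eq_fittingHallOf hne] at hx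
    exact ⟨fittingHallOf_le M hx, hx1, x, hx, hx1, rfl⟩
  · exact ⟨typeCore_le_commutator B hM hx, hx1, x, hx, hx1, rfl⟩

omit [Finite G] B in
theorem typeA_subset_typeA0 : typeA' M ⊆ typeA0' M := Set.subset_union_left

omit [Finite G] B in
theorem typeA_subset : typeA' M ⊆ (M : Set G) \ {1} := by
  classical
  intro x hx
  unfold typeA' at hx
  split_ifs at hx
  · exact ⟨hx.1, hx.2.1⟩
  · exact ⟨M.commutator_le_self hx.1, hx.2.1⟩

omit [Finite G] B in
theorem typeA0_subset : typeA0' M ⊆ (M : Set G) \ {1} := by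
  rintro x (hx | ⟨-, W₁, U, W₂, hP, m, hm, w, hw, hw1, -, rfl⟩)
  · exact typeA_subset hx
  refine ⟨M.mul_mem (M.mul_mem hm (typeP_W_le hP hw)) (M.inv_mem hm), fun h => hw1 ?_⟩
  rw [Set.mem_singleton_iff, conj_eq_one_iff] at h
  rw [h]; exact W₁.one_mem

omit [Finite G] B in
theorem conj_mem_typeA {m x : G} (hm : m ∈ M) (hx : x ∈ typeA' M) :
    m * x * m⁻¹ ∈ typeA' M := by
  classical
  unfold typeA' at hx ⊢
  split_ifs at hx ⊢
  · obtain ⟨h1, h2, y, hy, hy1, hxy⟩ := hx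
    refine ⟨M.mul_mem (M.mul_mem hm h1) (M.inv_mem hm), fun h => h2 (conj_eq_one_iff.1 h),
      m * y * m⁻¹, conj_mem_map_subtype _ hm hy, fun h => hy1 (conj_eq_one_iff.1 h), ?_⟩
    calc m * x * m⁻¹ * (m * y * m⁻¹) = m * (x * y) * m⁻¹ := by group
      _ = m * (y * x) * m⁻¹ := by rw [hxy]
      _ = m * y * m⁻¹ * (m * x * m⁻¹) := by group
  · obtain ⟨h1, h2, y, hy, hy1, hxy⟩ := hx
    refine ⟨conj_mem_commutator hm h1, fun h => h2 (conj_eq_one_iff.1 h),
      m * y * m⁻¹, conj_mem_typeCore hm hy, fun h => hy1 (conj_eq_one_iff.1 h), ?_⟩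
    calc m * x * m⁻¹ * (m * y * m⁻¹) = m * (x * y) * m⁻¹ := by group
      _ = m * (y * x) * m⁻¹ := by rw [hxy]
      _ = m * y * m⁻¹ * (m * x * m⁻¹) := by group

omit [Finite G] B in
theorem conj_mem_typeA1 {m x : G} (hm : m ∈ M) (hx : x ∈ typeA1 M) :
    m * x * m⁻¹ ∈ typeA1 M :=
  ⟨conj_mem_typeCore hm hx.1, fun h => hx.2 (conj_eq_one_iff.1 h)⟩

omit [Finite G] B in
theorem conj_mem_typeA0 {m x : G} (hm : m ∈ M) (hx : x ∈ typeA0' M) :
    m * x * m⁻¹ ∈ typeA0' M := by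
  rcases hx with hx | ⟨hI, W₁, U, W₂, hP, l, hl, w, hw, hw1, hw2, rfl⟩
  · exact Or.inl (conj_mem_typeA hm hx)
  · exact Or.inr ⟨hI, W₁, U, W₂, hP, m * l, M.mul_mem hm hl, w, hw, hw1, hw2, by group⟩

theorem typeA1_nonempty (hM : IsCoatom M) : (typeA1 M).Nonempty := by
  obtain ⟨x, hx, hx1⟩ := (typeCore M).ne_bot_iff_exists_ne_one.1 (typeCore_ne_bot B hM) |>
    fun ⟨⟨x, hx⟩, h⟩ => (⟨x, hx, fun e => h (Subtype.ext e)⟩ : ∃ x, x ∈ typeCore M ∧ x ≠ 1)
  exact ⟨x, hx, hx1⟩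

omit [Finite G] B in
/-- A nonempty set of non-identity elements of a maximal subgroup normalised by it has that
subgroup as its normaliser. -/
theorem normalizer_eq_of_subset (hG : IsMinSimpleOddOrder G) (hM : IsCoatom M) {A : Set G}
    (hA : A ⊆ (M : Set G) \ {1}) (hne : A.Nonempty)
    (hconj : ∀ m ∈ M, ∀ x ∈ A, m * x * m⁻¹ ∈ A) : Subgroup.normalizer A = M := by
  have hle : M ≤ Subgroup.normalizer A := fun m hm => Subgroup.mem_set_normalizer_iff.2 fun x =>
    ⟨hconj m hm x, fun h => by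
      have := hconj m⁻¹ (M.inv_mem hm) _ h
      simpa [mul_assoc] using this⟩
  refine (hM.le_iff.1 hle).resolve_left fun htop => ?_
  have := hG.2.1
  have hclos : Subgroup.normalClosure A ≤ M := by
    rw [Subgroup.normalClosure, Subgroup.closure_le]
    intro y hy
    obtain ⟨x, hx, hxy⟩ := Group.mem_conjugatesOfSet_iff.1 hy
    obtain ⟨g, rfl⟩ := isConj_iff.1 hxy
    exact (hA ((Subgroup.mem_set_normalizer_iff.1 (htop ▸ Subgroup.mem_top g) x).1 hx)).1
  rcases hG.2.1.eq_bot_or_eq_top_of_normal (Subgroup.normalClosure A)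
    Subgroup.normalClosure_normal with h | h
  · obtain ⟨x, hx⟩ := hne
    exact (hA hx).2 (Subgroup.mem_bot.1 (h ▸ Subgroup.subset_normalClosure hx))
  · exact hM.1 (top_unique (h ▸ hclos))

theorem normalizer_typeSet (hG : IsMinSimpleOddOrder G) (hM : IsCoatom M) {A : Set G}
    (hA : A = typeA1 M ∨ A = typeA' M ∨ A = typeA0' M) : Subgroup.normalizer A = M := by
  rcases hA with rfl | rfl | rfl
  · exact normalizer_eq_of_subset hG hM ((typeA1_subset_typeA B hM).trans typeA_subset)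
      (typeA1_nonempty B hM) fun _ hm _ => conj_mem_typeA1 hm
  · exact normalizer_eq_of_subset hG hM typeA_subset
      ((typeA1_nonempty B hM).mono (typeA1_subset_typeA B hM)) fun _ hm _ => conj_mem_typeA hm
  · exact normalizer_eq_of_subset hG hM typeA0_subset
      ((typeA1_nonempty B hM).mono ((typeA1_subset_typeA B hM).trans typeA_subset_typeA0))
      fun _ hm _ => conj_mem_typeA0 hm

/-! ### The Dade hypothesis (Peterfalvi 8.15) -/

omit [Finite G] B in
theorem supportR_eq_bot {x : G} (h : Subgroup.centralizer ({x} : Set G) ≤ M) :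
    supportR M x = ⊥ := dif_neg fun h' => h'.1 h

/-- What the tame embedding says about `R(x)`. -/
theorem supportR_spec (hM : IsCoatom M) {X : Set G} (hX : X = typeA' M ∨ X = typeA0' M) {x : G}
    (hx : x ∈ X) :
    Subgroup.centralizer ({x} : Set G) ≤
        Subgroup.normalizer (supportR M x : Set G) ∧
      IsComplIn (supportR M x) (M ⊓ Subgroup.centralizer ({x} : Set G))
        (Subgroup.centralizer ({x} : Set G)) ∧
      ∀ y ∈ X, (Nat.card (supportR M x)).Coprime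
        (Nat.card ↥(M ⊓ Subgroup.centralizer ({y} : Set G))) := by
  classical
  obtain ⟨-, h2, h3⟩ := B.s1391 M hM X hX
  by_cases hle : Subgroup.centralizer ({x} : Set G) ≤ M
  · rw [supportR_eq_bot hle]
    refine ⟨fun c _ => Subgroup.mem_normalizer_iff.2 fun u => ?_,
      ⟨bot_le, inf_le_right, bot_inf_eq _, fun c hc => ⟨1, Subgroup.mem_bot.2 rfl, c,
        ⟨hle hc, hc⟩, (one_mul c).symm⟩⟩, fun y _ => by simp⟩
    simp only [Subgroup.mem_bot, conj_eq_one_iff]
  · obtain ⟨hx1, hu⟩ := h2 x hx hle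
    have hh : ¬ Subgroup.centralizer ({x} : Set G) ≤ M ∧
        ∃! L : Subgroup G, IsCoatom L ∧ Subgroup.centralizer ({x} : Set G) ≤ L := ⟨hle, hu⟩
    obtain ⟨hL, hCL⟩ := Classical.choose_spec hh.2.exists
    obtain ⟨-, hn, hc, hcop, -, -, -⟩ := h3 x hx hle _ hL hCL
    rw [supportR, dif_pos hh]
    exact ⟨hn, hc, fun y hy => (hcop y hy).coprime_dvd_left
      (Subgroup.card_dvd_of_le inf_le_left)⟩

theorem dadeHypothesis_typeSet (hM : IsCoatom M) {A : Set G}
    (hA : A = typeA1 M ∨ A = typeA' M ∨ A = typeA0' M) : DadeHypothesis A M (supportR M) := by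
  obtain ⟨X, hX, hAX⟩ : ∃ X, (X = typeA' M ∨ X = typeA0' M) ∧ A ⊆ X := by
    rcases hA with rfl | rfl | rfl
    · exact ⟨_, Or.inl rfl, typeA1_subset_typeA B hM⟩
    · exact ⟨_, Or.inl rfl, subset_rfl⟩
    · exact ⟨_, Or.inr rfl, subset_rfl⟩
  have hsub : A ⊆ (M : Set G) \ {1} :=
    hAX.trans (by rcases hX with rfl | rfl; exacts [typeA_subset, typeA0_subset])
  have hconj : ∀ m ∈ M, ∀ a ∈ A, m * a * m⁻¹ ∈ A := by
    rcases hA with rfl | rfl | rfl
    exacts [fun _ hm _ => conj_mem_typeA1 hm, fun _ hm _ => conj_mem_typeA hm,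
      fun _ hm _ => conj_mem_typeA0 hm]
  refine ⟨fun h => (hsub h).2 rfl, fun a ha => (hsub ha).1, hconj,
    fun a ha g hg => (B.s1391 M hM X hX).1 a (hAX ha) g (hAX hg),
    fun a ha => (supportR_spec B hM hX (hAX ha)).2.1.1, fun a ha c hc u hu => ?_,
    fun a ha => (supportR_spec B hM hX (hAX ha)).2.1.2.2.1, fun a ha => ?_,
    fun a ha b hb => (supportR_spec B hM hX (hAX ha)).2.2 b (hAX hb)⟩
  · exact (Subgroup.mem_normalizer_iff.1 ((supportR_spec B hM hX (hAX ha)).1 hc) u).1 hu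
  · obtain ⟨h1, h2, -, h4⟩ := (supportR_spec B hM hX (hAX ha)).2.1
    refine le_antisymm (sup_le h1 h2) fun c hc => ?_
    obtain ⟨r, hr, k, hk, rfl⟩ := h4 c hc
    exact Subgroup.mul_mem _ (Subgroup.mem_sup_left hr) (Subgroup.mem_sup_right hk)

/-! ### Type II -/

omit B in
theorem isTISubset_centralizer_le (hG : IsMinSimpleOddOrder G) (hM : IsCoatom M) {N : Subgroup M}
    [N.Normal] (hTI : IsTISubset (N.map M.subtype : Set G)) {x : G} (hx : x ∈ N.map M.subtype)
    (hx1 : x ≠ 1) : Subgroup.centralizer ({x} : Set G) ≤ M := by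
  intro c hc
  have hne : N.map M.subtype ≠ ⊥ := fun h => hx1 (Subgroup.mem_bot.1 (h ▸ hx))
  rw [← normalizer_eq_of_normal hG hM (Subgroup.map_subtype_le _) (le_normalizer_map_subtype N) hne]
  by_contra hcn
  refine hx1 (hTI c hcn x hx ?_)
  rwa [← (Subgroup.mem_centralizer_singleton_iff.1 hc : c * x = x * c).symm, mul_inv_cancel_right]

theorem typeII_centralizer_le (hG : IsMinSimpleOddOrder G) (hM : IsCoatom M) (hII : IsOfTypeII M)
    {x : G} (hx : x ∈ typeA0' M) : Subgroup.centralizer ({x} : Set G) ≤ M := by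
  by_contra hle
  obtain ⟨⟨hx1, hx2⟩, -⟩ := (B.s1391 M hM _ (Or.inr rfl)).2.1 x hx hle
  rw [SetLike.mem_coe,
    typeCore_eq_fittingHallOf (not_typeIII_IV_of_typeII B hM hII)] at hx1
  have hTI : IsTISubset (fittingOf M : Set G) := by
    obtain ⟨W₁, U, W₂, -, -, -, h, -⟩ := hII
    exact h
  have hxF : x ∈ fittingOf M := by
    rw [(B.s1356 M hM).2.1]; exact Subgroup.mem_sup_right hx1
  exact hle (isTISubset_centralizer_le hG hM hTI hxF hx2)

theorem typeII_isTISubset (hG : IsMinSimpleOddOrder G) (hM : IsCoatom M) (hII : IsOfTypeII M)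
    {A : Set G} (hA : A = typeA1 M ∨ A = typeA' M ∨ A = typeA0' M) : IsTISubset A := by
  intro g hg x hx hgx
  rw [normalizer_typeSet B hG hM hA] at hg
  obtain ⟨hfus, hAX⟩ : (∀ x ∈ typeA0' M, ∀ g : G, g * x * g⁻¹ ∈ typeA0' M →
      ∃ m ∈ M, m * x * m⁻¹ = g * x * g⁻¹) ∧ A ⊆ typeA0' M := by
    refine ⟨(B.s1391 M hM _ (Or.inr rfl)).1, ?_⟩
    rcases hA with rfl | rfl | rfl
    exacts [(typeA1_subset_typeA B hM).trans typeA_subset_typeA0, typeA_subset_typeA0, subset_rfl]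
  obtain ⟨m, hm, he⟩ := hfus x (hAX hx) g (hAX hgx)
  have hc : m⁻¹ * g ∈ Subgroup.centralizer ({x} : Set G) := by
    rw [Subgroup.mem_centralizer_singleton_iff]
    calc m⁻¹ * g * x = m⁻¹ * (g * x * g⁻¹) * g := by group
      _ = m⁻¹ * (m * x * m⁻¹) * g := by rw [he]
      _ = x * (m⁻¹ * g) := by group
  exact absurd (by simpa using M.mul_mem hm (typeII_centralizer_le B hG hM hII (hAX hx) hc)) hg

end Cfsg.Agent.OddOrder.PF
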