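import Cfsg.Prelude.Def_OddOrder
import Cfsg.Prelude.Def_OddOrderLocal
import Cfsg.Prelude.Def_OddOrderChar
import Cfsg.Agent.Lib.OddOrder.DadeVirtual
import Cfsg.Agent.Lib.OddOrder.CoherenceFrobenius
import Cfsg.Agent.Lib.OddOrder.CoherenceFeit
import Cfsg.Agent.Lib.OddOrder.FittingHall
import Cfsg.Agent.Lib.Frobenius.FixedPointFree
import Cfsg.Agent.Lib.PGroup.UniqueOrderP
import Cfsg.Agent.S1524
import Cfsg.Agent.Lib.OddOrder.TypeDefs

/-!
Maximal subgroups of Type I that are Frobenius groups: the characters induced from the kernel form a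
coherent family for the Dade map (Peterfalvi (12.6)).
-/

set_option autoImplicit false
set_option linter.unusedSectionVars false
set_option linter.style.haveILetI false

namespace Cfsg.Agent.OddOrder.PF

open Cfsg Finset
open scoped ComplexConjugate

universe u

section Dade

variable {G : Type u} [Group G] {A : Set G} {L : Subgroup G} {H : G → Subgroup G}

theorem dadeIsometry_add (α β : L → ℂ) :
    dadeIsometry A L H (α + β) = dadeIsometry A L H α + dadeIsometry A L H β := by
  funext g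
  simp only [dadeIsometry, Pi.add_apply]
  split_ifs <;> simp

theorem dadeIsometry_zsmul (n : ℤ) (α : L → ℂ) :
    dadeIsometry A L H (n • α) = n • dadeIsometry A L H α := by
  funext g
  simp only [dadeIsometry, Pi.smul_apply]
  split_ifs <;> simp

theorem dadeIsometry_apply_one (hD : DadeHypothesis A L H) (α : L → ℂ) :
    dadeIsometry A L H α 1 = 0 := by
  refine dif_neg ?_
  rintro ⟨a, ha, x, u, hu, h⟩
  have h1 : (a : G) = u⁻¹ := eq_inv_of_mul_eq_one_left (by rw [← h]; group)
  have h2 : (a : G) ∈ H a ⊓ (L ⊓ Subgroup.centralizer ({(a : G)} : Set G)) :=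
    ⟨(congrArg (fun z => z ∈ H (a : G)) h1).mpr (inv_mem hu), a.2, Subgroup.mem_centralizer_singleton_iff.2 rfl⟩
  rw [hD.inf_eq_bot _ ha, Subgroup.mem_bot] at h2
  exact hD.one_not_mem (h2 ▸ ha)

variable [Fintype G] [Fintype L]

/-- The Dade map preserves inner products of class functions supported on `A`. -/
theorem classInner_dade_dade (hD : DadeHypothesis A L H) {α β : L → ℂ}
    (hα : IsClassFunction L α) (hαA : ∀ x : L, (x : G) ∉ A → α x = 0) (hβ : IsClassFunction L β) :
    classInner (dadeIsometry A L H α) (dadeIsometry A L H β) = classInner α β := by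
  classical
  refine classInner_dadeIsometry hD hα hαA (isClassFunction_dadeIsometry A L H β) β fun a ha => ?_
  rw [finsum_mem_eq_finite_toFinset_sum _ (Set.toFinite _),
    Finset.sum_congr rfl fun u hu => dadeIsometry_apply hD hβ ha (x := 1)
      ((Set.Finite.mem_toFinset _).1 hu) (by group), Finset.sum_const,
    ← Set.ncard_eq_toFinset_card _ (Set.toFinite _), nsmul_eq_mul, ← Nat.card_coe_set_eq,
    SetLike.coe_sort_coe, ← mul_assoc, inv_mul_cancel₀ (Nat.cast_ne_zero.2 Nat.card_pos.ne'), one_mul]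

/-- Without twisting subgroups the Dade map is induction. -/
theorem dadeIsometry_eq_indFun (hD : DadeHypothesis A L H) (hH : ∀ a ∈ A, H a = ⊥) {α : L → ℂ}
    (hα : IsClassFunction L α) (hαA : ∀ x : L, (x : G) ∉ A → α x = 0) :
    dadeIsometry A L H α = indFun L α := by
  classical
  have h : ∀ χ : IrrCharacter G,
      classInner (dadeIsometry A L H α) χ.1 = classInner (indFun L α) χ.1 := fun χ => by
    have hc := Char.IsCharacter.isClassFunction (Char.irr_isCharacter χ)
    rw [Char.classInner_indFun L α hc, classInner_dadeIsometry hD hα hαA hc (fun a : L => χ.1 a)]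
    intro a ha
    simp [hH _ ha]
  rw [Char.eq_sum_classInner_smul (isClassFunction_dadeIsometry A L H α),
    Char.eq_sum_classInner_smul (Char.isClassFunction_indFun L α)]
  simp only [h]

/-- The Dade map is an isometry on the degree zero combinations of characters vanishing off `A ∪ {1}`. -/
theorem isLinearIsometryOn_dade (hD : DadeHypothesis A L H) (S : Set (L → ℂ))
    (hchar : ∀ φ ∈ S, IsCharacter L φ) (hvan : ∀ φ ∈ S, ∀ x : L, x ≠ 1 → (x : G) ∉ A → φ x = 0) :
    IsLinearIsometryOn (zspanOn S {1}ᶜ) (dadeIsometry A L H) ∧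
      (∀ α ∈ zspanOn S {1}ᶜ, dadeIsometry A L H α 1 = 0) ∧
      ∀ α ∈ zspanOn S {1}ᶜ, IsClassFunction L α ∧ ∀ x : L, (x : G) ∉ A → α x = 0 := by
  have hspan : ∀ α ∈ Cfsg.zspan S,
      IsGeneralizedCharacter L α ∧ ∀ x : L, x ≠ 1 → (x : G) ∉ A → α x = 0 := by
    intro α hα
    induction hα using Submodule.span_induction with
    | mem x hx => exact ⟨Char.IsCharacter.isGeneralized (hchar x hx), hvan x hx⟩
    | zero => exact ⟨Char.IsGeneralizedCharacter.zero, fun _ _ _ => rfl⟩
    | add a b _ _ ha hb =>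
      exact ⟨Char.IsGeneralizedCharacter.add ha.1 hb.1,
        fun x h1 hx => by simp [ha.2 x h1 hx, hb.2 x h1 hx]⟩
    | smul n a _ ha =>
      refine ⟨?_, fun x h1 hx => by simp [ha.2 x h1 hx]⟩
      have := Char.IsGeneralizedCharacter.intCast_smul ha.1 n
      rwa [Int.cast_smul_eq_zsmul] at this
  have hsupp : ∀ α ∈ zspanOn S {1}ᶜ, IsClassFunction L α ∧ ∀ x : L, (x : G) ∉ A → α x = 0 := by
    refine fun α hα => ⟨Char.IsGeneralizedCharacter.isClassFunction (hspan α hα.1).1, fun x hx => ?_⟩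
    by_cases h1 : x = 1
    · exact hα.2 x (by simp [h1])
    · exact (hspan α hα.1).2 x h1 hx
  exact ⟨⟨fun α _ β _ => dadeIsometry_add α β, fun α _ n => dadeIsometry_zsmul n α,
    fun α hα β hβ => classInner_dade_dade hD (hsupp α hα).1 (hsupp α hα).2 (hsupp β hβ).1,
    fun α hα => isGeneralizedCharacter_dadeIsometry hD (hspan α hα.1).1 (hsupp α hα).2⟩,
    fun α _ => dadeIsometry_apply_one hD α, hsupp⟩

end Dade

section Frobenius

open scoped IsMulCommutative

variable {L : Type u} [Group L] {K : Subgroup L} [K.Normal]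

/-- The centraliser condition passes to a quotient by a normal subgroup inside the kernel. -/
theorem centIn_mod [Finite L] (hC : CentIn K) (N : Subgroup L) [N.Normal] (hN : N ≤ K) :
    ∀ k ∈ K, k ∉ N → ∀ x : L, x * k * x⁻¹ * k⁻¹ ∈ N → x ∈ K := by
  intro k hk hkN x hx
  by_contra hxK
  have hinj : ∀ y ∈ K, ∀ z ∈ K, y⁻¹ * (x * y * x⁻¹) = z⁻¹ * (x * z * x⁻¹) → y = z := by
    intro y hy z hz h
    by_contra hne
    refine hxK (hC (z * y⁻¹) (mul_mem hz (inv_mem hy)) (fun e => hne (mul_inv_eq_one.1 e).symm) ?_)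
    rw [Subgroup.mem_centralizer_singleton_iff]
    calc x * (z * y⁻¹) = z * (z⁻¹ * (x * z * x⁻¹)) * x * y⁻¹ := by group
      _ = z * (y⁻¹ * (x * y * x⁻¹)) * x * y⁻¹ := by rw [h]
      _ = z * y⁻¹ * x := by group
  let f : N → N := fun y => ⟨(y : L)⁻¹ * (x * y * x⁻¹),
    mul_mem (inv_mem y.2) (Subgroup.Normal.conj_mem inferInstance _ y.2 x)⟩
  have hf : Function.Surjective f := Finite.surjective_of_injective fun y z h =>
    Subtype.ext (hinj y (hN y.2) z (hN z.2) (congrArg Subtype.val h))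
  have hkmem : k⁻¹ * (x * k * x⁻¹) ∈ N := by
    have := Subgroup.Normal.conj_mem (H := N) inferInstance _ hx k⁻¹
    simpa [mul_assoc] using this
  obtain ⟨y, hy⟩ := hf ⟨_, hkmem⟩
  exact hkN (hinj y (hN y.2) k hk (congrArg Subtype.val hy) ▸ y.2)

variable [Fintype L]

/-- In odd order, the quotient by a Frobenius kernel has exponent equal to its order. -/
theorem exponent_quotient_eq_index (hodd : Odd (Nat.card L)) (hC : CentIn K) (h1 : K ≠ ⊥)
    (h2 : K ≠ ⊤) : Monoid.exponent (L ⧸ K) = K.index := by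
  haveI := isNilpotent_of_cent hC h1 h2
  haveI : Nontrivial K := (Subgroup.nontrivial_iff_ne_bot K).2 h1
  obtain ⟨E, hE⟩ := Subgroup.exists_right_complement'_of_coprime (coprime_card_index_of_cent hC)
  set W := (Subgroup.center K).map K.subtype with hWdef
  haveI : W.Normal := ConjAct.normal_of_characteristic_of_normal
  haveI : IsMulCommutative W := ⟨⟨fun ⟨a, ha⟩ ⟨b, hb⟩ => by
    obtain ⟨a, ha, rfl⟩ := ha
    obtain ⟨b, hb, rfl⟩ := hb
    exact Subtype.ext (by simpa using congrArg Subtype.val (Subgroup.mem_center_iff.1 hb a))⟩⟩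
  haveI : Nontrivial W := (Subgroup.nontrivial_iff_ne_bot W).2 fun h =>
    Group.IsNilpotent.center_ne_bot (G := K)
      ((Subgroup.map_eq_bot_iff_of_injective _ K.subtype_injective).1 h)
  have hEW : E ≤ Subgroup.normalizer (W : Set L) := by
    rw [Subgroup.normalizer_eq_top_iff.2 inferInstance]; exact le_top
  have hfpf : Frobenius.Fpf.IsFpf (V := W) (Frobenius.Fpf.conjHom E W hEW) := by
    refine Frobenius.Fpf.isFpf_conjHom E W hEW fun e he he1 => ?_
    rw [eq_bot_iff]
    rintro w ⟨hw, hwe⟩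
    by_contra hw1
    have hwK : w ∈ K := by obtain ⟨z, -, rfl⟩ := hw; exact z.2
    have heK := hC w hwK hw1 (Subgroup.mem_centralizer_singleton_iff.2
      (Subgroup.mem_centralizer_singleton_iff.1 hwe).symm)
    exact he1 (Subgroup.disjoint_def.1 hE.disjoint heK he)
  haveI : IsZGroup E := by
    refine ⟨fun r hr S => ?_⟩
    haveI := Fact.mk hr
    have hS : Frobenius.Fpf.IsFpf (V := W)
        ((Frobenius.Fpf.conjHom E W hEW).comp (S : Subgroup E).subtype) :=
      fun a ha v hv => hfpf (a : E) (fun h => ha (Subtype.ext h)) v hv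
    rcases PGroup.cyclic_or_quaternion_of_unique S.2
      (fun H K hH hK => Frobenius.Fpf.eq_of_card_eq_prime hS S.2 hH hK) with hc | ⟨rfl, n, -, hn, -⟩
    · exact hc
    · exact absurd (even_iff_two_dvd.2 (((dvd_pow_self 2 (by omega)).trans
        (hn ▸ (S : Subgroup E).card_subgroup_dvd_card)).trans E.card_subgroup_dvd_card))
        (Nat.not_even_iff_odd.2 hodd)
  rw [Monoid.exponent_eq_of_mulEquiv hE.symm.QuotientMulEquiv, IsZGroup.exponent_eq_card,
    hE.symm.index_eq_card]

end Frobenius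

section TypeOne

variable {G : Type u} [Group G]

theorem typeA_eq_of_frobenius {L : Subgroup G} (hI : IsOfTypeI' L)
    (hfrob : ∀ x ∈ fittingHallOf L, x ≠ 1 →
      L ⊓ Subgroup.centralizer ({x} : Set G) ≤ fittingHallOf L) :
    typeA' L = (fittingHallOf L : Set G) \ {1} := by
  rw [typeA', if_pos hI]
  ext a
  refine ⟨fun ⟨haL, ha1, x, hx, hx1, hax⟩ => ⟨hfrob x hx hx1 ⟨haL, ?_⟩, ha1⟩, fun ⟨ha, ha1⟩ => ?_⟩
  · exact Subgroup.mem_centralizer_singleton_iff.2 hax
  · exact ⟨fittingHallOf_le L ha, ha1, a, ha, ha1, rfl⟩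

theorem centIn_fittingHall {L : Subgroup G}
    (hfrob : ∀ x ∈ fittingHallOf L, x ≠ 1 →
      L ⊓ Subgroup.centralizer ({x} : Set G) ≤ fittingHallOf L) : CentIn (fittingHall L) := by
  intro k hk hk1 x hx
  have h := hfrob k (Subgroup.mem_map_of_mem _ hk) (fun e => hk1 (Subtype.ext e))
    (⟨x.2, Subgroup.mem_centralizer_singleton_iff.2
      (congrArg Subtype.val (Subgroup.mem_centralizer_singleton_iff.1 hx))⟩ :
      (x : G) ∈ L ⊓ Subgroup.centralizer ({(k : G)} : Set G))
  rw [← subgroupOf_fittingHallOf L]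
  exact h

/-- Peterfalvi (12.6): coherence on a Frobenius maximal subgroup of Type I, given the Dade set-up. -/
theorem typeI_frobenius_coherent [Fintype G] (hG : IsMinSimpleOddOrder G) (L : Subgroup G)
    [Fintype L] (hL : IsCoatom L) (hI : IsOfTypeI' L)
    (hfrob : ∀ x ∈ fittingHallOf L, x ≠ 1 →
      L ⊓ Subgroup.centralizer ({x} : Set G) ≤ fittingHallOf L)
    (hD : DadeHypothesis (typeA' L) L (supportR L)) :
    (∀ χ ∈ inducedIrrAbove (fittingHall L) ⊥, IsIrrCharacter L χ) ∧
      IsCoherent (inducedIrrAbove (fittingHall L) ⊥) {1}ᶜ (dadeIsometry (typeA' L) L (supportR L)) := by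
  classical
  set K := fittingHall ↥L with hK
  set τ := dadeIsometry (typeA' L) L (supportR L) with hτdef
  have hC : CentIn K := centIn_fittingHall hfrob
  obtain ⟨⟨hsolvL, hoddL, hK1, hKtop, -⟩, hcases⟩ := id hI
  haveI : Fintype K := Fintype.ofFinite _
  haveI := hsolvL
  haveI hnilK : Group.IsNilpotent K := isNilpotent_of_cent hC hK1 hKtop
  have hsolvK : Group.IsSolvable K := inferInstance
  have hKlt : K < ⊤ := lt_top_iff_ne_top.2 hKtop
  have hirr : ∀ χ ∈ inducedIrrAbove K ⊥, IsIrrCharacter L χ := by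
    rintro χ ⟨θ, hθ, h1, -, rfl⟩
    exact isIrrCharacter_indFun_of_cent hC hθ h1
  refine ⟨hirr, ?_⟩
  have hzero : ∀ χ ∈ inducedIrrAbove K ⊥, ∀ x : L, x ∉ K → χ x = 0 := by
    rintro χ ⟨θ, -, -, -, rfl⟩ x hx
    exact Char.indFun_of_notMem_normal _ θ hx
  have hne : (inducedIrrAbove K ⊥).Nonempty := by
    obtain ⟨θ, hθ, -⟩ := exists_linear_above K hsolvK ⊥ (bot_lt_iff_ne_bot.2 hK1)
    exact ⟨_, (mem_inducedIrrAbove_iff K).2 ⟨θ, hθ, rfl⟩⟩
  have hconj : ∀ χ ∈ inducedIrrAbove K ⊥,
      conjFun χ ∈ inducedIrrAbove K ⊥ ∧ conjFun χ ≠ χ := by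
    intro χ hχ
    refine ⟨conj_mem_inducedIrrAbove K hχ, conjFun_ne_of_odd hoddL (hirr χ hχ) ?_⟩
    obtain ⟨x, -, hx⟩ := SetLike.exists_of_lt hKlt
    exact ⟨x, by rw [hzero χ hχ x hx]; exact (Char.IsIrrCharacter.apply_one_ne_zero (hirr χ hχ)).symm⟩
  have hvan : ∀ χ ∈ inducedIrrAbove K ⊥, ∀ x : L, x ≠ 1 → (x : G) ∉ typeA' L → χ x = 0 := by
    intro χ hχ x hx1 hx
    refine hzero χ hχ x fun hxK => hx ?_
    rw [typeA_eq_of_frobenius hI hfrob]
    exact ⟨Subgroup.mem_map_of_mem _ hxK, fun e => hx1 (Subtype.ext e)⟩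
  obtain ⟨hiso, hτ1, hsupp⟩ := isLinearIsometryOn_dade hD _
    (fun χ hχ => Char.IsIrrCharacter.isCharacter (hirr χ hχ)) hvan
  obtain ⟨R, hR⟩ := exists_coherenceSystem _ hne hirr hconj τ hiso hτ1
  by_cases hTI : IsTISubset (fittingHallOf L : Set G)
  · -- induction from the normaliser of a TI kernel
    obtain ⟨U, hU⟩ := Subgroup.exists_right_complement'_of_coprime (coprime_card_index_of_cent hC)
    set H := fittingHallOf L with hHdef
    have hHbot : H ≠ ⊥ := fun h =>
      hK1 ((Subgroup.map_eq_bot_iff_of_injective _ L.subtype_injective).1 h)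
    have hHn : ∀ x ∈ L, ∀ h ∈ H, x * h * x⁻¹ ∈ H := by
      rintro x hx _ ⟨h, hh, rfl⟩
      exact ⟨⟨x, hx⟩ * h * ⟨x, hx⟩⁻¹, Subgroup.Normal.conj_mem inferInstance h hh _, rfl⟩
    have hN : Subgroup.normalizer (H : Set G) = L := by
      have hle : L ≤ Subgroup.normalizer (H : Set G) := fun x hx =>
        Subgroup.mem_normalizer_iff.2 fun h => ⟨hHn x hx h, fun hh => by
          simpa [mul_assoc] using hHn x⁻¹ (inv_mem hx) _ hh⟩
      rcases hL.le_iff.1 hle with h | h
      · exfalso
        haveI : H.Normal := Subgroup.normalizer_eq_top_iff.1 h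
        rcases hG.2.1.eq_bot_or_eq_top_of_normal H inferInstance with h' | h'
        · exact hHbot h'
        · exact hL.1 (top_le_iff.1 (h' ▸ fittingHallOf_le L))
      · exact h
    have hsub : H.subgroupOf L = K := subgroupOf_fittingHallOf L
    have hWbot : U.map L.subtype ≠ ⊥ := by
      rw [ne_eq, Subgroup.map_eq_bot_iff_of_injective _ L.subtype_injective]
      intro h
      subst h
      exact hKtop (Subgroup.isComplement'_bot_right.1 hU)
    have hnilH : Group.IsNilpotent H := Group.nilpotent_of_mulEquiv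
      (K.equivMapOfInjective _ L.subtype_injective)
    have hcoh := S1524.result H L (U.map L.subtype) hoddL (fittingHallOf_le L)
      (Subgroup.map_subtype_le U) hHbot hWbot hnilH hHn
      (by rw [hHdef, fittingHallOf, ← Subgroup.map_inf _ _ _ L.subtype_injective,
        hU.disjoint.eq_bot, Subgroup.map_bot])
      (by rw [hHdef, fittingHallOf, ← Subgroup.map_sup, hU.sup_eq_top, ← MonoidHom.range_eq_map,
        Subgroup.range_subtype])
      (by
        rintro _ ⟨w, hw, rfl⟩ hw1 h hh hcomm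
        by_contra hh1
        obtain ⟨h, hhK, rfl⟩ := hh
        have hwK := hC h hhK (fun e => hh1 (by rw [e]; rfl))
          (Subgroup.mem_centralizer_singleton_iff.2 (Subtype.ext hcomm))
        exact hw1 (by rw [Subgroup.disjoint_def.1 hU.disjoint hwK hw]; rfl))
      hTI hN
    rw [hsub] at hcoh
    have hA : ∀ a ∈ typeA' L, supportR L a = ⊥ := by
      intro a ha
      rw [typeA_eq_of_frobenius hI hfrob] at ha
      rw [supportR, dif_neg]
      rintro ⟨hnle, -⟩
      refine hnle fun g hg => ?_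
      by_contra hgL
      refine ha.2 (hTI g (by rw [hN]; exact hgL) a ha.1 ?_)
      rw [Subgroup.mem_centralizer_singleton_iff.1 hg, mul_inv_cancel_right]
      exact ha.1
    obtain ⟨h0, τ₁, h₁, h₂⟩ := hcoh
    exact ⟨h0, τ₁, h₁, fun α hα => (h₂ α hα).trans
      (dadeIsometry_eq_indFun hD hA (hsupp α hα).1 (hsupp α hα).2).symm⟩
  have hcases' := hcases.resolve_left hTI
  haveI : (⊥ : Subgroup L).Normal := inferInstance
  haveI : ((⊥ : Subgroup L).subgroupOf K).Normal := by rw [Subgroup.bot_subgroupOf]; infer_instance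
  have hnil : Group.IsNilpotent (↥K ⧸ (⊥ : Subgroup L).subgroupOf K) :=
    Group.nilpotent_of_surjective (QuotientGroup.mk' _) (QuotientGroup.mk'_surjective _)
  set H₁ : Subgroup L := ⁅K, K⁆ with hH₁def
  haveI : H₁.Normal := Subgroup.commutator_normal K K
  have hH₁K : H₁ < K := by
    haveI : Nontrivial K := (Subgroup.nontrivial_iff_ne_bot K).2 hK1
    refine lt_of_le_of_ne (Subgroup.commutator_le_self K) fun h =>
      (Group.IsSolvable.commutator_lt_top_of_nontrivial K).ne ?_
    apply Subgroup.map_injective K.subtype_injective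
    rw [Subgroup.map_subtype_commutator, ← MonoidHom.range_eq_map, Subgroup.range_subtype]
    exact h
  refine isCoherent_frobenius_section K hsolvK hR hoddL ⊥ bot_le hnil H₁ (by rw [sup_bot_eq]) hH₁K
    (centIn_mod hC H₁ hH₁K.le) ?_
  rcases hcases' with ⟨hab, -, -⟩ | ⟨hexp, -⟩
  · refine Or.inr (Or.inr (Or.inr (Or.inl ?_)))
    rw [Subgroup.commutator_le]
    intro a ha b hb
    rw [Subgroup.mem_bot, commutatorElement_eq_one_iff_mul_comm]
    haveI := hab
    refine Subtype.ext ?_
    have hc := congrArg Subtype.val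
      (mul_comm' (⟨(a : G), Subgroup.mem_map_of_mem _ ha⟩ : fittingHallOf L)
        ⟨(b : G), Subgroup.mem_map_of_mem _ hb⟩)
    simpa using hc
  · by_cases hpp : ∃ p m : ℕ, p.Prime ∧ (⊥ : Subgroup L).relIndex K = p ^ m
    · refine Or.inr (Or.inr (Or.inr (Or.inr ?_)))
      obtain ⟨p, m, hp, hm⟩ := hpp
      refine ⟨p, m, hp, hm, ?_⟩
      rw [Subgroup.relIndex_bot_left] at hm
      have hdvd : p ∣ Nat.card K := by
        rcases m with _ | m
        · exact absurd (Subgroup.card_eq_one.1 (by rw [hm, pow_zero])) hK1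
        · exact hm ▸ dvd_pow_self p (Nat.succ_ne_zero m)
      rw [← exponent_quotient_eq_index hoddL hC hK1 hKtop]
      exact hexp p hp (by rw [card_fittingHallOf]; exact hdvd)
    · exact Or.inr (Or.inr (Or.inl hpp))

end TypeOne

end Cfsg.Agent.OddOrder.PF
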