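import Cfsg.Agent.Lib.OddOrder.DadeCover
import Cfsg.Agent.Lib.OddOrder.PiCore
import Cfsg.Agent.Lib.OddOrder.PF.Conjugates
import Cfsg.Agent.Lib.OddOrder.PF.TypeFacts
import Cfsg.Agent.Lib.OddOrder.PF.TypeOneCoherence

/-!
Peterfalvi (12.17): not every maximal subgroup is of Type I, given that the maximal subgroups of Type I
are Frobenius groups.
-/

set_option autoImplicit false
set_option linter.unusedSectionVars false

namespace Cfsg.Agent.OddOrder.PF

open Cfsg

universe u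

variable {G : Type u} [Group G] [Finite G]

theorem kappa_eq_empty_of_typeI (B : BGFacts G) {M : Subgroup G} (hM : IsCoatom M)
    (hI : IsOfTypeI' M) : kappa M = ∅ := by
  obtain ⟨K, U, hKU⟩ := exists_decomp B hM
  obtain ⟨hK, -⟩ := (B.s1380 M hM K U hKU).1 hI
  rw [Set.eq_empty_iff_forall_notMem]
  intro p hp
  refine hKU.hall.2.2 p hp.1 hp ?_
  rw [hK, Subgroup.relIndex_bot_left]
  exact hp.2.1

theorem sigmaCore_eq_fittingHallOf_of_typeI (B : BGFacts G) {M : Subgroup G} (hM : IsCoatom M)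
    (hI : IsOfTypeI' M) : sigmaCore M = fittingHallOf M := by
  obtain ⟨K, U, hKU⟩ := exists_decomp B hM
  by_contra hne
  exact ((B.s1380 M hM K U hKU).1 hI).2 (B.s1357 M hM K U hKU (Ne.symm hne)).1

theorem mem_sigma_of_dvd_sigmaCore {M : Subgroup G} {p : ℕ} (hp : p.Prime)
    (h : p ∣ Nat.card (sigmaCore M)) : p ∈ sigma M :=
  isPiGrp_piCoreOf (sigma M) M p hp h

/-- The set of conjugates of the cosets of a conjugate subgroup is the same. -/
theorem mem_tildeOf_map {M : Subgroup G} {y g : G}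
    (h : g ∈ tildeOf (M.map (MulAut.conj y).toMonoidHom)
      ((fittingHallOf (M.map (MulAut.conj y).toMonoidHom) : Set G) \ {1})) :
    g ∈ tildeOf M ((fittingHallOf M : Set G) \ {1}) := by
  obtain ⟨a, ⟨ha, ha1⟩, r, hr, z, rfl⟩ := h
  rw [← fittingHallOf_map, SetLike.mem_coe] at ha
  obtain ⟨a, ha, rfl⟩ := ha
  have hr' : r ∈ supportR (M.map (MulAut.conj y).toMonoidHom) (MulAut.conj y a) := hr
  rw [supportR_map] at hr'
  obtain ⟨r, hrM, rfl⟩ := hr'
  refine ⟨a, ⟨ha, fun e => ha1 ?_⟩, r, hrM, z * y, ?_⟩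
  · rw [Set.mem_singleton_iff] at e ⊢; simp [e]
  · simp only [MulEquiv.coe_toMonoidHom, MulAut.conj_apply]; group

/-- Peterfalvi (12.17). -/
theorem exists_not_typeI (hG : IsMinSimpleOddOrder G) (B : BGFacts G)
    (hfrob : ∀ M : Subgroup G, IsCoatom M → IsOfTypeI' M → ∀ x ∈ fittingHallOf M, x ≠ 1 →
      M ⊓ Subgroup.centralizer ({x} : Set G) ≤ fittingHallOf M) :
    ∃ M : Subgroup G, IsCoatom M ∧ ¬ IsOfTypeI' M := by
  classical
  by_contra hall
  push Not at hall
  haveI : Fintype G := Fintype.ofFinite G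
  haveI := hG.2.1
  haveI : Nontrivial G := IsSimpleGroup.toNontrivial
  let X := {M : Subgroup G // IsCoatom M}
  let s : Setoid X :=
    { r := fun A B => ∃ g : G, B.1 = A.1.map (MulAut.conj g).toMonoidHom
      iseqv := by
        refine ⟨fun A => ⟨1, ?_⟩, fun {A B} ⟨g, h⟩ => ⟨g⁻¹, ?_⟩, fun {A B C} ⟨g, h⟩ ⟨k, h'⟩ => ⟨k * g, ?_⟩⟩
        · rw [map_one]; exact (Subgroup.map_id _).symm
        · rw [h, Subgroup.map_map, map_inv]
          exact ((congrArg (fun f => A.1.map f) (MonoidHom.ext fun x => by simp [mul_assoc])).trans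
            (Subgroup.map_id _)).symm
        · rw [h', h, Subgroup.map_map, map_mul]; rfl }
  haveI : Finite (Quotient s) := Quotient.finite s
  haveI : Fintype (Quotient s) := Fintype.ofFinite _
  obtain ⟨M₀, hM₀, -⟩ := exists_coatom_ge (X := (⊥ : Subgroup G)) bot_ne_top
  haveI : Nonempty (Quotient s) := ⟨Quotient.mk s ⟨M₀, hM₀⟩⟩
  let L : Quotient s → Subgroup G := fun q => q.out.1
  let K : Quotient s → Subgroup G := fun q => fittingHallOf (L q)
  have hL : ∀ q, IsCoatom (L q) := fun q => q.out.2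
  have hA : ∀ q, sigmaCore (L q) = K q := fun q =>
    sigmaCore_eq_fittingHallOf_of_typeI B (hL q) (hall _ (hL q))
  have hnc : ∀ i j, i ≠ j → ∀ g : G, L j ≠ (L i).map (MulAut.conj g).toMonoidHom := fun i j hij g hg =>
    hij (Quotient.out_equiv_out.1 ⟨g, hg⟩)
  have hF : ∀ q, IsFrobDade (L q) (K q) (supportR (L q)) := by
    intro q
    have hI := hall _ (hL q)
    refine ⟨lt_of_le_of_ne (fittingHallOf_le _) fun h => hI.1.2.2.2.1 ?_, (B.s1355 _ (hL q)).1,
      fun x hx h hh => conj_mem_map_subtype _ hx hh, hfrob _ (hL q) hI, ?_⟩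
    · rw [← subgroupOf_fittingHallOf, show fittingHallOf (L q) = L q from h, Subgroup.subgroupOf_self]
    · rw [← typeA_eq_of_frobenius hI (hfrob _ (hL q) hI)]
      exact dadeHypothesis_typeSet B (hL q) (Or.inr (Or.inl rfl))
  have hmem : ∀ q g, g ∈ dadeUnion ((K q : Set G) \ {1}) (supportR (L q)) ↔
      g ∈ tildeOf (L q) ((K q : Set G) \ {1}) := by
    intro q g
    rw [mem_dadeUnion]
    constructor
    · rintro ⟨a, ha, u, hu, x, hx⟩
      exact ⟨a, ha, u, hu, x⁻¹, by rw [← hx]; group⟩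
    · rintro ⟨a, ha, u, hu, y, rfl⟩
      exact ⟨a, ha, u, hu, y⁻¹, by group⟩
  refine no_dade_frobenius_cover hG.1 L K (fun q => supportR (L q)) hF ?_ ?_ ?_
  · intro i j hij
    refine Nat.coprime_of_dvd fun p hp h1 h2 => ?_
    obtain ⟨g, hg⟩ := B.s1378.2 (L i) (L j) (hL i) (hL j)
      ⟨p, mem_sigma_of_dvd_sigmaCore hp (by rw [hA]; exact h1),
        mem_sigma_of_dvd_sigmaCore hp (by rw [hA]; exact h2)⟩
    exact hnc i j hij g hg
  · intro i j hij
    rw [Finset.disjoint_left]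
    intro g h1 h2
    rw [hmem] at h1 h2
    have h := B.s1379.1 (L i) (L j) (hL i) (hL j) (hnc i j hij)
    rw [hA, hA] at h
    exact Set.eq_empty_iff_forall_notMem.1 h g ⟨h1, h2⟩
  · intro g hg
    obtain ⟨N, hN, hgN⟩ := B.s1379.2.1 (fun M hM => kappa_eq_empty_of_typeI B hM (hall M hM)) g hg
    rw [sigmaCore_eq_fittingHallOf_of_typeI B hN (hall N hN)] at hgN
    obtain ⟨y, hy⟩ : ∃ y : G, N = (L (Quotient.mk s ⟨N, hN⟩)).map (MulAut.conj y).toMonoidHom :=
      Quotient.mk_out (s := s) (⟨N, hN⟩ : X)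
    refine ⟨Quotient.mk s ⟨N, hN⟩, (hmem _ g).2 (mem_tildeOf_map (y := y) ?_)⟩
    rwa [← hy]

end Cfsg.Agent.OddOrder.PF
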