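import Cfsg.Agent.Lib.OddOrder.PF.S14_Main
import Cfsg.Agent.Lib.OddOrder.PF.TypeOneCover

/-!
The odd order theorem from `BGFacts`: a minimal simple group of odd order does not exist, by
Peterfalvi 12 (not all maximal subgroups are of Type I), 14 (the field configuration) and Appendix C.
-/

set_option autoImplicit false

namespace Cfsg.Agent.OddOrder.PF.S14

open Cfsg Cfsg.Agent.OddOrder Cfsg.Agent

universe u

variable {G : Type u} [Group G] [Finite G]

/-- There is no minimal simple group of odd order satisfying the bundle of the local analysis. -/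
theorem false_of_bgFacts (hG : IsMinSimpleOddOrder G) (B : BGFacts G) : False := by
  haveI : Fintype G := Fintype.ofFinite G
  have hV := noTypeV hG B
  have hPP := pairPrimes hG B
  have h3 := typeIIIOnly hG B (noCoherence345 hG B) hPP
  have hK := typeIIIKernel hG B (noCoherence345 hG B) hPP
  refine Final.false_of_rows B.s1385
    (exists_not_typeI hG B (typeI_frobenius hG B (pairKernel hG B hV hPP h3 hK))) ?_
  intro S T W₁ W₂ U V hS hT hSP hTP hST hII hS25 hT25 hqp
  obtain ⟨hq, hp, -, -, -, hU, -, hA, hUP, hQp, hQ, hW₂Q, y, hy, hyW, F, iF, iFt, f, ψ,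
      hF, hf, hfadd, hψ, hψmul, hψinj, hP₀⟩ :=
    finalConfiguration hG B (⟨hS, hT, hSP, hTP, hST, hII, hS25, hT25⟩ : TypePair S T W₁ W₂ U V) hqp
  exact ⟨hq, hp, hU, hA, hUP, hQp, hQ.1, hW₂Q, y, hy, hyW, F, iF, iFt, f, ψ, hF, hf, hfadd, hψ,
    hψmul, hψinj, fun x hx hfx => (hP₀ x hx).2 hfx⟩

end Cfsg.Agent.OddOrder.PF.S14
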