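import Cfsg.Agent.Lib.OddOrder.PF.BGFacts
import Cfsg.Agent.Lib.OddOrder.PF.S14_Contradiction
import Cfsg.Agent.Lib.OddOrder.DichotomyPrime
import Cfsg.Agent.Lib.OddOrder.TameEmbedding
import Cfsg.Agent.Lib.OddOrder.TheoremC
import Cfsg.Agent.Lib.OddOrder.TypeTheorems
import Cfsg.Agent.S1351
import Cfsg.Agent.S1352
import Cfsg.Agent.S1353
import Cfsg.Agent.S1354
import Cfsg.Agent.S1355
import Cfsg.Agent.S1356
import Cfsg.Agent.S1357
import Cfsg.Agent.S1358
import Cfsg.Agent.S1359
import Cfsg.Agent.S1360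
import Cfsg.Agent.S1361
import Cfsg.Agent.S1362
import Cfsg.Agent.S1363
import Cfsg.Agent.S1364
import Cfsg.Agent.S1365
import Cfsg.Agent.S1366
import Cfsg.Agent.S1367
import Cfsg.Agent.S1368
import Cfsg.Agent.S1369
import Cfsg.Agent.S1370
import Cfsg.Agent.S1371
import Cfsg.Agent.S1372
import Cfsg.Agent.S1373
import Cfsg.Agent.S1374
import Cfsg.Agent.S1375
import Cfsg.Agent.S1376
import Cfsg.Agent.S1377
import Cfsg.Agent.S1378
import Cfsg.Agent.S1379
import Cfsg.Agent.S1381
import Cfsg.Agent.S1382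
import Cfsg.Agent.S1383
import Cfsg.Agent.S1384
import Cfsg.Agent.S1389
import Cfsg.Agent.S1435
import Cfsg.Agent.S1436


/-!
# The local analysis bundle holds

`bgFacts : IsMinSimpleOddOrder G → BGFacts G`, from the proved rows (Bender–Glauberman §14–16).
-/

set_option autoImplicit false

namespace Cfsg.Agent.OddOrder.PF
open Cfsg

universe u

/-- The bundle of the local analysis holds in every minimal simple group of odd order. -/
theorem bgFacts {G : Type u} [Group G] [Finite G] (hG : IsMinSimpleOddOrder G) : BGFacts G where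
  s1351 := Cfsg.Agent.S1351.result hG
  s1352 := Cfsg.Agent.S1352.result hG
  s1353 := Cfsg.Agent.S1353.result hG
  s1354 := Cfsg.Agent.S1354.result hG
  s1355 := Cfsg.Agent.S1355.result hG
  s1356 := Cfsg.Agent.S1356.result hG
  s1357 := Cfsg.Agent.S1357.result hG
  s1358 := Cfsg.Agent.S1358.result hG
  s1359 := Cfsg.Agent.S1359.result hG
  s1360 := Cfsg.Agent.S1360.result hG
  s1361 := Cfsg.Agent.S1361.result hG
  s1362 := Cfsg.Agent.S1362.result hG
  s1363 := Cfsg.Agent.S1363.result hG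
  s1364 := Cfsg.Agent.S1364.result hG
  s1365 := Cfsg.Agent.S1365.result hG
  s1366 := Cfsg.Agent.S1366.result hG
  s1367 := Cfsg.Agent.S1367.result hG
  s1368 := Cfsg.Agent.S1368.result hG
  s1369 := Cfsg.Agent.S1369.result hG
  s1370 := Cfsg.Agent.S1370.result hG
  s1371 := Cfsg.Agent.S1371.result hG
  s1372 := Cfsg.Agent.S1372.result hG
  s1373 := Cfsg.Agent.S1373.result hG
  s1374 := Cfsg.Agent.S1374.result hG
  s1375 := Cfsg.Agent.S1375.result hG
  s1376 := Cfsg.Agent.S1376.result hG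
  s1377 := Cfsg.Agent.S1377.result hG
  s1378 := Cfsg.Agent.S1378.result hG
  s1379 := Cfsg.Agent.S1379.result hG
  s1380 := fun _ hM _ _ hKU => TypesIff.typeI'_iff hG (bg13 hG) hM hKU
  s1381 := Cfsg.Agent.S1381.result hG
  s1382 := Cfsg.Agent.S1382.result hG
  s1383 := Cfsg.Agent.S1383.result hG
  s1384 := Cfsg.Agent.S1384.result hG
  s1385 := DichotomyPrime.structureDichotomy' hG
  s1389 := Cfsg.Agent.S1389.result hG
  s1390 := fun M hM _ hU => by
    obtain ⟨⟨K, hK⟩, hc⟩ := Cfsg.Agent.S1351.result hG M hM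
    obtain ⟨U₀, hKU⟩ := (Cfsg.Agent.S1352.result hG M hM K (hc K hK) hK).1
    exact TypeTheorems.theoremB' hG hM hKU (fun h => (Cfsg.Agent.S1357.result hG M hM K U₀ hKU h).1)
      (fun h => (TheoremC.derived hG (bg13 hG) hM hKU h).1)
      (TypesIff.typeI'_iff hG (bg13 hG) hM hKU).1
      (TypesIff.typeII_iff hG (bg13 hG) hM hKU) (TypesIff.typeIII_IV_iff hG (bg13 hG) hM hKU) hU
  s1391 := fun _ hM _ hX => TameEmbedding.tame_embedding hG (bg13 hG) hM hX
  s1435 := Cfsg.Agent.S1435.result hG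
  s1436 := Cfsg.Agent.S1436.result hG
/-- **Feit–Thompson.** There is no minimal simple group of odd order. -/
theorem not_isMinSimpleOddOrder {G : Type u} [Group G] [Finite G] : ¬ IsMinSimpleOddOrder G :=
  fun hG => S14.false_of_bgFacts hG (bgFacts hG)

end Cfsg.Agent.OddOrder.PF
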