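import Cfsg.Agent.Lib.CharInt.GaloisAverage
import Cfsg.Agent.Lib.Char.Generalized
import Cfsg.Agent.Lib.Char.Linear

/-!
Lower bounds for sums of squared absolute values of generalized characters, used in the
configuration of Peterfalvi 13: on the nonidentity elements of an abelian group, a single virtual
character, a family with prescribed differences, and a pair on a set closed under coprime powers.
-/

set_option autoImplicit false
set_option linter.style.haveILetI false

namespace Cfsg.Agent.OddOrder.PF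

open Cfsg Cfsg.Agent Finset
open scoped ComplexConjugate

universe u w

section Abelian

variable {F : Type u} [Group F] [Fintype F]

/-- The sum of all squared absolute values of a virtual character is the group order times the
norm. -/
theorem sum_normSq_eq {f : F → ℂ} {m : IrrCharacter F → ℤ}
    (h : f = ∑ ψ, (m ψ : ℂ) • ψ.1) :
    (∑ y, Complex.normSq (f y)) = (Nat.card F : ℝ) * ∑ ψ, ((m ψ : ℝ)) ^ 2 := by
  have e := Char.IsGeneralizedCharacter.classInner_self_eq_sum h
  rw [classInner, inv_mul_eq_iff_eq_mul₀ Char.card_ne_zero] at e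
  apply Complex.ofReal_injective
  push_cast at e ⊢
  simpa [Complex.mul_conj] using e

theorem card_irr_of_comm (hcomm : ∀ a b : F, a * b = b * a) :
    Fintype.card (IrrCharacter F) = Nat.card F := by
  have h := Char.sum_irr_degree_sq (G := F)
  simp only [Char.apply_one_of_comm hcomm, one_pow, sum_const, card_univ, nsmul_eq_mul,
    mul_one] at h
  exact_mod_cast h

theorem sum_ne_one_normSq (hcomm : ∀ a b : F, a * b = b * a) {f : F → ℂ}
    {m : IrrCharacter F → ℤ} (h : f = ∑ ψ, (m ψ : ℂ) • ψ.1) [DecidablePred fun y : F => y ≠ 1] :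
    ∑ y ∈ univ.filter (fun y : F => y ≠ 1), Complex.normSq (f y) =
      (Nat.card F : ℝ) * ∑ ψ, ((m ψ : ℝ)) ^ 2 - (∑ ψ, (m ψ : ℝ)) ^ 2 := by
  classical
  rw [← sum_normSq_eq h]
  have e1 : f 1 = (((∑ ψ, (m ψ : ℝ)) : ℝ) : ℂ) := by
    simp [h, Char.apply_one_of_comm hcomm]
  have e2 : univ.filter (fun y : F => y ≠ 1) = univ.erase 1 := by ext; simp
  rw [e2, ← Finset.add_sum_erase univ _ (mem_univ (1 : F)), e1, Complex.normSq_ofReal]
  ring

/-- The first mass bound: a virtual character of an abelian group which does not vanish off the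
identity. -/
theorem card_sub_one_le_sum_normSq (hcomm : ∀ a b : F, a * b = b * a) {f : F → ℂ}
    (hf : IsGeneralizedCharacter F f) (h : ∃ y, y ≠ 1 ∧ f y ≠ 0)
    [DecidablePred fun y : F => y ≠ 1] :
    (Nat.card F : ℝ) - 1 ≤ ∑ y ∈ univ.filter (fun y : F => y ≠ 1), Complex.normSq (f y) := by
  classical
  obtain ⟨m, hm, -⟩ := Char.IsGeneralizedCharacter.exists_decomp hf
  rw [sum_ne_one_normSq hcomm hm]
  set a := m (Char.trivialChar F)
  obtain ⟨ψ₀, hψ₀⟩ : ∃ ψ, m ψ ≠ a := by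
    by_contra hcon
    push Not at hcon
    obtain ⟨y, hy, hfy⟩ := h
    refine hfy ?_
    rw [hm, Finset.sum_apply]
    have e : ∀ ψ : IrrCharacter F, ((m ψ : ℂ) • ψ.1) y = (a : ℂ) * (ψ.1 1 * ψ.1 y) := fun ψ => by
      simp [hcon, Char.apply_one_of_comm hcomm]
    rw [sum_congr rfl fun ψ _ => e ψ, ← mul_sum, Char.sum_irr_degree_mul, if_neg hy, mul_zero]
  set A := univ.filter (fun ψ => m ψ = a) with hA
  set B := univ.filter (fun ψ => ¬ m ψ = a) with hB
  have hA1 : 1 ≤ A.card := card_pos.2 ⟨Char.trivialChar F, by simp [hA, a]⟩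
  have hB1 : 1 ≤ B.card := card_pos.2 ⟨ψ₀, by simp [hB, hψ₀]⟩
  have hAB : A.card + B.card = Nat.card F := by
    rw [hA, hB, card_filter_add_card_filter_not, card_univ, card_irr_of_comm hcomm]
  have hpt : ∀ x y, (if m x = a then (1 : ℝ) else 0) * (if ¬ m y = a then 1 else 0) +
      (if ¬ m x = a then (1 : ℝ) else 0) * (if m y = a then 1 else 0) ≤
        ((m x : ℝ) - m y) ^ 2 := by
    intro x y
    have h1 : m x ≠ m y → (1 : ℝ) ≤ ((m x : ℝ) - m y) ^ 2 := fun hne => by
      have : 1 ≤ (m x - m y) ^ 2 := by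
        nlinarith [Int.one_le_abs (sub_ne_zero.2 hne), sq_abs (m x - m y)]
      exact_mod_cast this
    by_cases hx : m x = a <;> by_cases hy : m y = a <;> simp [hx, hy, sq_nonneg]
    · simpa [hx] using h1 (by rw [hx]; exact Ne.symm hy)
    · simpa [hy] using h1 (by rw [hy]; exact hx)
  have hsum := sum_le_sum (s := univ) fun x _ => sum_le_sum (s := univ) fun y _ => hpt x y
  have el : ∑ x, ∑ y, ((if m x = a then (1 : ℝ) else 0) * (if ¬ m y = a then 1 else 0) +
      (if ¬ m x = a then (1 : ℝ) else 0) * (if m y = a then 1 else 0)) =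
        2 * (A.card : ℝ) * B.card := by
    simp_rw [sum_add_distrib, ← mul_sum, ← sum_mul, sum_boole]
    rw [← hA, ← hB]; ring
  have er : ∑ x, ∑ y, ((m x : ℝ) - m y) ^ 2 =
      2 * ((Nat.card F : ℝ) * ∑ ψ, ((m ψ : ℝ)) ^ 2 - (∑ ψ, (m ψ : ℝ)) ^ 2) := by
    simp_rw [sub_sq, sum_add_distrib, sum_sub_distrib, sum_const, card_univ,
      card_irr_of_comm hcomm, nsmul_eq_mul, ← mul_sum, ← sum_mul, ← mul_sum]
    ring
  rw [el, er] at hsum
  have h1 : (1 : ℝ) ≤ A.card := by exact_mod_cast hA1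
  have h2 : (1 : ℝ) ≤ B.card := by exact_mod_cast hB1
  have h3 : (A.card : ℝ) + B.card = Nat.card F := by exact_mod_cast hAB
  nlinarith [mul_nonneg (sub_nonneg.2 h1) (sub_nonneg.2 h2)]

theorem sq_le_int_sub_sq {t : ℝ} (ht : |t| ≤ 1 / 2) (k : ℤ) :
    t ^ 2 + (if k = 0 then 0 else 1 - 2 * |t|) ≤ ((k : ℝ) - t) ^ 2 := by
  by_cases hk : k = 0
  · simp [hk]
  rw [if_neg hk]
  obtain ⟨h1, h2⟩ := abs_le.1 ht
  have := le_abs_self t
  have := neg_abs_le t
  rcases le_or_gt 1 k with h | h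
  · have : (1 : ℝ) ≤ k := by exact_mod_cast h
    nlinarith
  · have : (k : ℝ) ≤ -1 := by exact_mod_cast (show k ≤ -1 by omega)
    nlinarith

/-- The second mass bound: virtual characters whose pairwise differences are the differences of
sums over disjoint sets of `v` irreducible characters. -/
theorem sum_normSq_family_ge (hcomm : ∀ a b : F, a * b = b * a) {ι : Type w} [Fintype ι]
    (h2 : 2 ≤ Fintype.card ι) (f : ι → F → ℂ) (hf : ∀ i, IsGeneralizedCharacter F (f i))
    (O : ι → Finset (IrrCharacter F)) (hdisj : ∀ i k, i ≠ k → Disjoint (O i) (O k)) {v : ℕ}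
    (hcard : ∀ i, (O i).card = v) {e : ℤ} (he : e = 1 ∨ e = -1)
    (hdiff : ∀ i k, ∀ y, f i y - f k y = (e : ℂ) * ((∑ x ∈ O i, x.1 y) - ∑ x ∈ O k, x.1 y))
    [DecidablePred fun y : F => y ≠ 1] :
    (Fintype.card ι : ℝ) * ((Nat.card F : ℝ) * v - (v : ℝ) ^ 2) ≤
      ∑ i, ∑ y ∈ univ.filter (fun y : F => y ≠ 1), Complex.normSq (f i y) := by
  classical
  choose m hm hm' using fun i => Char.IsGeneralizedCharacter.exists_decomp (hf i)
  have hd : ∀ i k ψ, m i ψ - m k ψ =
      e * ((if ψ ∈ O i then 1 else 0) - (if ψ ∈ O k then 1 else 0)) := by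
    intro i k ψ
    have h1 : f i - f k = (e : ℂ) • ((∑ x ∈ O i, x.1) - ∑ x ∈ O k, x.1) := by
      funext y; simpa using hdiff i k y
    have h2 := congrArg (fun g => classInner g ψ.1) h1
    simp only [Char.classInner_sub_left, hm', Char.classInner_smul_left, Char.classInner_sum_left,
      Char.classInner_irr, sum_ite_eq'] at h2
    exact_mod_cast (by simpa using h2 :
      (m i ψ : ℂ) - m k ψ = (e : ℂ) * ((if ψ ∈ O i then 1 else 0) - (if ψ ∈ O k then 1 else 0)))
  obtain ⟨i₀, i₁, h01⟩ := Fintype.one_lt_card_iff.1 h2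
  set wv : IrrCharacter F → ℤ := fun ψ => m i₀ ψ - e * (if ψ ∈ O i₀ then 1 else 0) with hw
  have hmw : ∀ i ψ, m i ψ = wv ψ + e * (if ψ ∈ O i then 1 else 0) := fun i ψ => by
    have := hd i i₀ ψ; simp only [hw]; linarith
  set S : ℝ := (∑ ψ, (wv ψ : ℝ)) + e * v with hS
  have hrow : ∀ i, ∑ ψ, (m i ψ : ℝ) = S := fun i => by
    simp [hmw, sum_add_distrib, hcard, hS, mul_comm]
  have hN : (0 : ℝ) < Nat.card F := Nat.cast_pos.2 Nat.card_pos
  have hK : (Fintype.card (IrrCharacter F) : ℝ) = Nat.card F := by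
    exact_mod_cast card_irr_of_comm hcomm
  set t : ℝ := S / Nat.card F with ht
  set t₀ : ℝ := t - round t with ht0
  have hh : |t₀| ≤ 1 / 2 := abs_sub_round t
  have hhalf : 0 ≤ 1 - 2 * |t₀| := by linarith
  have hpt : ∀ ψ, (Fintype.card ι : ℝ) * t₀ ^ 2 +
      (1 - 2 * |t₀|) * ∑ i, (if ψ ∈ O i then (1 : ℝ) else 0) ≤ ∑ i, ((m i ψ : ℝ) - t) ^ 2 := by
    intro ψ
    have hterm : ∀ i, t₀ ^ 2 + (if m i ψ - round t = 0 then 0 else 1 - 2 * |t₀|) ≤
        ((m i ψ : ℝ) - t) ^ 2 := fun i => by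
      have := sq_le_int_sub_sq hh (m i ψ - round t)
      simpa [ht0] using this
    refine le_trans ?_ (sum_le_sum fun i _ => hterm i)
    rw [sum_add_distrib, sum_const, card_univ, nsmul_eq_mul, add_le_add_iff_left]
    by_cases hex : ∃ i, ψ ∈ O i
    · obtain ⟨i, hi⟩ := hex
      rw [sum_eq_single i (fun k _ hk => if_neg fun hkψ =>
        Finset.disjoint_left.1 (hdisj k i hk) hkψ hi) (by simp), if_pos hi, mul_one]
      obtain ⟨k, hk⟩ : ∃ k, m k ψ - round t ≠ 0 := by
        by_contra hcon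
        push Not at hcon
        obtain ⟨k, hki⟩ : ∃ k, k ≠ i := by
          by_cases h : i₀ = i
          · exact ⟨i₁, fun h' => h01 (h.trans h'.symm)⟩
          · exact ⟨i₀, h⟩
        have := hd i k ψ
        rw [if_pos hi, if_neg fun hkψ => Finset.disjoint_left.1 (hdisj k i hki) hkψ hi] at this
        have := hcon i
        have := hcon k
        rcases he with rfl | rfl <;> omega
      refine le_trans ?_ (single_le_sum (fun j _ => ?_) (mem_univ k))
      · rw [if_neg hk]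
      · split_ifs <;> simp [hhalf]
    · push Not at hex
      simp only [hex, if_false, sum_const_zero, mul_zero]
      exact sum_nonneg fun j _ => by split_ifs <;> simp [hhalf]
  have hsum := sum_le_sum (s := univ) fun ψ (_ : ψ ∈ univ) => hpt ψ
  rw [sum_add_distrib, sum_const, card_univ, nsmul_eq_mul, hK, ← mul_sum, sum_comm,
    show (∑ i, ∑ ψ, if ψ ∈ O i then (1 : ℝ) else 0) = Fintype.card ι * v by
      simp [hcard]] at hsum
  rw [sum_comm (γ := IrrCharacter F)] at hsum
  have hsq : ∀ i, (Nat.card F : ℝ) * ∑ ψ, ((m i ψ : ℝ) - t) ^ 2 =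
      (Nat.card F : ℝ) * ∑ ψ, ((m i ψ : ℝ)) ^ 2 - (∑ ψ, (m i ψ : ℝ)) ^ 2 := fun i => by
    simp_rw [sub_sq, sum_add_distrib, sum_sub_distrib, sum_const, card_univ, nsmul_eq_mul,
      ← sum_mul, ← mul_sum, hrow, hK, ht]
    field_simp
    ring
  simp only [fun i => sum_ne_one_normSq hcomm (hm i), ← hsq, ← mul_sum]
  refine le_trans ?_ (mul_le_mul_of_nonneg_left hsum hN.le)
  have key : (Nat.card F : ℝ) * v - (v : ℝ) ^ 2 ≤
      (Nat.card F : ℝ) * ((Nat.card F : ℝ) * t₀ ^ 2 + (1 - 2 * |t₀|) * v) := by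
    rw [← sq_abs t₀]
    nlinarith [sq_nonneg ((Nat.card F : ℝ) * |t₀| - v)]
  calc _ ≤ (Fintype.card ι : ℝ) *
      ((Nat.card F : ℝ) * ((Nat.card F : ℝ) * t₀ ^ 2 + (1 - 2 * |t₀|) * v)) :=
        mul_le_mul_of_nonneg_left key (Nat.cast_nonneg _)
    _ = _ := by ring

end Abelian

section Pair

variable {G : Type u} [Group G] [Fintype G]

/-- The values of a virtual character on the powers of `z` are integral combinations of powers of
roots of unity. -/
theorem gen_roots {f : G → ℂ} (hf : IsGeneralizedCharacter G f) (z : G) :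
    ∃ (ι : Type) (_ : Fintype ι) (c : ι → ℤ) (μ : ι → ℂ), (∀ i, μ i ^ Nat.card G = 1) ∧
      ∀ k : ℕ, f (z ^ k) = ∑ i, (c i : ℂ) * μ i ^ k := by
  obtain ⟨A, B, hA, hB, rfl⟩ := hf
  obtain ⟨nA, μA, -, hμA, hvA⟩ := CharInt.exists_roots hA z
  obtain ⟨nB, μB, -, hμB, hvB⟩ := CharInt.exists_roots hB z
  obtain ⟨d, hd⟩ : orderOf z ∣ Nat.card G := orderOf_dvd_natCard z
  refine ⟨Fin nA ⊕ Fin nB, inferInstance, Sum.elim (fun _ => 1) (fun _ => -1),
    Sum.elim μA μB, ?_, fun k => ?_⟩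
  · rintro (i | i) <;> rw [hd, pow_mul] <;> simp [hμA, hμB]
  · rw [Pi.sub_apply, hvA, hvB, Fintype.sum_sum_type]
    simp [Finset.sum_neg_distrib, sub_eq_add_neg]

/-- The third mass bound: two virtual characters with no common zero on a set closed under the
powers prime to the group order. -/
theorem card_le_sum_normSq_pair {f g : G → ℂ} (hf : IsGeneralizedCharacter G f)
    (hg : IsGeneralizedCharacter G g) (Z : Finset G)
    (hZ : ∀ z ∈ Z, ∀ k : ℕ, k.Coprime (Nat.card G) → z ^ k ∈ Z)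
    (hne : ∀ z ∈ Z, f z ≠ 0 ∨ g z ≠ 0) :
    (Z.card : ℝ) ≤ ∑ z ∈ Z, (Complex.normSq (f z) + Complex.normSq (g z)) := by
  classical
  haveI : NeZero (Nat.card G) := ⟨Nat.card_pos.ne'⟩
  obtain ⟨m, k, hm, hk, hmain⟩ := CharInt.exists_twists.{0} (Nat.card G)
  have hone : ∀ {φ : G → ℂ}, IsGeneralizedCharacter G φ → ∀ z, φ z ≠ 0 →
      (m : ℝ) ≤ ∑ j, Complex.normSq (φ (z ^ k j)) := by
    intro φ hφ z hz
    obtain ⟨ι, _, c, μ, hμ, hval⟩ := gen_roots hφ z
    have h1 := hval 1
    simp only [pow_one] at h1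
    have := hmain ι c μ hμ (by rwa [← h1])
    simpa [← hval, Complex.normSq_eq_norm_sq] using this
  have hpoint : ∀ z ∈ Z, (m : ℝ) ≤
      ∑ j, (Complex.normSq (f (z ^ k j)) + Complex.normSq (g (z ^ k j))) := by
    intro z hz
    rw [sum_add_distrib]
    rcases hne z hz with h | h
    · exact le_add_of_le_of_nonneg (hone hf z h) (sum_nonneg fun j _ => Complex.normSq_nonneg _)
    · exact le_add_of_nonneg_of_le (sum_nonneg fun j _ => Complex.normSq_nonneg _) (hone hg z h)
  have hinv : ∀ j, ∑ z ∈ Z, (Complex.normSq (f (z ^ k j)) + Complex.normSq (g (z ^ k j))) =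
      ∑ z ∈ Z, (Complex.normSq (f z) + Complex.normSq (g z)) := by
    intro j
    have hc : (Nat.card G).Coprime (k j) := (hk j).symm
    have hinj : Set.InjOn (fun g : G => g ^ k j) Z := (powCoprime hc).injective.injOn
    have himg : Z.image (fun g : G => g ^ k j) = Z :=
      Finset.eq_of_subset_of_card_le
        (Finset.image_subset_iff.2 fun g hg => hZ g hg _ (hk j))
        (le_of_eq (Finset.card_image_of_injOn hinj).symm)
    conv_rhs => rw [← himg, Finset.sum_image hinj]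
  refine le_of_mul_le_mul_left ?_ (Nat.cast_pos.2 hm : (0 : ℝ) < m)
  calc (m : ℝ) * Z.card = ∑ _z ∈ Z, (m : ℝ) := by rw [sum_const, nsmul_eq_mul, mul_comm]
    _ ≤ ∑ z ∈ Z, ∑ j, (Complex.normSq (f (z ^ k j)) + Complex.normSq (g (z ^ k j))) :=
        sum_le_sum hpoint
    _ = ∑ j : Fin m, ∑ z ∈ Z, (Complex.normSq (f (z ^ k j)) + Complex.normSq (g (z ^ k j))) :=
        sum_comm
    _ = _ := by simp [hinv]

end Pair

end Cfsg.Agent.OddOrder.PF
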