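import Cfsg.Agent.Lib.OddOrder.CyclicTIUnique
import Cfsg.Agent.Lib.OddOrder.Coherence
import Cfsg.Agent.S1511

/-!
Virtual characters of small norm against a cyclic TI family `η` (Peterfalvi (3.4), (3.8)): one of
norm at most two vanishing on `V` is orthogonal to every `η ω`; one of norm two agreeing on `V`
with `δ (ω₁ - ω₂)`, for `ω₁, ω₂` agreeing on `W₁`, equals `δ (η ω₁ - η ω₂)`.
-/

set_option autoImplicit false
set_option linter.style.haveILetI false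

namespace Cfsg.Agent.OddOrder.PF

open Cfsg Cfsg.Agent.OddOrder Cfsg.Agent.Char

/-- An additive integer table with squares summing to at most two is zero. -/
theorem additive_small {ι κ : Type*} [Fintype ι] [Fintype κ] [DecidableEq ι] [DecidableEq κ]
    (hι : 3 ≤ Fintype.card ι) (hκ : 3 ≤ Fintype.card κ) (M : ι → κ → ℤ)
    (hM : ∀ i i' j j', M i j + M i' j' = M i j' + M i' j)
    (h2 : ∑ s : ι × κ, M s.1 s.2 ^ 2 ≤ 2) : ∀ i j, M i j = 0 := by
  have three : ∀ a b c : ι × κ, a ≠ b → a ≠ c → b ≠ c → M a.1 a.2 ≠ 0 → M b.1 b.2 ≠ 0 →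
      M c.1 c.2 = 0 := by
    intro a b c hab hac hbc ha hb
    by_contra hc
    have h := le_trans (Finset.sum_le_univ_sum_of_nonneg (s := {a, b, c})
      (f := fun s : ι × κ => M s.1 s.2 ^ 2) fun s => sq_nonneg _) h2
    rw [Finset.sum_insert (by simp [hab, hac]), Finset.sum_insert (by simp [hbc]),
      Finset.sum_singleton] at h
    have hsq : ∀ z : ℤ, z ≠ 0 → 1 ≤ z ^ 2 := fun z hz => by
      have : 0 < z ^ 2 := by positivity
      omega
    have := hsq _ ha; have := hsq _ hb; have := hsq _ hc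
    omega
  intro i j
  by_contra hne
  obtain ⟨a, ha, b, hb, hab⟩ := Finset.one_lt_card.1 (show 1 < (Finset.univ.erase i).card by
    rw [Finset.card_erase_of_mem (Finset.mem_univ _), Finset.card_univ]; omega)
  have hai := (Finset.mem_erase.1 ha).1
  have hbi := (Finset.mem_erase.1 hb).1
  -- every entry of row `i` is nonzero
  have hrow : ∀ j', j' ≠ j → M i j' ≠ 0 := by
    intro j' hj' h0
    have key : ∀ k, k ≠ i → M k j ≠ 0 ∨ M k j' ≠ 0 := by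
      intro k hk
      by_contra hcon
      push Not at hcon
      have := hM i k j j'
      omega
    obtain ⟨ka, hka⟩ : ∃ c : κ, M a c ≠ 0 := (key a hai).elim (⟨j, ·⟩) (⟨j', ·⟩)
    obtain ⟨kb, hkb⟩ : ∃ c : κ, M b c ≠ 0 := (key b hbi).elim (⟨j, ·⟩) (⟨j', ·⟩)
    exact hkb (three (i, j) (a, ka) (b, kb) (by simp [hai.symm]) (by simp [hbi.symm])
      (by simp [hab]) hne hka)
  obtain ⟨c, hc, d, hd, hcd⟩ := Finset.one_lt_card.1 (show 1 < (Finset.univ.erase j).card by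
    rw [Finset.card_erase_of_mem (Finset.mem_univ _), Finset.card_univ]; omega)
  have hcj := (Finset.mem_erase.1 hc).1
  have hdj := (Finset.mem_erase.1 hd).1
  exact hrow d hdj (three (i, j) (i, c) (i, d) (by simp [hcj.symm]) (by simp [hdj.symm])
    (by simp [hcd]) hne (hrow c hcj))

variable {G : Type*} [Group G] [Fintype G] {W₁ W₂ : Subgroup G}
  {η : (↥(W₁ ⊔ W₂) →* ℂˣ) → (G → ℂ)}

omit [Fintype G] in
theorem three_le_card [Finite G] (hW : IsSelfNormalizingCyclic W₁ W₂)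
    (hodd : Odd (Nat.card ↥(W₁ ⊔ W₂))) : 3 ≤ Nat.card W₁ ∧ 3 ≤ Nat.card W₂ := by
  have key : ∀ H : Subgroup G, H ≤ W₁ ⊔ W₂ → H ≠ ⊥ → 3 ≤ Nat.card H := by
    intro H hH h1
    have h2 : Odd (Nat.card H) := hodd.of_dvd_nat (Subgroup.card_dvd_of_le hH)
    have h3 : Nat.card H ≠ 1 := fun h => h1 (Subgroup.card_eq_one.1 h)
    obtain ⟨k, hk⟩ := h2
    omega
  exact ⟨key _ le_sup_left hW.1, key _ le_sup_right hW.2.1⟩

/-- The linear characters of `W` trivial on `U`. -/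
abbrev Ann (W₁ W₂ U : Subgroup G) : Type _ :=
  {φ : ↥(W₁ ⊔ W₂) →* ℂˣ // ∀ w : ↥(W₁ ⊔ W₂), (w : G) ∈ U → φ w = 1}

omit [Fintype G] in
theorem ann_facts [Finite G] (hW : IsSelfNormalizingCyclic W₁ W₂) :
    Finite (↥(W₁ ⊔ W₂) →* ℂˣ) ∧
      Nat.card (Ann W₁ W₂ W₂) = Nat.card W₁ ∧ Nat.card (Ann W₁ W₂ W₁) = Nat.card W₂ ∧
      Function.Bijective fun p : Ann W₁ W₂ W₂ × Ann W₁ W₂ W₁ => p.1.1 * p.2.1 := by
  letI := Fintype.ofFinite G
  letI : CommGroup ↥(W₁ ⊔ W₂) :=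
    { (inferInstance : Group ↥(W₁ ⊔ W₂)) with mul_comm := isCyclicTI_comm hW }
  set A : Subgroup ↥(W₁ ⊔ W₂) := W₁.subgroupOf (W₁ ⊔ W₂) with hA
  set B : Subgroup ↥(W₁ ⊔ W₂) := W₂.subgroupOf (W₁ ⊔ W₂) with hB
  have hd : A ⊓ B = ⊥ := by
    refine (Subgroup.eq_bot_iff_forall _).2 fun x hx => Subtype.ext ?_
    have h : (x : G) ∈ W₁ ⊓ W₂ := hx
    rw [hW.2.2.1, Subgroup.mem_bot] at h
    exact h
  have hs : A ⊔ B = ⊤ := by
    rw [hA, hB, ← Subgroup.subgroupOf_sup le_sup_left le_sup_right, Subgroup.subgroupOf_self]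
  let e₂ : Ann W₁ W₂ W₂ ≃ ↥(dualAnn B) :=
    Equiv.subtypeEquivRight fun φ => (mem_dualAnn (N := B)).symm
  let e₁ : Ann W₁ W₂ W₁ ≃ ↥(dualAnn A) :=
    Equiv.subtypeEquivRight fun φ => (mem_dualAnn (N := A)).symm
  refine ⟨inferInstance, ?_, ?_, ⟨fun p q h => ?_, fun ω => ?_⟩⟩
  · rw [Nat.card_congr e₂, Nat.card_eq_finsetCard, card_dualAnn_of_compl hd hs]
    exact Nat.card_congr (Subgroup.subgroupOfEquivOfLe le_sup_left).toEquiv
  · rw [Nat.card_congr e₁, Nat.card_eq_finsetCard,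
      card_dualAnn_of_compl ((inf_comm B A).trans hd) ((sup_comm B A).trans hs)]
    exact Nat.card_congr (Subgroup.subgroupOfEquivOfLe le_sup_right).toEquiv
  · have := (dualAnn_mul_bijOn hd hs).2.1 (x₁ := (p.1.1, p.2.1)) (x₂ := (q.1.1, q.2.1))
      (Finset.mem_coe.2 (Finset.mem_product.2 ⟨(e₂ p.1).2, (e₁ p.2).2⟩))
      (Finset.mem_coe.2 (Finset.mem_product.2 ⟨(e₂ q.1).2, (e₁ q.2).2⟩)) h
    simp only [Prod.mk.injEq] at this
    exact Prod.ext (Subtype.ext this.1) (Subtype.ext this.2)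
  · obtain ⟨⟨φ, ψ⟩, hp, h⟩ := (dualAnn_mul_bijOn hd hs).2.2 (Set.mem_univ ω)
    have hp' := Finset.mem_product.1 (Finset.mem_coe.1 hp)
    exact ⟨(e₂.symm ⟨φ, hp'.1⟩, e₁.symm ⟨ψ, hp'.2⟩), h⟩

omit [Fintype G] in
/-- Every linear character of `W` is a product of one trivial on `W₂` and one trivial on `W₁`. -/
theorem exists_eq_mul [Finite G] (hW : IsSelfNormalizingCyclic W₁ W₂) (ω : ↥(W₁ ⊔ W₂) →* ℂˣ) :
    ∃ φ ψ : ↥(W₁ ⊔ W₂) →* ℂˣ, (∀ w : ↥(W₁ ⊔ W₂), (w : G) ∈ W₂ → φ w = 1) ∧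
      (∀ w : ↥(W₁ ⊔ W₂), (w : G) ∈ W₁ → ψ w = 1) ∧ ω = φ * ψ := by
  obtain ⟨⟨φ, ψ⟩, h⟩ := (ann_facts hW).2.2.2.2 ω
  exact ⟨φ.1, ψ.1, φ.2, ψ.2, h.symm⟩

omit [Fintype G] in
theorem mul_inj [Finite G] (hW : IsSelfNormalizingCyclic W₁ W₂) {a a' : Ann W₁ W₂ W₂}
    {b b' : Ann W₁ W₂ W₁} (h : a.1 * b.1 = a'.1 * b'.1) : a = a' ∧ b = b' := by
  have := (ann_facts hW).2.2.2.1 (a₁ := (a, b)) (a₂ := (a', b')) h
  simpa using this

theorem eta_isGeneralized (hη : IsCyclicTIFamily W₁ W₂ η) (ω : ↥(W₁ ⊔ W₂) →* ℂˣ) :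
    IsGeneralizedCharacter G (η ω) := by
  rcases hη.irr_or_neg ω with h | h
  · exact irr_isGeneralized ⟨_, h⟩
  · simpa using Char.IsGeneralizedCharacter.neg (irr_isGeneralized ⟨_, h⟩)

/-- A generalized character vanishing on `V` has an additive table of coefficients. -/
theorem exists_table (hη : IsCyclicTIFamily W₁ W₂ η)
    {θ : G → ℂ} (hθ : IsGeneralizedCharacter G θ)
    (hθV : ∀ w : ↥(W₁ ⊔ W₂), (w : G) ∉ W₁ → (w : G) ∉ W₂ → θ w = 0) :
    ∃ M : (Ann W₁ W₂ W₁) → (Ann W₁ W₂ W₂) → ℤ,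
      (∀ i i' j j', M i j + M i' j' = M i j' + M i' j) ∧
      ∀ i j, classInner θ (η (j.1 * i.1)) = M i j := by
  choose c hc using fun ω => Char.IsGeneralizedCharacter.exists_int_classInner hθ
    (eta_isGeneralized hη ω)
  refine ⟨fun i j => c (j.1 * i.1), fun i i' j j' => ?_, fun i j => hc _⟩
  have e : ∀ (a : (Ann W₁ W₂ W₁))
      (b : (Ann W₁ W₂ W₂)), c (b.1 * a.1) = c b.1 + c a.1 - c 1 := by
    intro a b
    have h := coeff_eq hη (Char.IsGeneralizedCharacter.isClassFunction hθ) hθV b.1 a.1 b.2 a.2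
    rw [hc, hc, hc, hc] at h
    exact_mod_cast h
  show c (j.1 * i.1) + c (j'.1 * i'.1) = c (j'.1 * i.1) + c (j.1 * i'.1)
  rw [e, e, e, e]; ring

/-- Bessel for the coefficients along `η`. -/
theorem sum_coeff_sq_le [Fintype (Ann W₁ W₂ W₁)] [Fintype (Ann W₁ W₂ W₂)]
    (hW : IsSelfNormalizingCyclic W₁ W₂) (hη : IsCyclicTIFamily W₁ W₂ η)
    {θ : G → ℂ} {N : ℤ} (hN : classInner θ θ = N)
    (a : (Ann W₁ W₂ W₁) × (Ann W₁ W₂ W₂) → ℤ)
    (ha : ∀ s, classInner θ (η (s.2.1 * s.1.1)) = a s) : ∑ s, a s ^ 2 ≤ N := by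
  classical
  have hinj : Function.Injective fun s : (Ann W₁ W₂ W₁) ×
      (Ann W₁ W₂ W₂) => s.2.1 * s.1.1 := by
    intro s t h
    exact Prod.ext (mul_inj hW h).2 (mul_inj hW h).1
  have h := bessel_int Finset.univ (fun s : (Ann W₁ W₂ W₁) ×
      (Ann W₁ W₂ W₂) => η (s.2.1 * s.1.1)) (fun _ => 1)
    (fun _ _ => one_pos) (fun s _ t _ => by
      rw [hη.orthonormal]; simp [hinj.eq_iff]) θ N hN a fun s _ => ha s
  simp only [Nat.cast_one, div_one] at h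
  exact_mod_cast h

theorem three_le_card_index [Fintype (Ann W₁ W₂ W₁)] [Fintype (Ann W₁ W₂ W₂)]
    (hW : IsSelfNormalizingCyclic W₁ W₂) (hodd : Odd (Nat.card ↥(W₁ ⊔ W₂))) :
    3 ≤ Fintype.card (Ann W₁ W₂ W₁) ∧ 3 ≤ Fintype.card (Ann W₁ W₂ W₂) := by
  obtain ⟨-, h1, h2, -⟩ := ann_facts hW
  obtain ⟨h3, h4⟩ := three_le_card hW hodd
  rw [← Nat.card_eq_fintype_card, ← Nat.card_eq_fintype_card, h1, h2]
  exact ⟨h4, h3⟩

/-- A virtual character of norm at most two vanishing on `V` is orthogonal to every `η ω`. -/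
theorem eta_orth_of_norm_le_two (hW : IsSelfNormalizingCyclic W₁ W₂)
    (hodd : Odd (Nat.card ↥(W₁ ⊔ W₂))) (hη : IsCyclicTIFamily W₁ W₂ η) {θ : G → ℂ}
    (hθ : IsGeneralizedCharacter G θ) {N : ℤ} (hN : classInner θ θ = N) (hN2 : N ≤ 2)
    (hθV : ∀ w : ↥(W₁ ⊔ W₂), (w : G) ∉ W₁ → (w : G) ∉ W₂ → θ w = 0)
    (ω : ↥(W₁ ⊔ W₂) →* ℂˣ) : classInner θ (η ω) = 0 := by
  classical
  haveI := (ann_facts hW).1
  haveI : Fintype (Ann W₁ W₂ W₁) := Fintype.ofFinite _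
  haveI : Fintype (Ann W₁ W₂ W₂) := Fintype.ofFinite _
  obtain ⟨M, hM, hMc⟩ := exists_table hη hθ hθV
  obtain ⟨h3, h3'⟩ := three_le_card_index hW hodd
  have hzero := additive_small h3 h3' M hM ((sum_coeff_sq_le hW hη hN (fun s => M s.1 s.2)
    fun s => hMc _ _).trans hN2)
  obtain ⟨φ, ψ, hφ, hψ, rfl⟩ := exists_eq_mul hW ω
  have := hMc ⟨ψ, hψ⟩ ⟨φ, hφ⟩
  rw [hzero, Int.cast_zero] at this
  exact this

/-- A virtual character of norm two agreeing on `V` with `δ (ω₁ - ω₂)`, where `ω₁ ≠ ω₂` agree on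
`W₁`, equals `δ (η ω₁ - η ω₂)`. -/
theorem eq_eta_sub (hW : IsSelfNormalizingCyclic W₁ W₂) (hodd : Odd (Nat.card ↥(W₁ ⊔ W₂)))
    (hη : IsCyclicTIFamily W₁ W₂ η) {θ : G → ℂ} (hθ : IsGeneralizedCharacter G θ)
    (hN : classInner θ θ = 2) {δ : ℤ} (hδ : δ = 1 ∨ δ = -1) {ω₁ ω₂ : ↥(W₁ ⊔ W₂) →* ℂˣ}
    (h12 : ω₁ ≠ ω₂) (hag : ∀ w : ↥(W₁ ⊔ W₂), (w : G) ∈ W₁ → ω₁ w = ω₂ w)
    (hθV : ∀ w : ↥(W₁ ⊔ W₂), (w : G) ∉ W₁ → (w : G) ∉ W₂ →
      θ w = δ * ((ω₁ w : ℂ) - (ω₂ w : ℂ))) :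
    θ = (δ : ℂ) • (η ω₁ - η ω₂) := by
  classical
  haveI := (ann_facts hW).1
  haveI : Fintype (Ann W₁ W₂ W₁) := Fintype.ofFinite _
  haveI : Fintype (Ann W₁ W₂ W₂) := Fintype.ofFinite _
  obtain ⟨φ, ψ₁, hφ, hψ₁, e₁⟩ := exists_eq_mul hW ω₁
  obtain ⟨φ', ψ₂, hφ', hψ₂, e₂⟩ := exists_eq_mul hW ω₂
  -- the components along `W₁` agree
  obtain rfl : φ' = φ := by
    have hle : W₁ ⊔ W₂ ≤ ((φ'.eqLocus φ).map (W₁ ⊔ W₂).subtype) := by
      refine sup_le (fun w hw => ⟨⟨w, Subgroup.mem_sup_left hw⟩, ?_, rfl⟩)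
        fun w hw => ⟨⟨w, Subgroup.mem_sup_right hw⟩, ?_, rfl⟩
      · have := hag ⟨w, Subgroup.mem_sup_left hw⟩ hw
        rw [e₁, e₂, MonoidHom.mul_apply, MonoidHom.mul_apply, hψ₁ _ hw, hψ₂ _ hw, mul_one,
          mul_one] at this
        exact this.symm
      · exact (hφ' _ hw).trans (hφ _ hw).symm
    refine MonoidHom.ext fun w => ?_
    obtain ⟨w', hw', e⟩ := hle w.2
    rw [← show w' = w from Subtype.ext e]
    exact hw'
  set a : (Ann W₁ W₂ W₁) :=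
    ⟨ψ₁, hψ₁⟩ with ha
  set b : (Ann W₁ W₂ W₁) :=
    ⟨ψ₂, hψ₂⟩ with hb
  set r : (Ann W₁ W₂ W₂) :=
    ⟨φ', hφ'⟩ with hr
  have hab : a ≠ b := fun h => h12 (by rw [e₁, e₂, show ψ₁ = ψ₂ from congrArg Subtype.val h])
  set E : G → ℂ := η ω₁ - η ω₂ with hE
  have hδ2 : (δ : ℂ) * (δ : ℂ) = 1 := by rcases hδ with rfl | rfl <;> norm_num
  set D : G → ℂ := θ - (δ : ℂ) • E with hD
  have hDg : IsGeneralizedCharacter G D :=
    Char.IsGeneralizedCharacter.sub hθ (Char.IsGeneralizedCharacter.intCast_smul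
      (Char.IsGeneralizedCharacter.sub (eta_isGeneralized hη _) (eta_isGeneralized hη _)) δ)
  have hDV : ∀ w : ↥(W₁ ⊔ W₂), (w : G) ∉ W₁ → (w : G) ∉ W₂ → D w = 0 := by
    intro w h1 h2
    simp only [hD, hE, Pi.sub_apply, Pi.smul_apply, smul_eq_mul, hθV w h1 h2, hη.eq_on _ w h1 h2,
      sub_self]
  obtain ⟨M, hM, hMc⟩ := exists_table hη hDg hDV
  have hEc : ∀ s : (Ann W₁ W₂ W₁) ×
      (Ann W₁ W₂ W₂), classInner E (η (s.2.1 * s.1.1)) =
        ((if s.2 = r then (if s.1 = a then 1 else 0) - (if s.1 = b then 1 else 0) else 0 : ℤ) : ℂ) := by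
    intro s
    have hiff : ∀ c : (Ann W₁ W₂ W₁),
        (r.1 * c.1 = s.2.1 * s.1.1) ↔ (s.2 = r ∧ s.1 = c) := by
      intro c
      refine ⟨fun h => ?_, fun h => by rw [h.1, h.2]⟩
      exact ⟨(mul_inj hW h).1.symm, (mul_inj hW h).2.symm⟩
    rw [hE, Char.classInner_sub_left, hη.orthonormal, hη.orthonormal, e₁, e₂,
      show φ' * ψ₁ = r.1 * a.1 from rfl, show φ' * ψ₂ = r.1 * b.1 from rfl]
    simp only [hiff]
    by_cases h : s.2 = r <;> by_cases h' : s.1 = a <;> by_cases h'' : s.1 = b <;> simp [h, h', h'']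
  have hcoef : ∀ s : Ann W₁ W₂ W₁ × Ann W₁ W₂ W₂, classInner θ (η (s.2.1 * s.1.1)) =
      ((M s.1 s.2 + δ * (if s.2 = r then (if s.1 = a then 1 else 0) - (if s.1 = b then 1 else 0)
        else 0) : ℤ) : ℂ) := by
    intro s
    rw [show θ = D + (δ : ℂ) • E by rw [hD, sub_add_cancel], Char.classInner_add_left,
      Char.classInner_smul_left, hEc, hMc]
    push_cast
    ring
  obtain ⟨h3, h3'⟩ := three_le_card_index hW hodd
  have hsum := sum_coeff_sq_le hW hη (N := 2) (by rw [hN]; norm_num) _ hcoef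
  have hzero := S1511.additive_eq_zero h3 h3' (fun i j => δ * M i j) (fun i i' j j' => by
    rw [← mul_add, hM, mul_add]) a b hab r (le_trans (le_of_eq (Finset.sum_congr rfl fun s _ => by
      rcases hδ with rfl | rfl <;> ring)) hsum)
  have hzero' : ∀ i j, M i j = 0 := fun i j => by
    rcases hδ with rfl | rfl <;> simpa using hzero i j
  have hDorth : ∀ ω, classInner D (η ω) = 0 := by
    intro ω
    obtain ⟨x, y, hx, hy, rfl⟩ := exists_eq_mul hW ω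
    have := hMc ⟨y, hy⟩ ⟨x, hx⟩
    rw [hzero', Int.cast_zero] at this
    exact this
  have hDE : classInner D E = 0 := by
    rw [hE, Char.classInner_sub_right, hDorth, hDorth, sub_zero]
  have hEE : classInner E E = 2 := by
    rw [hE, Char.classInner_sub_left, Char.classInner_sub_right, Char.classInner_sub_right]
    simp only [hη.orthonormal, if_true, if_neg h12, if_neg (Ne.symm h12)]
    norm_num
  have hED : classInner E D = 0 := by rw [← Char.conj_classInner, hDE, map_zero]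
  have hDD : classInner D D = 0 := by
    rw [show θ = D + (δ : ℂ) • E by rw [hD, sub_add_cancel], Char.classInner_add_left,
      Char.classInner_add_right, Char.classInner_add_right, Char.classInner_smul_left,
      Char.classInner_smul_left, Char.classInner_smul_right, Char.classInner_smul_right, hDE, hED,
      hEE] at hN
    simp only [map_intCast] at hN
    linear_combination hN - 2 * hδ2
  have := Char.classInner_self_eq_zero hDD
  rwa [hD, sub_eq_zero] at this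

end Cfsg.Agent.OddOrder.PF
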