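import Cfsg.Agent.Lib.OddOrder.PF.Setting
import Cfsg.Agent.Lib.OddOrder.Final

/-!
From the structure dichotomy of the bundle: either every maximal subgroup is of Type I or there is
a pair of type P with the same cyclic factors, covering all maximal subgroups not of Type I.
-/

set_option autoImplicit false

namespace Cfsg.Agent.OddOrder.PF

open Cfsg Cfsg.Agent.OddOrder

universe u
variable {G : Type u} [Group G] [Finite G]

theorem exists_typePair (B : BGFacts G) :
    (∀ M : Subgroup G, IsCoatom M → IsOfTypeI' M) ∨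
      ∃ S T W₁ W₂ U V : Subgroup G, TypePair S T W₁ W₂ U V ∧
        ∀ M : Subgroup G, IsCoatom M → IsOfTypeI' M ∨
          ∃ g : G, M = S.map (MulAut.conj g).toMonoidHom ∨ M = T.map (MulAut.conj g).toMonoidHom := by
  refine B.s1385.imp id ?_
  rintro ⟨W₁, W₂, S, T, hW, hS, hT, hc₁, hc₂, hST, hII, hS25, hT25, hall⟩
  obtain ⟨U, hSP⟩ := Final.exists_typePWith (Final.isOfTypeP_of_II_to_V hS25) hW hc₁
    (le_sup_right.trans (hST ▸ inf_le_left))
  obtain ⟨V, hTP⟩ := Final.exists_typePWith (Final.isOfTypeP_of_II_to_V hT25)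
    (Final.isSelfNormalizingCyclic_symm hW) hc₂ (le_sup_left.trans (hST ▸ inf_le_right))
  exact ⟨S, T, W₁, W₂, U, V, ⟨hS, hT, hSP, hTP, hST, hII, hS25, hT25⟩, hall⟩

/-- A member of a pair has a partner of the same kind: every maximal subgroup of type II to V lies
in a pair. -/
theorem exists_typePair_of_not_typeI (B : BGFacts G) {M : Subgroup G} (hM : IsCoatom M)
    (hI : ¬ IsOfTypeI' M) :
    ∃ S T W₁ W₂ U V : Subgroup G, TypePair S T W₁ W₂ U V ∧
      ∃ g : G, M = S.map (MulAut.conj g).toMonoidHom := by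
  rcases exists_typePair B with h | ⟨S, T, W₁, W₂, U, V, P, hall⟩
  · exact absurd (h M hM) hI
  obtain ⟨g, hg | hg⟩ := (hall M hM).resolve_left hI
  · exact ⟨S, T, W₁, W₂, U, V, P, g, hg⟩
  · exact ⟨T, S, W₂, W₁, V, U, P.swap, g, hg⟩

end Cfsg.Agent.OddOrder.PF
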