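import Cfsg.Agent.Lib.OddOrder.PF.TypeFacts
import Cfsg.Agent.Lib.OddOrder.CoherenceCentral

/-!
Shared notation and cross-section statements for Peterfalvi 9 to 14: the set of characters `calS`
of a maximal subgroup of type P, the Dade map `ftTau`, the pair of subgroups of type P, and the
statements one section hands to the next, as named propositions.
-/

set_option autoImplicit false

namespace Cfsg.Agent.OddOrder.PF

open Cfsg Cfsg.Agent.OddOrder

universe u
variable {G : Type u} [Group G]

/-- The characters of `M` induced from the irreducible characters of `M'` whose kernel does not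
contain the type core (Peterfalvi's `S` for a subgroup of type P). -/
def calS (M : Subgroup G) [Fintype M] : Set (↥M → ℂ) :=
  inducedNonTriv (commutator ↥M) ((typeCore M).subgroupOf M)

/-- The members of `calS M` induced from characters with `X` in their kernel (`S(X)`). -/
def calSAbove (M : Subgroup G) [Fintype M] (X : Subgroup M) : Set (↥M → ℂ) :=
  calS M ∩ inducedIrrAbove (commutator ↥M) X

/-- The characters of `M` induced from the irreducible characters of `M'` whose kernel does not
contain `M_F`: the set of Peterfalvi 9 and 13 (equal to `calS M` except for Types III and IV). -/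
def calSF (M : Subgroup G) [Fintype M] : Set (↥M → ℂ) :=
  inducedNonTriv (commutator ↥M) (fittingHall ↥M)

/-- The members of `calSF M` induced from characters with `X` in their kernel. -/
def calSFAbove (M : Subgroup G) [Fintype M] (X : Subgroup M) : Set (↥M → ℂ) :=
  calSF M ∩ inducedIrrAbove (commutator ↥M) X

/-- The Dade map of `A₀(M)`. -/
noncomputable def ftTau (M : Subgroup G) (α : ↥M → ℂ) : G → ℂ :=
  dadeIsometry (typeA0' M) M (supportR M) α

/-- A pair of maximal subgroups of type P as in the hypothesis of Peterfalvi 13. -/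
structure TypePair (S T W₁ W₂ U V : Subgroup G) : Prop where
  hS : IsCoatom S
  hT : IsCoatom T
  hSP : IsTypePWith S W₁ U W₂
  hTP : IsTypePWith T W₂ V W₁
  hST : S ⊓ T = W₁ ⊔ W₂
  hII : IsOfTypeII S ∨ IsOfTypeII T
  hS25 : IsOfTypeII S ∨ IsOfTypeIII S ∨ IsOfTypeIV S ∨ IsOfTypeV S
  hT25 : IsOfTypeII T ∨ IsOfTypeIII T ∨ IsOfTypeIV T ∨ IsOfTypeV T

theorem TypePair.swap {S T W₁ W₂ U V : Subgroup G} (P : TypePair S T W₁ W₂ U V) :
    TypePair T S W₂ W₁ V U :=
  ⟨P.hT, P.hS, P.hTP, P.hSP, by rw [inf_comm, P.hST, sup_comm], P.hII.symm, P.hT25, P.hS25⟩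

/-! ### What one section hands to the next -/

/-- Peterfalvi (10.8): for Types III, IV and V the set `calS M` is not coherent. -/
def NoCoherence345 (G : Type u) [Group G] [Fintype G] : Prop :=
  ∀ (M : Subgroup G) [Fintype M], IsCoatom M →
    (IsOfTypeIII M ∨ IsOfTypeIV M ∨ IsOfTypeV M) → ¬ IsCoherent (calS M) {1}ᶜ (ftTau M)

/-- Peterfalvi (10.10): there is no maximal subgroup of Type V. -/
def NoTypeV (G : Type u) [Group G] : Prop := ∀ M : Subgroup G, IsCoatom M → ¬ IsOfTypeV M

/-- Peterfalvi (10.11), first half: both orders of the cyclic factors are prime. -/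
def PairPrimes (G : Type u) [Group G] : Prop :=
  ∀ S T W₁ W₂ U V : Subgroup G, TypePair S T W₁ W₂ U V →
    (Nat.card W₁).Prime ∧ (Nat.card W₂).Prime

/-- Peterfalvi (11.9): a subgroup of Type III or IV of a pair is of Type III with `p < q`. -/
def TypeIIIOnly (G : Type u) [Group G] : Prop :=
  ∀ S T W₁ W₂ U V : Subgroup G, TypePair S T W₁ W₂ U V → (IsOfTypeIII S ∨ IsOfTypeIV S) →
    IsOfTypeIII S ∧ Nat.card W₂ < Nat.card W₁

/-- Peterfalvi (13.2): the kernel of a member of a pair is elementary abelian of order `p ^ q` and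
`A₀` is a TI-subset. -/
def PairKernel (G : Type u) [Group G] : Prop :=
  ∀ S T W₁ W₂ U V : Subgroup G, TypePair S T W₁ W₂ U V →
    IsElementaryAbelian (Nat.card W₂) (fittingHallOf S) ∧
      Nat.card (fittingHallOf S) = Nat.card W₂ ^ Nat.card W₁ ∧
      IsTISubset (typeA0' S) ∧ Subgroup.normalizer (typeA0' S) = S

/-- Peterfalvi (13.2): `calSF S` is coherent for the members of a pair. -/
def PairCoherent (G : Type u) [Group G] [Fintype G] : Prop :=
  ∀ (S T W₁ W₂ U V : Subgroup G) [Fintype S], TypePair S T W₁ W₂ U V →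
    IsCoherent (calSF S) {1}ᶜ (ftTau S)

end Cfsg.Agent.OddOrder.PF
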