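import Cfsg.Agent.Lib.OddOrder.PF.PrimeDade
import Cfsg.Agent.Lib.OddOrder.PF.Pair

/-!
A maximal subgroup of type P satisfies the prime Dade hypothesis with `A = A(M)`, `K = M'` and
`H` either `M_s` or `M_F`; the members of `calS M` and `calSF M` are supported on `A(M) ∪ {1}`.
-/

set_option autoImplicit false

namespace Cfsg.Agent.OddOrder.PF

open Cfsg Cfsg.Agent.OddOrder

universe u
variable {G : Type u} [Group G] [Finite G] {M W₁ U W₂ : Subgroup G}

theorem typeP_card_W₁_coprime (hP : IsTypePWith M W₁ U W₂) :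
    (Nat.card W₁).Coprime (Nat.card (⁅M, M⁆ : Subgroup G)) := by
  have h1 := Subgroup.relIndex_mul_relIndex ⊥ W₁ M bot_le hP.W₁_compl.2.1
  rw [Subgroup.relIndex_bot_left, Subgroup.relIndex_bot_left, ← card_eq_of_isComplIn hP.W₁_compl,
    mul_comm (Nat.card _)] at h1
  rw [← Nat.eq_of_mul_eq_mul_right Nat.card_pos h1]
  exact hP.W₁_hall

/-- All type-P data of `M` have conjugate cyclic factors. -/
theorem typeP_W_conj {W₁' U' W₂' : Subgroup G} (hP : IsTypePWith M W₁ U W₂)
    (hP' : IsTypePWith M W₁' U' W₂') :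
    ∃ s ∈ M, W₁' = W₁.map (MulAut.conj s).toMonoidHom ∧ W₂' = W₂.map (MulAut.conj s).toMonoidHom := by
  have hN : W₁ ≤ Subgroup.normalizer ((⁅M, M⁆ : Subgroup G) : Set G) := fun a ha =>
    Subgroup.mem_normalizer_iff.2 fun x => ⟨conj_mem_commutator (hP.W₁_compl.2.1 ha), fun h => by
      have := conj_mem_commutator (M.inv_mem (hP.W₁_compl.2.1 ha)) h
      simpa [mul_assoc] using this⟩
  have hK : W₁' ≤ W₁ ⊔ ⁅M, M⁆ := fun w hw => by
    obtain ⟨d, hd, a, ha, rfl⟩ := hP.W₁_compl.2.2.2 w (hP'.W₁_compl.2.1 hw)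
    exact Subgroup.mul_mem _ (Subgroup.mem_sup_right hd) (Subgroup.mem_sup_left ha)
  have hcard : Nat.card W₁' = Nat.card W₁ :=
    Nat.eq_of_mul_eq_mul_left Nat.card_pos
      ((card_eq_of_isComplIn hP'.W₁_compl).trans (card_eq_of_isComplIn hP.W₁_compl).symm)
  obtain ⟨s, hs, e⟩ := Coprime.exists_conj_eq_of_le_sup hN hK hcard (typeP_card_W₁_coprime hP)
    (Or.inr (by have := hP.W₁_cyclic; exact Group.isSolvable_of_comm fun a b => IsCyclic.commGroup.mul_comm a b))
  have hs' : s ∈ M := M.commutator_le_self hs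
  have e' : W₁.map (MulAut.conj s).toMonoidHom = W₁' := e
  have hc := Final.isTypePWith_conj hs' hP
  rw [e'] at hc
  obtain ⟨x, hx, hx1⟩ := (Subgroup.bot_or_exists_ne_one W₁').resolve_left hP'.W₁_ne
  exact ⟨s, hs', e'.symm, by rw [← hc.W₂_centralizer x hx hx1, hP'.W₂_centralizer x hx hx1]⟩

/-- `A₀(M)` is `A(M)` together with the conjugates of `W ∖ (W₁ ∪ W₂)` for any one choice of data. -/
theorem typeA0_eq (hP : IsTypePWith M W₁ U W₂) (hI : ¬ IsOfTypeI' M) :
    typeA0' M = typeA' M ∪ classV M W₁ W₂ := by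
  refine Set.Subset.antisymm ?_ ?_
  · rintro v (hv | ⟨-, W₁', U', W₂', hP', m, hm, w, hw, hw1, hw2, rfl⟩)
    · exact Or.inl hv
    obtain ⟨s, hs, rfl, rfl⟩ := typeP_W_conj hP hP'
    rw [← Subgroup.map_sup] at hw
    obtain ⟨w₀, hw₀, rfl⟩ := hw
    exact Or.inr ⟨m * s, M.mul_mem hm hs, w₀, hw₀, fun h => hw1 (Subgroup.mem_map_of_mem _ h),
      fun h => hw2 (Subgroup.mem_map_of_mem _ h), by simp [MulAut.conj_apply, mul_assoc]⟩
  · rintro v (hv | hv)
    · exact Or.inl hv
    · exact Or.inr ⟨hI, W₁, U, W₂, hP, hv⟩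

theorem ftTau_eq (hP : IsTypePWith M W₁ U W₂) (hI : ¬ IsOfTypeI' M) (α : M → ℂ) :
    ftTau M α = dadeIsometry (typeA' M ∪ classV M W₁ W₂) M (supportR M) α := by
  rw [ftTau, typeA0_eq hP hI]

/-- The prime Dade hypothesis for a maximal subgroup of type P, for `H = M_s` or `H = M_F`. -/
theorem primeDade_typeP (hG : IsMinSimpleOddOrder G) (B : BGFacts G) (hM : IsCoatom M)
    (hP : IsTypePWith M W₁ U W₂) (hI : ¬ IsOfTypeI' M) {H : Subgroup G}
    (hH : H = typeCore M ∨ H = fittingHallOf M) :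
    PrimeDade (typeA' M) M ⁅M, M⁆ H W₁ W₂ (supportR M) := by
  classical
  have hle : H ≤ typeCore M := by
    rcases hH with rfl | rfl
    exacts [le_rfl, fittingHallOf_le_typeCore B hM]
  have hnorm : M ≤ Subgroup.normalizer (H : Set G) := fun m hm =>
    Subgroup.mem_normalizer_iff.2 fun x => by
      rcases hH with rfl | rfl
      · exact ⟨conj_mem_typeCore hm, fun h => by
          have := conj_mem_typeCore (M.inv_mem hm) h
          simpa [mul_assoc] using this⟩
      · exact Subgroup.mem_normalizer_iff.1 (le_normalizer_map_subtype _ hm) x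
  exact {
    K_le := M.commutator_le_self
    K_normal := fun m hm => Subgroup.mem_normalizer_iff.2 fun x => ⟨conj_mem_commutator hm, fun h => by
      have := conj_mem_commutator (M.inv_mem hm) h
      simpa [mul_assoc] using this⟩
    H_le := hle.trans (typeCore_le_commutator B hM)
    H_normal := hnorm
    W₂_le := by
      rcases hH with rfl | rfl
      exacts [(hP.W₂_le.trans inf_le_left).trans (fittingHallOf_le_typeCore B hM), hP.W₂_le.trans inf_le_left]
    compl := hP.W₁_compl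
    hall := typeP_card_W₁_coprime hP
    W₁_cyclic := hP.W₁_cyclic
    cent := hP.W₂_centralizer
    selfNorm := hP.selfNormalizing
    odd := hG.1.of_dvd_nat (Subgroup.card_subgroup_dvd_card M)
    A_subset := by
      intro a ha
      rw [typeA', if_neg hI] at ha
      exact ⟨ha.1, ha.2.1⟩
    cover := fun y hy hy1 x hx hx1 hc => by
      rw [typeA', if_neg hI]
      exact ⟨hy, hy1, x, hle hx, hx1, hc⟩
    dade := by
      rw [← typeA0_eq hP hI]
      exact dadeHypothesis_typeSet B hM (Or.inr (Or.inr rfl)) }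

omit [Finite G] in
theorem commutator_eq_subgroupOf (M : Subgroup G) :
    commutator ↥M = (⁅M, M⁆ : Subgroup G).subgroupOf M := by
  rw [← Subgroup.map_subtype_commutator]
  exact (Subgroup.comap_map_eq_self_of_injective M.subtype_injective _).symm

variable [Fintype M]

theorem support_inducedNonTriv (hG : IsMinSimpleOddOrder G) (B : BGFacts G) (hM : IsCoatom M)
    (hP : IsTypePWith M W₁ U W₂) (hI : ¬ IsOfTypeI' M) {H : Subgroup G}
    (hH : H = typeCore M ∨ H = fittingHallOf M) {φ : M → ℂ}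
    (hφ : φ ∈ inducedNonTriv (commutator ↥M) (H.subgroupOf M)) {y : M} (hy1 : y ≠ 1)
    (hyA : (y : G) ∉ typeA' M) : φ y = 0 := by
  refine (primeDade_typeP hG B hM hP hI hH).support_of_nonTriv ?_ hy1 hyA
  rw [← commutator_eq_subgroupOf M]
  exact hφ

/-- The members of `calS M` vanish off `A(M) ∪ {1}`. -/
theorem calS_support (hG : IsMinSimpleOddOrder G) (B : BGFacts G) (hM : IsCoatom M)
    (hP : IsTypePWith M W₁ U W₂) (hI : ¬ IsOfTypeI' M) {φ : M → ℂ} (hφ : φ ∈ calS M) {y : M}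
    (hy1 : y ≠ 1) (hyA : (y : G) ∉ typeA' M) : φ y = 0 :=
  support_inducedNonTriv hG B hM hP hI (Or.inl rfl) hφ hy1 hyA

/-- The members of `calSF M` vanish off `A(M) ∪ {1}`. -/
theorem calSF_support (hG : IsMinSimpleOddOrder G) (B : BGFacts G) (hM : IsCoatom M)
    (hP : IsTypePWith M W₁ U W₂) (hI : ¬ IsOfTypeI' M) {φ : M → ℂ} (hφ : φ ∈ calSF M) {y : M}
    (hy1 : y ≠ 1) (hyA : (y : G) ∉ typeA' M) : φ y = 0 := by
  refine support_inducedNonTriv hG B hM hP hI (Or.inr rfl) ?_ hy1 hyA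
  rwa [subgroupOf_fittingHallOf]

end Cfsg.Agent.OddOrder.PF
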