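import Cfsg.Agent.Lib.OddOrder.PF.Supports
import Cfsg.Agent.Lib.OddOrder.PF.Setting
import Cfsg.Agent.Lib.OddOrder.PF.TypePDade
import Cfsg.Agent.Lib.OddOrder.CyclicTIInd
import Cfsg.Agent.Lib.OddOrder.DadeSeven

/-!
Peterfalvi (8.17), second half: for representatives of the classes of maximal subgroups the sets of
conjugates of the cosets attached to `A₁(M)` are pairwise disjoint; together with the conjugates of
`W ∖ (W₁ ∪ W₂)` (when there is a pair of type P) they partition `G ∖ {1}`. The supports are given in the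
form that (7.5) consumes.
-/

set_option autoImplicit false
set_option linter.unusedSectionVars false

namespace Cfsg.Agent.OddOrder.PF

open Cfsg Cfsg.Agent.OddOrder
open scoped Pointwise

universe u v

variable {G : Type u} [Group G]

/-- One representative in each class of maximal subgroups. -/
structure IsMaxReps {ι : Type v} (L : ι → Subgroup G) : Prop where
  coatom : ∀ i, IsCoatom (L i)
  notConj : ∀ i j, i ≠ j → NotConj (L i) (L j)
  cover : ∀ M : Subgroup G, IsCoatom M → ∃ i, ∃ g : G, M = (L i).map (MulAut.conj g).toMonoidHom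

variable [Finite G]

theorem exists_maxReps (G : Type u) [Group G] [Finite G] :
    ∃ (ι : Type u) (_ : Fintype ι) (L : ι → Subgroup G), IsMaxReps L := by
  classical
  let X := {M : Subgroup G // IsCoatom M}
  let s : Setoid X :=
    { r := fun A B => ∃ g : G, B.1 = A.1.map (MulAut.conj g).toMonoidHom
      iseqv := by
        refine ⟨fun A => ⟨1, ?_⟩, fun {A B} ⟨g, h⟩ => ⟨g⁻¹, ?_⟩,
          fun {A B C} ⟨g, h⟩ ⟨k, h'⟩ => ⟨k * g, ?_⟩⟩
        · rw [map_one]; exact (Subgroup.map_id _).symm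
        · rw [h, map_conj_inv]
        · rw [h', h, Subgroup.map_map, map_mul]; rfl }
  haveI : Finite (Quotient s) := Quotient.finite s
  exact ⟨Quotient s, Fintype.ofFinite _, fun q => q.out.1,
    fun q => q.out.2, fun i j hij g hg => hij (Quotient.out_equiv_out.1 ⟨g, hg⟩),
    fun M hM => ⟨Quotient.mk s ⟨M, hM⟩, (Quotient.mk_out (s := s) (⟨M, hM⟩ : X))⟩⟩

theorem IsMaxReps.update {ι : Type v} [DecidableEq ι] {L : ι → Subgroup G} (h : IsMaxReps L) (i : ι)
    (g : G) : IsMaxReps (Function.update L i ((L i).map (MulAut.conj g).toMonoidHom)) := by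
  have key : ∀ j, ∃ k : G, Function.update L i ((L i).map (MulAut.conj g).toMonoidHom) j =
      (L j).map (MulAut.conj k).toMonoidHom := fun j => by
    by_cases hj : j = i
    · subst hj; exact ⟨g, Function.update_self ..⟩
    · refine ⟨1, ?_⟩
      rw [Function.update_of_ne hj, map_one]; exact (Subgroup.map_id _).symm
  refine ⟨fun j => ?_, fun j k hjk x hx => ?_, fun M hM => ?_⟩
  · obtain ⟨k, hk⟩ := key j
    rw [hk]; exact isCoatom_map _ (h.coatom j)
  · obtain ⟨a, ha⟩ := key j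
    obtain ⟨b, hb⟩ := key k
    rw [ha, hb] at hx
    refine h.notConj j k hjk (b⁻¹ * (x * a)) ?_
    have e := congrArg (Subgroup.map (MulAut.conj b⁻¹).toMonoidHom) hx
    rw [map_conj_inv] at e
    rw [e, map_mul, map_mul, mul_smul, mul_smul]; rfl
  · obtain ⟨j, x, hx⟩ := h.cover M hM
    obtain ⟨a, ha⟩ := key j
    refine ⟨j, x * a⁻¹, ?_⟩
    rw [hx, ha, Subgroup.map_map]
    refine congrArg (fun f => (L j).map f) (MonoidHom.ext fun y => ?_)
    simp [mul_assoc]

/-- Representatives containing two given nonconjugate maximal subgroups. -/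
theorem exists_maxReps_of {S T : Subgroup G} (hS : IsCoatom S) (hT : IsCoatom T) (hnc : NotConj S T) :
    ∃ (ι : Type u) (_ : Fintype ι) (L : ι → Subgroup G) (i j : ι),
      IsMaxReps L ∧ i ≠ j ∧ L i = S ∧ L j = T := by
  classical
  obtain ⟨ι, hι, L, h⟩ := exists_maxReps G
  obtain ⟨i, a, ha⟩ := h.cover S hS
  obtain ⟨j, b, hb⟩ := h.cover T hT
  have hij : i ≠ j := by
    rintro rfl
    refine hnc (b * a⁻¹) ?_
    rw [map_mul, mul_smul, hb, ha]
    exact congrArg (fun X => MulAut.conj b • X) (map_conj_inv a (L i)).symm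
  have h2 := (h.update i a).update j b
  refine ⟨ι, hι, _, i, j, h2, hij, ?_, ?_⟩
  · rw [Function.update_of_ne hij, Function.update_self, ← ha]
  · rw [Function.update_self, Function.update_of_ne hij.symm, ← hb]

/-! ### The supports of `A₁(M)` -/

theorem coe_dadeUnion [Fintype G] (M : Subgroup G) (A : Set G) :
    (↑(dadeUnion A (supportR M)) : Set G) = tildeOf M A := by
  ext g
  rw [Finset.mem_coe, mem_dadeUnion]
  constructor
  · rintro ⟨a, ha, u, hu, x, hx⟩
    exact ⟨a, ha, u, hu, x⁻¹, by rw [← hx]; group⟩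
  · rintro ⟨a, ha, u, hu, y, rfl⟩
    exact ⟨a, ha, u, hu, y⁻¹, by group⟩

variable (B : BGFacts G)
include B

theorem typeA1_eq {M : Subgroup G} (hM : IsCoatom M) :
    typeA1 M = (sigmaCore M : Set G) \ {1} := by rw [typeA1, typeCore_eq_sigmaCore B hM]

theorem mem_tilde_typeA1_map {M : Subgroup G} (hM : IsCoatom M) {y g : G}
    (h : g ∈ tildeOf (M.map (MulAut.conj y).toMonoidHom) (typeA1 (M.map (MulAut.conj y).toMonoidHom))) :
    g ∈ tildeOf M (typeA1 M) := by
  obtain ⟨a, ⟨ha, ha1⟩, r, hr, z, rfl⟩ := h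
  rw [SetLike.mem_coe, typeCore_map B hM] at ha
  obtain ⟨a, ha, rfl⟩ := ha
  have hr' : r ∈ supportR (M.map (MulAut.conj y).toMonoidHom) (MulAut.conj y a) := hr
  rw [supportR_map] at hr'
  obtain ⟨r, hrM, rfl⟩ := hr'
  refine ⟨a, ⟨ha, fun e => ha1 ?_⟩, r, hrM, z * y, ?_⟩
  · rw [Set.mem_singleton_iff] at e ⊢; simp [e]
  · simp only [MulEquiv.coe_toMonoidHom, MulAut.conj_apply]; group

theorem disjoint_dadeUnion [Fintype G] {M N : Subgroup G} (hM : IsCoatom M) (hN : IsCoatom N)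
    (hnc : NotConj M N) :
    Disjoint (dadeUnion (typeA1 M) (supportR M)) (dadeUnion (typeA1 N) (supportR N)) := by
  rw [← Finset.disjoint_coe, coe_dadeUnion, coe_dadeUnion, typeA1_eq B hM, typeA1_eq B hN,
    Set.disjoint_iff_inter_eq_empty]
  exact B.s1379.1 M N hM hN hnc

theorem card_typeA1 {M : Subgroup G} (hM : IsCoatom M) :
    Nat.card {a : M // (a : G) ∈ typeA1 M} = Nat.card (sigmaCore M) - 1 := by
  classical
  haveI : Fintype G := Fintype.ofFinite G
  rw [Nat.card_congr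
    ({ toFun := fun a => ⟨⟨a.1.1, ((mem_typeA1_iff B hM).1 a.2).1⟩,
          fun h => ((mem_typeA1_iff B hM).1 a.2).2 (congrArg Subtype.val h)⟩
       invFun := fun a => ⟨⟨a.1.1, OddOrder.sigmaCore_le M a.1.2⟩,
          (mem_typeA1_iff B hM).2 ⟨a.1.2, fun h => a.2 (Subtype.ext h)⟩⟩ } :
      {a : M // (a : G) ∈ typeA1 M} ≃ {a : sigmaCore M // a ≠ 1}),
    Nat.card_eq_fintype_card, Fintype.card_subtype_compl, Fintype.card_subtype_eq,
    Nat.card_eq_fintype_card]

/-- `|Ã₁(M)| / |G| = (|M_s| - 1) / |M|`. -/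
theorem measure_dadeUnion [Fintype G] {M : Subgroup G} (hM : IsCoatom M) :
    ((dadeUnion (typeA1 M) (supportR M)).card : ℝ) / Nat.card G =
      ((Nat.card (sigmaCore M) : ℝ) - 1) / Nat.card M := by
  have h := card_dadeUnion (dadeHypothesis_typeSet B hM (Or.inl rfl : typeA1 M = typeA1 M ∨ _ ∨ _))
  rw [card_typeA1 B hM] at h
  have h' := congrArg (Nat.cast (R := ℝ)) h
  push_cast [Nat.cast_sub (Nat.card_pos (α := sigmaCore M))] at h'
  rw [div_eq_div_iff (Nat.cast_ne_zero.2 Nat.card_pos.ne') (Nat.cast_ne_zero.2 Nat.card_pos.ne')]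
  linear_combination h'

/-- When all maximal subgroups are of Type I the supports cover `G ∖ {1}`. -/
theorem dadeRest_typeI [Fintype G] {ι : Type v} [Fintype ι] {L : ι → Subgroup G} (hL : IsMaxReps L)
    (hI : ∀ M : Subgroup G, IsCoatom M → IsOfTypeI' M) :
    dadeRest (fun i => typeA1 (L i)) (fun i => supportR (L i)) = {1} := by
  ext g
  rw [mem_dadeRest, Finset.mem_singleton]
  constructor
  · intro h
    by_contra hg
    obtain ⟨N, hN, hgN⟩ := B.s1379.2.1 (fun M hM => kappa_eq_empty_of_typeI B hM (hI M hM)) g hg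
    obtain ⟨i, y, hy⟩ := hL.cover N hN
    rw [← typeA1_eq B hN, hy] at hgN
    refine h i ?_
    rw [← Finset.mem_coe, coe_dadeUnion]
    exact mem_tilde_typeA1_map B (hL.coatom i) hgN
  · rintro rfl i
    exact one_notMem_dadeUnion (dadeHypothesis_typeSet B (hL.coatom i) (Or.inl rfl))

/-! ### The pair -/

omit B in
/-- The elements of `W₁ W₂` outside both factors. -/
def tiV (W₁ W₂ : Subgroup G) : Set G := (↑(W₁ ⊔ W₂) : Set G) \ (↑W₁ ∪ ↑W₂)

omit B in
theorem dadeHypothesis_tiV [Fintype G] {W₁ W₂ : Subgroup G} (hW : IsSelfNormalizingCyclic W₁ W₂) :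
    DadeHypothesis (tiV W₁ W₂) (W₁ ⊔ W₂) (fun _ => ⊥) where
  one_not_mem h := h.2 (Or.inl W₁.one_mem)
  subset _ h := h.1
  conj_mem x hx a ha := by
    have e : x * a * x⁻¹ = a := by
      rw [show x * a = a * x from congrArg Subtype.val (isCyclicTI_comm hW ⟨x, hx⟩ ⟨a, ha.1⟩),
        mul_inv_cancel_right]
    rwa [e]
  fusion a ha g hg :=
    ⟨g, isCyclicTI_conj_mem hW ha.1 (fun h => ha.2 (Or.inl h)) (fun h => ha.2 (Or.inr h)) hg.1, rfl⟩
  le_centralizer _ _ := bot_le
  conj_mem_H _ _ c _ u hu := by rw [Subgroup.mem_bot] at hu ⊢; subst hu; group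
  inf_eq_bot _ _ := bot_inf_eq _
  sup_eq a ha := by
    rw [bot_sup_eq]
    refine le_antisymm inf_le_right fun c hc => ⟨?_, hc⟩
    refine isCyclicTI_conj_mem hW ha.1 (fun h => ha.2 (Or.inl h)) (fun h => ha.2 (Or.inr h)) ?_
    rw [Subgroup.mem_centralizer_singleton_iff.1 hc, mul_inv_cancel_right]
    exact ha.1
  coprime _ _ _ _ := by simp

theorem TypePair.notConj {S T W₁ W₂ U V : Subgroup G} (P : TypePair S T W₁ W₂ U V) : NotConj S T := by
  intro g e
  have e' : T = S.map (MulAut.conj g).toMonoidHom := e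
  have h1 := card_eq_of_isComplIn P.hTP.W₁_compl
  rw [e', ← Subgroup.map_commutator, Subgroup.card_map_of_injective (MulAut.conj g).injective,
    Subgroup.card_map_of_injective (MulAut.conj g).injective,
    ← card_eq_of_isComplIn P.hSP.W₁_compl] at h1
  have h2 : Nat.card W₂ = Nat.card W₁ := Nat.eq_of_mul_eq_mul_left Nat.card_pos h1
  have := (typeP_card_W₁_coprime P.hSP).coprime_dvd_right (Subgroup.card_dvd_of_le
    ((P.hSP.W₂_le.trans inf_le_right).trans (Subgroup.commutator_le_self _)))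
  rw [h2, Nat.coprime_self] at this
  exact P.hSP.W₁_ne (Subgroup.card_eq_one.1 this)

/-- A member of a pair has a standard factorisation with `K = W₁`, and `W₂ = S_σ ∩ C(W₁)`. -/
theorem pair_decomposition {S T W₁ W₂ U V : Subgroup G} (P : TypePair S T W₁ W₂ U V) :
    (∃ U' : Subgroup G, IsSigmaDecomposition S W₁ U') ∧
      sigmaCore S ⊓ Subgroup.centralizer (W₁ : Set G) = W₂ := by
  obtain ⟨K, U₀, hKU⟩ := exists_decomp B P.hS
  have hnI : ¬ IsOfTypeI' S := by
    rcases P.hS25 with h | h | h | h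
    exacts [not_typeI_of_typeII B P.hS h, not_typeI_of_typeIII_IV B P.hS (Or.inl h),
      not_typeI_of_typeIII_IV B P.hS (Or.inr h), not_typeI_of_typeV B P.hS h]
  have hK1 : K ≠ ⊥ := fun h => by
    refine hnI (Dichotomy.isOfTypeI_of_kappa_empty B P.hS (Set.eq_empty_iff_forall_notMem.2 fun p hp =>
      hKU.hall.2.2 p hp.1 hp ?_))
    rw [h, Subgroup.relIndex_bot_left]
    exact hp.2.1
  have h1 := card_eq_of_isComplIn P.hSP.W₁_compl
  rw [(B.s1365 S P.hS K U₀ hKU hK1).1, Decomp.card_right_sup hKU, ← Decomp.card_mul hKU] at h1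
  have hcard : Nat.card W₁ = Nat.card K := by
    refine Nat.eq_of_mul_eq_mul_left (n := Nat.card U₀ * Nat.card (sigmaCore S))
      (Nat.mul_pos Nat.card_pos Nat.card_pos) ?_
    rw [h1]; ring
  have hrel : W₁.relIndex S = K.relIndex S := by
    have e1 := Subgroup.relIndex_mul_relIndex ⊥ W₁ S bot_le P.hSP.W₁_compl.2.1
    have e2 := Subgroup.relIndex_mul_relIndex ⊥ K S bot_le hKU.hall.1
    rw [Subgroup.relIndex_bot_left, Subgroup.relIndex_bot_left] at e1 e2
    rw [hcard, ← e2] at e1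
    exact Nat.eq_of_mul_eq_mul_left Nat.card_pos e1
  refine ⟨(B.s1352 S P.hS W₁ P.hSP.W₁_cyclic
    ⟨P.hSP.W₁_compl.2.1, by rw [hcard]; exact hKU.hall.2.1, by rw [hrel]; exact hKU.hall.2.2⟩).1,
    le_antisymm (fun x hx => ?_) (fun x hx => ⟨?_, ?_⟩)⟩
  · obtain ⟨w, hw, hw1⟩ := (Subgroup.bot_or_exists_ne_one W₁).resolve_left P.hSP.W₁_ne
    rw [← P.hSP.W₂_centralizer w hw hw1]
    exact ⟨(B.s1355 S P.hS).2.2.1 hx.1, Subgroup.centralizer_le (Set.singleton_subset_iff.2 hw) hx.2⟩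
  · exact (B.s1355 S P.hS).2.1 (P.hSP.W₂_le hx).1
  · exact Subgroup.mem_centralizer_iff.2 fun a ha => P.hSP.selfNormalizing.2.2.2.1 a ha x hx

theorem pair_cover {S T W₁ W₂ U V : Subgroup G} (P : TypePair S T W₁ W₂ U V) :
    (∀ g : G, g ≠ 1 → (∃ N : Subgroup G, IsCoatom N ∧ g ∈ tildeOf N (typeA1 N)) ∨
        ∃ y : G, ∃ z ∈ tiV W₁ W₂, g = y * z * y⁻¹) ∧
      ∀ N : Subgroup G, IsCoatom N → ∀ y : G, ∀ z ∈ tiV W₁ W₂,
        y * z * y⁻¹ ∉ tildeOf N (typeA1 N) := by
  obtain ⟨⟨U', hU'⟩, hW₂⟩ := pair_decomposition B P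
  obtain ⟨h1, h2⟩ := B.s1379.2.2 S W₁ U' P.hS hU' P.hSP.W₁_ne
  rw [hW₂] at h1 h2
  refine ⟨fun g hg => (h1 g hg).imp_left ?_, fun N hN y z hz => ?_⟩
  · rintro ⟨N, hN, hgN⟩
    exact ⟨N, hN, by rwa [typeA1_eq B hN]⟩
  · rw [typeA1_eq B hN]; exact h2 N hN y z hz

/-- The family of Dade supports of the pair case: the representatives and the cyclic TI set. -/
theorem pair_family [Fintype G] {S T W₁ W₂ U V : Subgroup G} (P : TypePair S T W₁ W₂ U V) {ι : Type v}
    [Fintype ι] {L : ι → Subgroup G} (hL : IsMaxReps L)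
    (A : Option ι → Set G) (M : Option ι → Subgroup G) (H : Option ι → G → Subgroup G)
    (hA : A = fun o => o.elim (tiV W₁ W₂) fun i => typeA1 (L i))
    (hM : M = fun o => o.elim (W₁ ⊔ W₂) L)
    (hH : H = fun o => o.elim (fun _ => ⊥) fun i => supportR (L i)) :
    (∀ o, DadeHypothesis (A o) (M o) (H o)) ∧
      (∀ o o', o ≠ o' → Disjoint (dadeUnion (A o) (H o)) (dadeUnion (A o') (H o'))) ∧
      dadeRest A H = {1} := by
  subst hA hM hH
  have hW := P.hSP.selfNormalizing
  have hVU : ∀ g, g ∈ dadeUnion (tiV W₁ W₂) (fun _ => (⊥ : Subgroup G)) ↔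
      ∃ y : G, ∃ z ∈ tiV W₁ W₂, g = y * z * y⁻¹ := fun g => by
    rw [mem_dadeUnion]
    constructor
    · rintro ⟨a, ha, u, hu, x, hx⟩
      rw [Subgroup.mem_bot] at hu
      rw [hu, mul_one] at hx
      exact ⟨x⁻¹, a, ha, by rw [← hx]; group⟩
    · rintro ⟨y, z, hz, rfl⟩
      exact ⟨z, hz, 1, one_mem _, y⁻¹, by group⟩
  have hdis : ∀ i, Disjoint (dadeUnion (tiV W₁ W₂) fun _ => (⊥ : Subgroup G))
      (dadeUnion (typeA1 (L i)) (supportR (L i))) := fun i => Finset.disjoint_left.2 fun g h1 h2 => by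
    obtain ⟨y, z, hz, rfl⟩ := (hVU g).1 h1
    rw [← Finset.mem_coe, coe_dadeUnion] at h2
    exact (pair_cover B P).2 (L i) (hL.coatom i) y z hz h2
  have hdade : ∀ o : Option ι, DadeHypothesis (o.elim (tiV W₁ W₂) fun i => typeA1 (L i))
      (o.elim (W₁ ⊔ W₂) L) (o.elim (fun _ => ⊥) fun i => supportR (L i)) := by
    rintro (_ | i)
    · exact dadeHypothesis_tiV hW
    · exact dadeHypothesis_typeSet B (hL.coatom i) (Or.inl rfl)
  refine ⟨hdade, ?_, ?_⟩
  · rintro (_ | i) (_ | j) hne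
    · exact absurd rfl hne
    · exact hdis j
    · exact (hdis i).symm
    · exact disjoint_dadeUnion B (hL.coatom i) (hL.coatom j)
        (hL.notConj i j fun h => hne (congrArg some h))
  · ext g
    rw [mem_dadeRest, Finset.mem_singleton]
    refine ⟨fun h => ?_, fun h o => h ▸ one_notMem_dadeUnion (hdade o)⟩
    by_contra hg
    rcases (pair_cover B P).1 g hg with ⟨N, hN, hgN⟩ | hgV
    · obtain ⟨i, y, hy⟩ := hL.cover N hN
      rw [hy] at hgN
      refine h (some i) ?_
      rw [← Finset.mem_coe]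
      show g ∈ (↑(dadeUnion (typeA1 (L i)) (supportR (L i))) : Set G)
      rw [coe_dadeUnion]
      exact mem_tilde_typeA1_map B (hL.coatom i) hgN
    · exact h none ((hVU g).2 hgV)

/-- The measures of the pieces add up to one. -/
theorem measure_pair [Fintype G] {S T W₁ W₂ U V : Subgroup G} (P : TypePair S T W₁ W₂ U V) {ι : Type v}
    [Fintype ι] {L : ι → Subgroup G} (hL : IsMaxReps L) :
    ∑ i, ((Nat.card (sigmaCore (L i)) : ℝ) - 1) / Nat.card (L i) +
        (Nat.card {a : ↥(W₁ ⊔ W₂) // (a : G) ∈ tiV W₁ W₂} : ℝ) / Nat.card ↥(W₁ ⊔ W₂) +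
        1 / Nat.card G = 1 := by
  obtain ⟨hd, hdis, hrest⟩ := pair_family B P hL _ _ _ rfl rfl rfl
  have h := card_dadeRest hd hdis
  rw [hrest, Finset.card_singleton, Nat.cast_one, Fintype.sum_option] at h
  simp only [Option.elim_none, Option.elim_some] at h
  rw [Finset.sum_congr rfl (g := fun i => ((Nat.card (sigmaCore (L i)) : ℝ) - 1) / Nat.card (L i))
    fun i _ => by rw [card_typeA1 B (hL.coatom i), Nat.cast_sub Nat.card_pos, Nat.cast_one]] at h
  linarith

end Cfsg.Agent.OddOrder.PF
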