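import Cfsg.Agent.Lib.OddOrder.PF.CyclicTICoeff
import Cfsg.Agent.Lib.OddOrder.DadeVirtual
import Cfsg.Agent.Lib.Char.KernelSum

/-!
The prime Dade hypothesis (Peterfalvi (4.6)): `L = K W₁` with `C_K(x) = W₂ ≤ H ≤ K` for
`x ∈ W₁` non-identity, a support `A` in `K` containing the centralisers of non-identity elements
of `H`, and the Dade hypothesis for `A` together with the conjugates of `W ∖ (W₁ ∪ W₂)`.

* `apply_eq_zero_of_not_cover`, `support_of_nonTriv`: characters not trivial on `H` vanish outside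
  `A` on `K` (4.7b);
* `dade_indW`: on functions supported on `V` the Dade map is induction (4.8a);
* `exists_muFamily`: the characters `μ`, signs `δ` of (4.3) indexed by the characters of `W`;
* `MuFamily.tau_four`, `MuFamily.tau_sub`: images of their combinations (4.7), (4.8).
-/

set_option autoImplicit false
set_option linter.style.haveILetI false

namespace Cfsg.Agent.OddOrder.PF

open Cfsg Cfsg.Agent.OddOrder

universe u
variable {G : Type u} [Group G]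

/-- The elements conjugate under `L` to an element of `W` outside `W₁` and `W₂`. -/
def classV (L W₁ W₂ : Subgroup G) : Set G :=
  {v | ∃ m ∈ L, ∃ w ∈ W₁ ⊔ W₂, w ∉ W₁ ∧ w ∉ W₂ ∧ v = m * w * m⁻¹}

/-- The prime Dade hypothesis, Peterfalvi (4.6). -/
structure PrimeDade (A : Set G) (L K H W₁ W₂ : Subgroup G) (R : G → Subgroup G) : Prop where
  K_le : K ≤ L
  K_normal : L ≤ Subgroup.normalizer (K : Set G)
  H_le : H ≤ K
  H_normal : L ≤ Subgroup.normalizer (H : Set G)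
  W₂_le : W₂ ≤ H
  compl : IsComplIn K W₁ L
  hall : (Nat.card W₁).Coprime (Nat.card K)
  W₁_cyclic : IsCyclic W₁
  cent : ∀ x ∈ W₁, x ≠ 1 → K ⊓ Subgroup.centralizer ({x} : Set G) = W₂
  selfNorm : IsSelfNormalizingCyclic W₁ W₂
  odd : Odd (Nat.card L)
  A_subset : A ⊆ (K : Set G) \ {1}
  cover : ∀ y ∈ K, y ≠ 1 → ∀ x ∈ H, x ≠ 1 → y * x = x * y → y ∈ A
  dade : DadeHypothesis (A ∪ classV L W₁ W₂) L R

section Generic

variable {X : Type*} [Group X] [Fintype X]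

/-- A character not trivial on a normal subgroup `N` vanishes at the elements commuting with no
non-identity element of `N`. -/
theorem apply_eq_zero_of_free (N : Subgroup X) [N.Normal] (χ : IrrCharacter X)
    (hχ : ¬ Char.TrivOn N χ.1) {g : X} (hg : ∀ n ∈ N, g * n = n * g → n = 1) : χ.1 g = 0 := by
  classical
  let f : N → N := fun n =>
    ⟨g⁻¹ * (n : X) * g * (n : X)⁻¹,
      N.mul_mem (by simpa using ‹N.Normal›.conj_mem _ n.2 g⁻¹) (N.inv_mem n.2)⟩
  have hinj : Function.Injective f := by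
    intro a b h
    have h' : g⁻¹ * (a : X) * g * (a : X)⁻¹ = g⁻¹ * (b : X) * g * (b : X)⁻¹ := congrArg Subtype.val h
    have h1 : (b : X)⁻¹ * (a : X) = 1 := hg _ (N.mul_mem (N.inv_mem b.2) a.2) <| by
      calc g * ((b : X)⁻¹ * a) = g * (b : X)⁻¹ * a := by group
        _ = (b : X)⁻¹ * g * ((g⁻¹ * (b : X) * g * (b : X)⁻¹)) * a := by group
        _ = (b : X)⁻¹ * g * ((g⁻¹ * (a : X) * g * (a : X)⁻¹)) * a := by rw [h']
        _ = (b : X)⁻¹ * a * g := by group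
    exact Subtype.ext (inv_mul_eq_one.1 h1).symm
  have hsum := Char.sum_coset_eq_zero_of_not_trivOn N χ hχ g
  have hconst : ∀ k : N, χ.1 (g * k) = χ.1 g := by
    intro k
    obtain ⟨n, hn⟩ := Finite.surjective_of_injective hinj k
    have hk : (k : X) = g⁻¹ * (n : X) * g * (n : X)⁻¹ := (congrArg Subtype.val hn).symm
    rw [hk, show g * (g⁻¹ * (n : X) * g * (n : X)⁻¹) = (n : X) * g * (n : X)⁻¹ by group]
    exact Char.IsCharacter.isClassFunction (Char.irr_isCharacter χ) g n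
  rw [Finset.sum_congr rfl fun k _ => hconst k, Finset.sum_const, nsmul_eq_mul] at hsum
  exact (mul_eq_zero.1 hsum).resolve_left (Nat.cast_ne_zero.2 Fintype.card_ne_zero)

omit [Fintype X] in
theorem indFun_congr [Fintype X] {S T : Subgroup X} (h : S = T) (f : T → ℂ) :
    indFun S (fun s => f ⟨s.1, h ▸ s.2⟩) = indFun T f := by
  subst h; rfl

end Generic

/-- A function on `W` read on the copy of `W` inside `L`. -/
def resW (L W₁ W₂ : Subgroup G) (f : ↥(W₁ ⊔ W₂) → ℂ) : ↥((W₁ ⊔ W₂).subgroupOf L) → ℂ :=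
  fun w => f ⟨((w : L) : G), w.2⟩

/-- Induction from `W` to `L`. -/
noncomputable def indW (L W₁ W₂ : Subgroup G) [Fintype L] (f : ↥(W₁ ⊔ W₂) → ℂ) : L → ℂ :=
  indFun ((W₁ ⊔ W₂).subgroupOf L) (resW L W₁ W₂ f)

/-- The irreducible characters `μ ω` of `L` and signs `δ ω` of Peterfalvi (4.3). -/
structure MuFamily (L W₁ W₂ : Subgroup G) [Fintype L]
    (μ : (↥(W₁ ⊔ W₂) →* ℂˣ) → (L → ℂ)) (δ : (↥(W₁ ⊔ W₂) →* ℂˣ) → ℤ) : Prop where
  inj : Function.Injective μ
  irr : ∀ ω, IsIrrCharacter L (μ ω)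
  sign : ∀ ω, δ ω = 1 ∨ δ ω = -1
  congr : ∀ ω ω', (∀ w : ↥(W₁ ⊔ W₂), (w : G) ∈ W₂ → ω w = ω' w) → δ ω = δ ω' ∧
    indW L W₁ W₂ (fun w => (ω w : ℂ) - (ω' w : ℂ)) = (δ ω : ℂ) • (μ ω - μ ω')
  apply : ∀ ω, ∀ w : L, (hw : (w : G) ∈ W₁ ⊔ W₂) → (w : G) ∉ W₂ →
    μ ω w = (δ ω : ℂ) * (ω ⟨w, hw⟩ : ℂ)
  other : ∀ θ : L → ℂ, IsIrrCharacter L θ → (∀ ω, θ ≠ μ ω) →
    ∀ w : L, (w : G) ∈ W₁ ⊔ W₂ → (w : G) ∉ W₂ → θ w = 0
  degree : ∀ ω, ∃ n : ℤ, μ ω 1 - (δ ω : ℂ) = n * (Nat.card W₁ : ℂ)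

variable {A : Set G} {L K H W₁ W₂ : Subgroup G} {R : G → Subgroup G}
  (P : PrimeDade A L K H W₁ W₂ R)
include P

namespace PrimeDade

theorem W_le : W₁ ⊔ W₂ ≤ L := sup_le P.compl.2.1 ((P.W₂_le.trans P.H_le).trans P.K_le)

theorem oddW [Finite G] : Odd (Nat.card ↥(W₁ ⊔ W₂)) :=
  P.odd.of_dvd_nat (Subgroup.card_dvd_of_le P.W_le)

theorem mem_W₂_of_mem_K {w : G} (hw : w ∈ W₁ ⊔ W₂) (hwK : w ∈ K) : w ∈ W₂ := by
  have hn : W₁ ≤ Subgroup.normalizer (W₂ : Set G) := fun a ha =>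
    Subgroup.centralizer_le_normalizer _ (Subgroup.mem_centralizer_iff.2 fun b hb =>
      (P.selfNorm.2.2.2.1 a ha b hb).symm)
  obtain ⟨a, ha, b, hb, rfl⟩ := (Coprime.mem_sup_iff_of_le_normalizer hn).1 hw
  have ha' : a ∈ K ⊓ W₁ := ⟨(K.mul_mem_cancel_right ((P.W₂_le.trans P.H_le) hb)).1 hwK, ha⟩
  rw [P.compl.2.2.1, Subgroup.mem_bot] at ha'
  rwa [ha', one_mul]

theorem H_subgroupOf_normal : (H.subgroupOf L).Normal :=
  (Subgroup.normal_subgroupOf_iff_le_normalizer (P.H_le.trans P.K_le)).2 P.H_normal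

theorem K_subgroupOf_normal : (K.subgroupOf L).Normal :=
  (Subgroup.normal_subgroupOf_iff_le_normalizer P.K_le).2 P.K_normal

/-- (4.7b): an irreducible character of `L` not trivial on `H` vanishes at the non-identity
elements of `K` outside `A`. -/
theorem apply_eq_zero_of_not_cover [Fintype L] (χ : IrrCharacter L)
    (hχ : ¬ Char.TrivOn (H.subgroupOf L) χ.1) {y : L} (hy : (y : G) ∈ K) (hy1 : y ≠ 1)
    (hyA : (y : G) ∉ A) : χ.1 y = 0 := by
  haveI := P.H_subgroupOf_normal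
  refine apply_eq_zero_of_free _ χ hχ fun n hn hc => ?_
  by_contra h1
  exact hyA (P.cover _ hy (fun h => hy1 (Subtype.ext h)) _ hn (fun h => h1 (Subtype.ext h))
    (congrArg Subtype.val hc))

/-- The same for an irreducible character of `K`. -/
theorem apply_eq_zero_of_not_coverK [Fintype L] (θ : IrrCharacter ↥(K.subgroupOf L))
    (hθ : ¬ Char.TrivOn ((H.subgroupOf L).subgroupOf (K.subgroupOf L)) θ.1)
    {y : ↥(K.subgroupOf L)} (hy1 : y ≠ 1) (hyA : ((y : L) : G) ∉ A) : θ.1 y = 0 := by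
  haveI := P.H_subgroupOf_normal
  haveI : Fintype ↥(K.subgroupOf L) := Fintype.ofFinite _
  refine apply_eq_zero_of_free _ θ hθ fun n hn hc => ?_
  by_contra h1
  exact hyA (P.cover _ y.2 (fun h => hy1 (Subtype.ext (Subtype.ext h))) _ hn
    (fun h => h1 (Subtype.ext (Subtype.ext h))) (congrArg (fun z : ↥(K.subgroupOf L) => ((z : L) : G)) hc))

/-- Functions on `L` induced from characters of `K` not trivial on `H` vanish off `A` and `1`. -/
theorem support_of_nonTriv [Fintype L] {φ : L → ℂ}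
    (hφ : φ ∈ {φ | ∃ θ : ↥(K.subgroupOf L) → ℂ, IsIrrCharacter _ θ ∧
      (∃ z : ↥(K.subgroupOf L), (z : L) ∈ H.subgroupOf L ∧ θ z ≠ θ 1) ∧
      φ = indFun (K.subgroupOf L) θ})
    {y : L} (hy1 : y ≠ 1) (hyA : (y : G) ∉ A) : φ y = 0 := by
  classical
  obtain ⟨θ, hθ, ⟨z, hz, hne⟩, rfl⟩ := hφ
  rw [indFun, Finset.sum_eq_zero, mul_zero]
  intro x _
  by_cases hx : x⁻¹ * y * x ∈ K.subgroupOf L
  · rw [Char.extendByZero_of_mem _ _ hx]
    refine P.apply_eq_zero_of_not_coverK ⟨θ, hθ⟩ (fun h => hne (h z hz)) (fun h => hy1 ?_) fun h => hyA ?_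
    · have h' : x⁻¹ * y * x = 1 := congrArg Subtype.val h
      have : y = x * (x⁻¹ * y * x) * x⁻¹ := by group
      rw [this, h']; group
    · obtain ⟨hk, hk1⟩ := P.A_subset h
      have h' := P.dade.conj_mem (x : G) x.2 _ (Or.inl h)
      simp only [Subgroup.coe_mul, Subgroup.coe_inv] at h' hk hk1
      rw [show (x : G) * ((x : G)⁻¹ * y * x) * (x : G)⁻¹ = y by group] at h'
      rcases h' with h' | ⟨m, hm, w, hw, hw1, hw2, e⟩
      · exact h'
      -- a conjugate of an element of `K` lies outside `classV`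
      exfalso
      have hwK : w ∈ K := by
        have hyK : (y : G) ∈ K := by
          have := (Subgroup.mem_normalizer_iff.1 (P.K_normal x.2) _).1 hk
          rwa [show (x : G) * ((x : G)⁻¹ * y * x) * (x : G)⁻¹ = y by group] at this
        have := (Subgroup.mem_normalizer_iff.1 (P.K_normal (L.inv_mem hm)) _).1 hyK
        rwa [e, inv_inv, show m⁻¹ * (m * w * m⁻¹) * m = w by group] at this
      exact hw2 (P.mem_W₂_of_mem_K hw hwK)
  · exact Char.extendByZero_of_notMem _ _ hx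

/-- At an element of `V` the subgroup `R` is trivial. -/
theorem R_eq_bot [Finite G] {w : G} (hw : w ∈ W₁ ⊔ W₂) (hw1 : w ∉ W₁) (hw2 : w ∉ W₂) :
    R w = ⊥ := by
  have hmem : w ∈ A ∪ classV L W₁ W₂ :=
    Or.inr ⟨1, L.one_mem, w, hw, hw1, hw2, by group⟩
  have hc : Subgroup.centralizer ({w} : Set G) ≤ L := fun c hc => P.W_le <| by
    rw [← isCyclicTI_normalizer_singleton P.selfNorm hw hw1 hw2]
    exact Subgroup.centralizer_le_normalizer _ hc
  refine le_bot_iff.1 ?_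
  rw [← P.dade.inf_eq_bot w hmem]
  exact le_inf le_rfl (le_inf ((P.dade.le_centralizer w hmem).trans hc) (P.dade.le_centralizer w hmem))

variable [Fintype L]

theorem indW_apply_of_mem [Finite G] (f : ↥(W₁ ⊔ W₂) → ℂ)
    (hf : ∀ w : ↥(W₁ ⊔ W₂), (w : G) ∈ W₁ ∨ (w : G) ∈ W₂ → f w = 0) (w : L)
    (hw : (w : G) ∈ W₁ ⊔ W₂) : indW L W₁ W₂ f w = f ⟨w, hw⟩ := by
  refine S1511.indFun_apply_of_ti ((W₁ ⊔ W₂).subgroupOf L) ?_ (resW L W₁ W₂ f) ?_ ⟨w, hw⟩
  · intro a b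
    letI := Fintype.ofFinite G
    exact Subtype.ext (Subtype.ext (congrArg Subtype.val
      (isCyclicTI_comm P.selfNorm ⟨_, a.2⟩ ⟨_, b.2⟩) :))
  · intro v g hv hg
    have h1 : ((v : L) : G) ∉ W₁ := fun h => hv (hf _ (Or.inl h))
    have h2 : ((v : L) : G) ∉ W₂ := fun h => hv (hf _ (Or.inr h))
    exact isCyclicTI_conj_mem P.selfNorm v.2 h1 h2 hg

variable [Fintype G]

/-- (4.8a): on functions supported on the conjugates of `V` the Dade map is induction. -/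
theorem dade_indW (f : ↥(W₁ ⊔ W₂) → ℂ)
    (hf : ∀ w : ↥(W₁ ⊔ W₂), (w : G) ∈ W₁ ∨ (w : G) ∈ W₂ → f w = 0) :
    dadeIsometry (A ∪ classV L W₁ W₂) L R (indW L W₁ W₂ f) = indFun (W₁ ⊔ W₂) f := by
  funext g
  have hcl : IsClassFunction L (indW L W₁ W₂ f) := Char.isClassFunction_indFun _ _
  by_cases hgV : ∃ x : G, ∃ w ∈ W₁ ⊔ W₂, w ∉ W₁ ∧ w ∉ W₂ ∧ x * g * x⁻¹ = w
  · obtain ⟨x, w, hw, hw1, hw2, e⟩ := hgV
    have hmem : ((⟨w, P.W_le hw⟩ : L) : G) ∈ A ∪ classV L W₁ W₂ :=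
      Or.inr ⟨1, L.one_mem, w, hw, hw1, hw2, by simp⟩
    rw [dadeIsometry_apply P.dade hcl hmem (u := 1) (Subgroup.one_mem _)
      (show x * g * x⁻¹ = w * 1 by rw [e, mul_one]), P.indW_apply_of_mem f hf _ hw,
      ← indFun_apply_of_supp P.selfNorm f hf ⟨w, hw⟩]
    show indFun (W₁ ⊔ W₂) f w = _
    rw [← e, Char.isClassFunction_indFun]
  · push Not at hgV
    have hz : ∀ x : G, extendByZero (W₁ ⊔ W₂) f (x⁻¹ * g * x) = 0 := by
      intro x
      by_cases hx : x⁻¹ * g * x ∈ W₁ ⊔ W₂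
      · rw [Char.extendByZero_of_mem _ _ hx]
        refine hf _ ?_
        by_contra hcon
        push Not at hcon
        exact hgV x⁻¹ _ hx hcon.1 hcon.2 (by rw [inv_inv])
      · exact Char.extendByZero_of_notMem _ _ hx
    rw [indFun, Finset.sum_eq_zero (fun x _ => hz x), mul_zero, dadeIsometry]
    split_ifs with h
    · obtain ⟨-, x, u, hu, e⟩ := h.choose_spec
      set a := h.choose
      rw [indW, indFun, Finset.sum_eq_zero, mul_zero]
      intro y _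
      by_cases hy : y⁻¹ * a * y ∈ (W₁ ⊔ W₂).subgroupOf L
      swap
      · exact Char.extendByZero_of_notMem _ _ hy
      rw [Char.extendByZero_of_mem _ _ hy]
      refine hf _ ?_
      by_contra hcon
      push Not at hcon
      set w : G := ((y⁻¹ * a * y : L) : G) with hw
      have hwdef : w = (y : G)⁻¹ * a * y := by simp [hw]
      -- then `g` is conjugate to `w`
      have hu1 : (y : G)⁻¹ * u * y = 1 := by
        have hmem : (a : G) ∈ A ∪ classV L W₁ W₂ :=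
          Or.inr ⟨y, y.2, w, hy, hcon.1, hcon.2, by rw [hwdef]; group⟩
        have := dade_conj_mem P.dade hmem (L.inv_mem y.2) hu
        rw [inv_inv, ← hwdef] at this
        have hb : R w = ⊥ := P.R_eq_bot hy hcon.1 hcon.2
        rwa [hb, Subgroup.mem_bot] at this
      refine hgV ((y : G)⁻¹ * x) w hy hcon.1 hcon.2 ?_
      calc (y : G)⁻¹ * x * g * ((y : G)⁻¹ * x)⁻¹ = (y : G)⁻¹ * (x * g * x⁻¹) * y := by group
        _ = w * ((y : G)⁻¹ * u * y) := by rw [e, hwdef]; group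
        _ = w := by rw [hu1, mul_one]
    · rfl

omit [Fintype G] in
/-- The characters `μ` and signs `δ` of (4.3). -/
theorem exists_muFamily [Finite G] : ∃ μ δ, MuFamily L W₁ W₂ μ δ := by
  classical
  haveI := P.K_subgroupOf_normal
  have hW₁L : W₁ ≤ L := P.compl.2.1
  have hW₂L : W₂ ≤ L := (P.W₂_le.trans P.H_le).trans P.K_le
  have hsup : W₁.subgroupOf L ⊔ W₂.subgroupOf L = (W₁ ⊔ W₂).subgroupOf L :=
    (Subgroup.subgroupOf_sup hW₁L hW₂L).symm
  let e : ↥(W₁.subgroupOf L ⊔ W₂.subgroupOf L) ≃* ↥(W₁ ⊔ W₂) :=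
    (MulEquiv.subgroupCongr hsup).trans (Subgroup.subgroupOfEquivOfLe P.W_le)
  have he : ∀ w, (e w : G) = ((w : L) : G) := fun _ => rfl
  have h1 : W₁.subgroupOf L ≠ ⊥ := by
    rw [Ne, Subgroup.subgroupOf_eq_bot, disjoint_iff, inf_eq_left.2 hW₁L]; exact P.selfNorm.1
  have h2 : W₂.subgroupOf L ≠ ⊥ := by
    rw [Ne, Subgroup.subgroupOf_eq_bot, disjoint_iff, inf_eq_left.2 hW₂L]; exact P.selfNorm.2.1
  have c1 : IsCyclic ↥(W₁.subgroupOf L) := by
    haveI := P.W₁_cyclic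
    exact isCyclic_of_surjective _ (Subgroup.subgroupOfEquivOfLe hW₁L).symm.surjective
  have c2 : IsCyclic ↥(W₂.subgroupOf L) := by
    haveI := P.selfNorm.2.2.2.2.1
    haveI : IsCyclic W₂ := Subgroup.isCyclic_of_le (le_sup_right : W₂ ≤ W₁ ⊔ W₂)
    exact isCyclic_of_surjective _ (Subgroup.subgroupOfEquivOfLe hW₂L).symm.surjective
  have hd : K.subgroupOf L ⊓ W₁.subgroupOf L = ⊥ := by
    refine (Subgroup.eq_bot_iff_forall _).2 fun x hx => Subtype.ext ?_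
    have h : (x : G) ∈ K ⊓ W₁ := hx
    rwa [P.compl.2.2.1, Subgroup.mem_bot] at h
  have hs : K.subgroupOf L ⊔ W₁.subgroupOf L = ⊤ := by
    refine top_unique fun x _ => ?_
    obtain ⟨k, hk, w, hw, hkw⟩ := P.compl.2.2.2 x x.2
    rw [show x = (⟨k, P.K_le hk⟩ : L) * ⟨w, hW₁L hw⟩ from Subtype.ext hkw]
    exact Subgroup.mul_mem _ (Subgroup.mem_sup_left hk) (Subgroup.mem_sup_right hw)
  have hhall : Nat.Coprime (Nat.card ↥(W₁.subgroupOf L)) (W₁.subgroupOf L).index := by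
    haveI : Finite ↥(K.subgroupOf L) := inferInstance
    have hc : Subgroup.IsComplement' (K.subgroupOf L) (W₁.subgroupOf L) := by
      refine Subgroup.isComplement'_of_disjoint_and_mul_eq_univ (disjoint_iff.2 hd) ?_
      rw [← Subgroup.normal_mul, hs, Subgroup.coe_top]
    rw [hc.index_eq_card, Nat.card_congr (Subgroup.subgroupOfEquivOfLe hW₁L).toEquiv,
      Nat.card_congr (Subgroup.subgroupOfEquivOfLe P.K_le).toEquiv]
    exact P.hall
  have hC : ∀ x ∈ W₁.subgroupOf L, x ≠ 1 →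
      K.subgroupOf L ⊓ Subgroup.centralizer ({x} : Set L) = W₂.subgroupOf L := by
    intro x hx hx1
    ext y
    have h := SetLike.ext_iff.1 (P.cent (x : G) hx fun h => hx1 (Subtype.ext h)) (y : G)
    simp only [Subgroup.mem_inf, Subgroup.mem_centralizer_singleton_iff, Subgroup.mem_subgroupOf]
      at h ⊢
    rw [← h, Subtype.ext_iff, Subgroup.coe_mul, Subgroup.coe_mul]
  have hodd : Odd (Nat.card ↥(W₁.subgroupOf L ⊔ W₂.subgroupOf L)) := by
    rw [Nat.card_congr e.toEquiv]; exact P.oddW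
  obtain ⟨μ₀, δ₀, hinj, hirr, hsign, hcongr, happ, hoth, hdeg⟩ :=
    S1511.result (K.subgroupOf L) (W₁.subgroupOf L) (W₂.subgroupOf L) hd hs h1 c1 hhall h2 c2
      (fun x hx => P.H_le (P.W₂_le hx)) hC hodd
  let T : (↥(W₁ ⊔ W₂) →* ℂˣ) → (↥(W₁.subgroupOf L ⊔ W₂.subgroupOf L) →* ℂˣ) := fun ω =>
    ω.comp e.toMonoidHom
  let δ : (↥(W₁ ⊔ W₂) →* ℂˣ) → ℤ := fun ω => if δ₀ (T ω) = 1 then 1 else -1
  have hδ : ∀ ω, (δ ω : ℂ) = δ₀ (T ω) := fun ω => by
    simp only [δ]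
    rcases hsign (T ω) with h | h <;> rw [h]
    · simp
    · norm_num
  refine ⟨fun ω => μ₀ (T ω), δ, ⟨?_, fun ω => hirr _, fun ω => ?_, ?_, ?_, ?_, ?_⟩⟩
  · intro a b h
    refine MonoidHom.ext fun w => ?_
    have := DFunLike.congr_fun (hinj h) (e.symm w)
    simpa [T] using this
  · simp only [δ]; split_ifs <;> simp
  · intro ω ω' hag
    obtain ⟨h1, h2⟩ := hcongr (T ω) (T ω') fun w hw => hag (e w) hw
    refine ⟨by simp only [δ, h1], ?_⟩
    rw [hδ, ← h2, indW, ← indFun_congr hsup]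
    rfl
  · intro ω w hw hw2
    rw [hδ]
    have hw' : w ∈ W₁.subgroupOf L ⊔ W₂.subgroupOf L := hsup ▸ hw
    exact happ (T ω) ⟨w, hw'⟩ hw2
  · intro θ hθ hne w hw hw2
    have hw' : w ∈ W₁.subgroupOf L ⊔ W₂.subgroupOf L := hsup ▸ hw
    refine hoth θ hθ (fun ω₀ => ?_) ⟨w, hw'⟩ hw2
    have := hne (ω₀.comp e.symm.toMonoidHom)
    rwa [show T (ω₀.comp e.symm.toMonoidHom) = ω₀ from MonoidHom.ext fun w => by simp [T]] at this
  · intro ω
    obtain ⟨n, hn⟩ := hdeg (T ω)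
    exact ⟨n, by rw [hδ, hn, Nat.card_congr (Subgroup.subgroupOfEquivOfLe hW₁L).toEquiv]⟩

end PrimeDade

end Cfsg.Agent.OddOrder.PF
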