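import Cfsg.Agent.Lib.OddOrder.PF.PrimeDade
import Cfsg.Agent.Lib.OddOrder.DadeSeven
import Cfsg.Agent.Lib.Char.Linear
import Cfsg.Agent.S1496
import Cfsg.Agent.S1513

/-!
Peterfalvi (4.4), (4.7), (4.8) under the prime Dade hypothesis.

* `eta_conj`, `MuFamily.conj_eq`: complex conjugation inverts the index;
* `MuFamily.mul_twist`: `μ (ω φ) = λ_φ μ ω` for `φ` trivial on `W₂`;
* `MuFamily.indFun_res`: `Σ_φ μ (φ ω) = Ind_K^L Res μ ω`; `MuFamily.irr_res`, `MuFamily.fixed_eq_res`;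
* `MuFamily.not_trivOn`, `MuFamily.supp_sub`: support of `μ ω₁ - μ ω₂`;
* `MuFamily.tau_four`, `MuFamily.tau_sub`, `MuFamily.tau_sum_sub`: their images;
* `PrimeDade.eta_orth_tau`: small virtual characters supported on `A` map orthogonally to `η`.
-/

set_option autoImplicit false
set_option linter.style.haveILetI false

namespace Cfsg.Agent.OddOrder.PF

open Cfsg Cfsg.Agent.OddOrder
open scoped ComplexConjugate

universe u
variable {G : Type u} [Group G] {A : Set G} {L K H W₁ W₂ : Subgroup G} {R : G → Subgroup G}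

theorem conj_apply_unit [Finite G] (ω : ↥(W₁ ⊔ W₂) →* ℂˣ) (w : ↥(W₁ ⊔ W₂)) :
    conj (ω w : ℂ) = (ω⁻¹ w : ℂ) := by
  have h1 : (ω w : ℂ) ^ Nat.card ↥(W₁ ⊔ W₂) = 1 := by
    rw [← Units.val_pow_eq_pow_val, ← map_pow, pow_card_eq_one', map_one, Units.val_one]
  rw [MonoidHom.inv_apply, Units.val_inv_eq_inv_val,
    Complex.inv_eq_conj (Complex.norm_eq_one_of_pow_eq_one h1 Nat.card_pos.ne')]

/-- Complex conjugation inverts the index of `η`. -/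
theorem eta_conj [Fintype G] {η : (↥(W₁ ⊔ W₂) →* ℂˣ) → (G → ℂ)}
    (hW : IsSelfNormalizingCyclic W₁ W₂) (hodd : Odd (Nat.card ↥(W₁ ⊔ W₂)))
    (hη : IsCyclicTIFamily W₁ W₂ η) (ω : ↥(W₁ ⊔ W₂) →* ℂˣ) : conjFun (η ω) = η ω⁻¹ := by
  refine eq_of_eq_on hW hodd hη ω⁻¹ ?_ fun w h1 h2 => ?_
  · rcases hη.irr_or_neg ω with h | h
    · exact Or.inl (Char.IsIrrCharacter.conj_fun h)
    · refine Or.inr ?_
      convert Char.IsIrrCharacter.conj_fun h using 1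
      funext g
      simp [conjFun]
  · rw [conjFun, hη.eq_on ω w h1 h2, conj_apply_unit]

/-- Induction of `ω (1 - φ) (1 - ψ)` from `W` to `G`. -/
theorem indFun_four [Fintype G] {η : (↥(W₁ ⊔ W₂) →* ℂˣ) → (G → ℂ)}
    (hW : IsSelfNormalizingCyclic W₁ W₂) (hη : IsCyclicTIFamily W₁ W₂ η)
    (ω φ ψ : ↥(W₁ ⊔ W₂) →* ℂˣ) (hφ : ∀ w : ↥(W₁ ⊔ W₂), (w : G) ∈ W₂ → φ w = 1)
    (hψ : ∀ w : ↥(W₁ ⊔ W₂), (w : G) ∈ W₁ → ψ w = 1) :
    indFun (W₁ ⊔ W₂) (fun w => (ω w : ℂ) * (1 - (φ w : ℂ)) * (1 - (ψ w : ℂ))) =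
      η ω - η (ω * φ) - η (ω * ψ) + η (ω * φ * ψ) := by
  obtain ⟨a, b, ha, hb, rfl⟩ := exists_eq_mul hW ω
  set F : (↥(W₁ ⊔ W₂) →* ℂˣ) → (↥(W₁ ⊔ W₂) →* ℂˣ) → ↥(W₁ ⊔ W₂) → ℂ := fun x y w =>
    1 - (x w : ℂ) - (y w : ℂ) + (x w : ℂ) * (y w : ℂ) with hF
  have key : ∀ x y : ↥(W₁ ⊔ W₂) →* ℂˣ, (∀ w : ↥(W₁ ⊔ W₂), (w : G) ∈ W₂ → x w = 1) →
      (∀ w : ↥(W₁ ⊔ W₂), (w : G) ∈ W₁ → y w = 1) →
      indFun (W₁ ⊔ W₂) (F x y) = η 1 - η x - η y + η (x * y) := by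
    intro x y hx hy
    by_cases h : x ≠ 1 ∧ y ≠ 1
    · rw [hη.induced_eq x y h.1 h.2 hx hy, hη.map_one]; rfl
    · have hz : F x y = 0 := funext fun w => by
        rcases not_and_or.1 h with h | h <;> simp [hF, not_ne_iff.1 h]
      rw [hz, Char.indFun_zero]
      rcases not_and_or.1 h with h | h <;> rw [not_ne_iff.1 h]
      · rw [show (1 : ↥(W₁ ⊔ W₂) →* ℂˣ) * y = y from MonoidHom.ext fun w => one_mul (y w)]
        abel
      · rw [show x * (1 : ↥(W₁ ⊔ W₂) →* ℂˣ) = x from MonoidHom.ext fun w => mul_one (x w)]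
        abel
  have hsplit : (fun w => ((a * b) w : ℂ) * (1 - (φ w : ℂ)) * (1 - (ψ w : ℂ))) =
      F (a * φ) (b * ψ) - F (a * φ) b - F a (b * ψ) + F a b := funext fun w => by
    simp only [hF, MonoidHom.mul_apply, Units.val_mul, Pi.sub_apply, Pi.add_apply]
    ring
  have haφ : ∀ w : ↥(W₁ ⊔ W₂), (w : G) ∈ W₂ → (a * φ) w = 1 := fun w hw => by
    rw [MonoidHom.mul_apply, ha w hw, hφ w hw, mul_one]
  have hbψ : ∀ w : ↥(W₁ ⊔ W₂), (w : G) ∈ W₁ → (b * ψ) w = 1 := fun w hw => by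
    rw [MonoidHom.mul_apply, hb w hw, hψ w hw, mul_one]
  rw [hsplit, Char.indFun_add, Char.indFun_sub, Char.indFun_sub, key _ _ haφ hbψ, key _ _ haφ hb,
    key _ _ ha hbψ, key _ _ ha hb]
  rw [show a * φ * (b * ψ) = a * b * φ * ψ from MonoidHom.ext fun w => by
      simp only [MonoidHom.mul_apply]; ac_rfl,
    show a * φ * b = a * b * φ from MonoidHom.ext fun w => by
      simp only [MonoidHom.mul_apply]; ac_rfl,
    show a * (b * ψ) = a * b * ψ from MonoidHom.ext fun w => by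
      simp only [MonoidHom.mul_apply]; ac_rfl]
  abel

variable [Fintype L] {μ : (↥(W₁ ⊔ W₂) →* ℂˣ) → (L → ℂ)} {δ : (↥(W₁ ⊔ W₂) →* ℂˣ) → ℤ}
  (P : PrimeDade A L K H W₁ W₂ R)
include P

namespace PrimeDade

omit [Fintype L] in
theorem exists_generic [Finite G] :
    ∃ x ∈ W₁, x ≠ 1 ∧ x * x ≠ 1 := by
  obtain ⟨x, hx, hx1⟩ := (Subgroup.bot_or_exists_ne_one W₁).resolve_left P.selfNorm.1
  refine ⟨x, hx, hx1, fun h => hx1 (orderOf_eq_one_iff.1 ?_)⟩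
  have hodd : Odd (Nat.card W₁) := P.oddW.of_dvd_nat (Subgroup.card_dvd_of_le le_sup_left)
  have h2 : orderOf x ∣ 2 := orderOf_dvd_of_pow_eq_one (by rw [sq, h])
  rcases (Nat.dvd_prime Nat.prime_two).1 h2 with h' | h'
  · exact h'
  · exact absurd (hodd.of_dvd_nat (h' ▸ Subgroup.orderOf_dvd_natCard W₁ hx)) (by decide)

omit [Fintype L] in
theorem notMem_W₂_of_mem_W₁ {x : G} (hx : x ∈ W₁) (hx1 : x ≠ 1) : x ∉ W₂ := fun h => hx1 <| by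
  have h' : x ∈ W₁ ⊓ W₂ := ⟨hx, h⟩
  rwa [P.selfNorm.2.2.1, Subgroup.mem_bot] at h'

omit [Fintype L] in
/-- Two linear characters proportional by signs outside `W₂` are equal. -/
theorem eq_of_agree_off [Finite G] {e e' : ℤ} (he : e = 1 ∨ e = -1) (he' : e' = 1 ∨ e' = -1)
    {a b : ↥(W₁ ⊔ W₂) →* ℂˣ}
    (h : ∀ w : ↥(W₁ ⊔ W₂), (w : G) ∉ W₂ → (e : ℂ) * (a w : ℂ) = (e' : ℂ) * (b w : ℂ)) :
    a = b ∧ e = e' := by
  obtain ⟨x, hx, hx1, hx2⟩ := P.exists_generic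
  set x' : ↥(W₁ ⊔ W₂) := ⟨x, Subgroup.mem_sup_left hx⟩ with hx'
  have hne : ((e : ℂ)) ≠ 0 := by rcases he with rfl | rfl <;> norm_num
  have hne' : ((e' : ℂ)) ≠ 0 := by rcases he' with rfl | rfl <;> norm_num
  have h1 := h x' (P.notMem_W₂_of_mem_W₁ hx hx1)
  have h2 := h (x' * x') (P.notMem_W₂_of_mem_W₁ (W₁.mul_mem hx hx) hx2)
  rw [map_mul, map_mul, Units.val_mul, Units.val_mul] at h2
  have hee : e = e' := by
    have h3 : (e' : ℂ) * (b x' : ℂ) ^ 2 * ((e' : ℂ) - e) = 0 := by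
      linear_combination (e : ℂ) * h2 - ((e : ℂ) * (a x' : ℂ) + (e' : ℂ) * (b x' : ℂ)) * h1
    rcases mul_eq_zero.1 h3 with h4 | h4
    · rcases mul_eq_zero.1 h4 with h5 | h5
      · exact absurd h5 hne'
      · exact absurd h5 (pow_ne_zero _ (Units.ne_zero _))
    · exact_mod_cast (sub_eq_zero.1 h4).symm
  subst hee
  have hoff : ∀ w : ↥(W₁ ⊔ W₂), (w : G) ∉ W₂ → a w = b w := fun w hw =>
    Units.ext (mul_left_cancel₀ hne (h w hw))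
  refine ⟨MonoidHom.ext fun w => ?_, rfl⟩
  by_cases hw : (w : G) ∈ W₂
  · have h3 := hoff (w * x') fun h' => P.notMem_W₂_of_mem_W₁ hx hx1
      ((W₂.mul_mem_cancel_left hw).1 h')
    rw [map_mul, map_mul, hoff x' (P.notMem_W₂_of_mem_W₁ hx hx1)] at h3
    exact mul_right_cancel h3
  · exact hoff w hw

omit [Fintype L] in
/-- The linear character of `L` extending a character of `W` trivial on `W₂`. -/
theorem exists_extension [Finite G] (φ : ↥(W₁ ⊔ W₂) →* ℂˣ)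
    (hφ : ∀ w : ↥(W₁ ⊔ W₂), (w : G) ∈ W₂ → φ w = 1) :
    ∃ lam : L →* ℂ, (∀ y : L, (y : G) ∈ K → lam y = 1) ∧
      ∀ y : L, ∀ hy : (y : G) ∈ W₁ ⊔ W₂, lam y = (φ ⟨y, hy⟩ : ℂ) := by
  haveI := P.K_subgroupOf_normal
  have hW₁L : W₁ ≤ L := P.compl.2.1
  have hc : Subgroup.IsComplement' (W₁.subgroupOf L) (K.subgroupOf L) := by
    refine (Subgroup.isComplement'_of_disjoint_and_mul_eq_univ (disjoint_iff.2 ?_) ?_).symm
    · refine (Subgroup.eq_bot_iff_forall _).2 fun x hx => Subtype.ext ?_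
      have h : (x : G) ∈ K ⊓ W₁ := hx
      rwa [P.compl.2.2.1, Subgroup.mem_bot] at h
    · refine Set.eq_univ_of_forall fun x => ?_
      obtain ⟨k, hk, w, hw, hkw⟩ := P.compl.2.2.2 x x.2
      exact ⟨⟨k, P.K_le hk⟩, hk, ⟨w, hW₁L hw⟩, hw, Subtype.ext hkw.symm⟩
  let j : W₁.subgroupOf L →* ↥(W₁ ⊔ W₂) :=
    (Subgroup.inclusion le_sup_left).comp (Subgroup.subgroupOfEquivOfLe hW₁L).toMonoidHom
  let lam : L →* ℂ := ((Units.coeHom ℂ).comp (φ.comp j)).comp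
    (hc.QuotientMulEquiv.toMonoidHom.comp (QuotientGroup.mk' (K.subgroupOf L)))
  have h1 : ∀ y : L, (y : G) ∈ K → lam y = 1 := fun y hy => by
    simp only [lam, MonoidHom.comp_apply, QuotientGroup.mk'_apply,
      (QuotientGroup.eq_one_iff y).2 (show y ∈ K.subgroupOf L from hy), map_one]
  have h2 : ∀ y : W₁.subgroupOf L, lam (y : L) = (φ (j y) : ℂ) := fun y => by
    have hq : hc.QuotientMulEquiv (((y : L) : L ⧸ K.subgroupOf L)) = y := by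
      apply hc.QuotientMulEquiv.symm.injective
      rw [MulEquiv.symm_apply_apply]; rfl
    simp only [lam, MonoidHom.comp_apply, QuotientGroup.mk'_apply, MulEquiv.coe_toMonoidHom, hq]
    rfl
  refine ⟨lam, h1, fun y hy => ?_⟩
  have hn : W₁ ≤ Subgroup.normalizer (W₂ : Set G) := fun a ha =>
    Subgroup.centralizer_le_normalizer _ (Subgroup.mem_centralizer_iff.2 fun b hb =>
      (P.selfNorm.2.2.2.1 a ha b hb).symm)
  obtain ⟨a, ha, b, hb, hab⟩ := (Coprime.mem_sup_iff_of_le_normalizer hn).1 hy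
  have hbL : b ∈ L := P.K_le (P.H_le (P.W₂_le hb))
  have hl : lam y = lam ((⟨a, hW₁L ha⟩ : L) * ⟨b, hbL⟩) := congrArg lam (Subtype.ext hab.symm)
  rw [hl, map_mul, h1 ⟨b, hbL⟩ (P.H_le (P.W₂_le hb)), mul_one, h2 ⟨⟨a, hW₁L ha⟩, ha⟩]
  congr 1
  have hw : (⟨(y : G), hy⟩ : ↥(W₁ ⊔ W₂)) =
      ⟨a, Subgroup.mem_sup_left ha⟩ * ⟨b, Subgroup.mem_sup_right hb⟩ := Subtype.ext hab.symm
  calc φ (j ⟨⟨a, hW₁L ha⟩, ha⟩) = φ ⟨a, Subgroup.mem_sup_left ha⟩ := rfl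
    _ = φ ⟨(y : G), hy⟩ := by rw [hw, map_mul, hφ ⟨b, Subgroup.mem_sup_right hb⟩ hb, mul_one]

variable [Fintype G]

/-- A virtual character of norm at most two supported on `A` has Dade image orthogonal to `η`. -/
theorem eta_orth_tau {η : (↥(W₁ ⊔ W₂) →* ℂˣ) → (G → ℂ)} (hη : IsCyclicTIFamily W₁ W₂ η)
    {α : L → ℂ} (hα : IsGeneralizedCharacter L α) (hαA : ∀ y : L, (y : G) ∉ A → α y = 0)
    {N : ℤ} (hN : classInner α α = N) (hN2 : N ≤ 2) (ω : ↥(W₁ ⊔ W₂) →* ℂˣ) :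
    classInner (dadeIsometry (A ∪ classV L W₁ W₂) L R α) (η ω) = 0 := by
  have hcl := Char.IsGeneralizedCharacter.isClassFunction hα
  have hsupp : ∀ y : L, (y : G) ∉ A ∪ classV L W₁ W₂ → α y = 0 := fun y hy =>
    hαA y fun h => hy (Or.inl h)
  refine eta_orth_of_norm_le_two P.selfNorm P.oddW hη
    (isGeneralizedCharacter_dadeIsometry P.dade hα hsupp) (N := N) ?_ hN2 (fun w h1 h2 => ?_) ω
  · rw [classInner_dade_dade P.dade hcl hsupp hα hsupp, hN]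
  · rw [dadeIsometry_apply P.dade hcl (a := ⟨w, P.W_le w.2⟩)
      (Or.inr ⟨1, L.one_mem, w, w.2, h1, h2, by simp⟩) (x := 1) (u := 1) (Subgroup.one_mem _)
      (by simp)]
    exact hαA _ fun h => h2 (P.mem_W₂_of_mem_K w.2 (P.A_subset h).1)

end PrimeDade

namespace MuFamily

variable (M : MuFamily L W₁ W₂ μ δ)
include M

theorem conj_eq [Finite G] (ω : ↥(W₁ ⊔ W₂) →* ℂˣ) :
    conjFun (μ ω) = μ ω⁻¹ ∧ δ ω⁻¹ = δ ω := by
  have hirr : IsIrrCharacter L (conjFun (μ ω)) := Char.IsIrrCharacter.conj_fun (M.irr ω)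
  obtain ⟨x, hx, hx1, -⟩ := P.exists_generic
  have hval : ∀ w : L, ∀ hw : (w : G) ∈ W₁ ⊔ W₂, (w : G) ∉ W₂ →
      conjFun (μ ω) w = (δ ω : ℂ) * (ω⁻¹ ⟨w, hw⟩ : ℂ) := fun w hw hw2 => by
    rw [conjFun, M.apply ω w hw hw2, map_mul, map_intCast, conj_apply_unit]
  obtain ⟨ω', hω'⟩ : ∃ ω', conjFun (μ ω) = μ ω' := by
    by_contra hne
    push Not at hne
    have hxW : ((⟨x, P.compl.2.1 hx⟩ : L) : G) ∈ W₁ ⊔ W₂ := Subgroup.mem_sup_left hx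
    have := M.other _ hirr hne ⟨x, P.compl.2.1 hx⟩ hxW (P.notMem_W₂_of_mem_W₁ hx hx1)
    rw [hval _ hxW (P.notMem_W₂_of_mem_W₁ hx hx1)] at this
    rcases mul_eq_zero.1 this with h | h
    · rcases M.sign ω with h' | h' <;> simp [h'] at h
    · exact Units.ne_zero _ h
  obtain ⟨rfl, hd⟩ := P.eq_of_agree_off (M.sign ω') (M.sign ω) (a := ω') (b := ω⁻¹) fun w hw2 => by
    rw [← M.apply ω' ⟨w, P.W_le w.2⟩ w.2 hw2, ← hω', hval ⟨w, P.W_le w.2⟩ w.2 hw2]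
  exact ⟨hω', hd⟩

/-- (4.4): multiplication by a character trivial on `W₂` is a twist. -/
theorem mul_twist [Finite G] (ω φ : ↥(W₁ ⊔ W₂) →* ℂˣ) {lam : L →* ℂ}
    (hlam : ∀ y : L, ∀ hy : (y : G) ∈ W₁ ⊔ W₂, lam y = (φ ⟨y, hy⟩ : ℂ)) :
    μ (ω * φ) = ⇑lam * μ ω ∧ δ (ω * φ) = δ ω := by
  have hirr : IsIrrCharacter L (⇑lam * μ ω) := Char.IsIrrCharacter.mul_linear (M.irr ω) lam
  obtain ⟨x, hx, hx1, -⟩ := P.exists_generic
  have hval : ∀ w : L, ∀ hw : (w : G) ∈ W₁ ⊔ W₂, (w : G) ∉ W₂ →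
      (⇑lam * μ ω) w = (δ ω : ℂ) * ((ω * φ) ⟨w, hw⟩ : ℂ) := fun w hw hw2 => by
    rw [Pi.mul_apply, M.apply ω w hw hw2, hlam w hw, MonoidHom.mul_apply, Units.val_mul]; ring
  obtain ⟨ω', hω'⟩ : ∃ ω', ⇑lam * μ ω = μ ω' := by
    by_contra hne
    push Not at hne
    have hxW : ((⟨x, P.compl.2.1 hx⟩ : L) : G) ∈ W₁ ⊔ W₂ := Subgroup.mem_sup_left hx
    have := M.other _ hirr hne ⟨x, P.compl.2.1 hx⟩ hxW (P.notMem_W₂_of_mem_W₁ hx hx1)
    rw [hval _ hxW (P.notMem_W₂_of_mem_W₁ hx hx1)] at this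
    rcases mul_eq_zero.1 this with h | h
    · rcases M.sign ω with h' | h' <;> simp [h'] at h
    · exact Units.ne_zero _ h
  obtain ⟨rfl, hd⟩ := P.eq_of_agree_off (M.sign ω') (M.sign ω) (a := ω') (b := ω * φ) fun w hw2 => by
    rw [← M.apply ω' ⟨w, P.W_le w.2⟩ w.2 hw2, ← hω', hval ⟨w, P.W_le w.2⟩ w.2 hw2]
  exact ⟨hω'.symm, hd⟩

/-- `μ (ω φ)` and `μ ω` agree on `K`. -/
theorem apply_twist [Finite G] (ω φ : ↥(W₁ ⊔ W₂) →* ℂˣ)
    (hφ : ∀ w : ↥(W₁ ⊔ W₂), (w : G) ∈ W₂ → φ w = 1) {y : L} (hy : (y : G) ∈ K) :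
    μ (ω * φ) y = μ ω y := by
  obtain ⟨lam, h1, h2⟩ := P.exists_extension φ hφ
  rw [(M.mul_twist P ω φ h2).1, Pi.mul_apply, h1 y hy, one_mul]

/-- An `ω` non-trivial on `W₂` gives a character non-trivial on `H`. -/
theorem not_trivOn [Finite G] {ω : ↥(W₁ ⊔ W₂) →* ℂˣ}
    (hω : ¬ ∀ w : ↥(W₁ ⊔ W₂), (w : G) ∈ W₂ → ω w = 1) :
    ¬ Char.TrivOn (H.subgroupOf L) (μ ω) := by
  intro h
  refine hω fun w hw => ?_
  obtain ⟨x, hx, hx1, -⟩ := P.exists_generic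
  have hxn := P.notMem_W₂_of_mem_W₁ hx hx1
  have hxW : x ∈ W₁ ⊔ W₂ := Subgroup.mem_sup_left hx
  have hmem : (⟨(w : G), P.W_le w.2⟩ : L) ∈ H.subgroupOf L := P.W₂_le hw
  have e := Char.apply_mul_of_trivOn (χ := ⟨μ ω, M.irr ω⟩) h ⟨x, P.W_le hxW⟩ hmem
  have hxw : x * (w : G) ∉ W₂ := fun h' => hxn ((W₂.mul_mem_cancel_right hw).1 h')
  change μ ω (⟨x, P.W_le hxW⟩ * ⟨(w : G), P.W_le w.2⟩) = μ ω ⟨x, P.W_le hxW⟩ at e
  rw [M.apply ω _ ((W₁ ⊔ W₂).mul_mem hxW w.2) hxw, M.apply ω _ hxW hxn] at e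
  have hne : ((δ ω : ℂ)) ≠ 0 := by rcases M.sign ω with h' | h' <;> simp [h']
  have e2 : ω (⟨x, hxW⟩ * w) = ω ⟨x, hxW⟩ := Units.ext (mul_left_cancel₀ hne e)
  rwa [map_mul, mul_eq_left] at e2

/-- Equal degrees force equal signs. -/
theorem sign_eq_of_degree [Finite G] {ω₁ ω₂ : ↥(W₁ ⊔ W₂) →* ℂˣ} (hd : μ ω₁ 1 = μ ω₂ 1) :
    δ ω₁ = δ ω₂ := by
  obtain ⟨n₁, h1⟩ := M.degree ω₁
  obtain ⟨n₂, h2⟩ := M.degree ω₂
  have h3 : δ ω₁ - δ ω₂ = (n₂ - n₁) * (Nat.card W₁ : ℤ) := by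
    have : ((δ ω₁ - δ ω₂ : ℤ) : ℂ) = (((n₂ - n₁) * (Nat.card W₁ : ℤ) : ℤ) : ℂ) := by
      push_cast; linear_combination h2 - h1 + hd
    exact_mod_cast this
  have h4 := (three_le_card P.selfNorm P.oddW).1
  have h5 : |δ ω₁ - δ ω₂| < (Nat.card W₁ : ℤ) := by
    rcases M.sign ω₁ with a | a <;> rcases M.sign ω₂ with b | b <;> rw [a, b] <;> norm_num <;> omega
  have := Int.eq_zero_of_abs_lt_dvd ⟨n₂ - n₁, by rw [h3]; ring⟩ h5
  omega

/-- The support of `μ ω₁ - μ ω₂` for equal degrees and `ω₁, ω₂` agreeing on `W₁`. -/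
theorem supp_sub [Finite G] {ω₁ ω₂ : ↥(W₁ ⊔ W₂) →* ℂˣ}
    (h1 : ¬ ∀ w : ↥(W₁ ⊔ W₂), (w : G) ∈ W₂ → ω₁ w = 1)
    (h2 : ¬ ∀ w : ↥(W₁ ⊔ W₂), (w : G) ∈ W₂ → ω₂ w = 1)
    (hag : ∀ w : ↥(W₁ ⊔ W₂), (w : G) ∈ W₁ → ω₁ w = ω₂ w) (hd : μ ω₁ 1 = μ ω₂ 1)
    {y : L} (hy : (y : G) ∉ A ∪ classV L W₁ W₂) : (μ ω₁ - μ ω₂) y = 0 := by
  by_cases hy1 : y = 1
  · simp [hy1, hd]
  by_cases hyK : (y : G) ∈ K
  · have e1 : μ ω₁ y = 0 := P.apply_eq_zero_of_not_cover ⟨_, M.irr ω₁⟩ (M.not_trivOn P h1) hyK hy1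
      fun h => hy (Or.inl h)
    have e2 : μ ω₂ y = 0 := P.apply_eq_zero_of_not_cover ⟨_, M.irr ω₂⟩ (M.not_trivOn P h2) hyK hy1
      fun h => hy (Or.inl h)
    rw [Pi.sub_apply, e1, e2, sub_zero]
  obtain ⟨k, hk, w, hw, hkw⟩ := P.compl.2.2.2 y y.2
  have hw1 : w ≠ 1 := fun h => hyK (by rw [hkw, h, mul_one]; exact hk)
  have hwL : w ∈ L := P.compl.2.1 hw
  haveI := P.K_subgroupOf_normal
  have hcop : (orderOf (⟨w, hwL⟩ : L)).Coprime (Nat.card ↥(K.subgroupOf L)) := by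
    rw [← Subgroup.orderOf_coe, Nat.card_congr (Subgroup.subgroupOfEquivOfLe P.K_le).toEquiv]
    exact P.hall.coprime_dvd_left (Subgroup.orderOf_dvd_natCard W₁ hw)
  obtain ⟨x, hx, c, hc, hcw, e⟩ := S1496.result (K.subgroupOf L) (⟨w, hwL⟩ : L)
    (by rw [Subgroup.normalizer_eq_top]; trivial) hcop ⟨k, P.K_le hk⟩ hk
  have hy' : x * y * x⁻¹ = c * ⟨w, hwL⟩ := by
    rw [← e]; congr 2; exact Subtype.ext hkw
  have hcW : (c : G) ∈ W₂ := by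
    rw [← P.cent w hw hw1]
    exact ⟨hc, Subgroup.mem_centralizer_singleton_iff.2 (congrArg Subtype.val hcw :)⟩
  have hmem : ((c * ⟨w, hwL⟩ : L) : G) ∈ W₁ ⊔ W₂ :=
    (W₁ ⊔ W₂).mul_mem (Subgroup.mem_sup_right hcW) (Subgroup.mem_sup_left hw)
  have hn2 : ((c * ⟨w, hwL⟩ : L) : G) ∉ W₂ := fun h =>
    P.notMem_W₂_of_mem_W₁ hw hw1 ((W₂.mul_mem_cancel_left hcW).1 h)
  have hconst : ∀ ω, μ ω y = μ ω (c * ⟨w, hwL⟩) := fun ω => by
    rw [← hy', Char.IsCharacter.isClassFunction (Char.IsIrrCharacter.isCharacter (M.irr ω))]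
  rw [Pi.sub_apply, hconst, hconst, M.apply _ _ hmem hn2, M.apply _ _ hmem hn2,
    M.sign_eq_of_degree P hd]
  by_cases hn1 : ((c * ⟨w, hwL⟩ : L) : G) ∈ W₁
  · rw [hag ⟨_, hmem⟩ hn1, sub_self]
  refine absurd (Or.inr ⟨(x : G)⁻¹, L.inv_mem x.2, _, hmem, hn1, hn2, ?_⟩) hy
  rw [← hy']
  simp only [Subgroup.coe_mul, Subgroup.coe_inv]
  group

variable [Fintype G] {η : (↥(W₁ ⊔ W₂) →* ℂˣ) → (G → ℂ)}

/-- (4.8): the image of a four term combination. -/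
theorem tau_four (hη : IsCyclicTIFamily W₁ W₂ η) (ω φ ψ : ↥(W₁ ⊔ W₂) →* ℂˣ)
    (hφ : ∀ w : ↥(W₁ ⊔ W₂), (w : G) ∈ W₂ → φ w = 1)
    (hψ : ∀ w : ↥(W₁ ⊔ W₂), (w : G) ∈ W₁ → ψ w = 1) :
    dadeIsometry (A ∪ classV L W₁ W₂) L R ((δ ω : ℂ) • (μ ω - μ (ω * φ)) -
        (δ (ω * ψ) : ℂ) • (μ (ω * ψ) - μ (ω * φ * ψ))) =
      η ω - η (ω * φ) - η (ω * ψ) + η (ω * φ * ψ) := by
  have h1 := (M.congr ω (ω * φ) fun w hw => by rw [MonoidHom.mul_apply, hφ w hw, mul_one]).2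
  have h2 := (M.congr (ω * ψ) (ω * φ * ψ) fun w hw => by
    simp only [MonoidHom.mul_apply, hφ w hw, mul_one]).2
  rw [← h1, ← h2, ← indFun_four P.selfNorm hη ω φ ψ hφ hψ, indW, indW, ← Char.indFun_sub]
  rw [← P.dade_indW (fun w => (ω w : ℂ) * (1 - (φ w : ℂ)) * (1 - (ψ w : ℂ))) fun w hw => by
    rcases hw with hw | hw
    · simp [hψ w hw]
    · simp [hφ w hw]]
  congr 1
  rw [indW]
  congr 1
  funext w
  simp only [resW, Pi.sub_apply, MonoidHom.mul_apply, Units.val_mul]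
  ring

/-- (4.7), (4.8): `(μ ω₁ - μ ω₂)^τ = δ (η ω₁ - η ω₂)` for equal degrees. -/
theorem tau_sub (hη : IsCyclicTIFamily W₁ W₂ η) {ω₁ ω₂ : ↥(W₁ ⊔ W₂) →* ℂˣ}
    (h1 : ¬ ∀ w : ↥(W₁ ⊔ W₂), (w : G) ∈ W₂ → ω₁ w = 1)
    (h2 : ¬ ∀ w : ↥(W₁ ⊔ W₂), (w : G) ∈ W₂ → ω₂ w = 1)
    (hag : ∀ w : ↥(W₁ ⊔ W₂), (w : G) ∈ W₁ → ω₁ w = ω₂ w) (hd : μ ω₁ 1 = μ ω₂ 1) :
    dadeIsometry (A ∪ classV L W₁ W₂) L R (μ ω₁ - μ ω₂) = (δ ω₁ : ℂ) • (η ω₁ - η ω₂) := by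
  by_cases h12 : ω₁ = ω₂
  · subst h12
    rw [sub_self, sub_self, smul_zero]
    funext g
    simp [dadeIsometry]
  have hα : IsGeneralizedCharacter L (μ ω₁ - μ ω₂) := Char.IsGeneralizedCharacter.sub
    (Char.irr_isGeneralized ⟨_, M.irr ω₁⟩) (Char.irr_isGeneralized ⟨_, M.irr ω₂⟩)
  have hcl := Char.IsGeneralizedCharacter.isClassFunction hα
  have hsupp : ∀ y : L, (y : G) ∉ A ∪ classV L W₁ W₂ → (μ ω₁ - μ ω₂) y = 0 := fun y hy =>
    M.supp_sub P h1 h2 hag hd hy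
  refine eq_eta_sub P.selfNorm P.oddW hη (isGeneralizedCharacter_dadeIsometry P.dade hα hsupp)
    ?_ (M.sign ω₁) h12 hag fun w hw1 hw2 => ?_
  · rw [classInner_dade_dade P.dade hcl hsupp hα hsupp, Char.classInner_sub_left,
      Char.classInner_sub_right, Char.classInner_sub_right, Char.classInner_irr_self (M.irr ω₁),
      Char.classInner_irr_self (M.irr ω₂),
      Char.classInner_irr_of_ne (M.irr ω₁) (M.irr ω₂) fun h => h12 (M.inj h),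
      Char.classInner_irr_of_ne (M.irr ω₂) (M.irr ω₁) fun h => h12 (M.inj h).symm]
    norm_num
  · rw [dadeIsometry_apply P.dade hcl (a := ⟨w, P.W_le w.2⟩)
      (Or.inr ⟨1, L.one_mem, w, w.2, hw1, hw2, by simp⟩) (x := 1) (u := 1) (Subgroup.one_mem _)
      (by simp), Pi.sub_apply, M.apply ω₁ ⟨w, P.W_le w.2⟩ w.2 hw2,
      M.apply ω₂ ⟨w, P.W_le w.2⟩ w.2 hw2, M.sign_eq_of_degree P hd, mul_sub]

/-- The same summed over the characters trivial on `W₂`. -/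
theorem tau_sum_sub [Fintype (Ann W₁ W₂ W₂)] (hη : IsCyclicTIFamily W₁ W₂ η)
    {ω₁ ω₂ : ↥(W₁ ⊔ W₂) →* ℂˣ}
    (h1 : ¬ ∀ w : ↥(W₁ ⊔ W₂), (w : G) ∈ W₂ → ω₁ w = 1)
    (h2 : ¬ ∀ w : ↥(W₁ ⊔ W₂), (w : G) ∈ W₂ → ω₂ w = 1)
    (hag : ∀ w : ↥(W₁ ⊔ W₂), (w : G) ∈ W₁ → ω₁ w = ω₂ w) (hd : μ ω₁ 1 = μ ω₂ 1) :
    dadeIsometry (A ∪ classV L W₁ W₂) L R
        (∑ φ : Ann W₁ W₂ W₂, μ (ω₁ * φ.1) - ∑ φ : Ann W₁ W₂ W₂, μ (ω₂ * φ.1)) =
      (δ ω₁ : ℂ) • (∑ φ : Ann W₁ W₂ W₂, η (ω₁ * φ.1) - ∑ φ : Ann W₁ W₂ W₂, η (ω₂ * φ.1)) := by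
  classical
  rw [← Finset.sum_sub_distrib, ← Finset.sum_sub_distrib, Finset.smul_sum]
  have hsum : ∀ (s : Finset (Ann W₁ W₂ W₂)) (f : Ann W₁ W₂ W₂ → L → ℂ),
      dadeIsometry (A ∪ classV L W₁ W₂) L R (∑ φ ∈ s, f φ) =
        ∑ φ ∈ s, dadeIsometry (A ∪ classV L W₁ W₂) L R (f φ) := by
    intro s f
    induction s using Finset.induction_on with
    | empty => funext g; simp [dadeIsometry]
    | insert a t ha ih => rw [Finset.sum_insert ha, Finset.sum_insert ha, dadeIsometry_add, ih]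
  rw [hsum]
  refine Finset.sum_congr rfl fun φ _ => ?_
  have hne : ∀ ω : ↥(W₁ ⊔ W₂) →* ℂˣ, (¬ ∀ w : ↥(W₁ ⊔ W₂), (w : G) ∈ W₂ → ω w = 1) →
      ¬ ∀ w : ↥(W₁ ⊔ W₂), (w : G) ∈ W₂ → (ω * φ.1) w = 1 := fun ω hω h => hω fun w hw => by
    have := h w hw
    rwa [MonoidHom.mul_apply, φ.2 w hw, mul_one] at this
  have hone : ((1 : L) : G) ∈ K := K.one_mem
  rw [M.tau_sub P hη (hne _ h1) (hne _ h2) (fun w hw => by
    rw [MonoidHom.mul_apply, MonoidHom.mul_apply, hag w hw]) (by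
    rw [M.apply_twist P ω₁ φ.1 φ.2 hone, M.apply_twist P ω₂ φ.1 φ.2 hone, hd])]
  obtain ⟨lam, -, hlam⟩ := P.exists_extension φ.1 φ.2
  rw [(M.mul_twist P ω₁ φ.1 hlam).2]

omit [Fintype G] in
/-- (4.4): `Ind_K^L Res μ ω` is the sum of the `μ (ω φ)`. -/
theorem indFun_res [Finite G] [Fintype (Ann W₁ W₂ W₂)] (ω : ↥(W₁ ⊔ W₂) →* ℂˣ) :
    indFun (K.subgroupOf L) (fun y => μ ω y) = ∑ φ : Ann W₁ W₂ W₂, μ (ω * φ.1) := by
  classical
  haveI := P.K_subgroupOf_normal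
  haveI : Fintype ↥(K.subgroupOf L) := Fintype.ofFinite _
  have hcl : IsClassFunction L (μ ω) :=
    Char.IsCharacter.isClassFunction (Char.IsIrrCharacter.isCharacter (M.irr ω))
  have hcard : (Fintype.card (Ann W₁ W₂ W₂) : ℂ) = ((K.subgroupOf L).index : ℂ) := by
    rw [← Nat.card_eq_fintype_card, (ann_facts P.selfNorm).2.1]
    have hc : Subgroup.IsComplement' (K.subgroupOf L) (W₁.subgroupOf L) := by
      refine Subgroup.isComplement'_of_disjoint_and_mul_eq_univ (disjoint_iff.2 ?_) ?_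
      · refine (Subgroup.eq_bot_iff_forall _).2 fun x hx => Subtype.ext ?_
        have h : (x : G) ∈ K ⊓ W₁ := hx
        rwa [P.compl.2.2.1, Subgroup.mem_bot] at h
      · refine Set.eq_univ_of_forall fun x => ?_
        obtain ⟨k, hk, w, hw, hkw⟩ := P.compl.2.2.2 x x.2
        exact ⟨⟨k, P.K_le hk⟩, hk, ⟨w, P.compl.2.1 hw⟩, hw, Subtype.ext hkw.symm⟩
    rw [hc.symm.index_eq_card, Nat.card_congr (Subgroup.subgroupOfEquivOfLe P.compl.2.1).toEquiv]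
  funext y
  rw [show (fun y : ↥(K.subgroupOf L) => μ ω y) =
    fun y : ↥(K.subgroupOf L) => (1 : ℂ) * μ ω y from funext fun _ => (one_mul _).symm,
    Char.indFun_mul_restrict _ _ hcl, Pi.mul_apply, Finset.sum_apply]
  choose lam hl1 hl2 using fun φ : Ann W₁ W₂ W₂ => P.exists_extension φ.1 φ.2
  simp only [fun φ : Ann W₁ W₂ W₂ => (M.mul_twist P ω φ.1 (hl2 φ)).1, Pi.mul_apply,
    ← Finset.sum_mul]
  congr 1
  by_cases hy : y ∈ K.subgroupOf L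
  · rw [Finset.sum_congr rfl fun φ _ => hl1 φ y hy, Finset.sum_const, Finset.card_univ,
      nsmul_eq_mul, mul_one, hcard]
    simp only [indFun]
    rw [Finset.sum_congr rfl fun x _ => Char.extendByZero_of_mem _ _
      (show x⁻¹ * y * x ∈ K.subgroupOf L by
        simpa using Subgroup.Normal.conj_mem inferInstance y hy x⁻¹), Finset.sum_const,
      Finset.card_univ, nsmul_eq_mul, mul_one, ← Nat.card_eq_fintype_card,
      ← Subgroup.index_mul_card (K.subgroupOf L), Nat.cast_mul, mul_comm ((K.subgroupOf L).index : ℂ),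
      inv_mul_cancel_left₀ (Nat.cast_ne_zero.2 Nat.card_pos.ne')]
  · rw [Char.indFun_of_notMem_normal _ _ hy]
    obtain ⟨k, hk, w, hw, hkw⟩ := P.compl.2.2.2 y y.2
    have hw1 : w ≠ 1 := fun h => hy (show (y : G) ∈ K by rw [hkw, h, mul_one]; exact hk)
    have hwW : w ∈ W₁ ⊔ W₂ := Subgroup.mem_sup_left hw
    have hval : ∀ φ : Ann W₁ W₂ W₂, lam φ y = (φ.1 ⟨w, hwW⟩ : ℂ) := fun φ => by
      rw [show y = (⟨k, P.K_le hk⟩ : L) * ⟨w, P.compl.2.1 hw⟩ from Subtype.ext hkw, map_mul,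
        hl1 φ _ hk, one_mul, hl2 φ ⟨w, P.compl.2.1 hw⟩ hwW]
    rw [Finset.sum_congr rfl fun φ _ => hval φ]
    letI := Fintype.ofFinite G
    letI : CommGroup ↥(W₁ ⊔ W₂) :=
      { (inferInstance : Group ↥(W₁ ⊔ W₂)) with mul_comm := isCyclicTI_comm P.selfNorm }
    have hnot : (⟨w, hwW⟩ : ↥(W₁ ⊔ W₂)) ∉ W₂.subgroupOf (W₁ ⊔ W₂) :=
      P.notMem_W₂_of_mem_W₁ hw hw1
    rw [← sum_dualAnn_of_notMem hnot]
    refine (Finset.sum_subtype (dualAnn (W₂.subgroupOf (W₁ ⊔ W₂))) (p := fun φ =>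
      ∀ v : ↥(W₁ ⊔ W₂), (v : G) ∈ W₂ → φ v = 1) (fun φ => mem_dualAnn)
      (fun φ => ((φ ⟨w, hwW⟩ : ℂˣ) : ℂ)))

omit [Fintype G] in
/-- (4.4): the restriction of `μ ω` to `K` is irreducible. -/
theorem irr_res [Finite G] (ω : ↥(W₁ ⊔ W₂) →* ℂˣ) :
    IsIrrCharacter ↥(K.subgroupOf L) (fun y => μ ω y) := by
  classical
  haveI := (ann_facts P.selfNorm).1
  haveI : Fintype (Ann W₁ W₂ W₂) := Fintype.ofFinite _
  haveI : Fintype ↥(K.subgroupOf L) := Fintype.ofFinite _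
  have hch := Char.IsIrrCharacter.isCharacter (M.irr ω)
  refine Char.isIrrCharacter_iff.2 ⟨Char.IsCharacter.restrict hch _, ?_⟩
  rw [← Char.classInner_indFun _ _ (Char.IsCharacter.isClassFunction hch), M.indFun_res P,
    Char.classInner_sum_left, Finset.sum_eq_single ⟨1, fun _ _ => rfl⟩,
    show ω * 1 = ω from MonoidHom.ext fun w => mul_one (ω w)]
  · exact Char.classInner_irr_self (M.irr ω)
  · intro φ _ hφ
    refine Char.classInner_irr_of_ne (M.irr _) (M.irr ω) fun h => hφ (Subtype.ext ?_)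
    refine MonoidHom.ext fun w => ?_
    have := DFunLike.congr_fun (M.inj h) w
    simpa using this
  · exact fun h => absurd (Finset.mem_univ _) h

omit [Fintype G] in
/-- (4.4), (4.5): an irreducible character of `K` either induces irreducibly or is the restriction
of some `μ ψ` with `ψ` trivial on `W₁`. -/
theorem fixed_eq_res [Finite G] {θ : ↥(K.subgroupOf L) → ℂ} (hθ : IsIrrCharacter _ θ) :
    IsIrrCharacter L (indFun (K.subgroupOf L) θ) ∨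
      ∃ ψ : Ann W₁ W₂ W₁, θ = fun y : ↥(K.subgroupOf L) => μ ψ.1 y := by
  classical
  haveI := (ann_facts P.selfNorm).1
  haveI := P.K_subgroupOf_normal
  haveI : Fintype (Ann W₁ W₂ W₂) := Fintype.ofFinite _
  haveI : Fintype ↥(K.subgroupOf L) := Fintype.ofFinite _
  have hW₁L : W₁ ≤ L := P.compl.2.1
  have hW₂L : W₂ ≤ L := (P.W₂_le.trans P.H_le).trans P.K_le
  have h1 : W₁.subgroupOf L ≠ ⊥ := by
    rw [Ne, Subgroup.subgroupOf_eq_bot, disjoint_iff, inf_eq_left.2 hW₁L]; exact P.selfNorm.1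
  have h2 : W₂.subgroupOf L ≠ ⊥ := by
    rw [Ne, Subgroup.subgroupOf_eq_bot, disjoint_iff, inf_eq_left.2 hW₂L]; exact P.selfNorm.2.1
  have c1 : IsCyclic ↥(W₁.subgroupOf L) := by
    haveI := P.W₁_cyclic
    exact isCyclic_of_surjective _ (Subgroup.subgroupOfEquivOfLe hW₁L).symm.surjective
  have c2 : IsCyclic ↥(W₂.subgroupOf L) := by
    haveI := P.selfNorm.2.2.2.2.1
    haveI : IsCyclic W₂ := Subgroup.isCyclic_of_le (le_sup_right : W₂ ≤ W₁ ⊔ W₂)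
    exact isCyclic_of_surjective _ (Subgroup.subgroupOfEquivOfLe hW₂L).symm.surjective
  have hd : K.subgroupOf L ⊓ W₁.subgroupOf L = ⊥ := by
    refine (Subgroup.eq_bot_iff_forall _).2 fun x hx => Subtype.ext ?_
    have h : (x : G) ∈ K ⊓ W₁ := hx
    rwa [P.compl.2.2.1, Subgroup.mem_bot] at h
  have hs : K.subgroupOf L ⊔ W₁.subgroupOf L = ⊤ := by
    refine top_unique fun x _ => ?_
    obtain ⟨k, hk, w, hw, hkw⟩ := P.compl.2.2.2 x x.2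
    rw [show x = (⟨k, P.K_le hk⟩ : L) * ⟨w, hW₁L hw⟩ from Subtype.ext hkw]
    exact Subgroup.mul_mem _ (Subgroup.mem_sup_left hk) (Subgroup.mem_sup_right hw)
  have hhall : Nat.Coprime (Nat.card ↥(W₁.subgroupOf L)) (W₁.subgroupOf L).index := by
    have hc : Subgroup.IsComplement' (K.subgroupOf L) (W₁.subgroupOf L) := by
      refine Subgroup.isComplement'_of_disjoint_and_mul_eq_univ (disjoint_iff.2 hd) ?_
      rw [← Subgroup.normal_mul, hs, Subgroup.coe_top]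
    rw [hc.index_eq_card, Nat.card_congr (Subgroup.subgroupOfEquivOfLe hW₁L).toEquiv,
      Nat.card_congr (Subgroup.subgroupOfEquivOfLe P.K_le).toEquiv]
    exact P.hall
  have hC : ∀ x ∈ W₁.subgroupOf L, x ≠ 1 →
      K.subgroupOf L ⊓ Subgroup.centralizer ({x} : Set L) = W₂.subgroupOf L := by
    intro x hx hx1
    ext y
    have h := SetLike.ext_iff.1 (P.cent (x : G) hx fun h => hx1 (Subtype.ext h)) (y : G)
    simp only [Subgroup.mem_inf, Subgroup.mem_centralizer_singleton_iff, Subgroup.mem_subgroupOf]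
      at h ⊢
    rw [← h, Subtype.ext_iff, Subgroup.coe_mul, Subgroup.coe_mul]
  have hodd : Odd (Nat.card ↥(W₁.subgroupOf L ⊔ W₂.subgroupOf L)) := by
    rw [← Subgroup.subgroupOf_sup hW₁L hW₂L,
      Nat.card_congr (Subgroup.subgroupOfEquivOfLe P.W_le).toEquiv]
    exact P.oddW
  obtain ⟨hirr, hnum, -⟩ := S1513.result (K.subgroupOf L) (W₁.subgroupOf L) (W₂.subgroupOf L) hd hs
    h1 c1 hhall h2 c2 (fun x hx => P.H_le (P.W₂_le hx)) hC hodd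
  by_cases hfix : ∃ x ∈ W₁.subgroupOf L, (fun k : ↥(K.subgroupOf L) =>
      θ ⟨x * k * x⁻¹, Subgroup.Normal.conj_mem inferInstance (k : L) k.2 x⟩) ≠ θ
  · exact Or.inl (hirr θ hθ hfix)
  push Not at hfix
  refine Or.inr ?_
  let f : Ann W₁ W₂ W₁ → {θ : IrrCharacter ↥(K.subgroupOf L) // ∀ x ∈ W₁.subgroupOf L,
      (fun k : ↥(K.subgroupOf L) => θ.1 ⟨x * k * x⁻¹,
        Subgroup.Normal.conj_mem inferInstance (k : L) k.2 x⟩) = θ.1} := fun ψ =>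
    ⟨⟨_, M.irr_res P ψ.1⟩, fun x _ => funext fun k =>
      Char.IsCharacter.isClassFunction (Char.IsIrrCharacter.isCharacter (M.irr ψ.1)) (k : L) x⟩
  have hfinj : Function.Injective f := by
    intro a b hab
    have hres : (fun y : ↥(K.subgroupOf L) => μ a.1 y) = fun y : ↥(K.subgroupOf L) => μ b.1 y :=
      congrArg (fun z => z.1.1) hab
    have e := congrArg (indFun (K.subgroupOf L)) hres
    rw [M.indFun_res P, M.indFun_res P] at e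
    have e' := congrArg (fun g => classInner g (μ a.1)) e
    simp only [Char.classInner_sum_left] at e'
    rw [Finset.sum_eq_single (⟨1, fun _ _ => rfl⟩ : Ann W₁ W₂ W₂) (fun φ _ hφ => ?_)
      (fun h => absurd (Finset.mem_univ _) h),
      show a.1 * 1 = a.1 from MonoidHom.ext fun w => mul_one (a.1 w),
      Char.classInner_irr_self (M.irr a.1)] at e'
    · obtain ⟨φ, -, hφ⟩ := Finset.exists_ne_zero_of_sum_ne_zero (ne_of_eq_of_ne e'.symm one_ne_zero)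
      have hEq : b.1 * φ.1 = a.1 := by
        by_contra hne
        exact hφ (Char.classInner_irr_of_ne (M.irr _) (M.irr _) fun h => hne (M.inj h))
      exact (mul_inj P.selfNorm (a := φ) (a' := ⟨1, fun _ _ => rfl⟩) (b := b) (b' := a) (by
        rw [← hEq]
        exact MonoidHom.ext fun w => by simp [mul_comm])).2.symm
    · refine Char.classInner_irr_of_ne (M.irr _) (M.irr a.1) fun h => hφ (Subtype.ext ?_)
      refine MonoidHom.ext fun w => ?_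
      have := DFunLike.congr_fun (M.inj h) w
      simpa using this
  haveI : Fintype (IrrCharacter ↥(K.subgroupOf L)) := Fintype.ofFinite _
  have hsurj := (Nat.bijective_iff_injective_and_card f).2 ⟨hfinj, by
    rw [hnum, (ann_facts P.selfNorm).2.2.1,
      Nat.card_congr (Subgroup.subgroupOfEquivOfLe hW₂L).toEquiv]⟩
  obtain ⟨ψ, hψ⟩ := hsurj.2 ⟨⟨θ, hθ⟩, hfix⟩
  exact ⟨ψ, (congrArg (fun z => z.1.1) hψ).symm⟩

end MuFamily

end Cfsg.Agent.OddOrder.PF
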