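import Cfsg.Agent.Lib.OddOrder.PF.TypePDade
import Cfsg.Agent.Lib.OddOrder.PF.PrimeDadeImage
import Cfsg.Agent.Lib.OddOrder.Dichotomy
import Cfsg.Agent.Lib.OddOrder.DadeSeven
import Cfsg.Agent.Lib.OddOrder.CoherenceInduced
import Cfsg.Agent.Lib.OddOrder.FrobeniusCoherence

/-!
Peterfalvi (10.1)-(10.3) for a maximal subgroup of Type III, IV or V: `A(M) = M' ∖ {1}`, the set
`calS M` is all of the functions induced from `M'`, the partner of Type II, the degrees of the
characters `μ`, and a member `ζ` of `calS M` of degree `w₁`.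
-/

set_option autoImplicit false
set_option linter.style.haveILetI false

namespace Cfsg.Agent.OddOrder.PF

open Cfsg Cfsg.Agent.OddOrder Cfsg.Agent
open scoped ComplexConjugate

universe u
variable {G : Type u} [Group G] {M : Subgroup G}

/-- The maximal subgroups to which the results of this section apply. -/
def IsType345 (M : Subgroup G) : Prop := IsOfTypeIII M ∨ IsOfTypeIV M ∨ IsOfTypeV M

variable [Finite G] (B : BGFacts G)
include B

theorem not_typeI_of_345 (hM : IsCoatom M) (h : IsType345 M) : ¬ IsOfTypeI' M := by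
  rcases h with h | h | h
  exacts [not_typeI_of_typeIII_IV B hM (Or.inl h), not_typeI_of_typeIII_IV B hM (Or.inr h),
    not_typeI_of_typeV B hM h]

omit [Finite G] B in
theorem typeCore_eq_commutator' (h : IsType345 M) : typeCore M = ⁅M, M⁆ := by
  classical
  by_cases h' : IsOfTypeIII M ∨ IsOfTypeIV M
  · rw [typeCore, if_pos h']
  · have hV : IsOfTypeV M := (or_assoc.2 h).resolve_left h'
    rw [typeCore_eq_fittingHallOf h']
    obtain ⟨W₁, U, W₂, hP, hU, -⟩ := hV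
    refine le_antisymm hP.U_compl.1 fun x hx => ?_
    obtain ⟨a, ha, b, hb, rfl⟩ := hP.U_compl.2.2.2 x hx
    rw [hU, Subgroup.mem_bot] at hb
    rwa [hb, mul_one]

theorem typeCore_eq_commutator (hM : IsCoatom M) (h : IsType345 M) : typeCore M = ⁅M, M⁆ :=
  have _ := B.s1355 M hM
  typeCore_eq_commutator' h

theorem sigmaCore_eq_commutator (hM : IsCoatom M) (h : IsType345 M) : sigmaCore M = ⁅M, M⁆ := by
  rw [← typeCore_eq_sigmaCore B hM, typeCore_eq_commutator B hM h]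

theorem typeA_eq_commutator (hM : IsCoatom M) (h : IsType345 M) :
    typeA' M = ((⁅M, M⁆ : Subgroup G) : Set G) \ {1} := by
  classical
  rw [typeA', if_neg (not_typeI_of_345 B hM h)]
  refine Set.Subset.antisymm (fun a ha => ⟨ha.1, ha.2.1⟩) fun a ha => ?_
  exact ⟨ha.1, ha.2, a, (typeCore_eq_commutator B hM h).symm ▸ ha.1, ha.2, rfl⟩

theorem kappa_nonempty_of_345 (hM : IsCoatom M) (h : IsType345 M) :
    (kappa M).Nonempty ∧ ∃ K, IsPiHallOf (kappa M) K M ∧ K ≠ ⊥ ∧ IsSigmaDecomposition M K ⊥ := by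
  obtain ⟨K, U, hKU⟩ := exists_decomp B hM
  obtain ⟨hK, hU⟩ : K ≠ ⊥ ∧ U = ⊥ := by
    rcases (or_assoc.2 h : (IsOfTypeIII M ∨ IsOfTypeIV M) ∨ IsOfTypeV M) with h' | h'
    · exact ⟨((B.s1382 M hM K U hKU).1 h').1, ((B.s1382 M hM K U hKU).1 h').2.1⟩
    · exact ⟨((B.s1383 M hM K U hKU).1 h').1, ((B.s1383 M hM K U hKU).1 h').2.1⟩
  subst hU
  obtain ⟨p, hp, hd⟩ := Nat.exists_prime_and_dvd (Nat.ne_of_gt (K.one_lt_card_iff_ne_bot.2 hK))
  exact ⟨⟨p, hKU.hall.2.1 p hp hd⟩, K, hKU.hall, hK, hKU⟩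

/-- A subgroup of Type III, IV or V and its partner of Type II, with the data of both. -/
structure Pair345 (M T W₁ W₂ U V : Subgroup G) : Prop where
  hM : IsCoatom M
  hT : IsCoatom T
  h345 : IsType345 M
  hTII : IsOfTypeII T
  hMP : IsTypePWith M W₁ U W₂
  hTP : IsTypePWith T W₂ V W₁

theorem exists_pair345 (hM : IsCoatom M) (h : IsType345 M) :
    ∃ T W₁ W₂ U V : Subgroup G, Pair345 M T W₁ W₂ U V := by
  obtain ⟨-, K, hK, hK1, hKU⟩ := kappa_nonempty_of_345 B hM h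
  obtain ⟨T, ⟨hT, hKst, hKstH⟩, -⟩ := B.s1366 M hM K ⊥ hKU hK1
  obtain ⟨hC, hC1, -, -⟩ := B.s1364 M hM K ⊥ hKU hK1
  obtain ⟨V₀, hKV⟩ := (B.s1352 T hT _ hC hKstH).1
  have hV₀ : V₀ ≠ ⊥ :=
    (B.s1369 M hM K ⊥ hKU hK1 T hT hKst hKstH).1.resolve_left (fun h => h rfl) V₀ hKV
  have hTII : IsOfTypeII T := (B.s1381 T hT _ V₀ hKV).2 ⟨hC1, hV₀⟩
  have hW := Dichotomy.isSelfNormalizingCyclic_pair B hM hKU hK1 hT hKst hKstH
  obtain ⟨U, hMP⟩ := Final.exists_typePWith
    (Final.isOfTypeP_of_II_to_V (Or.inr h)) hW (Dichotomy.isComplIn_commutator B hM hKU hK1)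
    (inf_le_left.trans (Subgroup.map_subtype_le _))
  obtain ⟨V, hTP⟩ := Final.exists_typePWith (Final.isOfTypeP_of_II_to_V (Or.inl hTII))
    (Final.isSelfNormalizingCyclic_symm hW) (Dichotomy.isComplIn_commutator B hT hKV hC1)
    ((hKst.le.trans inf_le_left).trans (Subgroup.map_subtype_le _))
  exact ⟨T, K, _, U, V, hM, hT, h, hTII, hMP, hTP⟩

/-- The prime Dade hypothesis with `H = M'`. -/
theorem primeDade_345 (hG : IsMinSimpleOddOrder G) (hM : IsCoatom M) (h : IsType345 M)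
    {W₁ U W₂ : Subgroup G} (hP : IsTypePWith M W₁ U W₂) :
    PrimeDade (typeA' M) M ⁅M, M⁆ ⁅M, M⁆ W₁ W₂ (supportR M) :=
  typeCore_eq_commutator B hM h ▸
    primeDade_typeP hG B hM hP (not_typeI_of_345 B hM h) (Or.inl rfl)

section

variable [Fintype M]

omit [Finite G] B in
theorem inducedNonTriv_self {L : Type u} [Group L] [Fintype L] (K : Subgroup L) :
    inducedNonTriv K K = inducedIrrAbove K ⊥ := by
  ext φ
  constructor
  · rintro ⟨θ, hθ, ⟨z, -, hz⟩, rfl⟩
    exact ⟨θ, hθ, fun e => hz (by rw [e]), fun a ha => by rw [show a = 1 from Subtype.ext (Subgroup.mem_bot.1 ha)], rfl⟩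
  · rintro ⟨θ, hθ, hne, -, rfl⟩
    refine ⟨θ, hθ, ?_, rfl⟩
    by_contra hcon
    push Not at hcon
    haveI : Fintype K := Fintype.ofFinite _
    have hconst : θ = fun _ => θ 1 := funext fun z => hcon z z.2
    have h0 : classInner θ (fun _ => (1 : ℂ)) = 0 :=
      Char.classInner_irr_of_ne hθ Char.isIrrCharacter_one hne
    rw [hconst] at h0
    simp [classInner] at h0
    exact Char.IsIrrCharacter.apply_one_ne_zero hθ h0

theorem calS_eq_inducedIrrAbove (hM : IsCoatom M) (h : IsType345 M) :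
    calS M = inducedIrrAbove (commutator ↥M) ⊥ := by
  rw [calS, typeCore_eq_commutator B hM h, ← commutator_eq_subgroupOf, inducedNonTriv_self]

omit [Fintype M] in
theorem support_commutator (hM : IsCoatom M) (h : IsType345 M) (x : M) :
    (x : G) ∈ typeA' M ↔ x ∈ commutator ↥M ∧ x ≠ 1 := by
  rw [typeA_eq_commutator B hM h, commutator_eq_subgroupOf, Subgroup.mem_subgroupOf]
  simp

omit B [Fintype M] in
theorem index_commutator_eq {W₁ U W₂ : Subgroup G} (hP : IsTypePWith M W₁ U W₂) :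
    (commutator ↥M).index = Nat.card W₁ ∧
      Nat.card ↥(commutator ↥M) = Nat.card (⁅M, M⁆ : Subgroup G) := by
  have hc : Nat.card ↥(commutator ↥M) = Nat.card (⁅M, M⁆ : Subgroup G) := by
    rw [commutator_eq_subgroupOf,
      Nat.card_congr (Subgroup.subgroupOfEquivOfLe M.commutator_le_self).toEquiv]
  refine ⟨Nat.eq_of_mul_eq_mul_left (Nat.card_pos (α := (⁅M, M⁆ : Subgroup G))) ?_, hc⟩
  rw [card_eq_of_isComplIn hP.W₁_compl, ← hc, Subgroup.card_mul_index]

/-- The Dade map of `A₀(M)` and that of `A(M)` agree on functions supported on `A(M)`. -/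
theorem ftTau_eq_typeA (hM : IsCoatom M) {α : M → ℂ}
    (hα : IsClassFunction M α) (hαA : ∀ x : M, (x : G) ∉ typeA' M → α x = 0) :
    ftTau M α = dadeIsometry (typeA' M) M (supportR M) α := by
  classical
  have hD0 := dadeHypothesis_typeSet B hM (A := typeA0' M) (Or.inr (Or.inr rfl))
  have hD := dadeHypothesis_typeSet B hM (A := typeA' M) (Or.inr (Or.inl rfl))
  funext g
  rw [ftTau]
  by_cases hg : ∃ a : M, (a : G) ∈ typeA' M ∧ ∃ x : G, ∃ u ∈ supportR M (a : G),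
      x * g * x⁻¹ = (a : G) * u
  · obtain ⟨a, ha, x, u, hu, e⟩ := hg
    rw [dadeIsometry_apply hD0 hα (typeA_subset_typeA0 ha) hu e, dadeIsometry_apply hD hα ha hu e]
  · rw [show dadeIsometry (typeA' M) M (supportR M) α g = 0 from dif_neg hg, dadeIsometry]
    split_ifs with h'
    · refine hαA _ fun hA => hg ⟨_, hA, h'.choose_spec.2⟩
    · rfl

variable {W₁ U W₂ : Subgroup G} {μ : (↥(W₁ ⊔ W₂) →* ℂˣ) → (M → ℂ)}
  {δ : (↥(W₁ ⊔ W₂) →* ℂˣ) → ℤ}

/-- A character of `M` indexed by an `ω` non-trivial on `W₂` is not trivial on any normal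
subgroup containing `W₂`. -/
theorem mu_not_trivOn (hG : IsMinSimpleOddOrder G) (hM : IsCoatom M) (h : IsType345 M)
    (hP : IsTypePWith M W₁ U W₂) (hμ : MuFamily M W₁ W₂ μ δ) {ω : ↥(W₁ ⊔ W₂) →* ℂˣ}
    (hω : ¬ ∀ w : ↥(W₁ ⊔ W₂), (w : G) ∈ W₂ → ω w = 1) (N : Subgroup M)
    (hW₂N : ∀ y : M, (y : G) ∈ W₂ → y ∈ N) : ¬ Char.TrivOn N (μ ω) := by
  intro ht
  have P := primeDade_345 B hG hM h hP
  refine hω fun w hw => ?_
  obtain ⟨x, hx, hx1, -⟩ := P.exists_generic
  have hxn := P.notMem_W₂_of_mem_W₁ hx hx1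
  have hxW : x ∈ W₁ ⊔ W₂ := Subgroup.mem_sup_left hx
  have e := Char.apply_mul_of_trivOn (χ := ⟨μ ω, hμ.irr ω⟩) ht ⟨x, P.W_le hxW⟩
    (hW₂N ⟨(w : G), P.W_le w.2⟩ hw)
  have hxw : x * (w : G) ∉ W₂ := fun h' => hxn ((W₂.mul_mem_cancel_right hw).1 h')
  change μ ω (⟨x, P.W_le hxW⟩ * ⟨(w : G), P.W_le w.2⟩) = μ ω ⟨x, P.W_le hxW⟩ at e
  rw [hμ.apply ω _ ((W₁ ⊔ W₂).mul_mem hxW w.2) hxw, hμ.apply ω _ hxW hxn] at e
  have hne : ((δ ω : ℂ)) ≠ 0 := by rcases hμ.sign ω with h' | h' <;> simp [h']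
  have e2 : ω (⟨x, hxW⟩ * w) = ω ⟨x, hxW⟩ := Units.ext (mul_left_cancel₀ hne e)
  rwa [map_mul, mul_eq_left] at e2

/-- The degree of `μ ω`, for `ω` non-trivial on `W₂`. -/
theorem mu_degree (hG : IsMinSimpleOddOrder G) (hM : IsCoatom M) (h : IsType345 M)
    (hP : IsTypePWith M W₁ U W₂) (hμ : MuFamily M W₁ W₂ μ δ) {ω : ↥(W₁ ⊔ W₂) →* ℂˣ}
    (hω : ¬ ∀ w : ↥(W₁ ⊔ W₂), (w : G) ∈ W₂ → ω w = 1) :
    ∃ d : ℕ, μ ω 1 = d ∧ Nat.card W₁ ≤ d + 1 := by
  obtain ⟨d, hd, hdv⟩ := CharInt.irr_degree_pos (hμ.irr ω)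
  refine ⟨d, hdv, ?_⟩
  have hd1 : d ≠ 1 := by
    rintro rfl
    obtain ⟨lam, hlam⟩ := Char.IsCharacter.exists_monoidHom (Char.IsIrrCharacter.isCharacter (hμ.irr ω))
      (by rw [hdv, Nat.cast_one])
    refine mu_not_trivOn B hG hM h hP hμ hω (commutator ↥M) (fun y hy => ?_) fun k hk => ?_
    · rw [commutator_eq_subgroupOf, Subgroup.mem_subgroupOf]
      exact (Subgroup.commutator_mono M.commutator_le_self M.commutator_le_self)
        (hP.W₂_le hy).2
    · rw [← hlam]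
      show lam k = lam 1
      rw [map_one]
      have := (Abelianization.commutator_subset_ker (lam.toHomUnits)) hk
      rw [MonoidHom.mem_ker] at this
      exact congrArg Units.val this
  obtain ⟨n, hn⟩ := hμ.degree ω
  have he : (d : ℤ) - δ ω = n * (Nat.card W₁ : ℤ) := by
    have : (((d : ℤ) - δ ω : ℤ) : ℂ) = ((n * (Nat.card W₁ : ℤ) : ℤ) : ℂ) := by
      push_cast; rw [← hn, hdv]
    exact_mod_cast this
  have hpos : 0 < (d : ℤ) - δ ω := by rcases hμ.sign ω with h' | h' <;> omega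
  have : (Nat.card W₁ : ℤ) ≤ (d : ℤ) - δ ω := Int.le_of_dvd hpos ⟨n, by rw [he]; ring⟩
  rcases hμ.sign ω with h' | h' <;> omega

/-- `μ 1` is the principal character. -/
theorem mu_one (hG : IsMinSimpleOddOrder G) (hM : IsCoatom M) (h : IsType345 M)
    (hP : IsTypePWith M W₁ U W₂) (hμ : MuFamily M W₁ W₂ μ δ) : μ 1 = fun _ => 1 := by
  have P := primeDade_345 B hG hM h hP
  obtain ⟨x, hx, hx1, -⟩ := P.exists_generic
  have hxW : x ∈ W₁ ⊔ W₂ := Subgroup.mem_sup_left hx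
  obtain ⟨ω, hω⟩ : ∃ ω, (fun _ : M => (1 : ℂ)) = μ ω := by
    by_contra hne
    push Not at hne
    exact one_ne_zero (hμ.other _ Char.isIrrCharacter_one hne ⟨x, P.compl.2.1 hx⟩ hxW
      (P.notMem_W₂_of_mem_W₁ hx hx1))
  obtain ⟨rfl, -⟩ := P.eq_of_agree_off (a := ω) (b := 1) (hμ.sign ω) (Or.inl rfl) fun w hw => by
    rw [← hμ.apply ω ⟨w, P.W_le w.2⟩ w.2 hw, ← hω]
    simp
  exact hω.symm

/-- A non-principal character of `M'` trivial on `M''` induces irreducibly. -/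
theorem irr_indFun_above (hG : IsMinSimpleOddOrder G) (hM : IsCoatom M) (h : IsType345 M)
    (hP : IsTypePWith M W₁ U W₂) (hμ : MuFamily M W₁ W₂ μ δ) {θ : ↥(commutator ↥M) → ℂ}
    (hθ : IsIrrCharacter _ θ) (hne : θ ≠ fun _ => 1)
    (htriv : ∀ a : ↥(commutator ↥M), (a : M) ∈ ⁅commutator ↥M, commutator ↥M⁆ → θ a = θ 1) :
    IsIrrCharacter M (indFun (commutator ↥M) θ) := by
  classical
  have P := primeDade_345 B hG hM h hP
  have hK := commutator_eq_subgroupOf M
  revert θ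
  rw [hK]
  intro θ hθ hne htriv
  refine (hμ.fixed_eq_res P hθ).resolve_right ?_
  rintro ⟨ψ, rfl⟩
  by_cases hψ : ∀ w : ↥(W₁ ⊔ W₂), (w : G) ∈ W₂ → ψ.1 w = 1
  · have h1 : ψ.1 = 1 := by
      refine (P.eq_of_agree_off (e := 1) (e' := 1) (Or.inl rfl) (Or.inl rfl) fun w _ => ?_).1
      have hn : W₁ ≤ Subgroup.normalizer (W₂ : Set G) := fun c hc =>
        Subgroup.centralizer_le_normalizer _ (Subgroup.mem_centralizer_iff.2 fun d hd =>
          (P.selfNorm.2.2.2.1 c hc d hd).symm)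
      obtain ⟨x, hx, y, hy, hxy⟩ := (Coprime.mem_sup_iff_of_le_normalizer hn).1 w.2
      rw [show w = (⟨x, Subgroup.mem_sup_left hx⟩ : ↥(W₁ ⊔ W₂)) * ⟨y, Subgroup.mem_sup_right hy⟩
        from Subtype.ext hxy.symm, map_mul, ψ.2 ⟨x, Subgroup.mem_sup_left hx⟩ hx,
        hψ ⟨y, Subgroup.mem_sup_right hy⟩ hy]
      simp
    exact hne (funext fun y => by rw [h1, mu_one B hG hM h hP hμ])
  · refine mu_not_trivOn B hG hM h hP hμ hψ
      ⁅(⁅M, M⁆ : Subgroup G).subgroupOf M, (⁅M, M⁆ : Subgroup G).subgroupOf M⁆ ?_ ?_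
    · intro y hy
      have h2 := (hP.W₂_le hy).2
      rw [show (⁅(⁅M, M⁆ : Subgroup G), (⁅M, M⁆ : Subgroup G)⁆ : Subgroup G) =
        (⁅(⁅M, M⁆ : Subgroup G).subgroupOf M, (⁅M, M⁆ : Subgroup G).subgroupOf M⁆).map M.subtype by
          rw [Subgroup.map_commutator, Subgroup.subgroupOf_map_subtype,
            inf_eq_left.2 M.commutator_le_self]] at h2
      obtain ⟨z, hz, e⟩ := h2
      rwa [show y = z from Subtype.ext e.symm]
    · intro k hk
      have hkK : k ∈ (⁅M, M⁆ : Subgroup G).subgroupOf M := Subgroup.commutator_le_self _ hk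
      exact htriv ⟨k, hkK⟩ hk

/-- (10.2), (10.3): some member of `calS M` is irreducible of degree `w₁` and differs from its
conjugate, and `2 w₁ + 1 ≤ [M' : M'']`, whence `(2 w₁ + 1) w₂ ≤ |M'|`. -/
theorem exists_zeta (hG : IsMinSimpleOddOrder G) (hM : IsCoatom M) (h : IsType345 M)
    (hP : IsTypePWith M W₁ U W₂) (hμ : MuFamily M W₁ W₂ μ δ) :
    (∃ ζ ∈ inducedIrrAbove (commutator ↥M) ⊥, IsIrrCharacter M ζ ∧
        ζ 1 = (commutator ↥M).index ∧ conjFun ζ ≠ ζ) ∧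
      (2 * Nat.card W₁ + 1) * Nat.card W₂ ≤ Nat.card (⁅M, M⁆ : Subgroup G) := by
  classical
  set K := commutator ↥M with hK
  haveI : K.Normal := inferInstance
  haveI : Fintype K := Fintype.ofFinite _
  set A : Subgroup M := ⁅K, K⁆ with hA
  haveI : A.Normal := Subgroup.commutator_normal K K
  have hsolvM : Group.IsSolvable M := hG.2.2.2 M hM.1
  have hsolv : Group.IsSolvable K := inferInstance
  have hKne : K ≠ ⊥ := fun h0 => by
    have h1 := typeCore_ne_bot B hM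
    rw [typeCore_eq_commutator B hM h] at h1
    refine h1 ?_
    rw [hK, commutator_eq_subgroupOf, Subgroup.subgroupOf_eq_bot, disjoint_iff,
      inf_eq_left.2 M.commutator_le_self] at h0
    exact h0
  have hAK : A < K := Group.IsSolvable.commutator_lt_of_ne_bot hKne
  have hidx := index_commutator_eq hP
  -- the induced characters
  have hirr : ∀ θ ∈ aboveChars K A, IsIrrCharacter M (indFun K θ.1) := fun θ hθ =>
    irr_indFun_above B hG hM h hP hμ θ.2 (fun e => ((mem_aboveChars K).1 hθ).1 (Subtype.ext e))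
      ((mem_aboveChars K).1 hθ).2
  obtain ⟨θ, hθ, hdeg⟩ := exists_linear_above K hsolv A hAK
  set ζ := indFun K θ.1 with hζ
  have hθ1 : θ.1 1 = 1 := by rw [← Char.charDegree_cast, hdeg, Nat.cast_one]
  have hmem : ζ ∈ inducedIrrAbove K ⊥ := inducedIrrAbove_subset_bot K A
    ((mem_inducedIrrAbove_iff K).2 ⟨θ, hθ, rfl⟩)
  have hζ1 : ζ 1 = (K.index : ℂ) := by rw [hζ, Char.indFun_apply_one, hθ1, mul_one]
  have hoddM : Odd (Nat.card M) := hG.1.of_dvd_nat (Subgroup.card_subgroup_dvd_card M)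
  have hne : conjFun ζ ≠ ζ := by
    refine conjFun_ne_of_odd hoddM (hirr θ hθ) ?_
    by_contra hcon
    push Not at hcon
    have h0 : classInner ζ (fun _ => (1 : ℂ)) = 0 := classInner_indIrr_one K hmem
    rw [show ζ = fun _ => ζ 1 from funext hcon] at h0
    simp [classInner, hζ1, Subgroup.index_ne_zero_of_finite] at h0
  refine ⟨⟨ζ, hmem, hirr θ hθ, hζ1, hne⟩, ?_⟩
  -- counting the characters trivial on `M''`
  have hclosed : ∀ φ ∈ aboveChars K A, ∀ g, Char.conjChar K φ g ∈ aboveChars K A :=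
    fun φ hφ g => conjChar_mem_aboveChars K hφ g
  let d : (M → ℂ) → ℕ := fun φ => ⌊(φ 1).re⌋₊
  have hd : ∀ φ ∈ aboveChars K A,
      indFun K φ.1 1 = (d (indFun K φ.1) : ℂ) ∧ d (indFun K φ.1) = K.index * charDegree φ.1 := by
    intro φ _
    have e : indFun K φ.1 1 = ((K.index * charDegree φ.1 : ℕ) : ℂ) := by
      rw [Char.indFun_apply_one, Nat.cast_mul, Char.charDegree_cast]
    have e2 : d (indFun K φ.1) = K.index * charDegree φ.1 := by
      simp only [d, e, Complex.natCast_re, Nat.floor_natCast]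
    exact ⟨by rw [e2, e], e2⟩
  have hsum := sum_sq_div_norm K (aboveChars K A) hclosed d (fun _ => 1) (fun φ hφ => (hd φ hφ).1)
    fun φ hφ => by rw [Nat.cast_one]; exact Char.classInner_irr_self (hirr φ hφ)
  have hcount : (∑ φ ∈ aboveChars K A, (charDegree φ.1 : ℝ) ^ 2) = (A.relIndex K : ℝ) - 1 := by
    have := sum_aboveChars K A
    simp only [← Char.charDegree_cast] at this
    exact Complex.ofReal_injective (by push_cast; exact this)
  rw [hcount] at hsum
  -- the two distinct members `ζ` and `conj ζ`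
  have hcmem : conjFun ζ ∈ (aboveChars K A).image (fun φ => indFun K φ.1) := by
    obtain ⟨φ, hφ, e⟩ := (mem_inducedIrrAbove_iff K).1
      (conj_mem_inducedIrrAbove K ((mem_inducedIrrAbove_iff K).2 ⟨θ, hθ, rfl⟩))
    exact Finset.mem_image.2 ⟨φ, hφ, e.symm⟩
  have h2 : 2 * (K.index : ℝ) ^ 2 ≤ (K.index : ℝ) * ((A.relIndex K : ℝ) - 1) := by
    rw [← hsum]
    refine le_trans (le_of_eq ?_) (Finset.sum_le_sum_of_subset_of_nonneg (s := {conjFun ζ, ζ})
      (Finset.insert_subset hcmem (Finset.singleton_subset_iff.2 (Finset.mem_image_of_mem _ hθ)))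
      fun φ _ _ => by positivity)
    have e1 : d ζ = K.index := by rw [(hd θ hθ).2, hdeg, mul_one]
    have e2 : d (conjFun ζ) = K.index := by
      simp only [d, conjFun, hζ1, Complex.conj_natCast, Complex.natCast_re, Nat.floor_natCast]
    rw [Finset.sum_pair hne, e1, e2]
    simp; ring
  have hpos : (0 : ℝ) < K.index := Nat.cast_pos.2 (Nat.pos_of_ne_zero Subgroup.index_ne_zero_of_finite)
  have h3 : 2 * K.index + 1 ≤ A.relIndex K := by
    have : (2 : ℝ) * K.index + 1 ≤ A.relIndex K := by nlinarith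
    exact_mod_cast this
  have hW₂A : Nat.card W₂ ≤ Nat.card A := by
    have e : A.map M.subtype = ⁅(⁅M, M⁆ : Subgroup G), (⁅M, M⁆ : Subgroup G)⁆ := by
      rw [hA, Subgroup.map_commutator, hK, Subgroup.map_subtype_commutator]
    have h4 := Subgroup.card_le_of_le ((hP.W₂_le.trans inf_le_right).trans e.ge)
    rwa [Subgroup.card_map_of_injective M.subtype_injective] at h4
  have hlag : A.relIndex K * Nat.card A = Nat.card K := by
    have := Subgroup.relIndex_mul_relIndex ⊥ A K bot_le hAK.le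
    rw [Subgroup.relIndex_bot_left, Subgroup.relIndex_bot_left] at this
    rw [← this, mul_comm]
  rw [← hidx.1, ← hidx.2, ← hlag]
  exact Nat.mul_le_mul h3 hW₂A

end

end Cfsg.Agent.OddOrder.PF
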