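import Mathlib

/-!
Additive integer tables with few entries, and parity of sums over an involution.
-/

set_option autoImplicit false

namespace Cfsg.Agent.OddOrder.PF

open Finset

/-- An additive table with sum of squares at most the number of its rows has constant rows or has
exactly one nonzero column, with the same sign `±1` everywhere. -/
theorem additive_rows_or_column {ι κ : Type*} [Fintype ι] [Fintype κ] [DecidableEq κ]
    (hκ : 3 ≤ Fintype.card κ) (C : ι → κ → ℤ)
    (hC : ∀ i i' l l', C i l + C i' l' = C i l' + C i' l)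
    (h : ∑ i, ∑ l, C i l ^ 2 ≤ (Fintype.card ι : ℤ)) :
    (∀ i l l', C i l = C i l') ∨
      ∃ l₀, ∃ ε : ℤ, (ε = 1 ∨ ε = -1) ∧ ∀ i l, C i l = if l = l₀ then ε else 0 := by
  classical
  by_contra hcon
  push Not at hcon
  obtain ⟨⟨i₀, a, b, hab⟩, hcol⟩ := hcon
  have hne : ∀ i, C i a ≠ C i b := by
    intro i h'
    have := hC i₀ i a b
    omega
  have hge : ∀ i ∈ (univ : Finset ι), (1 : ℤ) ≤ ∑ l, C i l ^ 2 := by
    intro i _
    obtain ⟨l, hl⟩ : ∃ l, C i l ≠ 0 := by
      by_contra h'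
      push Not at h'
      exact hne i (by rw [h', h'])
    refine le_trans ?_ (Finset.single_le_sum (f := fun l => C i l ^ 2) (fun _ _ => sq_nonneg _)
      (mem_univ l))
    have : 0 < C i l ^ 2 := by positivity
    omega
  have hone : ∀ i, ∑ l, C i l ^ 2 = 1 := by
    have h1 : ∑ _i : ι, (1 : ℤ) = ∑ i, ∑ l, C i l ^ 2 :=
      le_antisymm (Finset.sum_le_sum hge) (h.trans (by simp))
    exact fun i => ((Finset.sum_eq_sum_iff_of_le hge).1 h1 i (mem_univ i)).symm
  -- each row has a single non-zero entry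
  have hsingle : ∀ i, ∃ l, C i l ^ 2 = 1 ∧ ∀ l', l' ≠ l → C i l' = 0 := by
    intro i
    obtain ⟨l, hl⟩ : ∃ l, C i l ≠ 0 := by
      by_contra h'
      push Not at h'
      exact hne i (by rw [h', h'])
    have hl1 : (1 : ℤ) ≤ C i l ^ 2 := by
      have : 0 < C i l ^ 2 := by positivity
      omega
    have hsplit := Finset.add_sum_erase univ (fun l => C i l ^ 2) (mem_univ l)
    have hrest : (0 : ℤ) ≤ ∑ l' ∈ univ.erase l, C i l' ^ 2 := Finset.sum_nonneg fun _ _ => sq_nonneg _
    have hi := hone i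
    refine ⟨l, by omega, fun l' hl' => ?_⟩
    have h0 : ∑ l' ∈ univ.erase l, C i l' ^ 2 = 0 := by omega
    exact pow_eq_zero_iff (n := 2) two_ne_zero |>.1
      ((Finset.sum_eq_zero_iff_of_nonneg fun _ _ => sq_nonneg _).1 h0 l'
        (mem_erase.2 ⟨hl', mem_univ _⟩))
  obtain ⟨l₀, hl₀, hz₀⟩ := hsingle i₀
  have heq : ∀ i l, C i l = C i₀ l := by
    intro i l
    obtain ⟨l₁, -, hz₁⟩ := hsingle i
    obtain ⟨c, -, hc⟩ := Finset.exists_mem_notMem_of_card_lt_card
      (show ({l₀, l₁} : Finset κ).card < (univ : Finset κ).card from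
        lt_of_le_of_lt Finset.card_le_two (by rw [card_univ]; omega))
    simp only [mem_insert, mem_singleton, not_or] at hc
    have := hC i i₀ l c
    rw [hz₀ c hc.1, hz₁ c hc.2] at this
    omega
  have hε : C i₀ l₀ = 1 ∨ C i₀ l₀ = -1 := sq_eq_one_iff.1 hl₀
  obtain ⟨i, l, hil⟩ := hcol l₀ (C i₀ l₀) hε
  refine hil ?_
  rw [heq]
  by_cases hl : l = l₀
  · rw [if_pos hl, hl]
  · rw [if_neg hl, hz₀ l hl]

/-- A sum invariant under an involution with a single fixed point has the parity of the value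
there. -/
theorem odd_sum_of_involution {ι : Type*} [Fintype ι] (σ : ι → ι) (hσ : ∀ i, σ (σ i) = i) (i₀ : ι)
    (h₀ : σ i₀ = i₀) (hfix : ∀ i, σ i = i → i = i₀) (v : ι → ℤ) (hv : ∀ i, v (σ i) = v i)
    (hodd : Odd (v i₀)) : Odd (∑ i, v i) := by
  classical
  have h : ∑ i ∈ univ.erase i₀, ((v i : ℤ) : ZMod 2) = 0 := by
    refine Finset.sum_involution (fun i _ => σ i) (fun i _ => ?_) (fun i hi _ e => ?_)
      (fun i hi => mem_erase.2 ⟨fun e => (mem_erase.1 hi).1 ?_, mem_univ _⟩) fun i _ => hσ i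
    · rw [hv]; exact CharTwo.add_self_eq_zero _
    · exact (mem_erase.1 hi).1 (hfix i e)
    · rw [← hσ i, e, h₀]
  rw [← Int.cast_sum, ZMod.intCast_zmod_eq_zero_iff_dvd] at h
  rw [← Finset.add_sum_erase univ v (mem_univ i₀)]
  exact hodd.add_even (even_iff_two_dvd.2 h)

end Cfsg.Agent.OddOrder.PF
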