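import Cfsg.Agent.Lib.OddOrder.PF.CyclicTICoeff
import Cfsg.Agent.Lib.OddOrder.PF.S10_Grid

/-!
Virtual characters vanishing on `V` against the columns of a cyclic TI family `η`: the forms of the
images needed in Peterfalvi (10.6)-(10.8), from the table of coefficients alone.

* `etaCol η ψ` is the sum of the `η (φ ψ)`, `φ` trivial on `W₂`;
* `exists_etaCol`: of two orthogonal virtual characters of norm `|W₁|` vanishing on `V` and
  differing by `δ (etaCol ψ - etaCol ψ')`, the first is `± etaCol`;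
* `bridge`: the image of `μ₀ - ζ` is `etaCol 1 - a` or `etaCol 1 + b`;
* `etaCol_one_odd`: `etaCol 1` takes odd integral values at elements of order prime to `|W₁|`.
-/

set_option autoImplicit false
set_option linter.style.haveILetI false

namespace Cfsg.Agent.OddOrder.PF

open Cfsg Cfsg.Agent.OddOrder Cfsg.Agent
open scoped ComplexConjugate

variable {G : Type*} [Group G] [Fintype G] {W₁ W₂ : Subgroup G}
  {η : (↥(W₁ ⊔ W₂) →* ℂˣ) → (G → ℂ)}

omit [Fintype G] in
/-- The trivial character as a member of `Ann`. -/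
def annOne (W₁ W₂ U : Subgroup G) : Ann W₁ W₂ U := ⟨1, fun _ _ => rfl⟩

omit [Fintype G] in
theorem mul_annOne {U : Subgroup G} (ω : ↥(W₁ ⊔ W₂) →* ℂˣ) : ω * (annOne W₁ W₂ U).1 = ω :=
  MonoidHom.ext fun w => mul_one (ω w)

omit [Fintype G] in
/-- The inverse of a member of `Ann`. -/
def annInv {U : Subgroup G} (φ : Ann W₁ W₂ U) : Ann W₁ W₂ U :=
  ⟨φ.1⁻¹, fun w hw => by simp [φ.2 w hw]⟩

omit [Fintype G] in
/-- The inverse as an involution with the only fixed point `annOne`. -/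
theorem annInv_spec [Finite G] (hodd : Odd (Nat.card ↥(W₁ ⊔ W₂))) {U : Subgroup G} :
    (∀ φ : Ann W₁ W₂ U, annInv (annInv φ) = φ) ∧
      annInv (annOne W₁ W₂ U) = annOne W₁ W₂ U ∧
      ∀ φ : Ann W₁ W₂ U, annInv φ = φ → φ = annOne W₁ W₂ U := by
  refine ⟨fun φ => Subtype.ext (inv_inv φ.1), Subtype.ext (MonoidHom.ext fun _ => inv_one), fun φ h => ?_⟩
  have h' : φ.1⁻¹ = φ.1 := congrArg Subtype.val h
  refine Subtype.ext (MonoidHom.ext fun w => Units.ext ?_)
  have h2 : (φ.1 w : ℂ) ^ 2 = 1 := by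
    have h1 := congrArg (fun u : ↥(W₁ ⊔ W₂) →* ℂˣ => (u w : ℂ)) h'
    simp only [MonoidHom.inv_apply, Units.val_inv_eq_inv_val] at h1
    rw [pow_two]
    nth_rewrite 1 [← h1]
    exact inv_mul_cancel₀ (Units.ne_zero _)
  have hn : (φ.1 w : ℂ) ^ Nat.card ↥(W₁ ⊔ W₂) = 1 := by
    rw [← Units.val_pow_eq_pow_val, ← map_pow, pow_card_eq_one', map_one, Units.val_one]
  obtain ⟨k, hk⟩ := hodd
  rw [hk, pow_succ, pow_mul, h2, one_pow, one_mul] at hn
  simpa [annOne] using hn

/-- The sum of the `η (φ ψ)` over the characters `φ` trivial on `W₂`. -/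
noncomputable def etaCol [Fintype (Ann W₁ W₂ W₂)] (η : (↥(W₁ ⊔ W₂) →* ℂˣ) → (G → ℂ))
    (ψ : Ann W₁ W₂ W₁) : G → ℂ :=
  ∑ φ : Ann W₁ W₂ W₂, η (φ.1 * ψ.1)

/-- A virtual character vanishing on `V`. -/
structure VanishV (W₁ W₂ : Subgroup G) (θ : G → ℂ) : Prop where
  gen : IsGeneralizedCharacter G θ
  zero : ∀ w : ↥(W₁ ⊔ W₂), (w : G) ∉ W₁ → (w : G) ∉ W₂ → θ w = 0

theorem conj_eta (hW : IsSelfNormalizingCyclic W₁ W₂) (hodd : Odd (Nat.card ↥(W₁ ⊔ W₂)))
    (hη : IsCyclicTIFamily W₁ W₂ η) (ω : ↥(W₁ ⊔ W₂) →* ℂˣ) :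
    (fun g => conj (η ω g)) = η ω⁻¹ := by
  refine eq_of_eq_on hW hodd hη ω⁻¹ ?_ fun w h1 h2 => ?_
  · rcases hη.irr_or_neg ω with h | h
    · exact Or.inl (Char.IsIrrCharacter.conj_fun h)
    · refine Or.inr ?_
      convert Char.IsIrrCharacter.conj_fun h using 1
      funext g; simp
  · rw [hη.eq_on ω w h1 h2, MonoidHom.inv_apply, Units.val_inv_eq_inv_val]
    have h : (ω w : ℂ) ^ orderOf w = 1 := by
      rw [← Units.val_pow_eq_pow_val, ← map_pow, pow_orderOf_eq_one, map_one, Units.val_one]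
    exact (Complex.inv_eq_conj (Complex.norm_eq_one_of_pow_eq_one h (orderOf_pos w).ne')).symm

/-- Two orthogonal signed irreducible characters whose difference vanishes on `V` are orthogonal
to every `η ω`. -/
theorem signed_orth_eta (hW : IsSelfNormalizingCyclic W₁ W₂) (hodd : Odd (Nat.card ↥(W₁ ⊔ W₂)))
    (hη : IsCyclicTIFamily W₁ W₂ η) {a b : G → ℂ} (ha : IsSignedIrr a) (hb : IsSignedIrr b)
    (hab : classInner a b = 0) (hV : VanishV W₁ W₂ (a - b)) (ω : ↥(W₁ ⊔ W₂) →* ℂˣ) :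
    classInner a (η ω) = 0 ∧ classInner b (η ω) = 0 := by
  have hN : classInner (a - b) (a - b) = ((2 : ℤ) : ℂ) := by
    have hba : classInner b a = 0 := by rw [← Char.conj_classInner, hab, map_zero]
    rw [Char.classInner_sub_left, Char.classInner_sub_right, Char.classInner_sub_right,
      ha.classInner_self, hb.classInner_self, hab, hba]
    norm_num
  have h := eta_orth_of_norm_le_two hW hodd hη hV.gen hN le_rfl hV.zero ω
  rw [Char.classInner_sub_left, sub_eq_zero] at h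
  suffices classInner a (η ω) = 0 from ⟨this, h ▸ this⟩
  by_contra hne
  obtain ⟨e, he0, he⟩ : ∃ e : ℂ, e ≠ 0 ∧ a = e • η ω :=
    (signed_eq_or_orth ha (hη.irr_or_neg ω)).resolve_right hne
  obtain ⟨e', he0', he'⟩ : ∃ e : ℂ, e ≠ 0 ∧ b = e • η ω :=
    (signed_eq_or_orth hb (hη.irr_or_neg ω)).resolve_right (h ▸ hne)
  rw [he, he', Char.classInner_smul_left, Char.classInner_smul_right, hη.orthonormal, if_pos rfl,
    mul_one] at hab
  rcases mul_eq_zero.1 hab with h' | h'
  · exact he0 h'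
  · exact he0' (by simpa using h')

variable [Fintype (Ann W₁ W₂ W₁)] [Fintype (Ann W₁ W₂ W₂)]

omit [Fintype (Ann W₁ W₂ W₁)] in
theorem card_ann_two (hW : IsSelfNormalizingCyclic W₁ W₂) :
    Fintype.card (Ann W₁ W₂ W₂) = Nat.card W₁ := by
  rw [← Nat.card_eq_fintype_card, (ann_facts hW).2.1]

omit [Fintype (Ann W₁ W₂ W₁)] in
open Classical in
theorem etaCol_coeff (hW : IsSelfNormalizingCyclic W₁ W₂) (hη : IsCyclicTIFamily W₁ W₂ η)
    (ψ₀ : Ann W₁ W₂ W₁) (φ : Ann W₁ W₂ W₂) (ψ : Ann W₁ W₂ W₁) :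
    classInner (etaCol η ψ₀) (η (φ.1 * ψ.1)) = if ψ = ψ₀ then 1 else 0 := by
  rw [etaCol, Char.classInner_sum_left]
  by_cases h : ψ = ψ₀
  · rw [if_pos h, Finset.sum_eq_single φ (fun φ' _ hne => ?_) (fun h' => absurd (Finset.mem_univ φ) h'),
      hη.orthonormal, if_pos (by rw [h])]
    rw [hη.orthonormal, if_neg fun e => hne (mul_inj hW e).1]
  · rw [if_neg h]
    exact Finset.sum_eq_zero fun φ' _ => by
      rw [hη.orthonormal, if_neg fun e => h (mul_inj hW e).2.symm]

omit [Fintype (Ann W₁ W₂ W₁)] in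
open Classical in
theorem classInner_etaCol (hW : IsSelfNormalizingCyclic W₁ W₂) (hη : IsCyclicTIFamily W₁ W₂ η)
    (ψ ψ' : Ann W₁ W₂ W₁) :
    classInner (etaCol η ψ) (etaCol η ψ') = if ψ' = ψ then (Nat.card W₁ : ℂ) else 0 := by
  conv_lhs => rw [show etaCol η ψ' = ∑ φ : Ann W₁ W₂ W₂, η (φ.1 * ψ'.1) from rfl]
  rw [Char.classInner_sum_right, Finset.sum_congr rfl fun φ _ => etaCol_coeff hW hη ψ φ ψ',
    Finset.sum_const, Finset.card_univ, card_ann_two hW, nsmul_eq_mul]
  split_ifs <;> simp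

omit [Fintype (Ann W₁ W₂ W₁)] in
/-- If all the coefficients of a virtual character of norm `|W₁|` lie in one column it is that
column. -/
theorem eq_smul_etaCol (hW : IsSelfNormalizingCyclic W₁ W₂) (hη : IsCyclicTIFamily W₁ W₂ η)
    {θ : G → ℂ} (hN : classInner θ θ = Nat.card W₁) {ψ : Ann W₁ W₂ W₁} {ε : ℤ}
    (hε : ε = 1 ∨ ε = -1) (h : ∀ φ : Ann W₁ W₂ W₂, classInner θ (η (φ.1 * ψ.1)) = ε) :
    θ = (ε : ℂ) • etaCol η ψ := by
  have h1 : classInner θ (etaCol η ψ) = Nat.card W₁ * (ε : ℂ) := by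
    rw [etaCol, Char.classInner_sum_right, Finset.sum_congr rfl fun φ _ => h φ, Finset.sum_const,
      Finset.card_univ, card_ann_two hW, nsmul_eq_mul]
  have h2 : classInner (etaCol η ψ) θ = Nat.card W₁ * (ε : ℂ) := by
    rw [← Char.conj_classInner, h1, map_mul, Complex.conj_natCast, map_intCast]
  refine sub_eq_zero.1 (Char.classInner_self_eq_zero ?_)
  rw [Char.classInner_sub_left, Char.classInner_sub_right, Char.classInner_sub_right,
    Char.classInner_smul_left, Char.classInner_smul_right, Char.classInner_smul_left,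
    Char.classInner_smul_right, hN, h1, h2, classInner_etaCol hW hη, if_pos rfl, map_intCast]
  rcases hε with rfl | rfl <;> push_cast <;> ring

/-- The table of coefficients of a virtual character vanishing on `V`, rows indexed by the
characters trivial on `W₂`. -/
theorem exists_rows (hW : IsSelfNormalizingCyclic W₁ W₂) (hη : IsCyclicTIFamily W₁ W₂ η) {θ : G → ℂ}
    (hθ : VanishV W₁ W₂ θ) {N : ℤ} (hN : classInner θ θ = N) :
    ∃ C : Ann W₁ W₂ W₂ → Ann W₁ W₂ W₁ → ℤ,
      (∀ i i' l l', C i l + C i' l' = C i l' + C i' l) ∧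
      (∀ φ ψ, classInner θ (η (φ.1 * ψ.1)) = C φ ψ) ∧ ∑ φ, ∑ ψ, C φ ψ ^ 2 ≤ N := by
  obtain ⟨M, hM, hMc⟩ := exists_table hη hθ.gen hθ.zero
  refine ⟨fun φ ψ => M ψ φ, fun i i' l l' => ?_, fun φ ψ => hMc ψ φ, ?_⟩
  · have := hM l l' i i'
    simp only
    omega
  · refine le_trans (le_of_eq ?_) (sum_coeff_sq_le hW hη hN (fun s => M s.1 s.2) fun s => hMc _ _)
    rw [Finset.sum_comm, Fintype.sum_prod_type]

/-- Of two virtual characters of norm `|W₁|` vanishing on `V` with difference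
`δ (etaCol ψ - etaCol ψ')`, the first is `±` a column. -/
theorem exists_etaCol (hW : IsSelfNormalizingCyclic W₁ W₂) (hodd : Odd (Nat.card ↥(W₁ ⊔ W₂)))
    (hη : IsCyclicTIFamily W₁ W₂ η) {θ θ' : G → ℂ} (hθ : VanishV W₁ W₂ θ)
    (hθ' : VanishV W₁ W₂ θ') (hN : classInner θ θ = Nat.card W₁)
    (hN' : classInner θ' θ' = Nat.card W₁) {δ : ℤ} (hδ : δ = 1 ∨ δ = -1) {ψ ψ' : Ann W₁ W₂ W₁}
    (hne : ψ ≠ ψ') (hsub : θ - θ' = (δ : ℂ) • (etaCol η ψ - etaCol η ψ')) :
    ∃ ψ₀ : Ann W₁ W₂ W₁, ∃ ε : ℤ, (ε = 1 ∨ ε = -1) ∧ θ = (ε : ℂ) • etaCol η ψ₀ := by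
  classical
  obtain ⟨C, hC, hCc, hCN⟩ := exists_rows hW hη hθ (N := Nat.card W₁) (by exact_mod_cast hN)
  obtain ⟨C', -, hC'c, hC'N⟩ := exists_rows hW hη hθ' (N := Nat.card W₁) (by exact_mod_cast hN')
  rcases additive_rows_or_column (three_le_card_index hW hodd).1 C hC
    (hCN.trans_eq (by rw [card_ann_two hW])) with hrow | ⟨ψ₀, ε, hε, hcol⟩
  · exfalso
    have hC' : ∀ φ ξ, C' φ ξ =
        C φ ξ - δ * ((if ξ = ψ then 1 else 0) - if ξ = ψ' then 1 else 0) := by
      intro φ ξ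
      have h := congrArg (fun x => classInner x (η (φ.1 * ξ.1))) hsub
      simp only [Char.classInner_sub_left, Char.classInner_smul_left, hCc, hC'c,
        etaCol_coeff hW hη] at h
      apply Int.cast_injective (α := ℂ)
      push_cast
      linear_combination -h
    have hge : ∀ φ : Ann W₁ W₂ W₂, (2 : ℤ) ≤ ∑ ξ, C' φ ξ ^ 2 := by
      intro φ
      have hnn : ∀ ξ, ξ ∈ (Finset.univ : Finset (Ann W₁ W₂ W₁)) → (0 : ℤ) ≤ C' φ ξ ^ 2 :=
        fun ξ _ => sq_nonneg _
      refine le_trans ?_ (Finset.sum_le_sum_of_subset_of_nonneg (Finset.subset_univ {ψ, ψ'})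
        fun ξ hξ _ => hnn ξ hξ)
      rw [Finset.sum_pair hne, hC', hC', if_pos rfl, if_neg hne, if_neg hne.symm, if_pos rfl,
        hrow φ ψ' ψ]
      have hsq : (0 : ℤ) ≤ C φ ψ ^ 2 := sq_nonneg _
      rcases hδ with rfl | rfl <;> nlinarith
    have h2 := (Finset.sum_le_sum fun φ (_ : φ ∈ Finset.univ) => hge φ).trans hC'N
    rw [Finset.sum_const, Finset.card_univ, card_ann_two hW, nsmul_eq_mul] at h2
    have := (three_le_card hW hodd).1
    omega
  · exact ⟨ψ₀, ε, hε, eq_smul_etaCol hW hη hN hε fun φ => by rw [hCc, hcol, if_pos rfl]⟩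

/-- The image `f` of `μ₀ - ζ` is `etaCol 1 - a` or `etaCol 1 + b`. -/
theorem bridge (hW : IsSelfNormalizingCyclic W₁ W₂) (hodd : Odd (Nat.card ↥(W₁ ⊔ W₂)))
    (hη : IsCyclicTIFamily W₁ W₂ η) {f a b θ : G → ℂ} (hf : VanishV W₁ W₂ f)
    (hfN : classInner f f = Nat.card W₁ + 1) (hf1 : classInner f (fun _ => 1) = 1)
    (ha : IsSignedIrr a) (hb : IsSignedIrr b) (hab : classInner a b = 0)
    (hVab : VanishV W₁ W₂ (a - b)) {x : ℤ} (hfa : classInner f a = x)
    (hfb : classInner f b = x + 1) (hconj : (fun g => conj (f g)) = f + (a - b)) {ε : ℤ}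
    (hε : ε = 1 ∨ ε = -1) {ψ₀ : Ann W₁ W₂ W₁} (hθ : θ = (ε : ℂ) • etaCol η ψ₀) {d : ℕ}
    (hd : Nat.card W₁ ≤ d + 1) (hfθ : classInner f θ = d * (1 + (x : ℂ))) :
    f = etaCol η (annOne W₁ W₂ W₁) - a ∨ f = etaCol η (annOne W₁ W₂ W₁) + b := by
  classical
  obtain ⟨hw1, hw2⟩ := three_le_card hW hodd
  have hba : classInner b a = 0 := by rw [← Char.conj_classInner, hab, map_zero]
  have horth := signed_orth_eta hW hodd hη ha hb hab hVab
  obtain ⟨C, hC, hCc, -⟩ := exists_rows hW hη hf (N := Nat.card W₁ + 1) (by exact_mod_cast hfN)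
  -- Bessel with `a` and `b`
  have hbes : (∑ φ, ∑ ψ, C φ ψ ^ 2) + x ^ 2 + (x + 1) ^ 2 ≤ (Nat.card W₁ : ℤ) + 1 := by
    let v : (Ann W₁ W₂ W₂ × Ann W₁ W₂ W₁) ⊕ Bool → G → ℂ :=
      Sum.elim (fun s => η (s.1.1 * s.2.1)) (fun c => if c then a else b)
    have h := bessel_int Finset.univ v (fun _ => 1) (fun _ _ => one_pos) (fun i _ j _ => ?_) f
      ((Nat.card W₁ : ℤ) + 1) (by exact_mod_cast hfN)
      (Sum.elim (fun s => C s.1 s.2) fun c => if c then x else x + 1) (fun i _ => ?_)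
    · simp only [Nat.cast_one, div_one, Fintype.sum_sum_type, Sum.elim_inl, Sum.elim_inr,
        Fintype.sum_prod_type, Fintype.sum_bool, Bool.false_eq_true, if_true, if_false,
        ← add_assoc] at h
      exact_mod_cast h
    · rcases i with s | c <;> rcases j with t | c' <;> simp only [v, Sum.elim_inl, Sum.elim_inr]
      · rw [hη.orthonormal]
        by_cases h : s = t
        · simp [h]
        · rw [if_neg, if_neg (by simpa using h)]
          exact fun e => h (Prod.ext (mul_inj hW e).1 (mul_inj hW e).2)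
      · rw [← Char.conj_classInner]
        cases c' <;> simp [(horth _).1, (horth _).2]
      · cases c <;> simp [(horth _).1, (horth _).2]
      · cases c <;> cases c' <;> simp [ha.classInner_self, hb.classInner_self, hab, hba]
    · rcases i with s | c
      · exact hCc _ _
      · cases c <;> simp [v, hfa, hfb]
  have hx0 : 1 ≤ x ^ 2 + (x + 1) ^ 2 := by
    by_cases hx : x = 0
    · simp [hx]
    · have : 0 < x ^ 2 := by positivity
      nlinarith
  have h00 : C (annOne W₁ W₂ W₂) (annOne W₁ W₂ W₁) = 1 := by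
    have h := hCc (annOne W₁ W₂ W₂) (annOne W₁ W₂ W₁)
    rw [mul_annOne, show (annOne W₁ W₂ W₂).1 = 1 from rfl, hη.map_one, hf1] at h
    exact_mod_cast h.symm
  rcases additive_rows_or_column (three_le_card_index hW hodd).1 C hC
    (by rw [card_ann_two hW]; omega) with hrow | ⟨ψ₁, ε₁, -, hcol⟩
  · -- constant rows contradict the inner product with `θ`
    exfalso
    set v : Ann W₁ W₂ W₂ → ℤ := fun φ => C φ (annOne W₁ W₂ W₁) with hv
    have hsum : ((d : ℤ) * (1 + x)) = ε * ∑ φ, v φ := by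
      apply Int.cast_injective (α := ℂ)
      push_cast
      rw [← hfθ, hθ, Char.classInner_smul_right, map_intCast, etaCol, Char.classInner_sum_right]
      exact congrArg _ (Finset.sum_congr rfl fun φ _ => by rw [hCc, hv, hrow φ ψ₀])
    have hvodd : Odd (∑ φ, v φ) := by
      obtain ⟨hi1, hi2, hi3⟩ := annInv_spec (W₁ := W₁) (W₂ := W₂) hodd (U := W₂)
      refine odd_sum_of_involution annInv hi1 (annOne W₁ W₂ W₂) hi2 hi3 v (fun φ => ?_) ?_
      · apply Int.cast_injective (α := ℂ)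
        simp only [hv, ← hCc, annInv]
        rw [mul_annOne, mul_annOne, ← conj_eta hW hodd hη φ.1]
        have hfr : classInner f (fun g => conj (η φ.1 g)) = conj (classInner (f + (a - b)) (η φ.1)) := by
          rw [← hconj, classInner, classInner, map_mul, map_inv₀, Complex.conj_natCast, map_sum]
          simp only [map_mul, Complex.conj_conj]
        rw [hfr, Char.classInner_add_left, Char.classInner_sub_left, (horth _).1, (horth _).2,
          sub_zero, add_zero]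
        have := hCc φ (annOne W₁ W₂ W₁)
        rw [mul_annOne] at this
        rw [this, map_intCast]
      · rw [hv]; simp only; rw [h00]; exact odd_one
    have hbound : (Nat.card W₂ : ℤ) * ∑ φ, v φ ^ 2 ≤ Nat.card W₁ := by
      have e : ∑ φ, ∑ ψ, C φ ψ ^ 2 = (Nat.card W₂ : ℤ) * ∑ φ, v φ ^ 2 := by
        rw [Finset.mul_sum]
        refine Finset.sum_congr rfl fun φ _ => ?_
        rw [Finset.sum_congr rfl fun ψ _ => by rw [hrow φ ψ (annOne W₁ W₂ W₁)], Finset.sum_const,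
          Finset.card_univ, ← Nat.card_eq_fintype_card, (ann_facts hW).2.2.1, nsmul_eq_mul, hv]
      omega
    have hle := le_sq_of_sum Finset.univ v
    have hle' := le_sq_of_sum_neg Finset.univ v
    have hne0 : ∑ φ, v φ ≠ 0 := fun h => by simp [h] at hvodd
    have hd3 : (3 : ℤ) * ∑ φ, v φ ^ 2 ≤ d + 1 := by
      have h0 : (0 : ℤ) ≤ ∑ φ, v φ ^ 2 := Finset.sum_nonneg fun _ _ => sq_nonneg _
      nlinarith
    have habs : |(d : ℤ) * (1 + x)| = |∑ φ, v φ| := by
      rw [hsum, abs_mul]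
      rcases hε with rfl | rfl <;> simp
    have hx1 : 1 + x ≠ 0 := fun h => hne0 (abs_eq_zero.1 (by rw [← habs, h, mul_zero, abs_zero]))
    have hd2 : (d : ℤ) ≤ |(d : ℤ) * (1 + x)| := by
      rw [abs_mul, Nat.abs_cast]
      exact le_mul_of_one_le_right (Nat.cast_nonneg d) (Int.one_le_abs hx1)
    have habs' : |∑ φ, v φ| ≤ ∑ φ, v φ ^ 2 := abs_le.2 ⟨by omega, hle⟩
    omega
  · -- one column
    have hl : annOne W₁ W₂ W₁ = ψ₁ := by
      by_contra h
      rw [hcol, if_neg h] at h00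
      omega
    subst hl
    have he1 : ε₁ = 1 := by simpa [hcol] using h00
    subst he1
    have hCsum : ∑ φ, ∑ ψ, C φ ψ ^ 2 = (Nat.card W₁ : ℤ) := by
      simp [hcol, card_ann_two hW]
    have hx : x = 0 ∨ x = -1 := by
      rw [hCsum] at hbes
      have h1 : x ^ 2 ≤ 1 := by nlinarith
      have : -1 ≤ x ∧ x ≤ 1 := by constructor <;> nlinarith
      by_contra hh
      push Not at hh
      obtain rfl : x = 1 := by omega
      norm_num at hbes
    set E := etaCol η (annOne W₁ W₂ W₁) with hEdef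
    have hfE : classInner f E = Nat.card W₁ := by
      rw [hEdef, etaCol, Char.classInner_sum_right, Finset.sum_congr rfl fun φ _ => hCc φ _]
      simp [hcol, card_ann_two hW]
    have hEf : classInner E f = Nat.card W₁ := by
      rw [← Char.conj_classInner, hfE, Complex.conj_natCast]
    have hEE : classInner E E = Nat.card W₁ := by
      rw [hEdef, classInner_etaCol hW hη, if_pos rfl]
    have hEa : ∀ c : G → ℂ, (∀ ω, classInner c (η ω) = 0) →
        classInner c E = 0 ∧ classInner E c = 0 := by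
      intro c hc
      have : classInner c E = 0 := by
        rw [hEdef, etaCol, Char.classInner_sum_right]
        exact Finset.sum_eq_zero fun φ _ => hc _
      exact ⟨this, by rw [← Char.conj_classInner, this, map_zero]⟩
    obtain ⟨haE, hEa'⟩ := hEa a fun ω => (horth ω).1
    obtain ⟨hbE, hEb'⟩ := hEa b fun ω => (horth ω).2
    have hsymm : ∀ c : G → ℂ, ∀ z : ℤ, classInner f c = z → classInner c f = z := fun c z h => by
      rw [← Char.conj_classInner, h, map_intCast]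
    rcases hx with rfl | rfl
    · refine Or.inr (sub_eq_zero.1 (Char.classInner_self_eq_zero ?_))
      have hbf := hsymm b 1 (by rw [hfb]; norm_num)
      simp only [Char.classInner_sub_left, Char.classInner_sub_right, Char.classInner_add_left,
        Char.classInner_add_right, hfN, hfE, hEf, hEE, hb.classInner_self, hbE, hEb', hbf, hfb]
      push_cast
      ring
    · refine Or.inl (sub_eq_zero.1 (Char.classInner_self_eq_zero ?_))
      have haf := hsymm a (-1) hfa
      simp only [Char.classInner_sub_left, Char.classInner_sub_right,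
        hfN, hfE, hEf, hEE, ha.classInner_self, haE, hEa', haf, hfa]
      push_cast
      ring

omit [Fintype (Ann W₁ W₂ W₁)] in
/-- `etaCol 1` takes odd integral values at elements of order prime to `|W₁|`. -/
theorem etaCol_one_odd (hW : IsSelfNormalizingCyclic W₁ W₂) (hodd : Odd (Nat.card ↥(W₁ ⊔ W₂)))
    (hη : IsCyclicTIFamily W₁ W₂ η) {g : G} (hg : (orderOf g).Coprime (Nat.card W₁)) :
    ∃ n : ℤ, Odd n ∧ etaCol η (annOne W₁ W₂ W₁) g = n := by
  have hn : W₁ ≤ Subgroup.normalizer (W₂ : Set G) := fun a ha =>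
    Subgroup.centralizer_le_normalizer _ (Subgroup.mem_centralizer_iff.2 fun b hb =>
      (hW.2.2.2.1 a ha b hb).symm)
  have hord : ∀ φ : Ann W₁ W₂ W₂, orderOf φ.1 ∣ Nat.card W₁ := by
    intro φ
    refine orderOf_dvd_of_pow_eq_one (MonoidHom.ext fun w => ?_)
    obtain ⟨x, hx, y, hy, hxy⟩ := (Coprime.mem_sup_iff_of_le_normalizer hn).1 w.2
    have hwe : w = (⟨x, Subgroup.mem_sup_left hx⟩ : ↥(W₁ ⊔ W₂)) *
        ⟨y, Subgroup.mem_sup_right hy⟩ := Subtype.ext hxy.symm
    have hx1 : (⟨x, Subgroup.mem_sup_left hx⟩ : ↥(W₁ ⊔ W₂)) ^ Nat.card W₁ = 1 :=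
      orderOf_dvd_iff_pow_eq_one.1 (by rw [Subgroup.orderOf_mk]; exact Subgroup.orderOf_dvd_natCard _ hx)
    rw [MonoidHom.pow_apply, MonoidHom.one_apply, hwe, map_mul, φ.2 ⟨y, _⟩ hy, mul_one,
      ← map_pow, hx1, map_one]
  have hval : ∀ φ : Ann W₁ W₂ W₂, ∃ n : ℤ, η φ.1 g = n := fun φ =>
    apply_int_of_coprime hW hodd hη φ.1 (hg.coprime_dvd_right (hord φ))
  choose n hn' using hval
  obtain ⟨hi1, hi2, hi3⟩ := annInv_spec (W₁ := W₁) (W₂ := W₂) hodd (U := W₂)
  refine ⟨∑ φ, n φ, odd_sum_of_involution annInv hi1 (annOne W₁ W₂ W₂) hi2 hi3 n (fun φ => ?_) ?_,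
    ?_⟩
  · apply Int.cast_injective (α := ℂ)
    rw [← hn', ← hn']
    show η φ.1⁻¹ g = η φ.1 g
    rw [← conj_eta hW hodd hη φ.1]
    show conj (η φ.1 g) = η φ.1 g
    rw [hn', map_intCast]
  · have : n (annOne W₁ W₂ W₂) = 1 := by
      apply Int.cast_injective (α := ℂ)
      rw [← hn', Int.cast_one, show (annOne W₁ W₂ W₂).1 = 1 from rfl, hη.map_one]
    rw [this]; exact odd_one
  · rw [etaCol, Finset.sum_apply, Int.cast_sum]
    exact Finset.sum_congr rfl fun φ _ => by rw [mul_annOne, hn']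

end Cfsg.Agent.OddOrder.PF
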