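import Cfsg.Agent.S1523

/-!
The class-sum congruence behind Sibley's divisibility: for a TI subgroup `K` that contains every
element of its normaliser of order dividing `|K|`, a character real on a central normal `Z ≤ K`
satisfies `ψ w ≡ ψ 1` modulo `|K|` on `Z`.
-/

set_option autoImplicit false
set_option linter.style.haveILetI false

namespace Cfsg.Agent.OddOrder.PF

open Cfsg Cfsg.Agent

universe u
variable {G : Type u} [Group G] [Fintype G]

omit [Fintype G] in
/-- In a group of odd order only the identity is conjugate to its inverse. -/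
theorem eq_one_of_conj_inv [Finite G] (hodd : Odd (Nat.card G)) {c z : G} (h : c * z * c⁻¹ = z⁻¹) : z = 1 := by
  have h2 : Commute (c * c) z := by
    refine mul_inv_eq_iff_eq_mul.1 ?_
    calc c * c * z * (c * c)⁻¹ = c * (c * z * c⁻¹) * c⁻¹ := by group
      _ = (c * z * c⁻¹)⁻¹ := by rw [h]; simp [← h, mul_assoc]
      _ = z := by rw [h, inv_inv]
  obtain ⟨k, hk⟩ := hodd.of_dvd_nat (orderOf_dvd_natCard c)
  have h3 : (c * c) ^ (k + 1) = c := by
    rw [← pow_two, ← pow_mul, show 2 * (k + 1) = orderOf c + 1 by omega, pow_add,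
      pow_orderOf_eq_one, one_mul, pow_one]
  have h4 : Commute c z := h3 ▸ h2.pow_left _
  rw [h4.eq, mul_inv_cancel_right] at h
  have hz2 : z ^ 2 = 1 := by rw [pow_two]; nth_rw 1 [h]; exact inv_mul_cancel z
  exact orderOf_eq_one_iff.1 (Nat.eq_one_of_dvd_coprimes
    (Nat.coprime_two_left.2 (hodd.of_dvd_nat (orderOf_dvd_natCard z))) (orderOf_dvd_of_pow_eq_one hz2)
    dvd_rfl)

open scoped Classical in
/-- The conjugates of `z` in the normaliser of `K`. -/
noncomputable def localClass (K : Subgroup G) (z : G) : Finset G :=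
  Finset.univ.filter fun g => g ∈ Subgroup.normalizer (K : Set G) ∧ IsConj z g

variable {K Z : Subgroup G} (hTI : IsTISubset (K : Set G))
  (hHall : ∀ l ∈ Subgroup.normalizer (K : Set G), orderOf l ∣ Nat.card K → l ∈ K) (hZK : Z ≤ K)

include hTI hHall hZK

theorem localClass_conj {z : G} (hz : z ∈ Z) (hz1 : z ≠ 1) {g : G} (hg : g ∈ localClass K z) :
    ∃ c ∈ Subgroup.normalizer (K : Set G), c * z * c⁻¹ = g := by
  classical
  simp only [localClass, Finset.mem_filter, Finset.mem_univ, true_and] at hg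
  obtain ⟨c, hc⟩ := isConj_iff.1 hg.2
  refine ⟨c, ?_, hc⟩
  by_contra hcn
  refine hz1 (hTI c hcn z (hZK hz) (hc ▸ hHall g hg.1 ?_))
  rw [← hc, show orderOf (c * z * c⁻¹) = orderOf z from MulEquiv.orderOf_eq (MulAut.conj c) z]
  exact Subgroup.orderOf_dvd_natCard K (hZK hz)

variable (hZc : ∀ z ∈ Z, ∀ y ∈ K, z * y = y * z)
include hZc

omit hHall hZK in
theorem localClass_congr {ψ : G → ℂ} (hψ : IsIrrCharacter G ψ) {z : G} (hz : z ∈ Z)
    (hreal : ψ z⁻¹ = ψ z) :
    ∃ x : ℂ, IsIntegral ℤ x ∧ ∑ g ∈ localClass K z, ψ (g * z) - ∑ g ∈ localClass K z, ψ (g⁻¹ * z) =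
      (Nat.card K : ℂ) * x := by
  classical
  haveI : Fintype K := Fintype.ofFinite _
  set L := Subgroup.normalizer (K : Set G) with hL
  have hint : ∀ g, IsIntegral ℤ (ψ g) := fun g =>
    CharInt.isIntegral_char (Char.IsIrrCharacter.isCharacter hψ) g
  obtain ⟨d, hd0, hd⟩ := Char.IsIrrCharacter.exists_degree hψ
  have hψcl := Char.IsCharacter.isClassFunction (Char.IsIrrCharacter.isCharacter hψ)
  set Y : Finset G := Finset.univ.filter fun g => IsConj z g with hY
  set Y' : Finset G := Finset.univ.filter fun g => IsConj z⁻¹ g with hY'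
  have hconjInv : ∀ g : G, IsConj z⁻¹ g ↔ IsConj z g⁻¹ := by
    intro g
    simp only [isConj_iff]
    constructor <;> rintro ⟨c, hc⟩ <;> refine ⟨c, ?_⟩
    · rw [← hc]; group
    · rw [← inv_inv g, ← hc]; group
  have hY'eq : Y' = Y.image (·⁻¹) := by
    ext g
    simp only [hY, hY', Finset.mem_filter, Finset.mem_univ, true_and, Finset.mem_image]
    rw [hconjInv]
    exact ⟨fun h => ⟨g⁻¹, h, inv_inv g⟩, by rintro ⟨b, hb, rfl⟩; rwa [inv_inv]⟩
  have hsum : ∀ w : G, (d : ℂ) * ∑ g ∈ Finset.univ.filter (fun g => IsConj w g), ψ (g * z) =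
      ((Finset.univ.filter fun g => IsConj w g).card : ℂ) * ψ w * ψ z := by
    intro w
    have h := Char.sum_mul_irr_apply_mul (Char.isClassFunction_indicator w) hψ z
    simp only [ite_mul, one_mul, zero_mul, ← Finset.sum_filter] at h
    rw [← hd, h, Finset.sum_congr rfl (g := fun _ => ψ w) (fun g hg =>
      (Char.IsClassFunction.apply_of_isConj hψcl (Finset.mem_filter.1 hg).2).symm),
      Finset.sum_const, nsmul_eq_mul]
  have hcard : Y'.card = Y.card := by rw [hY'eq]; exact Finset.card_image_of_injective _ inv_injective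
  have hEq : ∑ g ∈ Y, ψ (g * z) = ∑ g ∈ Y', ψ (g * z) := by
    apply mul_left_cancel₀ (Nat.cast_ne_zero.2 hd0.ne' : (d : ℂ) ≠ 0)
    rw [hY, hY', hsum z, hsum z⁻¹, hreal,
      show (Finset.univ.filter fun g => IsConj z⁻¹ g).card =
        (Finset.univ.filter fun g => IsConj z g).card from hcard]
  have hA : Y.filter (· ∈ L) = localClass K z := by
    ext g; simp [hY, localClass, hL, and_comm]
  have hA' : Y'.filter (· ∈ L) = (localClass K z).image (·⁻¹) := by
    rw [hY'eq, ← hA, Finset.filter_image]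
    simp only [inv_mem_iff]
  letI : MulAction K G :=
    MulAction.compHom G ((MulAut.conj : G →* MulAut G).comp K.subtype)
  have hsm : ∀ (u : K) (g : G), u • g = (u : G) * g * (u : G)⁻¹ := fun _ _ => rfl
  have hout : ∀ w : G, ∃ r, IsIntegral ℤ r ∧
      ∑ g ∈ (Finset.univ.filter fun g => IsConj w g).filter (· ∉ L), ψ (g * z) =
        (Fintype.card K : ℂ) * r := by
    intro w
    refine S1523.sum_free (fun g => ψ (g * z)) (fun g => hint _) (fun u g => ?_) _ (fun u g hg => ?_)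
      (fun u g hg hfix => ?_)
    · show ψ (u • g * z) = _
      rw [hsm, ← hψcl (g * z) (u : G)]
      congr 1
      calc (u : G) * g * (u : G)⁻¹ * z = (u : G) * g * (u : G)⁻¹ * ((u : G) * z * (u : G)⁻¹) := by
            rw [← hZc z hz u u.2, mul_inv_cancel_right]
        _ = _ := by group
    · simp only [Finset.mem_filter, Finset.mem_univ, true_and, hsm] at hg ⊢
      refine ⟨hg.1.trans (isConj_iff.2 ⟨u, rfl⟩), fun h => hg.2 ?_⟩
      have huL : (u : G) ∈ L := Subgroup.le_normalizer u.2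
      have := mul_mem (mul_mem (inv_mem huL) h) huL
      simpa [mul_assoc] using this
    · simp only [Finset.mem_filter, Finset.mem_univ, true_and] at hg
      by_contra hu
      refine hu (Subtype.ext (hTI g hg.2 u u.2 ?_))
      have hcomm : (u : G) * g = g * u := by
        have := congrArg (· * (u : G)) ((hsm u g).symm.trans hfix)
        simpa using this
      rw [← hcomm, mul_inv_cancel_right]
      exact u.2
  obtain ⟨r1, hr1, hs3⟩ := hout z
  obtain ⟨r2, hr2, hs4⟩ := hout z⁻¹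
  rw [← Finset.sum_filter_add_sum_filter_not Y (· ∈ L),
    ← Finset.sum_filter_add_sum_filter_not Y' (· ∈ L), hA', hA, hY, hY', hs3, hs4,
    Finset.sum_image (fun x _ y _ h => inv_injective h), ← Nat.card_eq_fintype_card] at hEq
  exact ⟨r2 - r1, hr2.sub hr1, by linear_combination hEq⟩

/-- The congruence when `Z` is central in the normaliser. -/
theorem congr_of_central (hodd : Odd (Nat.card G))
    (hN : ∀ x ∈ Subgroup.normalizer (K : Set G), ∀ z ∈ Z, x * z = z * x)
    {ψ : G → ℂ} (hψ : IsIrrCharacter G ψ) (hreal : ∀ w ∈ Z, ψ w⁻¹ = ψ w) {w : G} (hw : w ∈ Z) :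
    ∃ x : ℂ, IsIntegral ℤ x ∧ ψ w - ψ 1 = (Nat.card K : ℂ) * x := by
  classical
  rcases eq_or_ne w 1 with rfl | hw1
  · exact ⟨0, isIntegral_zero, by simp⟩
  obtain ⟨j, hj⟩ := hodd.of_dvd_nat (orderOf_dvd_natCard w)
  set z := w ^ (j + 1) with hzdef
  have hzz : z * z = w := by
    rw [hzdef, ← pow_add, show j + 1 + (j + 1) = orderOf w + 1 by omega, pow_add, pow_orderOf_eq_one,
      one_mul, pow_one]
  have hz : z ∈ Z := pow_mem hw _
  have hz1 : z ≠ 1 := fun h => hw1 (by rw [← hzz, h, one_mul])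
  have hA : localClass K z = {z} := by
    ext g
    rw [Finset.mem_singleton]
    refine ⟨fun hg => ?_, fun e => ?_⟩
    · obtain ⟨c, hc, rfl⟩ := localClass_conj hTI hHall hZK hz hz1 hg
      rw [hN c hc z hz, mul_inv_cancel_right]
    · subst e
      exact Finset.mem_filter.2 ⟨Finset.mem_univ _, Subgroup.le_normalizer (hZK hz), IsConj.refl _⟩
  obtain ⟨x, hx, e⟩ := localClass_congr hTI hZc hψ hz (hreal z hz)
  rw [hA, Finset.sum_singleton, Finset.sum_singleton, hzz, inv_mul_cancel] at e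
  exact ⟨x, hx, e⟩

/-- The congruence when `ψ` is constant on the non-identity elements of `Z`. -/
theorem congr_of_const (hodd : Odd (Nat.card G))
    (hZn : ∀ x ∈ Subgroup.normalizer (K : Set G), ∀ z ∈ Z, x * z * x⁻¹ ∈ Z)
    {ψ : G → ℂ} (hψ : IsIrrCharacter G ψ)
    (hconst : ∀ z ∈ Z, ∀ z' ∈ Z, z ≠ 1 → z' ≠ 1 → ψ z = ψ z') {w : G} (hw : w ∈ Z) :
    ∃ x : ℂ, IsIntegral ℤ x ∧ ψ w - ψ 1 = (Nat.card K : ℂ) * x := by
  classical
  rcases eq_or_ne w 1 with rfl | hw1
  · exact ⟨0, isIntegral_zero, by simp⟩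
  set A := localClass K w with hAdef
  have hAZ : ∀ g ∈ A, g ∈ Z ∧ g ≠ 1 ∧ g ≠ w⁻¹ := by
    intro g hg
    obtain ⟨c, hc, rfl⟩ := localClass_conj hTI hHall hZK hw hw1 hg
    exact ⟨hZn c hc w hw, fun h => hw1 (conj_eq_one_iff.1 h), fun h => hw1 (eq_one_of_conj_inv hodd h)⟩
  have hwA : w ∈ A :=
    Finset.mem_filter.2 ⟨Finset.mem_univ _, Subgroup.le_normalizer (hZK hw), IsConj.refl _⟩
  obtain ⟨x, hx, e⟩ := localClass_congr hTI hZc hψ hw
    (hconst _ (Z.inv_mem hw) _ hw (inv_ne_one.2 hw1) hw1)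
  have h1 : ∀ g ∈ A, ψ (g * w) = ψ w := fun g hg =>
    hconst _ (Z.mul_mem (hAZ g hg).1 hw) _ hw
      (fun h => (hAZ g hg).2.2 (eq_inv_of_mul_eq_one_left h)) hw1
  have h2 : ∀ g ∈ A.erase w, ψ (g⁻¹ * w) = ψ w := fun g hg =>
    hconst _ (Z.mul_mem (Z.inv_mem (hAZ g (Finset.mem_erase.1 hg).2).1) hw) _ hw
      (fun h => (Finset.mem_erase.1 hg).1 (inv_mul_eq_one.1 h)) hw1
  rw [Finset.sum_congr rfl h1, ← Finset.add_sum_erase A (fun g => ψ (g⁻¹ * w)) hwA,
    Finset.sum_congr rfl h2, inv_mul_cancel, Finset.sum_const, Finset.sum_const,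
    ← Finset.card_erase_add_one hwA, succ_nsmul] at e
  exact ⟨x, hx, by linear_combination e⟩

end Cfsg.Agent.OddOrder.PF
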