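import Cfsg.Agent.Lib.OddOrder.PF.S10_Basic
import Cfsg.Agent.Lib.OddOrder.PF.S10_Bridge
import Cfsg.Agent.Lib.OddOrder.CyclicTIExist

/-!
Peterfalvi (10.5)-(10.7) in the form needed for (10.8): if `calS M` is coherent for a maximal
subgroup `M` of Type III, IV or V, there is a member `ξ` of degree `w₁` whose image has, outside the
conjugates of the cosets attached to `A(M)`, the absolute value of `Σ_i η_{i0}`.
-/

set_option autoImplicit false
set_option linter.style.haveILetI false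

namespace Cfsg.Agent.OddOrder.PF

open Cfsg Cfsg.Agent.OddOrder Cfsg.Agent
open scoped ComplexConjugate

universe u
variable {G : Type u} [Group G] [Fintype G]

/-- A class function orthogonal to every `η ω` vanishes on `V`. -/
theorem vanish_of_orth_eta {W₁ W₂ : Subgroup G} {η : (↥(W₁ ⊔ W₂) →* ℂˣ) → (G → ℂ)}
    (hW : IsSelfNormalizingCyclic W₁ W₂) (hη : IsCyclicTIFamily W₁ W₂ η) {θ : G → ℂ}
    (hθ : IsClassFunction G θ) (h : ∀ ω, classInner θ (η ω) = 0) (w : ↥(W₁ ⊔ W₂))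
    (h1 : (w : G) ∉ W₁) (h2 : (w : G) ∉ W₂) : θ w = 0 := by
  haveI : Fintype ↥(W₁ ⊔ W₂) := Fintype.ofFinite _
  refine eq_zero_of_orth_alpha hW (fun v : ↥(W₁ ⊔ W₂) => θ v) (fun φ ψ hφ hψ hφ' hψ' => ?_) w h1 h2
  rw [← Char.classInner_indFun_right _ _ hθ, hη.induced_eq φ ψ hφ hψ hφ' hψ',
    show (fun g => 1 - η φ g - η ψ g + η (φ * ψ) g) = η 1 - η φ - η ψ + η (φ * ψ) by
      rw [hη.map_one]; rfl,
    Char.classInner_add_right, Char.classInner_sub_right, Char.classInner_sub_right, h, h, h, h]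
  ring

variable {M W₁ U W₂ : Subgroup G} [Fintype M]

/-- The Dade images of virtual characters supported on `A(M)` vanish on `V`. -/
theorem vanishV_dade (hG : IsMinSimpleOddOrder G) (B : BGFacts G) (hM : IsCoatom M)
    (h : IsType345 M) (hP : IsTypePWith M W₁ U W₂) {α : M → ℂ}
    (hα : IsGeneralizedCharacter M α) (hαA : ∀ x : M, (x : G) ∉ typeA' M → α x = 0) :
    VanishV W₁ W₂ (dadeIsometry (typeA' M) M (supportR M) α) := by
  have P := primeDade_345 B hG hM h hP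
  have hD := dadeHypothesis_typeSet B hM (A := typeA' M) (Or.inr (Or.inl rfl))
  refine ⟨isGeneralizedCharacter_dadeIsometry hD hα hαA, fun w h1 h2 => ?_⟩
  have hcl := Char.IsGeneralizedCharacter.isClassFunction hα
  rw [← ftTau_eq_typeA B hM hcl hαA, ftTau_eq hP (not_typeI_of_345 B hM h),
    dadeIsometry_apply P.dade hcl (a := ⟨w, P.W_le w.2⟩)
      (Or.inr ⟨1, M.one_mem, w, w.2, h1, h2, by simp⟩) (x := 1) (u := 1) (Subgroup.one_mem _)
      (by simp)]
  exact hαA _ fun hA => h2 (P.mem_W₂_of_mem_K w.2 (P.A_subset hA).1)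

variable {η : (↥(W₁ ⊔ W₂) →* ℂˣ) → (G → ℂ)} [Fintype (Ann W₁ W₂ W₁)] [Fintype (Ann W₁ W₂ W₂)]

/-- The consequence of coherence used in the proof of (10.8). -/
theorem exists_good (hG : IsMinSimpleOddOrder G) (B : BGFacts G) (hM : IsCoatom M)
    (h : IsType345 M) (hP : IsTypePWith M W₁ U W₂) (hη : IsCyclicTIFamily W₁ W₂ η)
    (hcoh : IsCoherent (calS M) {1}ᶜ (ftTau M)) :
    ∃ (τ₁ : (M → ℂ) → G → ℂ) (ξ : M → ℂ),
      CohSetting (typeA' M) M (supportR M) (commutator ↥M) τ₁ ξ ∧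
      ∀ g : G, g ∉ dadeUnion (typeA' M) (supportR M) →
        ‖τ₁ ξ g‖ = ‖etaCol η (annOne W₁ W₂ W₁) g‖ := by
  classical
  have P := primeDade_345 B hG hM h hP
  obtain ⟨μ, δ, hμ⟩ := P.exists_muFamily
  haveI : (commutator ↥M).Normal := inferInstance
  haveI : Fintype ↥(commutator ↥M) := Fintype.ofFinite _
  set K := commutator ↥M with hK
  have hI := not_typeI_of_345 B hM h
  have hD := dadeHypothesis_typeSet B hM (A := typeA' M) (Or.inr (Or.inl rfl))
  have hW := hP.selfNormalizing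
  have hodd := P.oddW
  obtain ⟨⟨ζ, hζ, hζirr, hζ1, hζne⟩, -⟩ := exists_zeta B hG hM h hP hμ
  rw [calS_eq_inducedIrrAbove B hM h] at hcoh
  obtain ⟨-, τ₁, hiso, hext⟩ := hcoh
  have hsuppA : ∀ α ∈ zspanOn (inducedIrrAbove K ⊥) {1}ᶜ,
      IsClassFunction M α ∧ ∀ x : M, (x : G) ∉ typeA' M → α x = 0 := by
    intro α hα
    obtain ⟨hsp, h1⟩ := Char.mem_zspanOn_compl_one.1 hα
    have key : ∀ β ∈ zspan (inducedIrrAbove K ⊥), IsClassFunction M β ∧ ∀ x, x ∉ K → β x = 0 := by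
      intro β hβ
      refine Submodule.span_induction ?_ ?_ ?_ ?_ hβ
      · exact fun φ hφ => ⟨Char.IsCharacter.isClassFunction (isCharacter_of_mem_indIrr K hφ),
          fun x hx => indIrr_apply_notMem K hφ hx⟩
      · exact ⟨fun _ _ => rfl, fun _ _ => rfl⟩
      · exact fun a b _ _ ha hb => ⟨fun g k => by simp [ha.1 g k, hb.1 g k],
          fun x hx => by simp [ha.2 x hx, hb.2 x hx]⟩
      · exact fun c a _ ha => ⟨fun g k => by simp [ha.1 g k], fun x hx => by simp [ha.2 x hx]⟩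
    refine ⟨(key α hsp).1, fun x hx => ?_⟩
    by_cases hxK : x ∈ K
    · have hx1 : x = 1 := by
        by_contra hne
        exact hx ((support_commutator B hM h x).2 ⟨hxK, hne⟩)
      rw [hx1, h1]
    · exact (key α hsp).2 x hxK
  have hext' : ∀ α ∈ zspanOn (inducedIrrAbove K ⊥) {1}ᶜ,
      τ₁ α = dadeIsometry (typeA' M) M (supportR M) α := fun α hα => by
    rw [hext α hα, ftTau_eq_typeA B hM (hsuppA α hα).1 (hsuppA α hα).2]
  have hζc : conjFun ζ ∈ inducedIrrAbove K ⊥ := conj_mem_inducedIrrAbove K hζ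
  have hcirr : IsIrrCharacter M (conjFun ζ) := Char.IsIrrCharacter.conj_fun hζirr
  have hc1 : conjFun ζ 1 = (K.index : ℂ) := by
    show conj (ζ 1) = _
    rw [hζ1, Complex.conj_natCast]
  have hS : CohSetting (typeA' M) M (supportR M) K τ₁ ζ :=
    ⟨hD, support_commutator B hM h, inferInstance, hiso, hext', hζ,
      Char.classInner_irr_self hζirr, hζ1, conjFun ζ, hζc, hζne, hc1.trans hζ1.symm⟩
  have hS' : CohSetting (typeA' M) M (supportR M) K τ₁ (conjFun ζ) :=
    ⟨hD, support_commutator B hM h, inferInstance, hiso, hext', hζc,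
      Char.classInner_irr_self hcirr, hc1, ζ, hζ, hζne.symm, hζ1.trans hc1.symm⟩
  set a := τ₁ ζ with ha
  set b := τ₁ (conjFun ζ) with hb
  set f := dadeBeta (typeA' M) M (supportR M) K ζ with hf
  have hinner : classInner ζ (conjFun ζ) = 0 := Char.classInner_irr_of_ne hζirr hcirr hζne.symm
  have hsigned : ∀ η' ∈ inducedIrrAbove K ⊥, classInner η' η' = 1 → IsSignedIrr (τ₁ η') := by
    intro η' hη' hn
    obtain ⟨e, he⟩ := Char.IsGeneralizedCharacter.irr_or_neg_of_norm_one (hS.image_gen hη')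
      ((hS.image_inner hη' hη').trans hn)
    rcases he with he | he
    · exact Or.inl (he ▸ e.2)
    · exact Or.inr (by rw [he, neg_neg]; exact e.2)
  have hsa := hsigned ζ hζ (Char.classInner_irr_self hζirr)
  have hsb := hsigned _ hζc (Char.classInner_irr_self hcirr)
  have hab : classInner a b = 0 := by rw [ha, hb, hS.image_inner hζ hζc, hinner]
  -- the difference `ζ - conj ζ`
  have hm1 : ζ 1 = ((1 : ℕ) : ℂ) * K.index := by rw [Nat.cast_one, one_mul, hζ1]
  have hsub : dadeIsometry (typeA' M) M (supportR M) (ζ - conjFun ζ) = a - b := by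
    have := hS'.dade_sub hζ hm1
    rwa [Nat.cast_one, one_smul, one_smul] at this
  have hVab : VanishV W₁ W₂ (a - b) := by
    rw [← hsub]
    refine vanishV_dade hG B hM h hP ?_ ?_
    · simpa using hS'.sub_gen hζ 1
    · simpa using hS'.sub_vanish hζ hm1
  have horth := signed_orth_eta hW hodd hη hsa hsb hab hVab
  have hVa : ∀ w : ↥(W₁ ⊔ W₂), (w : G) ∉ W₁ → (w : G) ∉ W₂ → a w = 0 :=
    vanish_of_orth_eta hW hη (Char.IsGeneralizedCharacter.isClassFunction (hS.image_gen hζ))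
      fun ω => (horth ω).1
  -- the image of `μ₀ - ζ`
  have hfV : VanishV W₁ W₂ f := vanishV_dade hG B hM h hP hS.alpha_gen hS.alpha_vanish
  obtain ⟨c, hc⟩ := hS.exists_coef
  have hfa : classInner f a = ((c - 1 : ℤ) : ℂ) := by rw [hf, ha, hc]; push_cast; rfl
  have hKidx : K.index = Nat.card W₁ := (index_commutator_eq hP).1
  have hfb : classInner f b = ((c - 1 : ℤ) : ℂ) + 1 := by
    rw [hf, hb, hS.beta_image hc hζc, hc1, div_self hS.index_ne_zero, hinner]
    push_cast; ring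
  have hconj : (fun g => conj (f g)) = f + (a - b) := by
    show conjFun f = _
    rw [← hsub, hf, dadeBeta, conjFun_dadeIsometry, ← dadeIsometry_add]
    congr 1
    have hreal : conjFun (indFun K fun _ => (1 : ℂ)) = indFun K fun _ => (1 : ℂ) := by
      funext x
      rw [conjFun, indFun_one_apply]
      split_ifs <;> simp
    funext x
    have := congrFun hreal x
    simp only [conjFun] at this
    simp [conjFun, this]
  -- a column
  obtain ⟨ψ, hψ⟩ : ∃ ψ : Ann W₁ W₂ W₁, ψ ≠ annOne W₁ W₂ W₁ := by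
    haveI : Nontrivial (Ann W₁ W₂ W₁) := Fintype.one_lt_card_iff_nontrivial.1
      (lt_of_lt_of_le (by norm_num) (three_le_card_index hW hodd).1)
    exact exists_ne _
  obtain ⟨hi1, hi2, hi3⟩ := annInv_spec (W₁ := W₁) (W₂ := W₂) hodd (U := W₁)
  have hnt : ∀ χ : Ann W₁ W₂ W₁, χ ≠ annOne W₁ W₂ W₁ →
      ¬ ∀ w : ↥(W₁ ⊔ W₂), (w : G) ∈ W₂ → χ.1 w = 1 := by
    intro χ hχ hall
    exact hχ (mul_inj hW (a := ⟨χ.1, hall⟩) (a' := annOne W₁ W₂ W₂) (b := annOne W₁ W₂ W₁) (b' := χ)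
      (by rw [mul_annOne]; exact MonoidHom.ext fun w => (one_mul (χ.1 w)).symm)).2.symm
  have hψ' : annInv ψ ≠ annOne W₁ W₂ W₁ := fun e => hψ (by rw [← hi1 ψ, e, hi2])
  let m : Ann W₁ W₂ W₁ → M → ℂ := fun χ => ∑ φ : Ann W₁ W₂ W₂, μ (χ.1 * φ.1)
  have hmem : ∀ χ : Ann W₁ W₂ W₁, χ ≠ annOne W₁ W₂ W₁ →
      m χ ∈ inducedIrrAbove K ⊥ ∧ classInner (m χ) (m χ) = Nat.card W₁ ∧
      ∀ d : ℕ, μ χ.1 1 = d → m χ 1 = d * K.index := by
    intro χ hχ
    obtain ⟨θ₀, hθ₀, hres⟩ : ∃ θ₀ : ↥K → ℂ, IsIrrCharacter ↥K θ₀ ∧ θ₀ = fun y : ↥K => μ χ.1 y := by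
      refine ⟨_, ?_, rfl⟩
      have := hμ.irr_res P χ.1
      rwa [← commutator_eq_subgroupOf] at this
    subst hres
    have e : m χ = indFun K (fun y : ↥K => μ χ.1 y) := by
      have := hμ.indFun_res P χ.1
      rw [← commutator_eq_subgroupOf] at this
      exact this.symm
    refine ⟨⟨_, hθ₀, fun he => ?_, fun z hz => ?_, e⟩, ?_, fun d hd => ?_⟩
    · refine mu_not_trivOn B hG hM h hP hμ (hnt χ hχ) K (fun y hy => ?_) fun k hk => ?_
      · rw [hK, commutator_eq_subgroupOf, Subgroup.mem_subgroupOf]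
        exact (hP.W₂_le.trans inf_le_right).trans (Subgroup.commutator_le_self _) hy
      · exact (congrFun he ⟨k, hk⟩).trans (congrFun he 1).symm
    · rw [show z = 1 from Subtype.ext (Subgroup.mem_bot.1 hz)]
    · have hinj : ∀ φ φ' : Ann W₁ W₂ W₂, μ (χ.1 * φ.1) = μ (χ.1 * φ'.1) → φ = φ' := fun φ φ' he =>
        (mul_inj hW (a := φ) (a' := φ') (b := χ) (b' := χ)
          (by simpa [mul_comm] using hμ.inj he)).1
      simp only [m, Char.classInner_sum_left, Char.classInner_sum_right]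
      rw [Finset.sum_congr rfl fun φ _ => Finset.sum_eq_single φ
        (fun φ' _ hne => Char.classInner_irr_of_ne (hμ.irr _) (hμ.irr _) fun he => hne (hinj _ _ he))
        (fun hn => absurd (Finset.mem_univ φ) hn)]
      simp [Char.classInner_irr_self (hμ.irr _), card_ann_two hW]
    · rw [e, Char.indFun_apply_one, mul_comm]
      exact congrArg (· * (K.index : ℂ)) hd
  obtain ⟨hm₁, hmN, hm1'⟩ := hmem ψ hψ
  obtain ⟨hm₂, hmN', hm2'⟩ := hmem _ hψ'
  obtain ⟨d, hd, hdw⟩ := mu_degree B hG hM h hP hμ (hnt ψ hψ)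
  have hd' : μ (annInv ψ).1 1 = d := by
    rw [show (annInv ψ).1 = ψ.1⁻¹ from rfl, ← (hμ.conj_eq P ψ.1).1]
    show conj (μ ψ.1 1) = _
    rw [hd, Complex.conj_natCast]
  have hVimg : ∀ η' ∈ inducedIrrAbove K ⊥, ∀ k : ℕ, η' 1 = k * K.index →
      VanishV W₁ W₂ (τ₁ η') := by
    intro η' hη' k hk
    refine ⟨hS.image_gen hη', fun w h1 h2 => ?_⟩
    have e := congrFun (hS.dade_sub hη' hk) w
    rw [(vanishV_dade hG B hM h hP (hS.sub_gen hη' k) (hS.sub_vanish hη' hk)).zero w h1 h2,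
      Pi.sub_apply, Pi.smul_apply, ← ha, hVa w h1 h2, smul_zero, sub_zero] at e
    exact e.symm
  have hθV := hVimg _ hm₁ d (hm1' d hd)
  have hθV' := hVimg _ hm₂ d (hm2' d hd')
  obtain ⟨ψ₀, ε, hε, hcol⟩ := exists_etaCol hW hodd hη (δ := δ ψ.1) (ψ := ψ) (ψ' := annInv ψ) hθV hθV'
    (by rw [hS.image_inner hm₁ hm₁, hmN]) (by rw [hS.image_inner hm₂ hm₂, hmN'])
    (hμ.sign ψ.1) (fun e => hψ (hi3 ψ e.symm)) (by
      have hmem' : m ψ - m (annInv ψ) ∈ zspanOn (inducedIrrAbove K ⊥) {1}ᶜ := by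
        refine Char.mem_zspanOn_compl_one.2
          ⟨Submodule.sub_mem _ (Submodule.subset_span hm₁) (Submodule.subset_span hm₂), ?_⟩
        rw [Pi.sub_apply, hm1' d hd, hm2' d hd', sub_self]
      rw [← Char.iso_map_sub (E := Submodule.span ℤ (inducedIrrAbove K ⊥)) hiso
        (Submodule.subset_span hm₁) (Submodule.subset_span hm₂), hext _ hmem',
        ftTau_eq hP hI, hμ.tau_sum_sub P hη (hnt ψ hψ) (hnt _ hψ') (fun w hw => by
          rw [ψ.2 w hw, (annInv ψ).2 w hw]) (hd.trans hd'.symm)]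
      have hcomm : ∀ x y : ↥(W₁ ⊔ W₂) →* ℂˣ, x * y = y * x := fun x y =>
        MonoidHom.ext fun w => mul_comm (x w) (y w)
      simp only [etaCol, hcomm ψ.1, hcomm (annInv ψ).1])
  have hfθ : classInner f (τ₁ (m ψ)) = d * (1 + ((c - 1 : ℤ) : ℂ)) := by
    have hne : ζ ≠ m ψ := by
      intro e
      have h1 : classInner ζ ζ = 1 := Char.classInner_irr_self hζirr
      rw [e, hmN] at h1
      have h3 := (three_le_card hW hodd).1
      norm_cast at h1
      omega
    rw [hf, hS.beta_image hc hm₁, indIrr_inner K hζ hm₁ hne, hm1' d hd,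
      mul_div_cancel_right₀ _ hS.index_ne_zero]
    push_cast; ring
  have hfN : classInner f f = Nat.card W₁ + 1 := by rw [hf, hS.beta_norm, hKidx]
  rcases bridge hW hodd hη hfV hfN hS.beta_one hsa hsb hab hVab hfa hfb hconj hε hcol hdw hfθ with
    he | he
  · refine ⟨τ₁, ζ, hS, fun g hg => ?_⟩
    have e := congrFun he g
    rw [hf, dadeBeta, dadeIsometry_eq_zero hg, Pi.sub_apply, eq_comm, sub_eq_zero] at e
    rw [e]
  · refine ⟨τ₁, conjFun ζ, hS', fun g hg => ?_⟩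
    have e := congrFun he g
    rw [hf, dadeBeta, dadeIsometry_eq_zero hg, Pi.add_apply, eq_comm, add_eq_zero_iff_eq_neg] at e
    rw [e, norm_neg]

end Cfsg.Agent.OddOrder.PF
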