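import Cfsg.Agent.Lib.OddOrder.PF.S10_TypeV
import Cfsg.Agent.Lib.OddOrder.CoherenceFiber
import Cfsg.Agent.Lib.PCore.Basic

/-!
Peterfalvi (10.10), last case: `M'` is extraspecial of order `p³` and `|W₁|` divides `p + 1`. A
character of `M'` not trivial on the centre has degree `p` and is invariant in `M`; the coefficient of
its image on the linear family is minimal by an argument with the table of coefficients along the
cyclic TI family.
-/

set_option autoImplicit false
set_option linter.style.haveILetI false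

namespace Cfsg.Agent.OddOrder.PF

open Cfsg Cfsg.Agent.OddOrder Cfsg.Agent
open scoped ComplexConjugate

universe u

/-- The derived group of a non-abelian group of order `p³` is its centre, of order `p`. -/
theorem commutator_eq_center_cube {K : Type*} [Group K] [Finite K] {p : ℕ} [hp : Fact p.Prime]
    (hK : Nat.card K = p ^ 3) (hna : commutator K ≠ ⊥) :
    commutator K = Subgroup.center K ∧ Nat.card (Subgroup.center K) = p := by
  obtain ⟨j, hj0, hj⟩ := IsPGroup.card_center_eq_prime_pow hK (by norm_num)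
  have hmul : Nat.card (Subgroup.center K) * (Subgroup.center K).index = p ^ 3 := by
    rw [Subgroup.card_mul_index, hK]
  have hidx : j ≤ 3 ∧ (Subgroup.center K).index = p ^ (3 - j) := by
    have hj3 : j ≤ 3 := (Nat.pow_dvd_pow_iff_le_right hp.out.one_lt).1
      (hj ▸ hK ▸ Subgroup.card_subgroup_dvd_card (Subgroup.center K))
    refine ⟨hj3, Nat.eq_of_mul_eq_mul_left (pow_pos hp.out.pos j) ?_⟩
    rw [← pow_add, Nat.add_sub_cancel' hj3, ← hj, hmul]
  have hj1 : j = 1 := by
    by_contra hne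
    refine hna ?_
    haveI : IsCyclic (K ⧸ Subgroup.center K) := by
      have hc : Nat.card (K ⧸ Subgroup.center K) = p ^ (3 - j) := hidx.2
      rcases (show 3 - j = 0 ∨ 3 - j = 1 by omega) with h | h <;> rw [h] at hc
      · haveI : Subsingleton (K ⧸ Subgroup.center K) :=
          (Nat.card_eq_one_iff_unique.1 (by rwa [pow_zero] at hc)).1
        infer_instance
      · exact isCyclic_of_prime_card (p := p) (by rwa [pow_one] at hc)
    rw [eq_bot_iff]
    refine Subgroup.commutator_le.2 fun a _ b _ => Subgroup.mem_bot.2 ?_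
    rw [commutatorElement_eq_one_iff_mul_comm]
    haveI := MonoidHom.isMulCommutative_of_isCyclic_of_ker_le_center
      (QuotientGroup.mk' (Subgroup.center K)) (by rw [QuotientGroup.ker_mk'])
    exact mul_comm' a b
  subst hj1
  rw [pow_one] at hj
  have hle : commutator K ≤ Subgroup.center K := by
    haveI := IsPGroup.isMulCommutative_of_card_eq_prime_sq (p := p)
      (show Nat.card (K ⧸ Subgroup.center K) = p ^ 2 by exact hidx.2)
    refine Subgroup.commutator_le.2 fun a _ b _ => (QuotientGroup.eq_one_iff _).1 ?_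
    show QuotientGroup.mk' (Subgroup.center K) _ = 1
    rw [map_commutatorElement, commutatorElement_eq_one_iff_mul_comm]
    exact mul_comm' _ _
  refine ⟨Subgroup.eq_of_le_of_card_ge hle ?_, hj⟩
  rw [hj]
  have h1 := Nat.card_pos (α := commutator K)
  rcases (Nat.dvd_prime hp.out).1 (hj ▸ Subgroup.card_dvd_of_le hle) with h | h
  · exact absurd (Subgroup.card_eq_one.1 h) hna
  · exact h.ge

/-- A character not trivial on the centre of a group of order `p³` vanishes off the centre and has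
degree `p`. -/
theorem cube_char {K : Type*} [Group K] [Fintype K] {p : ℕ} [hp : Fact p.Prime]
    (hK : Nat.card K = p ^ 3) (hcc : commutator K = Subgroup.center K)
    (hc : Nat.card (Subgroup.center K) = p) (θ : IrrCharacter K)
    (hθ : ∃ z ∈ Subgroup.center K, θ.1 z ≠ θ.1 1) :
    (∀ y, y ∉ Subgroup.center K → θ.1 y = 0) ∧ charDegree θ.1 = p := by
  classical
  set lam := ZassenhausSuzuki.centralChar θ
  have hval : ∀ z : Subgroup.center K, θ.1 z = lam z * θ.1 1 := fun z => by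
    have := ZassenhausSuzuki.apply_mul_central θ z 1
    rwa [mul_one] at this
  have hfaith : ∀ z : Subgroup.center K, lam z = 1 → z = 1 := by
    intro z hz
    by_contra hne
    obtain ⟨u, hu, hune⟩ := hθ
    obtain ⟨n, hn⟩ := Submonoid.mem_powers_iff _ _ |>.1
      (mem_powers_of_prime_card (g' := (⟨u, hu⟩ : Subgroup.center K)) hc hne)
    refine hune ?_
    rw [show u = ((⟨u, hu⟩ : Subgroup.center K) : K) from rfl, hval, ← hn, map_pow, hz, one_pow, one_mul]
  have hzero : ∀ y, y ∉ Subgroup.center K → θ.1 y = 0 := by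
    intro y hy
    rw [Subgroup.mem_center_iff] at hy
    push Not at hy
    obtain ⟨g, hg⟩ := hy
    have hcm : g * y * g⁻¹ * y⁻¹ ∈ Subgroup.center K := hcc ▸
      Subgroup.commutator_mem_commutator (Subgroup.mem_top g) (Subgroup.mem_top y)
    have h := ZassenhausSuzuki.apply_mul_central θ ⟨_, hcm⟩ y
    rw [show ((⟨_, hcm⟩ : Subgroup.center K) : K) * y = g * y * g⁻¹ by simp [mul_assoc],
      Char.IsCharacter.isClassFunction (Char.irr_isCharacter θ) y g] at h
    have h' : (lam ⟨_, hcm⟩ - 1) * θ.1 y = 0 := by rw [sub_mul, one_mul, ← h, sub_self]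
    exact (mul_eq_zero.1 h').resolve_left (sub_ne_zero.2 fun e => hg
      (mul_inv_eq_iff_eq_mul.1 (mul_inv_eq_one.1 (congrArg Subtype.val (hfaith _ e)))))
  refine ⟨hzero, ?_⟩
  have h := Char.classInner_irr_self θ.2
  rw [classInner, inv_mul_eq_iff_eq_mul₀ (Nat.cast_ne_zero.2 Nat.card_pos.ne'), mul_one,
    ← Finset.sum_subset (Finset.subset_univ (Finset.univ.filter (· ∈ Subgroup.center K))) fun y _ hy => by
      rw [hzero y (by simpa using hy), zero_mul],
    Finset.sum_congr rfl (g := fun _ => (charDegree θ.1 : ℂ) ^ 2) fun y hy => by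
      obtain ⟨-, hy⟩ := Finset.mem_filter.1 hy
      have hpow : lam ⟨y, hy⟩ ^ Nat.card (Subgroup.center K) = 1 := by
        rw [← map_pow, pow_card_eq_one', map_one]
      rw [show θ.1 y = θ.1 ((⟨y, hy⟩ : Subgroup.center K) : K) from rfl, hval, map_mul,
        ← Char.charDegree_cast, Complex.conj_natCast]
      have hn : lam ⟨y, hy⟩ * conj (lam ⟨y, hy⟩) = 1 := by
        rw [Complex.mul_conj, Complex.normSq_eq_norm_sq,
          Complex.norm_eq_one_of_pow_eq_one hpow Nat.card_pos.ne']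
        simp
      linear_combination ((charDegree θ.1 : ℂ) ^ 2) * hn,
    Finset.sum_const, nsmul_eq_mul] at h
  have hcard : (Finset.univ.filter (· ∈ Subgroup.center K)).card = p := by
    rw [← hc, Nat.card_eq_fintype_card, Fintype.card_subtype]
  rw [hcard, hK] at h
  have h' : p * charDegree θ.1 ^ 2 = p * p ^ 2 := by
    have : p * charDegree θ.1 ^ 2 = p ^ 3 := by exact_mod_cast h
    rw [this]; ring
  exact Nat.pow_left_injective two_ne_zero (Nat.eq_of_mul_eq_mul_left hp.out.pos h')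

/-- A conjugation closed subset of a coherence system is one. -/
theorem system_subset {L : Type*} [Group L] [Fintype L] {G : Type*} [Group G] [Fintype G]
    {S T : Set (L → ℂ)} {τ : (L → ℂ) → (G → ℂ)} {R : (L → ℂ) → Finset (G → ℂ)}
    (hS : IsCoherenceSystem S τ R) (hTS : T ⊆ S) (hne : T.Nonempty)
    (hc : ∀ χ ∈ T, conjFun χ ∈ T) : IsCoherenceSystem T τ R :=
  have hz : ∀ {a}, a ∈ zspanOn T {1}ᶜ → a ∈ zspanOn S {1}ᶜ := fun ha =>
    ⟨Submodule.span_mono hTS ha.1, ha.2⟩
  ⟨hne, fun χ h => hS.isCharacter χ (hTS h), hc, fun χ h => hS.conj_ne χ (hTS h),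
    ⟨fun a ha b hb => hS.isometry.1 a (hz ha) b (hz hb), fun a ha n => hS.isometry.2.1 a (hz ha) n,
      fun a ha b hb => hS.isometry.2.2.1 a (hz ha) b (hz hb), fun a ha => hS.isometry.2.2.2 a (hz ha)⟩,
    fun a ha => hS.map_one a (hz ha), fun χ h φ h' => hS.orthogonal χ (hTS h) φ (hTS h'),
    fun χ h => hS.orthonormal χ (hTS h), fun χ h => hS.virtual χ (hTS h),
    fun χ h => hS.sum_eq χ (hTS h), fun χ h φ h' => hS.disjoint χ (hTS h) φ (hTS h')⟩

/-- The two integral inequalities of the argument: a coefficient `x` on the linear family of size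
`N` is `0` or `1`. -/
theorem cube_x_cases {N p e x : ℤ} (hN : 2 * (p - 1) ≤ N) (hpe : e + 2 ≤ p) (he : 3 ≤ e)
    (h : N * x ^ 2 ≤ e + 2 * p * x) : x = 0 ∨ x = 1 := by
  rcases lt_trichotomy x 0 with hx | hx | hx
  · nlinarith
  · exact Or.inl hx
  · refine Or.inr ?_
    by_contra hne
    have hx2 : 2 ≤ x := by omega
    have h1 := mul_le_mul_of_nonneg_right hN (sq_nonneg x)
    have h2 := mul_le_mul_of_nonneg_left hx2 (show (0 : ℤ) ≤ (2 * p - 2) * x by nlinarith)
    have h3 := mul_le_mul_of_nonneg_left hx2 (show (0 : ℤ) ≤ 2 * p - 4 by omega)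
    nlinarith

open scoped Classical in
/-- Bessel for an orthonormal family indexed by a finite type. -/
theorem bessel_family {X : Type u} [Group X] [Fintype X] {ι : Type*} [Fintype ι] (v : ι → X → ℂ)
    (hv : ∀ i j, classInner (v i) (v j) = if i = j then 1 else 0) (f : X → ℂ) (N : ℤ)
    (hf : classInner f f = N) (a : ι → ℤ) (ha : ∀ i, classInner f (v i) = a i) :
    ∑ i, a i ^ 2 ≤ N := by
  have h := bessel_int Finset.univ v (fun _ => 1) (fun _ _ => Nat.one_pos)
    (fun i _ j _ => by rw [hv, Nat.cast_one]) f N hf a fun i _ => ha i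
  simp only [Nat.cast_one, div_one] at h
  exact_mod_cast h

/-- The centre of `M'` of order `p³` is `W₂`, central in `M`, and a character of `M'` not trivial
on it has degree `p` and is invariant in `M`. -/
theorem cube_facts {G : Type u} [Group G] [Fintype G] {M W₁ U W₂ : Subgroup G} [Fintype M]
    (hP : IsTypePWith M W₁ U W₂) {p : ℕ} [hp : Fact p.Prime]
    (hK : Nat.card ↥(commutator ↥M) = p ^ 3) (hW₂ : (Nat.card W₂).Prime) :
    Nat.card W₂ = p ∧ Nat.card (⁅commutator ↥M, commutator ↥M⁆ : Subgroup M) = p ∧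
      Subgroup.relIndex ⁅commutator ↥M, commutator ↥M⁆ (commutator ↥M) = p ^ 2 ∧
      (∀ z ∈ ⁅commutator ↥M, commutator ↥M⁆, ∀ x : M, x * z = z * x) ∧
      ∀ θ : IrrCharacter ↥(commutator ↥M),
        (∃ z : ↥(commutator ↥M), (z : M) ∈ ⁅commutator ↥M, commutator ↥M⁆ ∧ θ.1 z ≠ θ.1 1) →
        charDegree θ.1 = p ∧ (∀ y : ↥(commutator ↥M),
          indFun (commutator ↥M) θ.1 y = ((commutator ↥M).index : ℂ) * θ.1 y) ∧
          classInner (indFun (commutator ↥M) θ.1) (indFun (commutator ↥M) θ.1) =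
            (commutator ↥M).index := by
  classical
  set K := commutator ↥M with hKdef
  haveI : Fintype K := Fintype.ofFinite _
  set Z : Subgroup M := ⁅K, K⁆ with hZdef
  have hZK : Z ≤ K := Subgroup.commutator_le_self _
  have hW₂Z := W₂_le_second hP
  have hW₂M : W₂ ≤ M := (hP.W₂_le.trans inf_le_left).trans (fittingHallOf_le M)
  have hcardW : Nat.card (W₂.subgroupOf M) = Nat.card W₂ :=
    Nat.card_congr (Subgroup.subgroupOfEquivOfLe hW₂M).toEquiv
  have hmap : (commutator ↥K).map K.subtype = Z := Subgroup.map_subtype_commutator K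
  have hna : commutator ↥K ≠ ⊥ := by
    intro h
    rw [h, Subgroup.map_bot] at hmap
    have := Subgroup.card_le_of_le (hmap ▸ hW₂Z : W₂.subgroupOf M ≤ ⊥)
    rw [hcardW, Subgroup.card_bot] at this
    have := hW₂.two_le
    omega
  obtain ⟨hcc, hc⟩ := commutator_eq_center_cube hK hna
  have hZp : Nat.card Z = p := by
    rw [← hmap, Subgroup.card_map_of_injective K.subtype_injective, hcc, hc]
  have hWp : Nat.card W₂ = p := (Nat.prime_dvd_prime_iff_eq hW₂ hp.out).1
    (hZp ▸ hcardW ▸ Subgroup.card_dvd_of_le hW₂Z)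
  have hZW : Z ≤ W₂.subgroupOf M :=
    (Subgroup.eq_of_le_of_card_ge hW₂Z (by rw [hcardW, hWp]; exact hZp.le)).ge
  have hmemc : ∀ y : K, (y : M) ∈ Z ↔ y ∈ Subgroup.center K := fun y => by
    rw [← hmap, ← hcc]
    exact ⟨fun ⟨a, ha, e⟩ => by rwa [← show a = y from Subtype.ext e], fun h => ⟨y, h, rfl⟩⟩
  have hcenM : ∀ z ∈ Z, ∀ x : M, x * z = z * x := by
    intro z hz x
    obtain ⟨c, hc', w, hw, rfl⟩ := (typeP_decomp hP).1 x
    have h1 : c * z = z * c := congrArg Subtype.val
      (Subgroup.mem_center_iff.1 ((hmemc ⟨z, hZK hz⟩).1 hz) ⟨c, hc'⟩)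
    have h2 : w * z = z * w := Subtype.ext (hP.selfNormalizing.2.2.2.1 _ hw _ (hZW hz))
    rw [mul_assoc, h2, ← mul_assoc, h1, mul_assoc]
  refine ⟨hWp, hZp, ?_, hcenM, fun θ hθ => ?_⟩
  · have h := Subgroup.relIndex_mul_relIndex ⊥ Z K bot_le hZK
    rw [Subgroup.relIndex_bot_left, Subgroup.relIndex_bot_left, hZp, hK,
      show p ^ 3 = p * p ^ 2 by ring] at h
    exact Nat.eq_of_mul_eq_mul_left hp.out.pos h
  obtain ⟨z, hz, hne⟩ := hθ
  obtain ⟨hzero, hdeg⟩ := cube_char hK hcc hc θ ⟨z, (hmemc z).1 hz, hne⟩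
  have hinv : ∀ (x : M) (y : K) (h : x⁻¹ * y * x ∈ K), θ.1 ⟨x⁻¹ * y * x, h⟩ = θ.1 y := by
    intro x y h
    by_cases hy : (y : M) ∈ Z
    · refine congrArg θ.1 (Subtype.ext ?_)
      show x⁻¹ * y * x = y
      rw [mul_assoc, ← hcenM _ hy x, inv_mul_cancel_left]
    · rw [hzero y fun h' => hy ((hmemc y).2 h'), hzero _ fun h' => hy ?_]
      have := (inferInstance : Z.Normal).conj_mem _ ((hmemc _).2 h') x
      simpa [mul_assoc] using this
  have hres : ∀ y : K, indFun K θ.1 y = (K.index : ℂ) * θ.1 y := fun y => by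
    simp only [indFun]
    rw [Finset.sum_congr rfl fun x _ => (Char.extendByZero_of_mem _ _
        (show x⁻¹ * (y : M) * x ∈ K by
          simpa using (inferInstance : K.Normal).conj_mem _ y.2 x⁻¹)).trans (hinv x y _),
      Finset.sum_const, Finset.card_univ, nsmul_eq_mul, ← Nat.card_eq_fintype_card,
      ← Subgroup.index_mul_card K, Nat.cast_mul, ← mul_assoc, ← mul_assoc,
      mul_comm _ (K.index : ℂ), mul_assoc (K.index : ℂ),
      inv_mul_cancel₀ (Nat.cast_ne_zero.2 Nat.card_pos.ne'), mul_one]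
  refine ⟨hdeg, hres, ?_⟩
  rw [Char.classInner_indFun K θ.1 (Char.isClassFunction_indFun K θ.1),
    show (fun y : K => indFun K θ.1 y) = (K.index : ℂ) • θ.1 from funext hres,
    Char.classInner_smul_right, Char.classInner_irr_self θ.2, Complex.conj_natCast, mul_one]

variable {G : Type u} [Group G] [Fintype G] {M W₁ U W₂ : Subgroup G} [Fintype M] (B : BGFacts G)
  (hG : IsMinSimpleOddOrder G) (hM : IsCoatom M) (hV : IsOfTypeV M)
  (hP : IsTypePWith M W₁ U W₂)
include B hG hM hV hP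

omit [Fintype M] in
/-- The image of the induced principal character minus a member of the linear family, shifted. -/
theorem column_one [Fintype (Ann W₁ W₂ W₁)] [Fintype (Ann W₁ W₂ W₂)]
    {η : (↥(W₁ ⊔ W₂) →* ℂˣ) → (G → ℂ)} (hη : IsCyclicTIFamily W₁ W₂ η) {F : G → ℂ}
    (hF : VanishV W₁ W₂ F) (hN : classInner F F = Nat.card W₁)
    (h1 : classInner F (fun _ => 1) = 1) (hbig : Nat.card W₁ < Nat.card W₂) :
    F = etaCol η (annOne W₁ W₂ W₁) := by
  classical
  have P := primeDade_345 B hG hM (Or.inr (Or.inr hV)) hP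
  have hW := P.selfNorm
  obtain ⟨C, hC, hCc, hCN⟩ := exists_rows hW hη hF (N := Nat.card W₁) (by exact_mod_cast hN)
  have h00 : C (annOne W₁ W₂ W₂) (annOne W₁ W₂ W₁) = 1 := by
    have := hCc (annOne W₁ W₂ W₂) (annOne W₁ W₂ W₁)
    rw [mul_annOne, show (annOne W₁ W₂ W₂).1 = 1 from rfl, hη.map_one, h1] at this
    exact_mod_cast this.symm
  rcases additive_rows_or_column (three_le_card_index hW P.oddW).1 C hC
    (hCN.trans_eq (by rw [card_ann_two hW])) with hrow | ⟨l₀, ε, hε, hcol⟩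
  · exfalso
    have h2 : (Fintype.card (Ann W₁ W₂ W₁) : ℤ) ≤ Nat.card W₁ := by
      refine le_trans ?_ ((Finset.single_le_sum (f := fun φ => ∑ ψ, C φ ψ ^ 2)
        (fun φ _ => Finset.sum_nonneg fun ψ _ => sq_nonneg _)
        (Finset.mem_univ (annOne W₁ W₂ W₂))).trans hCN)
      rw [Finset.sum_congr rfl fun ψ _ => by rw [hrow _ ψ (annOne W₁ W₂ W₁), h00, one_pow]]
      simp
    rw [← Nat.card_eq_fintype_card, (ann_facts hW).2.2.1] at h2
    omega
  · rw [hcol] at h00
    split_ifs at h00 with hl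
    · subst h00
      rw [← hl] at hcol
      simpa using eq_smul_etaCol hW hη hN hε fun φ => by rw [hCc, hcol, if_pos rfl]
    · norm_num at h00

omit [Fintype M] in
/-- The table of a shifted image cannot have first column sum one. -/
theorem table_false [Fintype (Ann W₁ W₂ W₁)] [Fintype (Ann W₁ W₂ W₂)]
    {C C' : Ann W₁ W₂ W₂ → Ann W₁ W₂ W₁ → ℤ}
    (hC : ∀ i i' l l', C i l + C i' l' = C i l' + C i' l)
    (hC' : ∀ i i' l l', C' i l + C' i' l' = C' i l' + C' i' l)
    (hN : ∑ i, ∑ l, C i l ^ 2 ≤ (Nat.card W₁ : ℤ) + 2)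
    (hN' : ∑ i, ∑ l, C' i l ^ 2 ≤ (Nat.card W₁ : ℤ) + 2)
    (hbig : Nat.card W₁ + 2 ≤ Nat.card W₂)
    (h00 : C (annOne W₁ W₂ W₂) (annOne W₁ W₂ W₁) = 0)
    (h00' : C' (annOne W₁ W₂ W₂) (annOne W₁ W₂ W₁) = 0)
    (h0 : ∑ i, C i (annOne W₁ W₂ W₁) = 1) (h0' : ∑ i, C' i (annOne W₁ W₂ W₁) = 1)
    {ψ : Ann W₁ W₂ W₁} (hd : C (annOne W₁ W₂ W₂) ψ ≠ C' (annOne W₁ W₂ W₂) ψ) : False := by
  classical
  have P := primeDade_345 B hG hM (Or.inr (Or.inr hV)) hP
  have key : ∀ D : Ann W₁ W₂ W₂ → Ann W₁ W₂ W₁ → ℤ,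
      (∀ i i' l l', D i l + D i' l' = D i l' + D i' l) →
      ∑ i, ∑ l, D i l ^ 2 ≤ (Nat.card W₁ : ℤ) + 2 →
      D (annOne W₁ W₂ W₂) (annOne W₁ W₂ W₁) = 0 → ∑ i, D i (annOne W₁ W₂ W₁) = 1 →
      ∀ l, D (annOne W₁ W₂ W₂) l = 0 := by
    intro D hD hDN hD00 hD0 l
    set o := annOne W₁ W₂ W₂
    set o' := annOne W₁ W₂ W₁
    obtain ⟨i, hi⟩ : ∃ i, D i o' ≠ 0 := by
      by_contra hcon
      push Not at hcon
      simp [hcon] at hD0
    have hio : i ≠ o := fun e => hi (e ▸ hD00)
    have hadd : ∀ k l, D k l = D k o' + D o l := fun k l => by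
      have := hD k o l o'
      omega
    obtain ⟨k, hk, hk'⟩ : ∃ k, k ≠ o ∧ k ≠ i := by
      have h3 := (three_le_card_index P.selfNorm P.oddW).2
      obtain ⟨k, -, hk⟩ := Finset.exists_mem_notMem_of_card_lt_card
        (show ({o, i} : Finset (Ann W₁ W₂ W₂)).card < (Finset.univ : Finset (Ann W₁ W₂ W₂)).card from
          lt_of_le_of_lt Finset.card_le_two (by rw [Finset.card_univ]; omega))
      simp only [Finset.mem_insert, Finset.mem_singleton, not_or] at hk
      exact ⟨k, hk⟩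
    have h2 : (Fintype.card (Ann W₁ W₂ W₁) : ℤ) ≤ ∑ l, D o l ^ 2 + ∑ l, D i l ^ 2 := by
      rw [← Finset.sum_add_distrib]
      refine le_trans (by simp) (Finset.sum_le_sum (f := fun _ => (1 : ℤ)) fun l _ => ?_)
      have h1 := hadd i l
      rcases eq_or_ne (D o l) 0 with h | h
      · have : 0 < D i l ^ 2 := by
          have : D i l ≠ 0 := by omega
          positivity
        nlinarith [sq_nonneg (D o l)]
      · have : 0 < D o l ^ 2 := by positivity
        nlinarith [sq_nonneg (D i l)]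
    have hsub := Finset.sum_le_sum_of_subset_of_nonneg (Finset.subset_univ {o, i, k})
      (f := fun k => ∑ l, D k l ^ 2) fun k _ _ => Finset.sum_nonneg fun l _ => sq_nonneg _
    rw [Finset.sum_insert (by simp [hio.symm, hk.symm]), Finset.sum_pair hk'.symm] at hsub
    rw [← Nat.card_eq_fintype_card, (ann_facts P.selfNorm).2.2.1] at h2
    have hkn : ∀ l, (0 : ℤ) ≤ D k l ^ 2 := fun l => sq_nonneg _
    have hk0 : ∀ l, D k l = 0 := by
      have hz : ∑ l, D k l ^ 2 = 0 := le_antisymm (by omega) (Finset.sum_nonneg fun l _ => hkn l)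
      exact fun l => pow_eq_zero_iff (n := 2) two_ne_zero |>.1
        ((Finset.sum_eq_zero_iff_of_nonneg fun l _ => hkn l).1 hz l (Finset.mem_univ _))
    have := hadd k l
    rw [hk0, hk0] at this
    omega
  exact hd ((key C hC hN h00 h0 ψ).trans (key C' hC' hN' h00' h0' ψ).symm)

/-- Peterfalvi (10.10) when `M'` has order `p³` and `|W₁|` divides `p + 1`. -/
theorem coherent_of_cube {p : ℕ} [hp : Fact p.Prime] (hK : Nat.card ↥(commutator ↥M) = p ^ 3)
    (hW₂ : (Nat.card W₂).Prime) (hdvd : Nat.card W₁ ∣ p + 1)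
    [Fintype (Ann W₁ W₂ W₁)] [Fintype (Ann W₁ W₂ W₂)]
    {μ : (↥(W₁ ⊔ W₂) →* ℂˣ) → (M → ℂ)} {δ : (↥(W₁ ⊔ W₂) →* ℂˣ) → ℤ}
    (hμ : MuFamily M W₁ W₂ μ δ) {η : (↥(W₁ ⊔ W₂) →* ℂˣ) → (G → ℂ)}
    (hη : IsCyclicTIFamily W₁ W₂ η) {Rs : (M → ℂ) → Finset (G → ℂ)}
    (hS : IsCoherenceSystem (inducedIrrAbove (commutator ↥M) ⊥) (ftTau M) Rs) :
    IsCoherent (inducedIrrAbove (commutator ↥M) ⊥) {1}ᶜ (ftTau M) := by
  classical
  have h345 : IsType345 M := Or.inr (Or.inr hV)
  have P := primeDade_345 B hG hM h345 hP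
  have hD := dadeHypothesis_typeSet B hM (A := typeA' M) (Or.inr (Or.inl rfl))
  have hW := P.selfNorm
  obtain ⟨hWp, hZp, hrel, hcenM, hθf⟩ := cube_facts hP hK hW₂
  set K := commutator ↥M with hKdef
  haveI : Fintype K := Fintype.ofFinite _
  haveI : (⁅K, K⁆ : Subgroup M).Normal := inferInstance
  have hKe : K.index = Nat.card W₁ := (index_commutator_eq hP).1
  obtain ⟨he3, hp3⟩ := three_le_card hW P.oddW
  rw [hWp] at hp3
  have hpe : Nat.card W₁ + 2 ≤ p := by
    obtain ⟨m, hm⟩ := hdvd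
    have hoddp : Odd p := by
      have : Odd (Nat.card W₂) := P.oddW.of_dvd_nat (Subgroup.card_dvd_of_le le_sup_right)
      rwa [hWp] at this
    have hodde : Odd (Nat.card W₁) := P.oddW.of_dvd_nat (Subgroup.card_dvd_of_le le_sup_left)
    have hm2 : 2 ≤ m := by
      rcases m with _ | _ | m
      · omega
      · obtain ⟨i, hi⟩ := hoddp
        obtain ⟨j, hj⟩ := hodde
        omega
      · omega
    have := Nat.mul_le_mul_left (Nat.card W₁) hm2
    omega
  have hp2e : Nat.card W₁ < p ^ 2 := by nlinarith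
  -- the linear family
  set Y := inducedIrrAbove K ⁅K, K⁆ with hYdef
  have hYS : Y ⊆ inducedIrrAbove K ⊥ := inducedIrrAbove_subset_bot K _
  have hY1 : ∀ φ ∈ Y, classInner φ φ = 1 := fun φ hφ => (linear_norm hG B hM hV hP hφ).2
  obtain ⟨hlt, -⟩ := second_lt hG hM hP
  haveI : Group.IsSolvable M := hG.2.2.2 M hM.1
  obtain ⟨θ₁, hθ₁, -⟩ := exists_linear_above K inferInstance ⁅K, K⁆ hlt
  have hY0 : indFun K θ₁.1 ∈ Y := (mem_inducedIrrAbove_iff K).2 ⟨θ₁, hθ₁, rfl⟩
  obtain ⟨-, σ, hσ, hσA⟩ := isCoherent_of_const_degree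
    (system_subset hS hYS ⟨_, hY0⟩ fun χ h => conj_mem_inducedIrrAbove K h)
    fun φ hφ ψ hψ => by rw [linearFamily_apply_one K hφ, linearFamily_apply_one K hψ]
  set η₀ := indFun K θ₁.1 with hη₀
  set a := σ η₀ with ha
  set Yf := (aboveChars K ⁅K, K⁆).image (fun θ => indFun K θ.1) with hYf
  have hmem : ∀ φ, φ ∈ Yf ↔ φ ∈ Y := fun φ => by
    rw [hYdef, mem_inducedIrrAbove_iff, hYf, Finset.mem_image]
    exact ⟨fun ⟨θ, h, e⟩ => ⟨θ, h, e.symm⟩, fun ⟨θ, h, e⟩ => ⟨θ, h, e.symm⟩⟩
  have hη₀f : η₀ ∈ Yf := (hmem _).2 hY0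
  set N : ℤ := (Yf.card : ℤ) with hNdef
  have hNe : N * Nat.card W₁ = (p : ℤ) ^ 2 - 1 := by
    have hclosed : ∀ θ ∈ aboveChars K ⁅K, K⁆, ∀ g,
        Char.conjChar K θ g ∈ aboveChars K ⁅K, K⁆ := fun θ h g => conjChar_mem_aboveChars K h g
    have hsum := sum_sq_div_norm K (aboveChars K ⁅K, K⁆) hclosed (fun _ => K.index) (fun _ => 1)
      (fun θ h => linearFamily_apply_one K ((mem_inducedIrrAbove_iff K).2 ⟨θ, h, rfl⟩))
      (fun θ h => by rw [Nat.cast_one]; exact hY1 _ ((mem_inducedIrrAbove_iff K).2 ⟨θ, h, rfl⟩))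
    have hcount : (∑ θ ∈ aboveChars K ⁅K, K⁆, (charDegree θ.1 : ℝ) ^ 2) =
        (Subgroup.relIndex ⁅K, K⁆ K : ℝ) - 1 := by
      have := sum_aboveChars K ⁅K, K⁆
      simp only [← Char.charDegree_cast] at this
      exact Complex.ofReal_injective (by push_cast; exact this)
    rw [hcount, hrel, Finset.sum_const, nsmul_eq_mul, hKe] at hsum
    have he : (Nat.card W₁ : ℝ) ≠ 0 := Nat.cast_ne_zero.2 Nat.card_pos.ne'
    have : ((N * Nat.card W₁ : ℤ) : ℝ) = (((p : ℤ) ^ 2 - 1 : ℤ) : ℝ) := by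
      push_cast at hsum ⊢
      field_simp at hsum
      rw [hNdef, Int.cast_natCast]
      linear_combination hsum
    exact_mod_cast this
  have hNbig : 2 * ((p : ℤ) - 1) ≤ N := by
    obtain ⟨m, hm⟩ := hdvd
    have hm2 : 2 ≤ m := by
      by_contra hcon
      rcases (show m = 0 ∨ m = 1 by omega) with rfl | rfl <;> omega
    have h1 : N = (m : ℤ) * ((p : ℤ) - 1) := by
      refine mul_right_cancel₀ (b := (Nat.card W₁ : ℤ)) (by exact_mod_cast Nat.card_pos.ne') ?_
      have : ((p + 1 : ℕ) : ℤ) = (Nat.card W₁ : ℤ) * m := by exact_mod_cast hm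
      push_cast at this
      linear_combination hNe + ((p : ℤ) - 1) * this
    rw [h1]
    exact mul_le_mul_of_nonneg_right (by exact_mod_cast hm2) (by omega)
  have hsum : ∀ (A A' : ℤ), (∑ φ : Yf, if (φ : M → ℂ) = η₀ then A else A') = A + (N - 1) * A' := by
    intro A A'
    rw [Finset.sum_coe_sort Yf (fun φ => if φ = η₀ then A else A'), ← Finset.add_sum_erase _ _ hη₀f,
      if_pos rfl, Finset.sum_congr rfl fun φ hφ => if_neg (Finset.mem_erase.1 hφ).1, Finset.sum_const,
      Finset.card_erase_of_mem hη₀f, nsmul_eq_mul, hNdef, Nat.cast_sub (Finset.card_pos.2 ⟨_, hη₀f⟩)]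
    push_cast; ring
  -- the images
  have hgen : ∀ φ ∈ Y, IsGeneralizedCharacter G (σ φ) := fun φ hφ =>
    hσ.2.2.2 _ (Submodule.subset_span hφ)
  have hin : ∀ φ ∈ Y, ∀ ψ ∈ Y, classInner (σ φ) (σ ψ) = classInner φ ψ := fun φ hφ ψ hψ =>
    hσ.2.2.1 _ (Submodule.subset_span hφ) _ (Submodule.subset_span hψ)
  have hYo : ∀ φ ∈ Y, ∀ ψ ∈ Y, classInner φ ψ = if φ = ψ then 1 else 0 := by
    intro φ hφ ψ hψ
    split_ifs with h
    · rw [h, hY1 ψ hψ]
    · exact hS.orthogonal φ (hYS hφ) ψ (hYS hψ) h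
  have hsigned : ∀ φ ∈ Y, IsSignedIrr (σ φ) := by
    intro φ hφ
    obtain ⟨e, he⟩ := Char.IsGeneralizedCharacter.irr_or_neg_of_norm_one (hgen φ hφ)
      (by rw [hin φ hφ φ hφ, hY1 φ hφ])
    rcases he with he | he
    · exact Or.inl (he ▸ e.2)
    · exact Or.inr (by rw [he, neg_neg]; exact e.2)
  have htau : ∀ {α : M → ℂ}, α ∈ zspanOn (inducedIrrAbove K ⊥) {1}ᶜ →
      ftTau M α = dadeIsometry (typeA' M) M (supportR M) α := fun hα =>
    ftTau_eq_typeA B hM (Char.IsGeneralizedCharacter.isClassFunction (typeV_supp B hM h345 hα).1)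
      (typeV_supp B hM h345 hα).2
  have hdiff : ∀ φ ∈ Y, φ - η₀ ∈ zspanOn Y {1}ᶜ ∧ φ - η₀ ∈ zspanOn (inducedIrrAbove K ⊥) {1}ᶜ ∧
      ftTau M (φ - η₀) = σ φ - a := by
    intro φ hφ
    have h1 : φ - η₀ ∈ zspanOn Y {1}ᶜ := Char.mem_zspanOn_compl_one.2
      ⟨Submodule.sub_mem _ (Submodule.subset_span hφ) (Submodule.subset_span hY0), by
        rw [Pi.sub_apply, linearFamily_apply_one K hφ, linearFamily_apply_one K hY0, sub_self]⟩
    refine ⟨h1, ⟨Submodule.span_mono hYS h1.1, h1.2⟩, ?_⟩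
    rw [← hσA _ h1, Char.iso_map_sub (E := Submodule.span ℤ Y) hσ (Submodule.subset_span hφ)
      (Submodule.subset_span hY0)]
  have hone : ∀ φ ∈ Y, classInner (σ φ) (fun _ : G => (1 : ℂ)) = 0 := by
    have hconst : ∀ φ ∈ Y, classInner (σ φ) (fun _ : G => (1 : ℂ)) =
        classInner a (fun _ : G => (1 : ℂ)) := fun φ hφ => by
      obtain ⟨-, h2, h3⟩ := hdiff φ hφ
      rw [← sub_eq_zero, ← Char.classInner_sub_left, ← h3, htau h2,
        classInner_dade_one hD (Char.IsGeneralizedCharacter.isClassFunction (typeV_supp B hM h345 h2).1)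
          (typeV_supp B hM h345 h2).2, Char.classInner_sub_left, classInner_indIrr_one K (hYS hφ),
        classInner_indIrr_one K (hYS hY0), sub_zero]
    intro φ hφ
    rw [hconst φ hφ]
    by_contra hne
    have hc := conj_mem_inducedIrrAbove K hY0
    obtain ⟨e, he0, he⟩ := (signed_eq_or_orth (hsigned η₀ hY0) isSignedIrr_one).resolve_right hne
    obtain ⟨e', he0', he'⟩ := (signed_eq_or_orth (hsigned _ hc) isSignedIrr_one).resolve_right
      (by rw [hconst _ hc]; exact hne)
    have h := hin η₀ hY0 _ hc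
    rw [hYo _ hY0 _ hc, if_neg (hS.conj_ne _ (hYS hY0)).symm, he, he', Char.classInner_smul_left,
      Char.classInner_smul_right, isSignedIrr_one.classInner_self, mul_one] at h
    rcases mul_eq_zero.1 h with h' | h'
    · exact he0 h'
    · exact he0' (by simpa using h')
  -- the images are orthogonal to `η`
  have horth : ∀ φ ∈ Y, ∀ ω, classInner (σ φ) (η ω) = 0 := by
    intro φ hφ ω
    have hc := conj_mem_inducedIrrAbove K hφ
    have hm : φ - conjFun φ ∈ zspanOn Y {1}ᶜ := Char.mem_zspanOn_compl_one.2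
      ⟨Submodule.sub_mem _ (Submodule.subset_span hφ) (Submodule.subset_span hc), by
        rw [Pi.sub_apply, conjFun_apply_one hS (hYS hφ), sub_self]⟩
    have hm' : φ - conjFun φ ∈ zspanOn (inducedIrrAbove K ⊥) {1}ᶜ :=
      ⟨Submodule.span_mono hYS hm.1, hm.2⟩
    refine (signed_orth_eta hW P.oddW hη (hsigned φ hφ) (hsigned _ hc) ?_ ?_ ω).1
    · rw [hin φ hφ _ hc, hYo φ hφ _ hc, if_neg (hS.conj_ne _ (hYS hφ)).symm]
    · rw [← Char.iso_map_sub (E := Submodule.span ℤ Y) hσ (Submodule.subset_span hφ)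
        (Submodule.subset_span hc), hσA _ hm, htau hm']
      exact vanishV_dade hG B hM h345 hP (typeV_supp B hM h345 hm').1 (typeV_supp B hM h345 hm').2
  have hVa : VanishV W₁ W₂ a := ⟨hgen _ hY0, vanish_of_orth_eta hW hη
    (Char.IsGeneralizedCharacter.isClassFunction (hgen _ hY0)) (horth _ hY0)⟩
  have haa : classInner a a = 1 := (hin _ hY0 _ hY0).trans (hY1 _ hY0)
  -- the column of the principal character
  set α₀ := indFun K (fun _ => (1 : ℂ)) - η₀ with hα₀
  have hα₀g : IsGeneralizedCharacter M α₀ := Char.IsGeneralizedCharacter.sub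
    (Char.IsCharacter.isGeneralized (Char.isCharacter_indFun K Char.isCharacter_one))
    (Char.IsCharacter.isGeneralized (isCharacter_of_mem_indIrr K (hYS hY0)))
  have hα₀A : ∀ x : M, (x : G) ∉ typeA' M → α₀ x = 0 := by
    intro x hx
    rw [support_commutator B hM h345, not_and, not_ne_iff] at hx
    by_cases hxK : x ∈ K
    · rw [hx hxK, hα₀, Pi.sub_apply, linearFamily_apply_one K hY0, indFun_one_apply,
        if_pos K.one_mem, sub_self]
    · rw [hα₀, Pi.sub_apply, indFun_one_apply, if_neg hxK, indIrr_apply_notMem K (hYS hY0) hxK,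
        sub_zero]
  have hα₀c := Char.IsGeneralizedCharacter.isClassFunction hα₀g
  set f := dadeIsometry (typeA' M) M (supportR M) α₀ with hf
  have hind : ∀ φ ∈ inducedIrrAbove K ⊥, classInner (indFun K fun _ => (1 : ℂ)) φ = 0 ∧
      classInner φ (indFun K fun _ => (1 : ℂ)) = 0 := fun φ hφ =>
    ⟨by rw [← Char.conj_classInner, classInner_indIrr_indFun_one K hφ, map_zero],
      classInner_indIrr_indFun_one K hφ⟩
  have hff : classInner f f = (((Nat.card W₁ : ℤ) + 1 : ℤ) : ℂ) := by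
    rw [hf, classInner_dade_dade hD hα₀c hα₀A hα₀g hα₀A, hα₀, Char.classInner_sub_left,
      Char.classInner_sub_right, Char.classInner_sub_right, classInner_indFun_one_self,
      (hind _ (hYS hY0)).1, (hind _ (hYS hY0)).2, hY1 _ hY0, hKe]
    push_cast; ring
  have hf1 : classInner f (fun _ : G => (1 : ℂ)) = 1 := by
    rw [hf, classInner_dade_one hD hα₀c hα₀A, hα₀, Char.classInner_sub_left,
      classInner_indIrr_one K (hYS hY0), sub_zero, Char.classInner_indFun K _ fun _ _ => rfl]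
    exact Char.classInner_irr_self Char.isIrrCharacter_one
  obtain ⟨cf, hcf⟩ := Char.IsGeneralizedCharacter.exists_int_classInner
    (isGeneralizedCharacter_dadeIsometry hD hα₀g hα₀A) (hgen _ hY0)
  have hfY : ∀ φ ∈ Y, classInner f (σ φ) = ((if φ = η₀ then cf else cf + 1 : ℤ) : ℂ) := by
    intro φ hφ
    obtain ⟨-, h2, h3⟩ := hdiff φ hφ
    have h := classInner_dade_dade hD hα₀c hα₀A (typeV_supp B hM h345 h2).1
      (typeV_supp B hM h345 h2).2
    rw [← htau h2, h3, Char.classInner_sub_right] at h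
    rw [sub_eq_iff_eq_add.1 h, hcf, hα₀, Char.classInner_sub_left, Char.classInner_sub_right,
      Char.classInner_sub_right, (hind _ (hYS hφ)).1, (hind _ (hYS hY0)).1,
      hYo _ hY0 _ hφ, hY1 _ hY0]
    by_cases e : φ = η₀
    · rw [if_pos e, if_pos e.symm]; ring
    · rw [if_neg e, if_neg (Ne.symm e)]; push_cast; ring
  have hcf1 : cf = -1 := by
    have h := bessel_family (fun o : Option Yf => o.elim (fun _ : G => (1 : ℂ)) fun φ => σ φ)
      (fun i j => by
        rcases i with _ | i <;> rcases j with _ | j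
        · simpa using isSignedIrr_one.classInner_self
        · show classInner (fun _ : G => (1 : ℂ)) (σ j) = _
          rw [← Char.conj_classInner, hone _ ((hmem _).1 j.2), map_zero, if_neg (by simp)]
        · show classInner (σ i) (fun _ : G => (1 : ℂ)) = _
          rw [hone _ ((hmem _).1 i.2), if_neg (by simp)]
        · show classInner (σ i) (σ j) = _
          rw [hin _ ((hmem _).1 i.2) _ ((hmem _).1 j.2), hYo _ ((hmem _).1 i.2) _ ((hmem _).1 j.2)]
          simp only [Option.some.injEq, Subtype.ext_iff])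
      f _ hff (fun o => o.elim 1 fun φ => if (φ : M → ℂ) = η₀ then cf else cf + 1) (fun o => by
        rcases o with _ | φ
        · simpa using hf1
        · exact hfY _ ((hmem _).1 φ.2))
    simp only [Fintype.sum_option, Option.elim_none, Option.elim_some, apply_ite (· ^ 2), hsum] at h
    by_contra hne
    have hne' : cf + 1 ≠ 0 := by omega
    have h1 : (1 : ℤ) ≤ (cf + 1) ^ 2 := by
      have : 0 < (cf + 1) ^ 2 := by positivity
      omega
    have h2 : N - 1 ≤ (N - 1) * (cf + 1) ^ 2 := le_mul_of_one_le_right (by omega) h1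
    nlinarith [sq_nonneg cf]
  subst hcf1
  have hFcol : f + a = etaCol η (annOne W₁ W₂ W₁) := by
    refine column_one B hG hM hV hP hη ?_ ?_ ?_ (by omega)
    · have hv := vanishV_dade hG B hM h345 hP hα₀g hα₀A
      exact ⟨Char.IsGeneralizedCharacter.add hv.gen hVa.gen, fun w h1 h2 => by
        rw [Pi.add_apply, show f w = 0 from hv.zero w h1 h2, hVa.zero w h1 h2, add_zero]⟩
    · rw [Char.classInner_add_left, Char.classInner_add_right, Char.classInner_add_right, hff, haa,
        ← Char.conj_classInner f a, hcf]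
      push_cast; simp
    · rw [Char.classInner_add_left, hf1, hone _ hY0, add_zero]
  -- a character not trivial on the centre
  set T : IrrCharacter K → G → ℂ := fun θ => ftTau M (indFun K θ.1 - (charDegree θ.1 : ℤ) • η₀)
  set Wt : IrrCharacter K → G → ℂ := fun θ => T θ + (p : ℂ) • a
  have hfacts : ∀ θ : IrrCharacter K, (∃ z : K, (z : M) ∈ ⁅K, K⁆ ∧ θ.1 z ≠ θ.1 1) →
      ∃ (x : ℤ) (C : Ann W₁ W₂ W₂ → Ann W₁ W₂ W₁ → ℤ), classInner (T θ) a = ((x - p : ℤ) : ℂ) ∧
        classInner (Wt θ) a = x ∧ (x = 0 ∨ x = 1) ∧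
        (∀ φ ψ, classInner (Wt θ) (η (φ.1 * ψ.1)) = C φ ψ) ∧
        (∀ i i' l l', C i l + C i' l' = C i l' + C i' l) ∧
        C (annOne W₁ W₂ W₂) (annOne W₁ W₂ W₁) = 0 ∧ ∑ i, C i (annOne W₁ W₂ W₁) = x ∧
        (x = 1 → ∑ i, ∑ l, C i l ^ 2 ≤ (Nat.card W₁ : ℤ) + 2) := by
    intro θ hθ
    obtain ⟨hdeg, -, hnorm⟩ := hθf θ hθ
    obtain ⟨hα, hαη, hηα⟩ := sub_mem_of_nonTriv K (Z := ⁅K, K⁆) le_rfl hS hθ hY0
    obtain ⟨hθS, hθY⟩ := nonTriv_facts K (Z := ⁅K, K⁆) le_rfl hθ
    have hTdef : T θ = ftTau M (indFun K θ.1 - (p : ℤ) • η₀) := by rw [← hdeg]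
    rw [hdeg] at hα
    have hTd : T θ = dadeIsometry (typeA' M) M (supportR M) (indFun K θ.1 - (p : ℤ) • η₀) :=
      hTdef.trans (htau hα)
    obtain ⟨hαg, hαA⟩ := typeV_supp B hM h345 hα
    have hαc := Char.IsGeneralizedCharacter.isClassFunction hαg
    have hTgen : IsGeneralizedCharacter G (T θ) := hTdef ▸ hS.isometry.2.2.2 _ hα
    obtain ⟨c, hc⟩ := Char.IsGeneralizedCharacter.exists_int_classInner hTgen (hgen _ hY0)
    change classInner (T θ) a = _ at hc
    have hTT : classInner (T θ) (T θ) = ((Nat.card W₁ : ℂ) + (p : ℂ) ^ 2) := by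
      rw [hTdef, hS.isometry.2.2.1 _ hα _ hα]
      simp only [Char.classInner_sub_left, Char.classInner_sub_right, Char.classInner_zsmul_left,
        Char.classInner_zsmul_right, hαη, hηα, hY1 _ hY0, hnorm, hKe]
      push_cast; ring
    have hTY : ∀ φ ∈ Y, φ ≠ η₀ → classInner (T θ) (σ φ) = (c : ℂ) + p := by
      intro φ hφ hne
      obtain ⟨-, h2, h3⟩ := hdiff φ hφ
      have h := hS.isometry.2.2.1 _ hα _ h2
      rw [← hTdef, h3, Char.classInner_sub_right, hc] at h
      rw [sub_eq_iff_eq_add.1 h, Char.classInner_sub_left, Char.classInner_sub_right,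
        Char.classInner_sub_right, Char.classInner_zsmul_left, Char.classInner_zsmul_left, hαη,
        hY1 _ hY0, hYo _ hY0 _ hφ, if_neg (Ne.symm hne),
        hS.orthogonal _ hθS _ (hYS hφ) fun e => hθY (e ▸ hφ)]
      push_cast; ring
    have hT1 : classInner (T θ) (fun _ : G => (1 : ℂ)) = 0 := by
      rw [hTd, classInner_dade_one hD hαc hαA, Char.classInner_sub_left, Char.classInner_zsmul_left,
        classInner_indIrr_one K hθS, classInner_indIrr_one K (hYS hY0), mul_zero, sub_zero]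
    have hWa : classInner (Wt θ) a = ((c + p : ℤ) : ℂ) := by
      show classInner (T θ + (p : ℂ) • a) a = _
      rw [Char.classInner_add_left, Char.classInner_smul_left, hc, haa, mul_one]; push_cast; rfl
    have hWN : classInner (Wt θ) (Wt θ) = (((Nat.card W₁ : ℤ) + 2 * p * (c + p) : ℤ) : ℂ) := by
      show classInner (T θ + (p : ℂ) • a) (T θ + (p : ℂ) • a) = _
      simp only [Char.classInner_add_left, Char.classInner_add_right, Char.classInner_smul_left,
        Char.classInner_smul_right, hTT, hc, haa, ← Char.conj_classInner (T θ) a, map_intCast,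
        Complex.conj_natCast]
      push_cast; ring
    have hWV : VanishV W₁ W₂ (Wt θ) := by
      have hv := vanishV_dade hG B hM h345 hP hαg hαA
      rw [← hTd] at hv
      exact ⟨Char.IsGeneralizedCharacter.add hv.gen
          (by simpa using Char.IsGeneralizedCharacter.intCast_smul hVa.gen (p : ℤ)),
        fun w h1 h2 => by
          show (T θ + (p : ℂ) • a) w = 0
          rw [Pi.add_apply, hv.zero w h1 h2, Pi.smul_apply, hVa.zero w h1 h2, smul_zero, add_zero]⟩
    have hWY : ∀ φ ∈ Y, classInner (Wt θ) (σ φ) = ((c + p : ℤ) : ℂ) := by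
      intro φ hφ
      by_cases h : φ = η₀
      · rw [h]; exact hWa
      · show classInner (T θ + (p : ℂ) • a) (σ φ) = _
        rw [Char.classInner_add_left, Char.classInner_smul_left, hTY φ hφ h, hin _ hY0 _ hφ,
          hYo _ hY0 _ hφ, if_neg (Ne.symm h)]
        push_cast; ring
    obtain ⟨C, hC, hCc, -⟩ := exists_rows hW hη hWV hWN
    have hB := bessel_family
      (fun i : (Ann W₁ W₂ W₂ × Ann W₁ W₂ W₁) ⊕ Yf => i.elim (fun s => η (s.1.1 * s.2.1)) fun φ => σ φ)
      (fun i j => by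
        rcases i with i | i <;> rcases j with j | j
        · show classInner (η (i.1.1 * i.2.1)) (η (j.1.1 * j.2.1)) = _
          rw [hη.orthonormal]
          split_ifs with h1 h2 h2
          · rfl
          · exact absurd (congrArg Sum.inl (Prod.ext (mul_inj hW h1).1 (mul_inj hW h1).2)) h2
          · exact absurd (by rw [Sum.inl.inj h2]) h1
          · rfl
        · show classInner (η (i.1.1 * i.2.1)) (σ j) = _
          rw [← Char.conj_classInner, horth _ ((hmem _).1 j.2), map_zero, if_neg (by simp)]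
        · show classInner (σ i) (η (j.1.1 * j.2.1)) = _
          rw [horth _ ((hmem _).1 i.2), if_neg (by simp)]
        · show classInner (σ i) (σ j) = _
          rw [hin _ ((hmem _).1 i.2) _ ((hmem _).1 j.2), hYo _ ((hmem _).1 i.2) _ ((hmem _).1 j.2)]
          simp only [Sum.inr.injEq, Subtype.ext_iff])
      (Wt θ) _ hWN (fun i => i.elim (fun s => C s.1 s.2) fun _ => c + p) (fun i => by
        rcases i with i | i
        · exact hCc i.1 i.2
        · exact hWY _ ((hmem _).1 i.2))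
    simp only [Fintype.sum_sum_type, Sum.elim_inl, Sum.elim_inr, Finset.sum_const, Finset.card_univ,
      Fintype.card_coe, nsmul_eq_mul] at hB
    rw [Fintype.sum_prod_type (f := fun s => C s.1 s.2 ^ 2), ← hNdef] at hB
    have hnn : (0 : ℤ) ≤ ∑ i, ∑ l, C i l ^ 2 :=
      Finset.sum_nonneg fun _ _ => Finset.sum_nonneg fun _ _ => sq_nonneg _
    have hx := cube_x_cases hNbig (e := (Nat.card W₁ : ℤ)) (x := c + p) (by omega) (by omega)
      (by linarith)
    refine ⟨c + p, C, by rw [hc]; push_cast; ring, hWa, hx, hCc, hC, ?_, ?_, fun h => ?_⟩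
    · have h := hCc (annOne W₁ W₂ W₂) (annOne W₁ W₂ W₁)
      rw [mul_annOne, show (annOne W₁ W₂ W₂).1 = 1 from rfl, hη.map_one] at h
      have h0 : classInner (Wt θ) (fun _ : G => (1 : ℂ)) = 0 := by
        show classInner (T θ + (p : ℂ) • a) _ = _
        rw [Char.classInner_add_left, Char.classInner_smul_left, hT1, hone _ hY0, mul_zero, add_zero]
      rw [h0] at h
      exact_mod_cast h.symm
    · have h : classInner (Wt θ) (f + a) = ((c + p : ℤ) : ℂ) := by
        have hTf : classInner (T θ) f = (p : ℂ) := by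
          rw [hTd, hf, classInner_dade_dade hD hαc hαA hα₀g hα₀A, hα₀, Char.classInner_sub_left,
            Char.classInner_sub_right, Char.classInner_sub_right, Char.classInner_zsmul_left,
            Char.classInner_zsmul_left, (hind _ hθS).2, (hind _ (hYS hY0)).2, hαη, hY1 _ hY0]
          push_cast; ring
        show classInner (T θ + (p : ℂ) • a) (f + a) = _
        simp only [Char.classInner_add_left, Char.classInner_add_right, Char.classInner_smul_left,
          hTf, hc, haa, ← Char.conj_classInner f a]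
        rw [hcf, map_intCast]
        push_cast; ring
      rw [hFcol, etaCol, Char.classInner_sum_right, Finset.sum_congr rfl fun φ _ => hCc φ _] at h
      exact_mod_cast h
    · rw [h] at hB
      linarith
  refine isCoherent_of_coeff K (Z := ⁅K, K⁆) le_rfl hS (fun θ hθ => ?_) hY1 hσ hσA hY0 fun θ hθ => ?_
  · refine rest_of_central_section K (Z := ⁅K, K⁆) le_rfl hS (by omega) hlt.le le_rfl
      (fun x hx y hy => ?_) (by rw [hrel, hKe]; exact hp2e) θ hθ
    simpa [commutatorElement_def] using Subgroup.commutator_mem_commutator hx hy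
  obtain ⟨hdeg, -, hnorm⟩ := hθf θ hθ
  obtain ⟨x, C, hTa, hWa, hx, hCc, hC, hC00, hCsum, hCN⟩ := hfacts θ hθ
  change classInner (T θ) a = _
  rw [hTa, hdeg]
  rcases hx with rfl | rfl
  · push_cast; ring
  exfalso
  -- the conjugate character
  have hθc : IsIrrCharacter K (fun y => conj (θ.1 y)) := Char.IsIrrCharacter.conj_fun θ.2
  have hθ' : ∃ z : K, (z : M) ∈ ⁅K, K⁆ ∧ (⟨_, hθc⟩ : IrrCharacter K).1 z ≠
      (⟨_, hθc⟩ : IrrCharacter K).1 1 := by
    obtain ⟨z, hz, hne⟩ := hθ
    exact ⟨z, hz, fun e => hne ((starRingEnd ℂ).injective e)⟩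
  set θ' : IrrCharacter K := ⟨_, hθc⟩
  obtain ⟨hdeg', -, hnorm'⟩ := hθf θ' hθ'
  obtain ⟨x', C', -, hWa', hx', hC'c, hC', hC'00, hC'sum, hC'N⟩ := hfacts θ' hθ'
  have hnirr : ∀ χ : IrrCharacter K, classInner (indFun K χ.1) (indFun K χ.1) = (K.index : ℂ) →
      ∃ ψ : Ann W₁ W₂ W₁, χ.1 = (fun y : K => μ ψ.1 y) ∧
        indFun K χ.1 = muSum (⁅M, M⁆ : Subgroup G) μ ψ := fun χ h => by
    refine (typeP_cases B hG hM h345 hP hμ χ).resolve_left fun hi => ?_
    rw [Char.classInner_irr_self hi, hKe] at h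
    have : 1 = Nat.card W₁ := by exact_mod_cast h
    omega
  obtain ⟨ψ, hψ, hψs⟩ := hnirr θ hnorm
  obtain ⟨ψ', hψ', hψs'⟩ := hnirr θ' hnorm'
  obtain ⟨hθS, hθY⟩ := nonTriv_facts K (Z := ⁅K, K⁆) le_rfl hθ
  obtain ⟨hθS', -⟩ := nonTriv_facts K (Z := ⁅K, K⁆) le_rfl hθ'
  have hind' : indFun K θ'.1 = conjFun (indFun K θ.1) := (Char.conj_indFun K θ.1).symm
  have hne : ψ ≠ ψ' := fun e => hS.conj_ne _ hθS (by rw [← hind', hψs', ← e, ← hψs])
  have hnt : ∀ (χ : IrrCharacter K) (b : Ann W₁ W₂ W₁), χ.1 = (fun y : K => μ b.1 y) →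
      (∃ z : K, (z : M) ∈ ⁅K, K⁆ ∧ χ.1 z ≠ χ.1 1) →
      ¬ ∀ w : ↥(W₁ ⊔ W₂), (w : G) ∈ W₂ → b.1 w = 1 := by
    intro χ b e ⟨z, _, hz⟩ hall
    refine hz ?_
    have hb : b.1 = 1 := by
      have := mul_inj hW (a := ⟨b.1, hall⟩) (a' := annOne W₁ W₂ W₂) (b := annOne W₁ W₂ W₁) (b' := b)
        (by rw [mul_annOne]; exact MonoidHom.ext fun w => (one_mul (b.1 w)).symm)
      exact (congrArg Subtype.val this.2).symm
    rw [e, hb, hμ.map_one P]
  have hWsub : Wt θ - Wt θ' = (δ ψ.1 : ℂ) • (etaCol η ψ - etaCol η ψ') := by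
    obtain ⟨hα, -, -⟩ := sub_mem_of_nonTriv K (Z := ⁅K, K⁆) le_rfl hS hθ hY0
    obtain ⟨hα', -, -⟩ := sub_mem_of_nonTriv K (Z := ⁅K, K⁆) le_rfl hS hθ' hY0
    have hd : μ ψ.1 1 = μ ψ'.1 1 := by
      have h1 := congrFun hψ 1
      have h2 := congrFun hψ' 1
      rw [← Char.charDegree_cast, hdeg] at h1
      rw [← Char.charDegree_cast, hdeg'] at h2
      exact h1.symm.trans h2
    have hcomm : ∀ x y : ↥(W₁ ⊔ W₂) →* ℂˣ, x * y = y * x := fun x y =>
      MonoidHom.ext fun w => mul_comm (x w) (y w)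
    calc Wt θ - Wt θ' = T θ - T θ' := by show T θ + _ - (T θ' + _) = _; abel
      _ = ftTau M (indFun K θ.1 - indFun K θ'.1) := by
        show ftTau M _ - ftTau M _ = _
        rw [hdeg] at hα ⊢
        rw [hdeg'] at hα' ⊢
        set α := indFun K θ.1 - (p : ℤ) • η₀
        set α' := indFun K θ'.1 - (p : ℤ) • η₀
        rw [show indFun K θ.1 - indFun K θ'.1 = α - α' by simp only [α, α']; abel, sub_eq_iff_eq_add,
          ← hS.isometry.1 _ ⟨Submodule.sub_mem _ hα.1 hα'.1, fun y hy => by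
            rw [Pi.sub_apply, hα.2 y hy, hα'.2 y hy, sub_self]⟩ _ hα', sub_add_cancel]
      _ = _ := by
        rw [hψs, hψs', hμ.muSum_eq P, hμ.muSum_eq P, ftTau_eq hP (not_typeI_of_345 B hM h345),
          hμ.tau_sum_sub P hη (hnt θ ψ hψ hθ) (hnt θ' ψ' hψ' hθ') (fun w hw => by
            rw [ψ.2 w hw, ψ'.2 w hw]) hd]
        simp only [etaCol, hcomm ψ.1, hcomm ψ'.1]
  have hx1 : x' = 1 := by
    have h := congrArg (fun u => classInner u a) hWsub
    simp only [Char.classInner_sub_left, Char.classInner_smul_left] at h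
    have he : ∀ b, classInner (etaCol η b) a = 0 := fun b => by
      rw [etaCol, Char.classInner_sum_left]
      exact Finset.sum_eq_zero fun φ _ => by
        rw [← Char.conj_classInner, horth _ hY0, map_zero]
    rw [hWa, hWa', he, he, sub_zero, mul_zero, sub_eq_zero] at h
    exact_mod_cast h.symm
  subst hx1
  refine table_false B hG hM hV hP hC hC' (hCN rfl) (hC'N rfl) (by omega) hC00 hC'00 hCsum hC'sum
    (ψ := ψ) fun e => ?_
  have h := congrArg (fun u => classInner u (η ((annOne W₁ W₂ W₂).1 * ψ.1))) hWsub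
  simp only [Char.classInner_sub_left, Char.classInner_smul_left, hCc, hC'c,
    etaCol_coeff hW hη, if_true, if_neg hne, e, sub_self, sub_zero, mul_one] at h
  rcases hμ.sign ψ.1 with h' | h' <;> rw [h'] at h <;> norm_num at h

end Cfsg.Agent.OddOrder.PF
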