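import Cfsg.Agent.Lib.OddOrder.PF.S10_TypeVTI
import Cfsg.Agent.Lib.OddOrder.PF.S10_TypeVCube
import Cfsg.Agent.S1521

/-!
Peterfalvi (10.10): there is no maximal subgroup of Type V, since for such a subgroup `calS M` would
be coherent, against (10.8). With it the first half of (10.11): the orders of the cyclic factors of
a pair are primes.
-/

set_option autoImplicit false
set_option linter.style.haveILetI false

namespace Cfsg.Agent.OddOrder.PF

open Cfsg Cfsg.Agent.OddOrder Cfsg.Agent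

universe u
variable {G : Type u} [Group G] [Fintype G]

/-- (6.8) for `M'`, unless it is a `p`-group with `|W₁|` not dividing `p - 1`. -/
theorem coherent_of_S1521 {M W₁ U W₂ : Subgroup G} [Fintype M] (B : BGFacts G)
    (hG : IsMinSimpleOddOrder G) (hM : IsCoatom M) (hV : IsOfTypeV M)
    (hP : IsTypePWith M W₁ U W₂) {Rs : (M → ℂ) → Finset (G → ℂ)}
    (hS : IsCoherenceSystem (inducedIrrAbove (commutator ↥M) ⊥) (ftTau M) Rs)
    (hgood : (¬ ∃ q m : ℕ, q.Prime ∧ Nat.card ↥(commutator ↥M) = q ^ m) ∨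
      ∃ q m : ℕ, q.Prime ∧ Nat.card ↥(commutator ↥M) = q ^ m ∧ Nat.card W₁ ∣ q - 1) :
    IsCoherent (inducedIrrAbove (commutator ↥M) ⊥) {1}ᶜ (ftTau M) := by
  set K := commutator ↥M with hK
  obtain ⟨hlt, hKtop⟩ := second_lt hG hM hP
  haveI : Group.IsSolvable M := hG.2.2.2 M hM.1
  haveI := typeV_nilpotent B hM hV
  refine S1521.result K inferInstance (ftTau M) Rs hS
    (hG.1.of_dvd_nat (Subgroup.card_subgroup_dvd_card M)) ⊥ bot_le
    (Group.nilpotent_of_surjective (QuotientGroup.mk' _) (QuotientGroup.mk'_surjective _))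
    ⁅K, K⁆ (sup_bot_eq _).symm hlt hKtop (fun k hk hkN x hx => ?_) ?_
  · exact typeP_frob hP ⁅K, K⁆ (W₂_le_second hP) (Subgroup.commutator_le_self _) hk hkN
      (fun c hc => by simpa [commutatorElement_def] using Subgroup.commutator_mem_commutator hc hk) hx
  · rcases hgood with h | ⟨q, m, hq, hcard, hdvd⟩
    · refine Or.inr (Or.inr (Or.inl fun ⟨q, m, hq, hcard⟩ => h ⟨q, m, hq, ?_⟩))
      rwa [Subgroup.relIndex_bot_left] at hcard
    · exact Or.inr (Or.inr (Or.inr (Or.inr
        ⟨q, m, hq, by rw [Subgroup.relIndex_bot_left]; exact hcard,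
          by rw [(index_commutator_eq hP).1]; exact hdvd⟩)))

/-- Peterfalvi (10.10). -/
theorem noTypeV (hG : IsMinSimpleOddOrder G) (B : BGFacts G) : NoTypeV G := by
  intro M hM hV
  classical
  haveI : Fintype M := Fintype.ofFinite _
  have h345 : IsType345 M := Or.inr (Or.inr hV)
  have hI := not_typeI_of_345 B hM h345
  obtain ⟨T, W₁, W₂, U, V, P⟩ := exists_pair345 B hM h345
  have hP := P.hMP
  have hPD := primeDade_345 B hG hM h345 hP
  have hp₂ := Pair345.card_W₂_prime P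
  obtain ⟨μ, δ, hμ⟩ := hPD.exists_muFamily
  obtain ⟨η, hη⟩ := exists_isCyclicTIFamily hPD.selfNorm hPD.oddW
  haveI := (ann_facts hPD.selfNorm).1
  haveI : Fintype (Ann W₁ W₂ W₁) := Fintype.ofFinite _
  haveI : Fintype (Ann W₁ W₂ W₂) := Fintype.ofFinite _
  obtain ⟨Rs, hS, -⟩ := exists_system_typeP hG B hM hP hI (Or.inl rfl) hμ hη
  rw [calS_eq_inducedIrrAbove B hM h345] at hS
  refine noCoherence345 hG B M hM h345 ?_
  rw [calS_eq_inducedIrrAbove B hM h345]
  have hcard : Nat.card ↥(commutator ↥M) = Nat.card (fittingHallOf M) := by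
    rw [(index_commutator_eq hP).2, fittingHallOf_eq_commutator B hM hV]
  have hcase : ∀ p : ℕ, p.Prime → p ∣ Nat.card (fittingHallOf M) →
      (∀ q m : ℕ, q.Prime → Nat.card ↥(commutator ↥M) = q ^ m → q = p) := by
    intro p hp hdvd q m hq e
    rw [← hcard, e] at hdvd
    exact ((Nat.prime_dvd_prime_iff_eq hp hq).1 (hp.dvd_of_dvd_pow hdvd)).symm
  obtain ⟨W₁', U', W₂', hP', -, hdisj⟩ := id hV
  rw [card_W₁_eq hP' hP] at hdisj
  rcases hdisj with hTI | ⟨p, hp, hdvd, he, -⟩ | ⟨p, hp, hdvd, hcube, he, -⟩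
  · rw [fittingHallOf_eq_commutator B hM hV] at hTI
    exact coherent_of_ti B hG hM hV hP hTI hS hp₂
  · refine coherent_of_S1521 B hG hM hV hP hS ?_
    by_cases h : ∃ q m : ℕ, q.Prime ∧ Nat.card ↥(commutator ↥M) = q ^ m
    · obtain ⟨q, m, hq, e⟩ := h
      refine Or.inr ⟨q, m, hq, e, ?_⟩
      rwa [hcase p hp hdvd q m hq e]
    · exact Or.inl h
  · by_cases h : ∃ q m : ℕ, q.Prime ∧ Nat.card ↥(commutator ↥M) = q ^ m
    · obtain ⟨q, m, hq, e⟩ := h
      obtain rfl := hcase p hp hdvd q m hq e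
      haveI := Fact.mk hq
      have htop : pCore q ↥(fittingHallOf M) = ⊤ :=
        PCore.pCore_eq_top_of_isPGroup (IsPGroup.of_card (n := m) (by rw [← hcard, e]))
      rw [htop, Subgroup.card_top, ← hcard] at hcube
      exact coherent_of_cube B hG hM hV hP hcube hp₂ he hμ hη hS
    · exact coherent_of_S1521 B hG hM hV hP hS (Or.inl h)

/-- Peterfalvi (10.11), first half. -/
theorem pairPrimes (hG : IsMinSimpleOddOrder G) (B : BGFacts G) : PairPrimes G :=
  pairPrimes_of_noTypeV (noTypeV hG B)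

end Cfsg.Agent.OddOrder.PF
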