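import Cfsg.Agent.Lib.OddOrder.PF.Setting
import Cfsg.Agent.Lib.OddOrder.FittingHall

/-!
Peterfalvi (10.11), first half: once Type V is excluded, the orders of the two cyclic factors of a
pair of type P are primes.
-/

set_option autoImplicit false

namespace Cfsg.Agent.OddOrder.PF

open Cfsg Cfsg.Agent.OddOrder

universe u
variable {G : Type u} [Group G] [Finite G]

/-- All type P data of `M` have cyclic complements `W₁` of the same order. -/
theorem card_W₁_eq {M W₁ U W₂ W₁' U' W₂' : Subgroup G} (h : IsTypePWith M W₁ U W₂)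
    (h' : IsTypePWith M W₁' U' W₂') : Nat.card W₁ = Nat.card W₁' :=
  Nat.eq_of_mul_eq_mul_left Nat.card_pos
    ((card_eq_of_isComplIn h.W₁_compl).trans (card_eq_of_isComplIn h'.W₁_compl).symm)

/-- The order of `W₁` is prime for the Types II, III and IV. -/
theorem prime_card_W₁ {M W₁ U W₂ : Subgroup G} (h : IsTypePWith M W₁ U W₂)
    (hM : IsOfTypeII M ∨ IsOfTypeIII M ∨ IsOfTypeIV M) : (Nat.card W₁).Prime := by
  rcases hM with hM | hM | hM <;>
    obtain ⟨W₁', U', W₂', hP, -, hp, -⟩ := hM <;> rwa [card_W₁_eq h hP]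

theorem pairPrimes_of_noTypeV (hV : NoTypeV G) : PairPrimes G := by
  intro S T W₁ W₂ U V P
  have key : ∀ {S T W₁ W₂ U V : Subgroup G}, TypePair S T W₁ W₂ U V → (Nat.card W₁).Prime := by
    intro S T W₁ W₂ U V P
    refine prime_card_W₁ P.hSP ?_
    rcases P.hS25 with h | h | h | h
    · exact Or.inl h
    · exact Or.inr (Or.inl h)
    · exact Or.inr (Or.inr h)
    · exact absurd h (hV S P.hS)
  exact ⟨key P, key P.swap⟩

end Cfsg.Agent.OddOrder.PF
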