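import Cfsg.Agent.Lib.OddOrder.PF.S10_Basic
import Cfsg.Agent.Lib.OddOrder.PF.S10_PairPrimes
import Cfsg.Agent.Lib.OddOrder.PF.Conjugates

/-!
The partner `T` of Type II of a maximal subgroup `M` of Type III, IV or V: the centralisers of the
elements of `T_F`, the order of its complement, and the absence of non-identity elements of
`σ(M)`-order in `T'` centralising some element of `T_F`.
-/

set_option autoImplicit false
set_option linter.style.haveILetI false

namespace Cfsg.Agent.OddOrder.PF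

open Cfsg Cfsg.Agent.OddOrder Cfsg.Agent

universe u
variable {G : Type u} [Group G] [Finite G]

/-- An element of prime power order is conjugate into a subgroup of index prime to it. -/
theorem exists_conj_mem_of_not_dvd_index {H : Subgroup G} {q : ℕ} [Fact q.Prime]
    (hq : ¬ q ∣ H.index) {y : G} {n : ℕ} (hy : orderOf y = q ^ n) :
    ∃ g : G, g * y * g⁻¹ ∈ H := by
  obtain ⟨P⟩ : Nonempty (Sylow q H) := inferInstance
  have hP : IsPGroup q ((P : Subgroup H).map H.subtype) := P.2.map _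
  have hidx : ¬ q ∣ ((P : Subgroup H).map H.subtype).index := by
    rw [Subgroup.index_map_subtype]
    exact (Fact.out : q.Prime).not_dvd_mul P.not_dvd_index hq
  obtain ⟨Q, hQ⟩ := IsPGroup.exists_le_sylow (P := Subgroup.zpowers y)
    (IsPGroup.of_card (n := n) (by rw [Nat.card_zpowers, hy]))
  obtain ⟨g, hg⟩ := MulAction.exists_smul_eq G Q (hP.toSylow hidx)
  refine ⟨g, Subgroup.map_subtype_le (P : Subgroup H) ?_⟩
  have h : g * y * g⁻¹ ∈ ((g • Q : Sylow q G) : Subgroup G) := by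
    rw [Sylow.coe_subgroup_smul]
    exact Subgroup.smul_mem_pointwise_smul y (MulAut.conj g) _ (hQ (Subgroup.mem_zpowers y))
  rw [hg] at h
  exact h

namespace Pair345

variable {M T W₁ W₂ U V : Subgroup G} (B : BGFacts G) (P : Pair345 M T W₁ W₂ U V)
include B P

omit B [Finite G] in
theorem W₁_le_H : W₁ ≤ fittingHallOf T := P.hTP.W₂_le.trans inf_le_left

theorem typeCore_T : typeCore T = fittingHallOf T :=
  typeCore_eq_fittingHallOf (not_typeIII_IV_of_typeII B P.hT P.hTII)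

omit B in
theorem card_W₁_coprime : (Nat.card W₁).Coprime (Nat.card W₂) :=
  (typeP_card_W₁_coprime P.hMP).coprime_dvd_right (Subgroup.card_dvd_of_le
    ((P.hMP.W₂_le.trans inf_le_right).trans (Subgroup.commutator_le_self _)))

omit B in
theorem card_W₂_prime : (Nat.card W₂).Prime := prime_card_W₁ P.hTP (Or.inl P.hTII)

omit B in
/-- `M` and `T` are not conjugate. -/
theorem not_conj (g : G) : T ≠ M.map (MulAut.conj g).toMonoidHom := by
  intro e
  have hD : (⁅T, T⁆ : Subgroup G) = (⁅M, M⁆ : Subgroup G).map (MulAut.conj g).toMonoidHom := by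
    rw [Subgroup.map_commutator, e]
  have h1 := card_eq_of_isComplIn P.hTP.W₁_compl
  rw [hD, e, Subgroup.card_map_of_injective (MulAut.conj g).injective,
    Subgroup.card_map_of_injective (MulAut.conj g).injective,
    ← card_eq_of_isComplIn P.hMP.W₁_compl] at h1
  have h2 : Nat.card W₂ = Nat.card W₁ := Nat.eq_of_mul_eq_mul_left Nat.card_pos h1
  have := card_W₁_coprime P
  rw [h2, Nat.coprime_self] at this
  exact P.hMP.W₁_ne (Subgroup.card_eq_one.1 this)

theorem coprime_H_commutator :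
    (Nat.card (fittingHallOf T)).Coprime (Nat.card (⁅M, M⁆ : Subgroup G)) := by
  refine Nat.coprime_of_dvd fun r hr h1 h2 => ?_
  rw [← sigmaCore_eq_commutator B P.hM P.h345] at h2
  rw [← typeCore_T B P, typeCore_eq_sigmaCore B P.hT] at h1
  obtain ⟨g, hg⟩ := B.s1378.2 M T P.hM P.hT
    ⟨r, isPiGrp_piCoreOf (sigma M) M r hr h2, isPiGrp_piCoreOf (sigma T) T r hr h1⟩
  exact not_conj P g hg

theorem H_hall : (Nat.card (fittingHallOf T)).Coprime (fittingHallOf T).index :=
  (B.s1389 T P.hT).2.1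

theorem commutator_hall : (Nat.card (⁅M, M⁆ : Subgroup G)).Coprime (⁅M, M⁆ : Subgroup G).index := by
  have := (B.s1389 M P.hM).2.2
  rwa [typeCore_eq_commutator B P.hM P.h345] at this

theorem exists_conj_mem_H {q : ℕ} [Fact q.Prime] (hq : q ∣ Nat.card (fittingHallOf T)) {y : G}
    {n : ℕ} (hy : orderOf y = q ^ n) : ∃ g : G, g * y * g⁻¹ ∈ fittingHallOf T :=
  exists_conj_mem_of_not_dvd_index
    (fun h => (Nat.Prime.coprime_iff_not_dvd Fact.out).1
      ((H_hall B P).coprime_dvd_left hq) h) hy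

variable (hG : IsMinSimpleOddOrder G)
include hG

omit hG in
theorem mem_typeA0_of_mem_H {t : G} (ht : t ∈ fittingHallOf T) (ht1 : t ≠ 1) : t ∈ typeA0' T :=
  typeA_subset_typeA0 (typeA1_subset_typeA B P.hT ⟨(typeCore_T B P).symm ▸ ht, ht1⟩)

theorem centralizer_le {t : G} (ht : t ∈ fittingHallOf T) (ht1 : t ≠ 1) :
    Subgroup.centralizer ({t} : Set G) ≤ T :=
  typeII_centralizer_le B hG P.hT P.hTII (mem_typeA0_of_mem_H B P ht ht1)

/-- Elements of `T'` commuting with some element of `T_F` have centraliser inside `T`. -/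
theorem centralizer_le_of_commute {z y : G} (hz : z ∈ (⁅T, T⁆ : Subgroup G)) (hz1 : z ≠ 1)
    (hy : y ∈ fittingHallOf T) (hy1 : y ≠ 1) (hc : z * y = y * z) :
    Subgroup.centralizer ({z} : Set G) ≤ T := by
  refine typeII_centralizer_le B hG P.hT P.hTII (typeA_subset_typeA0 ?_)
  rw [typeA', if_neg (not_typeI_of_typeII B P.hT P.hTII)]
  exact ⟨hz, hz1, y, (typeCore_T B P).symm ▸ hy, hy1, hc⟩

omit B hG in
/-- An element of `T ∖ T'` of order prime to `|T_F|` is conjugate into `W₂`. -/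
theorem conj_mem_W₂ {z : G} (hz : z ∈ T) (hzT : z ∉ (⁅T, T⁆ : Subgroup G))
    (hcop : (orderOf z).Coprime (Nat.card (fittingHallOf T))) :
    ∃ g ∈ T, g * z * g⁻¹ ∈ W₂ := by
  obtain ⟨d, hd, w, hw, rfl⟩ := P.hTP.W₁_compl.2.2.2 z hz
  have hw1 : w ≠ 1 := fun h => hzT (by rw [h, mul_one]; exact hd)
  have hn : w ∈ Subgroup.normalizer ((⁅T, T⁆ : Subgroup G) : Set G) :=
    Subgroup.mem_normalizer_iff.2 fun x => ⟨conj_mem_commutator (P.hTP.W₁_compl.2.1 hw), fun h => by
      have := conj_mem_commutator (T.inv_mem (P.hTP.W₁_compl.2.1 hw)) h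
      simpa [mul_assoc] using this⟩
  have hco : (orderOf w).Coprime (Nat.card (⁅T, T⁆ : Subgroup G)) :=
    (typeP_card_W₁_coprime P.hTP).coprime_dvd_left (Subgroup.orderOf_dvd_natCard W₂ hw)
  obtain ⟨x, hx, c, hc, hcw, e⟩ := S1496.result (⁅T, T⁆ : Subgroup G) w hn hco d hd
  have hcW : c ∈ W₁ := by
    rw [← P.hTP.W₂_centralizer w hw hw1]
    exact ⟨hc, Subgroup.mem_centralizer_singleton_iff.2 hcw⟩
  have hord : orderOf (d * w) = orderOf c * orderOf w := by
    have hcop' : (orderOf c).Coprime (orderOf w) :=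
      (card_W₁_coprime P).coprime_dvd_left (Subgroup.orderOf_dvd_natCard W₁ hcW) |>.coprime_dvd_right
        (Subgroup.orderOf_dvd_natCard W₂ hw)
    rw [← (show Commute c w from hcw).orderOf_mul_eq_mul_orderOf_of_coprime hcop', ← e]
    exact (MulEquiv.orderOf_eq (MulAut.conj x) (d * w)).symm
  have hc1 : orderOf c = 1 := Nat.eq_one_of_dvd_coprimes hcop (hord ▸ dvd_mul_right _ _)
    (Subgroup.orderOf_dvd_natCard _ (W₁_le_H P hcW))
  refine ⟨x, T.commutator_le_self hx, ?_⟩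
  rw [e, orderOf_eq_one_iff.1 hc1, one_mul]
  exact hw

/-- No element of `T'` of prime order dividing `|M'|` commutes with a non-identity element of
`T_F`. -/
theorem false_of_commute {a y : G} {r : ℕ} (hr : r.Prime) (ha : orderOf a = r)
    (hrM : r ∣ Nat.card (⁅M, M⁆ : Subgroup G)) (haT : a ∈ (⁅T, T⁆ : Subgroup G))
    (hy : y ∈ fittingHallOf T) (hy1 : y ≠ 1) (hc : a * y = y * a) : False := by
  haveI := Fact.mk hr
  -- a power of `y` of prime order
  obtain ⟨q, hq, hqy⟩ := Nat.exists_prime_and_dvd (mt orderOf_eq_one_iff.1 hy1)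
  haveI := Fact.mk hq
  set y₀ := y ^ (orderOf y / q) with hy₀
  have hy₀o : orderOf y₀ = q := orderOf_pow_orderOf_div (orderOf_pos y).ne' hqy
  have hy₀H : y₀ ∈ fittingHallOf T := pow_mem hy _
  have hy₀1 : y₀ ≠ 1 := fun h => hq.ne_one (by rw [← hy₀o, h, orderOf_one])
  have hc₀ : Commute a y₀ := (show Commute a y from hc).pow_right _
  have hqH : q ∣ Nat.card (fittingHallOf T) := hy₀o ▸ Subgroup.orderOf_dvd_natCard _ hy₀H
  have ha1 : a ≠ 1 := fun h => hr.ne_one (by rw [← ha, h, orderOf_one])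
  obtain ⟨g, hg⟩ := exists_conj_mem_of_not_dvd_index (H := (⁅M, M⁆ : Subgroup G)) (q := r)
    (fun h => (Nat.Prime.coprime_iff_not_dvd hr).1 ((commutator_hall B P).coprime_dvd_left hrM) h)
    (y := a) (n := 1) (by rw [ha, pow_one])
  set a₁ := g * a * g⁻¹ with ha₁
  set y₁ := g * y₀ * g⁻¹ with hy₁
  have ha₁1 : a₁ ≠ 1 := fun h => ha1 (conj_eq_one_iff.1 h)
  have hy₁o : orderOf y₁ = q := by
    rw [← hy₀o, hy₁]; exact MulEquiv.orderOf_eq (MulAut.conj g) y₀
  have hc₁ : y₁ * a₁ = a₁ * y₁ := by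
    rw [hy₁, ha₁]
    calc g * y₀ * g⁻¹ * (g * a * g⁻¹) = g * (y₀ * a) * g⁻¹ := by group
      _ = g * (a * y₀) * g⁻¹ := by rw [hc₀.eq]
      _ = g * a * g⁻¹ * (g * y₀ * g⁻¹) := by group
  by_cases hle : Subgroup.centralizer ({a₁} : Set G) ≤ M
  · have hy₁M : y₁ ∈ M := hle (Subgroup.mem_centralizer_singleton_iff.2 hc₁)
    have hqnot : ¬ q ∣ (W₁.subgroupOf M).index := by
      intro hdvd
      rw [← Subgroup.relIndex] at hdvd
      have h1 := Subgroup.relIndex_mul_relIndex ⊥ W₁ M bot_le P.hMP.W₁_compl.2.1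
      rw [Subgroup.relIndex_bot_left, Subgroup.relIndex_bot_left,
        ← card_eq_of_isComplIn P.hMP.W₁_compl, mul_comm (Nat.card _)] at h1
      rw [Nat.eq_of_mul_eq_mul_right Nat.card_pos h1] at hdvd
      exact hq.ne_one (Nat.eq_one_of_dvd_coprimes (coprime_H_commutator B P) hqH hdvd)
    obtain ⟨m, hm⟩ := exists_conj_mem_of_not_dvd_index hqnot (y := (⟨y₁, hy₁M⟩ : M)) (n := 1)
      (by rw [Subgroup.orderOf_mk, hy₁o, pow_one])
    have hm' : (m : G) * y₁ * (m : G)⁻¹ ∈ W₁ := hm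
    have hm1 : (m : G) * y₁ * (m : G)⁻¹ ≠ 1 := fun h => hq.ne_one <| by
      rw [← hy₁o, show y₁ = 1 from conj_eq_one_iff.1 h, orderOf_one]
    have haW : (m : G) * a₁ * (m : G)⁻¹ ∈ W₂ := by
      rw [← P.hMP.W₂_centralizer _ hm' hm1]
      refine ⟨conj_mem_commutator m.2 hg, Subgroup.mem_centralizer_singleton_iff.2 ?_⟩
      calc (m : G) * a₁ * (m : G)⁻¹ * ((m : G) * y₁ * (m : G)⁻¹)
          = (m : G) * (a₁ * y₁) * (m : G)⁻¹ := by group
        _ = (m : G) * (y₁ * a₁) * (m : G)⁻¹ := by rw [hc₁]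
        _ = (m : G) * y₁ * (m : G)⁻¹ * ((m : G) * a₁ * (m : G)⁻¹) := by group
    have h1 := Subgroup.orderOf_dvd_natCard W₂ haW
    rw [show orderOf ((m : G) * a₁ * (m : G)⁻¹) = r from
      ((MulEquiv.orderOf_eq (MulAut.conj (m : G)) a₁).trans
        (MulEquiv.orderOf_eq (MulAut.conj g) a)).trans ha] at h1
    have h2 : r = Nat.card W₂ := (Nat.prime_dvd_prime_iff_eq hr (card_W₂_prime P)).1 h1
    exact hr.ne_one (Nat.eq_one_of_dvd_coprimes (typeP_card_W₁_coprime P.hTP) (h2 ▸ dvd_rfl)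
      (ha ▸ Subgroup.orderOf_dvd_natCard _ haT))
  · -- the maximal subgroup containing `C(a₁)` is the conjugate of `T`
    obtain ⟨N, ⟨hN, -⟩, huniq, hNF, -⟩ := B.s1375 M P.hM a₁
      (by rw [sigmaCore_eq_commutator B P.hM P.h345]; exact hg) ha₁1 hle
    have hT₁ : IsCoatom (T.map (MulAut.conj g).toMonoidHom) := isCoatom_map (MulAut.conj g) P.hT
    have hCT : Subgroup.centralizer ({a₁} : Set G) ≤ T.map (MulAut.conj g).toMonoidHom := by
      rw [show a₁ = MulAut.conj g a from (MulAut.conj_apply g a).symm, centralizer_map]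
      exact Subgroup.map_mono (centralizer_le_of_commute B P hG haT ha1 hy₀H hy₀1 hc₀.eq)
    have hTN := huniq _ hT₁ hCT
    obtain ⟨p, hp, hpW⟩ :=
      Nat.exists_prime_and_dvd (Nat.ne_of_gt (W₁.one_lt_card_iff_ne_bot.2 P.hMP.W₁_ne))
    have hpN : p ∈ sigma N := by
      refine isPiGrp_piCoreOf (sigma N) N p hp ?_
      show p ∣ Nat.card (sigmaCore N)
      rw [hNF, ← hTN, ← fittingHallOf_map, Subgroup.card_map_of_injective (MulAut.conj g).injective]
      exact hpW.trans (Subgroup.card_dvd_of_le (W₁_le_H P))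
    have hxN : Subgroup.centralizer ({a₁} : Set G) ≤ N := hTN ▸ hCT
    have hk := ((B.s1436 M P.hM a₁ (by rw [sigmaCore_eq_commutator B P.hM P.h345]; exact hg) ha₁1
      hle N hN hxN).1 ⟨p, hpN, hpW.trans (Subgroup.card_dvd_of_le P.hMP.W₁_compl.2.1)⟩).1
    exact (kappa_nonempty_of_345 B P.hM P.h345).1.ne_empty hk

omit B in
/-- The complement of `T_F` in `T'` has order at least five. -/
theorem five_le_card_V : 5 ≤ Nat.card V := by
  have hV : V ≠ ⊥ := by
    intro h
    obtain ⟨A, U', C, hP', hU', -⟩ := P.hTII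
    have h1 := card_eq_of_isComplIn hP'.U_compl
    rw [← card_eq_of_isComplIn P.hTP.U_compl, h, Subgroup.card_bot] at h1
    exact hU' (Subgroup.card_eq_one.1 (Nat.eq_of_mul_eq_mul_left Nat.card_pos h1))
  have hoddV : Odd (Nat.card V) := hG.1.of_dvd_nat (Subgroup.card_subgroup_dvd_card V)
  have hne1 : Nat.card V ≠ 1 := fun h => hV (Subgroup.card_eq_one.1 h)
  have hne3 : Nat.card V ≠ 3 := by
    intro h3
    obtain ⟨x, hx, hx1⟩ := (Subgroup.bot_or_exists_ne_one W₂).resolve_left P.hTP.W₁_ne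
    obtain ⟨v, hv, hv1⟩ := (Subgroup.bot_or_exists_ne_one V).resolve_left hV
    haveI := Fact.mk Nat.prime_three
    have hgen : ∀ u ∈ V, u ∈ Subgroup.zpowers v := fun u hu => by
      have := mem_zpowers_of_prime_card (G := V) h3 (g := ⟨v, hv⟩) (g' := ⟨u, hu⟩)
        (fun e => hv1 (congrArg Subtype.val e))
      obtain ⟨k, hk⟩ := this
      exact ⟨k, congrArg Subtype.val hk⟩
    have hv3 : v ^ 3 = 1 := h3 ▸ congrArg Subtype.val (pow_card_eq_one' (x := (⟨v, hv⟩ : V)))
    have hcases : ∀ u ∈ V, u = 1 ∨ u = v ∨ u = v⁻¹ := fun u hu => by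
      obtain ⟨k, rfl⟩ := hgen u hu
      have hord : orderOf v = 3 := orderOf_eq_prime hv3 hv1
      show v ^ k = 1 ∨ v ^ k = v ∨ v ^ k = v⁻¹
      rw [← zpow_mod_orderOf, hord]
      have h0 := Int.emod_nonneg k (show ((3 : ℕ) : ℤ) ≠ 0 by norm_num)
      have h1 := Int.emod_lt_of_pos k (show (0 : ℤ) < ((3 : ℕ) : ℤ) by norm_num)
      have : k % ((3 : ℕ) : ℤ) = 0 ∨ k % ((3 : ℕ) : ℤ) = 1 ∨ k % ((3 : ℕ) : ℤ) = 2 := by omega
      rcases this with h | h | h <;> rw [h]
      · exact Or.inl (zpow_zero v)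
      · exact Or.inr (Or.inl (zpow_one v))
      · refine Or.inr (Or.inr (eq_inv_of_mul_eq_one_left ?_))
        rw [show (2 : ℤ) = ((2 : ℕ) : ℤ) from rfl, zpow_natCast, ← pow_succ, hv3]
    have hxv : x * v * x⁻¹ ∈ V := (Subgroup.mem_normalizer_iff.1 (P.hTP.U_normal hx) v).1 hv
    have hcomm : x ^ 2 * v = v * x ^ 2 := by
      rcases hcases _ hxv with h | h | h
      · exact absurd (conj_eq_one_iff.1 h) hv1
      · have e : Commute x v := mul_inv_eq_iff_eq_mul.1 h
        exact (e.pow_left 2).eq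
      · have h' : x * v⁻¹ * x⁻¹ = v := by
          have := congrArg Inv.inv h
          simpa [mul_assoc] using this
        calc x ^ 2 * v = x * (x * v * x⁻¹) * x⁻¹ * (x * x) := by rw [pow_two]; group
          _ = v * x ^ 2 := by rw [h, h', pow_two]
    have hx2 : x ^ 2 ≠ 1 := fun h => hx1 (orderOf_eq_one_iff.1 (Nat.eq_one_of_dvd_coprimes
      (Nat.coprime_two_left.2 (hG.1.of_dvd_nat (orderOf_dvd_natCard x))) (orderOf_dvd_of_pow_eq_one h)
      dvd_rfl))
    have hvT : v ∈ (⁅T, T⁆ : Subgroup G) := P.hTP.U_compl.2.1 hv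
    have hvW : v ∈ W₁ := by
      rw [← P.hTP.W₂_centralizer _ (pow_mem hx 2) hx2]
      exact ⟨hvT, Subgroup.mem_centralizer_singleton_iff.2 hcomm.symm⟩
    have : v ∈ fittingHallOf T ⊓ V := ⟨W₁_le_H P hvW, hv⟩
    rw [P.hTP.U_compl.2.2.1, Subgroup.mem_bot] at this
    exact hv1 this
  obtain ⟨k, hk⟩ := hoddV
  omega

end Pair345

end Cfsg.Agent.OddOrder.PF
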