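import Mathlib

/-!
Elementary facts for the counting in Peterfalvi (10.8): the decomposition of an element into
commuting parts of coprime orders, and a bound on the number of conjugates of a set.
-/

set_option autoImplicit false

namespace Cfsg.Agent.OddOrder.PF

universe u
variable {G : Type u} [Group G]

/-- A power inverting the `a`-th power on the elements killed by `b`. -/
theorem exists_pow_inverse {a b : ℕ} (hb : 0 < b) (h : a.Coprime b) :
    ∃ m : ℕ, ∀ g : G, g ^ b = 1 → (g ^ a) ^ m = g := by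
  rcases (show 1 ≤ b from hb).eq_or_lt with h1 | h1
  · exact ⟨0, fun g hg => by rw [← h1, pow_one] at hg; rw [pow_zero, hg]⟩
  · obtain ⟨m, -, hm⟩ := Nat.exists_mul_mod_eq_one_of_coprime h h1
    refine ⟨m, fun g hg => ?_⟩
    rw [← pow_mul, pow_eq_pow_mod (a * m) hg, hm, pow_one]

/-- Elements with the same centraliser: an element and a power prime to its order. -/
theorem centralizer_pow_eq [Finite G] {z : G} {k : ℕ} (hk : k.Coprime (Nat.card G)) :
    Subgroup.centralizer ({z ^ k} : Set G) = Subgroup.centralizer ({z} : Set G) := by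
  obtain ⟨m, hm⟩ := exists_pow_inverse (G := G) Nat.card_pos hk
  refine le_antisymm (fun c hc => ?_) (fun c hc => ?_)
  · rw [Subgroup.mem_centralizer_singleton_iff] at hc ⊢
    have h : Commute c ((z ^ k) ^ m) := (show Commute c (z ^ k) from hc).pow_right m
    rwa [hm z pow_card_eq_one'] at h
  · rw [Subgroup.mem_centralizer_singleton_iff] at hc ⊢
    exact (show Commute c z from hc).pow_right k

/-- An element is the product of commuting parts, one of order prime to `n`, one of order with all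
prime divisors dividing `n`; both are powers of it. -/
theorem exists_parts [Finite G] (n : ℕ) (x : G) :
    ∃ z y : G, z * y = x ∧ z * y = y * z ∧ (orderOf z).Coprime n ∧
      (∀ q : ℕ, q.Prime → q ∣ orderOf y → q ∣ n) := by
  classical
  set o := orderOf x with ho
  have ho0 : 0 < o := orderOf_pos x
  obtain ⟨b, hb, hmax⟩ := (o.divisors.filter fun d => d.Coprime n).exists_max_image id
    ⟨1, Finset.mem_filter.2 ⟨Nat.one_mem_divisors.2 ho0.ne', Nat.coprime_one_left n⟩⟩
  simp only [Finset.mem_filter, Nat.mem_divisors] at hb hmax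
  obtain ⟨⟨⟨a, hab⟩, -⟩, hbn⟩ := hb
  have hb0 : 0 < b := pos_of_mul_pos_left (hab ▸ ho0) (Nat.zero_le a)
  have ha : ∀ q : ℕ, q.Prime → q ∣ a → q ∣ n := by
    intro q hq hqa
    by_contra hqn
    have := hmax (b * q) ⟨⟨hab ▸ mul_dvd_mul_left b hqa, ho0.ne'⟩,
      hbn.mul_left ((Nat.Prime.coprime_iff_not_dvd hq).2 hqn)⟩
    have h2 := hq.two_le
    simp only [id] at this
    nlinarith
  have hcop : a.Coprime b := Nat.coprime_of_dvd fun q hq hqa hqb =>
    hq.ne_one (Nat.eq_one_of_dvd_coprimes hbn hqb (ha q hq hqa))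
  obtain ⟨m, hm⟩ := exists_pow_inverse (G := G) hb0 hcop
  have hxa : (x ^ a) ^ b = 1 := by
    rw [← pow_mul, mul_comm, ← hab, ho, pow_orderOf_eq_one]
  have hc : Commute ((x ^ a) ^ m) x := ((Commute.refl x).pow_left a).pow_left m
  refine ⟨(x ^ a) ^ m, ((x ^ a) ^ m)⁻¹ * x, mul_inv_cancel_left _ _, ?_, ?_, fun q hq hqy => ?_⟩
  · rw [mul_inv_cancel_left, mul_assoc, ← hc.eq, inv_mul_cancel_left]
  · refine hbn.coprime_dvd_left (orderOf_dvd_of_pow_eq_one ?_)
    rw [← pow_mul, mul_comm, pow_mul, hxa, one_pow]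
  · refine ha q hq (hqy.trans (orderOf_dvd_of_pow_eq_one ?_))
    have e : ((x ^ a) ^ m) ^ a = x ^ a := by
      rw [← pow_mul, mul_comm, pow_mul]
      exact hm _ hxa
    rw [hc.inv_left.mul_pow, inv_pow, e, inv_mul_cancel]

/-- The parts of `exists_parts` are unique. -/
theorem parts_unique [Finite G] {n : ℕ} {z y z' y' : G} (hc : z * y = y * z)
    (hc' : z' * y' = y' * z') (hz : (orderOf z).Coprime n) (hz' : (orderOf z').Coprime n)
    (hy : ∀ q : ℕ, q.Prime → q ∣ orderOf y → q ∣ n)
    (hy' : ∀ q : ℕ, q.Prime → q ∣ orderOf y' → q ∣ n) (e : z * y = z' * y') : z = z' := by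
  set a := orderOf y * orderOf y'
  set b := orderOf z * orderOf z'
  have hcop : a.Coprime b := Nat.coprime_of_dvd fun q hq hqa hqb => by
    have h1 : q ∣ n := (hq.dvd_mul.1 hqa).elim (hy q hq) (hy' q hq)
    exact hq.ne_one ((hq.dvd_mul.1 hqb).elim (fun h => Nat.eq_one_of_dvd_coprimes hz h h1)
      fun h => Nat.eq_one_of_dvd_coprimes hz' h h1)
  obtain ⟨m, hm⟩ := exists_pow_inverse (G := G) (Nat.mul_pos (orderOf_pos z) (orderOf_pos z')) hcop
  have h1 : (z * y) ^ a = z ^ a := by
    rw [(show Commute z y from hc).mul_pow, orderOf_dvd_iff_pow_eq_one.1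
      (Dvd.intro _ rfl : orderOf y ∣ a), mul_one]
  have h2 : (z' * y') ^ a = z' ^ a := by
    rw [(show Commute z' y' from hc').mul_pow, orderOf_dvd_iff_pow_eq_one.1
      (Dvd.intro_left _ rfl : orderOf y' ∣ a), mul_one]
  have h3 : z ^ a = z' ^ a := by rw [← h1, e, h2]
  rw [← hm z (orderOf_dvd_iff_pow_eq_one.1 (Dvd.intro _ rfl)),
    ← hm z' (orderOf_dvd_iff_pow_eq_one.1 (Dvd.intro_left _ rfl)), h3]

/-- A set stable under conjugation by `L` has at most `[G : L]` times as many conjugates of its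
elements as elements. -/
theorem card_conj_le [Fintype G] [DecidableEq G] (L : Subgroup G) (X : Finset G)
    (hX : ∀ l ∈ L, ∀ x ∈ X, l * x * l⁻¹ ∈ X) :
    (Finset.univ.filter fun g : G => ∃ x : G, x * g * x⁻¹ ∈ X).card ≤ L.index * X.card := by
  classical
  haveI : Fintype (G ⧸ L) := Fintype.ofFinite _
  refine le_trans (Finset.card_le_card (t := ((Finset.univ : Finset (G ⧸ L)) ×ˢ X).image
    fun p => p.1.out * p.2 * p.1.out⁻¹) fun g hg => ?_) (le_trans Finset.card_image_le ?_)
  · obtain ⟨c, hc⟩ := (Finset.mem_filter.1 hg).2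
    obtain ⟨l, hl⟩ := QuotientGroup.mk_out_eq_mul L c⁻¹
    refine Finset.mem_image.2 ⟨(QuotientGroup.mk c⁻¹, (l : G)⁻¹ * (c * g * c⁻¹) * l),
      Finset.mem_product.2 ⟨Finset.mem_univ _, ?_⟩, ?_⟩
    · simpa using hX _ (L.inv_mem l.2) _ hc
    · simp only [hl]; group
  · rw [Finset.card_product, Finset.card_univ, Subgroup.index_eq_card, Nat.card_eq_fintype_card]

end Cfsg.Agent.OddOrder.PF
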