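import Cfsg.Agent.Lib.CharInt.GaloisAverage
import Cfsg.Agent.Lib.Char.Product
import Cfsg.Agent.Lib.Char.Generalized

/-!
Galois averages over cosets: if a virtual character `f` does not vanish at `z` and the subgroup `P`
commutes with `z`, the squared absolute values of `f` on the cosets `z' P`, for `z'` running over a
set closed under the powers prime to the group order, average to at least one.
-/

set_option autoImplicit false
set_option linter.style.haveILetI false

namespace Cfsg.Agent.OddOrder.PF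

open Cfsg Cfsg.Agent Finset
open scoped ComplexConjugate

universe u
variable {G : Type u} [Group G] [Fintype G] {f : G → ℂ}

/-- The coefficients of the restrictions to `z ^ k P` are integral combinations of `k`-th powers of
roots of unity. -/
theorem coset_coeff_roots (hf : IsGeneralizedCharacter G f) {z : G} (P : Subgroup G) [Fintype P]
    (hzP : ∀ y ∈ P, z * y = y * z) (χ : IrrCharacter P) :
    ∃ (ι : Type) (_ : Fintype ι) (c : ι → ℤ) (μ : ι → ℂ), (∀ i, μ i ^ Nat.card G = 1) ∧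
      ∀ k : ℕ, classInner (fun y : P => f (z ^ k * y)) χ.1 = ∑ i, (c i : ℂ) * μ i ^ k := by
  classical
  haveI : Fintype ↥(Subgroup.zpowers z) := Fintype.ofFinite _
  let e : ↥(Subgroup.zpowers z) × P →* G :=
    MonoidHom.noncommCoprod (Subgroup.zpowers z).subtype P.subtype fun a y => by
      obtain ⟨n, hn⟩ := a.2
      show (a : G) * y = y * a
      rw [← hn]
      exact (show Commute z y from hzP y y.2).zpow_left n
  obtain ⟨m, hm, -⟩ := Char.IsGeneralizedCharacter.exists_decomp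
    (Char.IsGeneralizedCharacter.comp hf e)
  choose φ ψ hφ hψ hθ using fun θ : IrrCharacter (↥(Subgroup.zpowers z) × P) =>
    Char.exists_eq_prod_mul θ.2
  set g : ↥(Subgroup.zpowers z) → ℂ := ∑ θ : IrrCharacter (↥(Subgroup.zpowers z) × P),
    ((if ψ θ = χ.1 then m θ else 0 : ℤ) : ℂ) • φ θ with hg
  have hgc : IsGeneralizedCharacter ↥(Subgroup.zpowers z) g :=
    Char.IsGeneralizedCharacter.sum _ fun θ _ =>
      Char.IsGeneralizedCharacter.intCast_smul (Char.irr_isGeneralized ⟨_, hφ θ⟩) _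
  have hval : ∀ a : ↥(Subgroup.zpowers z),
      classInner (fun y : P => f ((a : G) * y)) χ.1 = g a := by
    intro a
    have e1 : (fun y : P => f ((a : G) * y)) =
        ∑ θ : IrrCharacter (↥(Subgroup.zpowers z) × P), ((m θ : ℂ) * φ θ a) • ψ θ := by
      funext y
      refine (congrFun hm (a, y)).trans ?_
      simp only [Finset.sum_apply, Pi.smul_apply, smul_eq_mul]
      refine Finset.sum_congr rfl fun θ _ => ?_
      rw [congrFun (hθ θ) (a, y)]; ring
    rw [e1, Char.classInner_sum_left, hg, Finset.sum_apply]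
    refine Finset.sum_congr rfl fun θ _ => ?_
    rw [Char.classInner_smul_left, Pi.smul_apply, smul_eq_mul]
    by_cases h : ψ θ = χ.1
    · rw [if_pos h, h, Char.classInner_irr_self χ.2, mul_one]
    · rw [if_neg h, Char.classInner_irr_of_ne (hψ θ) χ.2 h, mul_zero, Int.cast_zero, zero_mul]
  obtain ⟨A, B, hA, hB, hAB⟩ := hgc
  set z' : ↥(Subgroup.zpowers z) := ⟨z, Subgroup.mem_zpowers z⟩
  obtain ⟨nA, μA, -, hμA, hvA⟩ := CharInt.exists_roots hA z'
  obtain ⟨nB, μB, -, hμB, hvB⟩ := CharInt.exists_roots hB z'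
  obtain ⟨d, hd⟩ : orderOf z' ∣ Nat.card G :=
    (orderOf_dvd_natCard z').trans (Subgroup.card_subgroup_dvd_card _)
  refine ⟨Fin nA ⊕ Fin nB, inferInstance, Sum.elim (fun _ => 1) (fun _ => -1),
    Sum.elim μA μB, ?_, fun k => ?_⟩
  · rintro (i | i) <;> rw [hd, pow_mul] <;> simp [hμA, hμB]
  · have := hval (z' ^ k)
    rw [Subgroup.coe_pow, hAB, Pi.sub_apply, hvA, hvB] at this
    rw [this, Fintype.sum_sum_type]
    simp [Finset.sum_neg_distrib, sub_eq_add_neg]

/-- On a set `Z` closed under the powers prime to the group order where `f` does not vanish, with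
`P z` commuting with `z` and depending only on `⟨z⟩`, the squared absolute values of `f` on the
cosets `z P z` sum to at least the number of their elements. -/
theorem sum_card_le_sum_normSq (hf : IsGeneralizedCharacter G f) (Z : Finset G)
    (P : G → Subgroup G) [∀ z, DecidablePred (· ∈ P z)]
    (hZ : ∀ z ∈ Z, ∀ k : ℕ, k.Coprime (Nat.card G) → z ^ k ∈ Z ∧ P (z ^ k) = P z)
    (hcomm : ∀ z ∈ Z, ∀ y ∈ P z, z * y = y * z) (hne : ∀ z ∈ Z, f z ≠ 0) :
    (∑ z ∈ Z, (Nat.card (P z) : ℝ)) ≤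
      ∑ z ∈ Z, ∑ y ∈ univ.filter (· ∈ P z), ‖f (z * y)‖ ^ 2 := by
  classical
  haveI : ∀ z, Fintype (P z) := fun z => Fintype.ofFinite _
  haveI : NeZero (Nat.card G) := ⟨Nat.card_pos.ne'⟩
  obtain ⟨m, k, hm, hk, hmain⟩ := CharInt.exists_twists.{0} (Nat.card G)
  have hpoint : ∀ z ∈ Z, (m : ℝ) * Nat.card (P z) ≤
      ∑ j, ∑ y ∈ univ.filter (· ∈ P z), ‖f (z ^ k j * y)‖ ^ 2 := by
    intro z hz
    set h : ℕ → P z → ℂ := fun n y => f (z ^ n * y) with hh
    have hcl : ∀ n, IsClassFunction (P z) (h n) := by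
      intro n y x
      have hc : (x : G) * z ^ n = z ^ n * x :=
        (show Commute z x from hcomm z hz x x.2).symm.pow_right n
      show f (z ^ n * ((x * y * x⁻¹ : P z) : G)) = f (z ^ n * y)
      rw [← Char.IsGeneralizedCharacter.isClassFunction hf (z ^ n * y) (x : G)]
      congr 1
      simp only [Subgroup.coe_mul, Subgroup.coe_inv]
      calc z ^ n * ((x : G) * y * (x : G)⁻¹) = (z ^ n * x) * y * (x : G)⁻¹ := by group
        _ = (x : G) * (z ^ n * y) * (x : G)⁻¹ := by rw [← hc]; group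
    obtain ⟨χ, hχ⟩ : ∃ χ : IrrCharacter (P z), classInner (h 1) χ.1 ≠ 0 := by
      by_contra hcon
      push Not at hcon
      refine hne z hz ?_
      have := congrFun (Char.eq_sum_classInner_smul (hcl 1)) 1
      simp only [hcon, zero_smul, Finset.sum_const_zero, Pi.zero_apply] at this
      simpa [hh] using this
    obtain ⟨ι, _, c, μ, hμ, hc⟩ := coset_coeff_roots hf (P z) (hcomm z hz) χ
    have hc' : ∀ n, classInner (h n) χ.1 = ∑ i, (c i : ℂ) * μ i ^ n := hc
    have h1 := hmain ι c μ hμ (by simpa [hc'] using hχ)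
    have hbessel : ∀ n, (Nat.card (P z) : ℝ) * ‖classInner (h n) χ.1‖ ^ 2 ≤
        ∑ y ∈ univ.filter (· ∈ P z), ‖f (z ^ n * y)‖ ^ 2 := by
      intro n
      have e : classInner (h n) (h n) = ((∑ ψ : IrrCharacter (P z),
          ‖classInner (h n) ψ.1‖ ^ 2 : ℝ) : ℂ) := by
        rw [Char.classInner_eq_sum (hcl n), Complex.ofReal_sum]
        refine Finset.sum_congr rfl fun ψ _ => ?_
        rw [← Char.conj_classInner (h n) ψ.1, Complex.mul_conj, Complex.normSq_eq_norm_sq]
      have e2 : classInner (h n) (h n) = (((Nat.card (P z) : ℝ)⁻¹ *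
          ∑ y : P z, ‖h n y‖ ^ 2 : ℝ) : ℂ) := by
        simp only [classInner, Complex.mul_conj, Complex.normSq_eq_norm_sq]
        push_cast; rfl
      have e3 := Complex.ofReal_injective (e.symm.trans e2)
      have h0 : (0 : ℝ) < Nat.card (P z) := Nat.cast_pos.2 Nat.card_pos
      have hsub : ∑ y ∈ univ.filter (· ∈ P z), ‖f (z ^ n * y)‖ ^ 2 =
          ∑ y : P z, ‖f (z ^ n * y)‖ ^ 2 :=
        Finset.sum_subtype (p := (· ∈ P z)) _ (by simp) _
      rw [hsub]
      calc (Nat.card (P z) : ℝ) * ‖classInner (h n) χ.1‖ ^ 2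
          ≤ (Nat.card (P z) : ℝ) * ∑ ψ : IrrCharacter (P z), ‖classInner (h n) ψ.1‖ ^ 2 :=
            mul_le_mul_of_nonneg_left (Finset.single_le_sum (f := fun ψ : IrrCharacter (P z) =>
              ‖classInner (h n) ψ.1‖ ^ 2) (fun ψ _ => sq_nonneg _) (mem_univ χ)) h0.le
        _ = _ := by rw [e3]; field_simp; simp [hh]
    calc (m : ℝ) * Nat.card (P z)
        ≤ Nat.card (P z) * ∑ j, ‖classInner (h (k j)) χ.1‖ ^ 2 := by
          rw [mul_comm]
          exact mul_le_mul_of_nonneg_left (by simpa [hc'] using h1) (Nat.cast_nonneg _)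
      _ ≤ _ := by
          rw [Finset.mul_sum]
          exact Finset.sum_le_sum fun j _ => hbessel (k j)
  have hinv : ∀ j, ∑ z ∈ Z, ∑ y ∈ univ.filter (· ∈ P z), ‖f (z ^ k j * y)‖ ^ 2 =
      ∑ z ∈ Z, ∑ y ∈ univ.filter (· ∈ P z), ‖f (z * y)‖ ^ 2 := by
    intro j
    have hc : (Nat.card G).Coprime (k j) := (hk j).symm
    have hinj : Set.InjOn (fun g : G => g ^ k j) Z := (powCoprime hc).injective.injOn
    have himg : Z.image (fun g : G => g ^ k j) = Z :=
      Finset.eq_of_subset_of_card_le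
        (Finset.image_subset_iff.2 fun g hg => (hZ g hg _ (hk j)).1)
        (le_of_eq (Finset.card_image_of_injOn hinj).symm)
    conv_rhs => rw [← himg, Finset.sum_image hinj]
    refine Finset.sum_congr rfl fun z hz => Finset.sum_congr ?_ fun _ _ => rfl
    ext y
    simp [(hZ z hz _ (hk j)).2]
  have h1 : (m : ℝ) * ∑ z ∈ Z, (Nat.card (P z) : ℝ) ≤
      (m : ℝ) * ∑ z ∈ Z, ∑ y ∈ univ.filter (· ∈ P z), ‖f (z * y)‖ ^ 2 := by
    calc (m : ℝ) * ∑ z ∈ Z, (Nat.card (P z) : ℝ) = ∑ z ∈ Z, (m : ℝ) * Nat.card (P z) :=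
          Finset.mul_sum _ _ _
      _ ≤ ∑ z ∈ Z, ∑ j, ∑ y ∈ univ.filter (· ∈ P z), ‖f (z ^ k j * y)‖ ^ 2 :=
          Finset.sum_le_sum hpoint
      _ = ∑ j : Fin m, ∑ z ∈ Z, ∑ y ∈ univ.filter (· ∈ P z), ‖f (z ^ k j * y)‖ ^ 2 :=
          Finset.sum_comm
      _ = _ := by simp [hinv]
  exact le_of_mul_le_mul_left h1 (Nat.cast_pos.2 hm)

end Cfsg.Agent.OddOrder.PF
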