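import Cfsg.Agent.Lib.OddOrder.PF.S10_Image
import Cfsg.Agent.Lib.OddOrder.PF.S10_Partner
import Cfsg.Agent.Lib.OddOrder.PF.S10_Twist
import Cfsg.Agent.Lib.OddOrder.PF.S10_Parts

/-!
Peterfalvi (10.8): for a maximal subgroup `M` of Type III, IV or V the set `calS M` is not
coherent. The norm of the image of a character of degree `w₁` is bounded below on the conjugates of
the cosets attached to `A(M)` and, by Galois averages, on the cosets `z P(z)` for the elements `z`
of order prime to `|T_F|` outside them; the elements left over are too few.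
-/

set_option autoImplicit false
set_option linter.style.haveILetI false

namespace Cfsg.Agent.OddOrder.PF

open Cfsg Cfsg.Agent.OddOrder Cfsg.Agent

universe u
variable {G : Type u} [Group G] [Fintype G]

/-- The final inequality of (10.8). -/
theorem noncoherent_count_false {N R s Vc Hc w₁ w₂ k SS : ℝ} (hN : 0 < N) (hS : N * (k - w₁) ≤ k * SS)
    (hsum : SS + R ≤ N) (hcover : N ≤ R + 1 + s + Vc + Hc) (hs : k * w₁ * s = N * (k - 1))
    (hV : w₁ * w₂ * Vc ≤ N * ((w₁ - 1) * (w₂ - 1))) (hH : 5 * w₂ * (Hc + 1) ≤ N)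
    (hk : (2 * w₁ + 1) * w₂ ≤ k) (hw₁ : 3 ≤ w₁) (hw₂ : 1 ≤ w₂) : False := by
  have hk0 : 0 < k := lt_of_lt_of_le (by nlinarith) hk
  have hw : 0 < w₁ * w₂ := by nlinarith
  have h1 : N * (k - w₁) ≤ k * (s + Vc + Hc + 1) :=
    hS.trans (mul_le_mul_of_nonneg_left (by linarith) hk0.le)
  have h2 : 5 * w₁ * w₂ * (N * (k - w₁)) ≤ 5 * w₁ * w₂ * (k * (s + Vc + Hc + 1)) :=
    mul_le_mul_of_nonneg_left h1 (by nlinarith)
  have h3 : 5 * k * (w₁ * w₂ * Vc) ≤ 5 * k * (N * ((w₁ - 1) * (w₂ - 1))) :=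
    mul_le_mul_of_nonneg_left hV (by linarith)
  have h4 : k * w₁ * (5 * w₂ * (Hc + 1)) ≤ k * w₁ * N :=
    mul_le_mul_of_nonneg_left hH (by nlinarith)
  have h5 : N * (k * (4 * w₁ - 5) + 5 * w₂ - 5 * w₁ ^ 2 * w₂) ≤ 0 := by
    have h6 : 5 * w₂ * (k * w₁ * s) = 5 * w₂ * (N * (k - 1)) := by rw [hs]
    nlinarith [h2, h3, h4, h6]
  have h7 : k * (4 * w₁ - 5) + 5 * w₂ - 5 * w₁ ^ 2 * w₂ ≤ 0 :=
    nonpos_of_mul_nonpos_right (by linarith) hN |> fun h => h
  have h8 : (2 * w₁ + 1) * w₂ * (4 * w₁ - 5) ≤ k * (4 * w₁ - 5) :=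
    mul_le_mul_of_nonneg_right hk (by linarith)
  nlinarith [mul_pos (show (0 : ℝ) < w₂ by linarith)
    (show (0 : ℝ) < 3 * w₁ * (w₁ - 2) by nlinarith)]

theorem exists_prime_dvd_of_mem_dadeUnion {M : Subgroup G} [Fintype M] (B : BGFacts G)
    (hM : IsCoatom M) (h : IsType345 M) {g : G} (hg : g ∈ dadeUnion (typeA' M) (supportR M)) :
    ∃ r : ℕ, r.Prime ∧ r ∣ orderOf g ∧ r ∣ Nat.card (⁅M, M⁆ : Subgroup G) := by
  have hD := dadeHypothesis_typeSet B hM (A := typeA' M) (Or.inr (Or.inl rfl))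
  obtain ⟨a, ha, u, hu, x, hx⟩ := mem_dadeUnion.1 hg
  have ha' := ha
  rw [typeA_eq_commutator B hM h] at ha'
  obtain ⟨r, hr, hra⟩ := Nat.exists_prime_and_dvd (mt orderOf_eq_one_iff.1 ha'.2)
  refine ⟨r, hr, ?_, hra.trans (Subgroup.orderOf_dvd_natCard _ ha'.1)⟩
  have hau := (dade_commute hD ha hu).orderOf_mul_eq_mul_orderOf_of_coprime
    ((dade_coprime_orderOf hD ha ha).coprime_dvd_left (Subgroup.orderOf_dvd_natCard _ hu)).symm
  have hg' : orderOf g = orderOf a * orderOf u := by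
    rw [← hau, ← hx]
    exact (MulEquiv.orderOf_eq (MulAut.conj x) g).symm
  exact hg' ▸ hra.trans (dvd_mul_right _ _)

namespace Pair345

variable {M T W₁ W₂ U V : Subgroup G} (B : BGFacts G) (P : Pair345 M T W₁ W₂ U V)
include B P

omit B [Fintype G] in
theorem H_le_commutator : fittingHallOf T ≤ (⁅T, T⁆ : Subgroup G) := P.hTP.U_compl.1

omit B P [Fintype G] in
theorem conj_mem_fittingHallOf' {T : Subgroup G} {t x : G} (ht : t ∈ T)
    (hx : x ∈ fittingHallOf T) : t * x * t⁻¹ ∈ fittingHallOf T := by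
  obtain ⟨x', hx', rfl⟩ := hx
  exact ⟨⟨t, ht⟩ * x' * ⟨t, ht⟩⁻¹, (fittingHall_normal T).conj_mem _ hx' _, rfl⟩

/-- An element of `T` whose order has only prime divisors of `|T_F|` lies in `T_F`. -/
theorem mem_H_of_primes {x : G} (hx : x ∈ T)
    (hp : ∀ q : ℕ, q.Prime → q ∣ orderOf x → q ∣ Nat.card (fittingHallOf T)) :
    x ∈ fittingHallOf T := by
  have h1 := fittingHall_coprime_index T
  rw [← card_fittingHallOf T] at h1
  suffices h : (⟨x, hx⟩ : T) ∈ fittingHall T by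
    exact ⟨⟨x, hx⟩, h, rfl⟩
  have hcop : (orderOf (⟨x, hx⟩ : T)).Coprime (fittingHall T).index :=
    Nat.coprime_of_dvd fun q hq hqx hqi => hq.ne_one <| Nat.eq_one_of_dvd_coprimes h1
      (hp q hq (by rwa [Subgroup.orderOf_mk] at hqx)) hqi
  rw [← QuotientGroup.eq_one_iff, ← orderOf_eq_one_iff]
  exact Nat.eq_one_of_dvd_coprimes hcop (orderOf_map_dvd (QuotientGroup.mk' (fittingHall T)) _)
    (by rw [Subgroup.index_eq_card]; exact orderOf_dvd_natCard _)

variable (hG : IsMinSimpleOddOrder G)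
include hG

/-- A `|T_F|`-part is conjugate into `T_F`; the other part then is in `T'` or both are conjugate
into the cyclic factors. -/
theorem parts_cases {z y : G} (hc : z * y = y * z)
    (hz : (orderOf z).Coprime (Nat.card (fittingHallOf T))) (hy1 : y ≠ 1)
    (hy : ∀ q : ℕ, q.Prime → q ∣ orderOf y → q ∣ Nat.card (fittingHallOf T)) :
    (∃ g : G, g * y * g⁻¹ ∈ fittingHallOf T ∧ g * z * g⁻¹ ∈ (⁅T, T⁆ : Subgroup G)) ∨
      (∃ g : G, g * y * g⁻¹ ∈ W₁ ∧ g * z * g⁻¹ ∈ W₂ ∧ z ≠ 1) := by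
  obtain ⟨q, hq, hqy⟩ := Nat.exists_prime_and_dvd (mt orderOf_eq_one_iff.1 hy1)
  haveI := Fact.mk hq
  set y₀ := y ^ (orderOf y / q) with hy₀
  have hy₀o : orderOf y₀ = q ^ 1 := by
    rw [pow_one]; exact orderOf_pow_orderOf_div (orderOf_pos y).ne' hqy
  obtain ⟨g, hg⟩ := exists_conj_mem_H B P (hy q hq hqy) hy₀o
  have h0 : g * y₀ * g⁻¹ ≠ 1 := fun h => by
    rw [conj_eq_one_iff.1 h, orderOf_one, pow_one] at hy₀o
    exact hq.ne_one hy₀o.symm
  have hle := centralizer_le B P hG hg h0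
  have hmem : ∀ {a : G}, Commute a y₀ → g * a * g⁻¹ ∈ T := fun {a} ha =>
    hle (Subgroup.mem_centralizer_singleton_iff.2 (ha.map (MulAut.conj g)).eq)
  have hyT := hmem ((Commute.refl y).pow_right _)
  have hzT := hmem ((show Commute z y from hc).pow_right _)
  have ho : ∀ a : G, orderOf (g * a * g⁻¹) = orderOf a := fun a =>
    MulEquiv.orderOf_eq (MulAut.conj g) a
  have hyH := mem_H_of_primes B P hyT fun r hr h => hy r hr (ho y ▸ h)
  by_cases hz' : g * z * g⁻¹ ∈ (⁅T, T⁆ : Subgroup G)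
  · exact Or.inl ⟨g, hyH, hz'⟩
  · obtain ⟨t, ht, htz⟩ := conj_mem_W₂ P hzT hz' ((ho z).symm ▸ hz)
    have hz1 : z ≠ 1 := fun h => hz' (by simp [h])
    refine Or.inr ⟨t * g, ?_, by simpa [mul_assoc] using htz, hz1⟩
    have hne : t * (g * z * g⁻¹) * t⁻¹ ≠ 1 := fun h => hz1 (conj_eq_one_iff.1 (conj_eq_one_iff.1 h))
    rw [show t * g * y * (t * g)⁻¹ = t * (g * y * g⁻¹) * t⁻¹ by group,
      ← P.hTP.W₂_centralizer _ htz hne]
    exact ⟨H_le_commutator P (conj_mem_fittingHallOf' ht hyH),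
      Subgroup.mem_centralizer_singleton_iff.2
        (((show Commute z y from hc).map (MulAut.conj g)).map (MulAut.conj t)).eq.symm⟩

/-- In the first case of `parts_cases` no prime divisor of the order of the part prime to `|T_F|`
divides `|M'|`. -/
theorem not_dvd_of_parts {g z y : G} (hc : z * y = y * z) (hy1 : y ≠ 1)
    (hgy : g * y * g⁻¹ ∈ fittingHallOf T) (hgz : g * z * g⁻¹ ∈ (⁅T, T⁆ : Subgroup G)) {r : ℕ}
    (hr : r.Prime) (hrz : r ∣ orderOf z) : ¬ r ∣ Nat.card (⁅M, M⁆ : Subgroup G) := fun hrk => by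
  have ho : orderOf (g * z * g⁻¹) = orderOf z := MulEquiv.orderOf_eq (MulAut.conj g) z
  refine false_of_commute B P hG hr (orderOf_pow_orderOf_div (orderOf_pos (g * z * g⁻¹)).ne'
      (ho.symm ▸ hrz)) hrk (pow_mem hgz _) hgy (fun h => hy1 (conj_eq_one_iff.1 h)) ?_
  exact (((show Commute z y from hc).map (MulAut.conj g)).pow_left _).eq

omit hG in
theorem card_M : Nat.card M = Nat.card (⁅M, M⁆ : Subgroup G) * Nat.card W₁ :=
  (card_eq_of_isComplIn P.hMP.W₁_compl).symm

omit B hG in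
theorem card_T : Nat.card T = Nat.card (fittingHallOf T) * Nat.card V * Nat.card W₂ := by
  rw [card_eq_of_isComplIn P.hTP.U_compl, card_eq_of_isComplIn P.hTP.W₁_compl]

omit B hG in
theorem card_W : Nat.card ↥(W₁ ⊔ W₂) = Nat.card W₁ * Nat.card W₂ := by
  have hW := P.hMP.selfNormalizing
  have hn : W₁ ≤ Subgroup.normalizer (W₂ : Set G) := fun a ha =>
    Subgroup.centralizer_le_normalizer _ (Subgroup.mem_centralizer_iff.2 fun b hb =>
      (hW.2.2.2.1 a ha b hb).symm)
  refine (card_eq_of_isComplIn ⟨le_sup_left, le_sup_right, hW.2.2.1, fun m hm => ?_⟩).symm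
  obtain ⟨a, ha, b, hb, e⟩ := (Coprime.mem_sup_iff_of_le_normalizer hn).1 hm
  exact ⟨a, ha, b, hb, e.symm⟩

end Pair345

open Pair345 in
/-- Peterfalvi (10.8). -/
theorem noCoherence345 (hG : IsMinSimpleOddOrder G) (B : BGFacts G) : NoCoherence345 G := by
  intro M _ hM h hcoh
  classical
  obtain ⟨T, W₁, W₂, U, V, P⟩ := exists_pair345 B hM h
  have hW := P.hMP.selfNormalizing
  have hodd : Odd (Nat.card ↥(W₁ ⊔ W₂)) := hG.1.of_dvd_nat (Subgroup.card_subgroup_dvd_card _)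
  haveI := (ann_facts hW).1
  letI : Fintype (Ann W₁ W₂ W₁) := Fintype.ofFinite _
  letI : Fintype (Ann W₁ W₂ W₂) := Fintype.ofFinite _
  obtain ⟨η, hη⟩ := exists_isCyclicTIFamily hW hodd
  obtain ⟨τ₁, ξ, hS, hnorm⟩ := exists_good hG B hM h P.hMP hη hcoh
  obtain ⟨μ, δ, hμ⟩ := (primeDade_345 B hG hM h P.hMP).exists_muFamily
  have hsize := (exists_zeta B hG hM h P.hMP hμ).2
  set S := dadeUnion (typeA' M) (supportR M) with hSdef
  set n := Nat.card (fittingHallOf T) with hn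
  set π : Set ℕ := {q | q.Prime ∧ q ∣ n} with hπ
  set Q : G → Subgroup G := fun z => piCoreOf π (Subgroup.centralizer ({z} : Set G)) with hQ
  set f := τ₁ ξ with hf
  have hD := hS.dade
  set Z : Finset G := Finset.univ.filter fun z => z ≠ 1 ∧ z ∉ S ∧ (orderOf z).Coprime n with hZ
  set XH : Finset G := Finset.univ.filter fun x => x ∈ fittingHallOf T ∧ x ≠ 1 with hXH
  set XV : Finset G := ((Finset.univ.filter fun x => x ∈ W₁ ∧ x ≠ 1) ×ˢ
    (Finset.univ.filter fun x => x ∈ W₂ ∧ x ≠ 1)).image fun p : G × G => p.1 * p.2 with hXV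
  set HG : Finset G := Finset.univ.filter fun g => ∃ x : G, x * g * x⁻¹ ∈ XH with hHG
  set VG : Finset G := Finset.univ.filter fun g => ∃ x : G, x * g * x⁻¹ ∈ XV with hVG
  set R : Finset G := Finset.univ.filter fun g => g ≠ 1 ∧ g ∉ S ∧ g ∉ VG ∧ g ∉ HG with hR
  have hQcomm : ∀ z, ∀ y ∈ Q z, z * y = y * z := fun z y hy =>
    (Subgroup.mem_centralizer_singleton_iff.1 (piCoreOf_le _ _ hy)).symm
  have hQprimes : ∀ z, ∀ y ∈ Q z, ∀ q : ℕ, q.Prime → q ∣ orderOf y → q ∣ n := fun z y hy q hq h =>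
    (isPiGrp_piCoreOf π _ q hq (h.trans (Subgroup.orderOf_dvd_natCard _ hy))).2
  have hW₂A : ∀ {z g : G}, z ≠ 1 → g * z * g⁻¹ ∈ W₂ → z ∈ S := fun {z g} hz1 hg => by
    refine mem_dadeUnion.2 ⟨g * z * g⁻¹, ?_, 1, one_mem _, g, (mul_one _).symm⟩
    rw [typeA_eq_commutator B hM h]
    exact ⟨(P.hMP.W₂_le.trans inf_le_right).trans (Subgroup.commutator_le_self _) hg,
      fun h => hz1 (conj_eq_one_iff.1 h)⟩
  -- the cosets avoid `S`
  have himg : ∀ z ∈ Z, ∀ y ∈ Q z, z * y ∉ S := by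
    intro z hz y hy hmem
    obtain ⟨-, hz1, hzS, hzc⟩ := Finset.mem_filter.1 hz
    rcases eq_or_ne y 1 with rfl | hy1
    · exact hzS (by rwa [mul_one] at hmem)
    rcases parts_cases B P hG (hQcomm z y hy) hzc hy1 (hQprimes z y hy) with
      ⟨g, hgy, hgz⟩ | ⟨g, -, hgz, -⟩
    · obtain ⟨r, hr, hrg, hrk⟩ := exists_prime_dvd_of_mem_dadeUnion B hM h hmem
      have hcop : (orderOf z).Coprime (orderOf y) := Nat.coprime_of_dvd fun q hq h1 h2 =>
        hq.ne_one (Nat.eq_one_of_dvd_coprimes hzc h1 (hQprimes z y hy q hq h2))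
      rw [(show Commute z y from hQcomm z y hy).orderOf_mul_eq_mul_orderOf_of_coprime hcop] at hrg
      rcases hr.dvd_mul.1 hrg with h1 | h1
      · exact not_dvd_of_parts B P hG (hQcomm z y hy) hy1 hgy hgz hr h1 hrk
      · exact hr.ne_one (Nat.eq_one_of_dvd_coprimes (coprime_H_commutator B P)
          (hQprimes z y hy r hr h1) hrk)
    · exact hzS (hW₂A hz1 hgz)
  set J := Z.sigma fun z => Finset.univ.filter (· ∈ Q z) with hJ
  have hJinj : Set.InjOn (fun p : (_ : G) × G => p.1 * p.2) J := by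
    rintro ⟨z, y⟩ hp ⟨z', y'⟩ hp' e
    simp only [hJ, Finset.mem_coe, Finset.mem_sigma, Finset.mem_filter, Finset.mem_univ, true_and,
      hZ] at hp hp'
    have e1 : z = z' := parts_unique (hQcomm _ _ hp.2) (hQcomm _ _ hp'.2) hp.1.2.2 hp'.1.2.2
      (hQprimes _ _ hp.2) (hQprimes _ _ hp'.2) e
    subst e1
    have e2 : y = y' := mul_left_cancel e
    rw [e2]
  set I := J.image fun p : (_ : G) × G => p.1 * p.2 with hI
  have hIS : Disjoint S I := Finset.disjoint_right.2 fun g hg => by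
    obtain ⟨⟨z, y⟩, hp, rfl⟩ := Finset.mem_image.1 hg
    simp only [hJ, Finset.mem_sigma, Finset.mem_filter, Finset.mem_univ, true_and] at hp
    exact himg z hp.1 y hp.2
  -- they cover the elements outside
  have hRI : R ⊆ I := by
    intro x hx
    simp only [hR, Finset.mem_filter, Finset.mem_univ, true_and] at hx
    obtain ⟨hx1, hxS, hxV, hxH⟩ := hx
    obtain ⟨z, y, rfl, hc, hzc, hyn⟩ := exists_parts n x
    suffices hzy : z ∈ Z ∧ y ∈ Q z from Finset.mem_image.2
      ⟨⟨z, y⟩, Finset.mem_sigma.2 ⟨hzy.1, Finset.mem_filter.2 ⟨Finset.mem_univ _, hzy.2⟩⟩, rfl⟩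
    rcases eq_or_ne y 1 with rfl | hy1
    · rw [mul_one] at hx1 hxS
      exact ⟨Finset.mem_filter.2 ⟨Finset.mem_univ _, hx1, hxS, hzc⟩, one_mem _⟩
    rcases parts_cases B P hG hc hzc hy1 hyn with ⟨g, hgy, hgz⟩ | ⟨g, hgy, hgz, hz1⟩
    · have hz1 : z ≠ 1 := fun e => hxH <| by
        refine Finset.mem_filter.2 ⟨Finset.mem_univ _, g, Finset.mem_filter.2
          ⟨Finset.mem_univ _, ?_, fun h => hx1 (conj_eq_one_iff.1 h)⟩⟩
        rwa [e, one_mul]
      refine ⟨Finset.mem_filter.2 ⟨Finset.mem_univ _, hz1, fun hzS => ?_, hzc⟩, ?_⟩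
      · obtain ⟨r, hr, hrz, hrk⟩ := exists_prime_dvd_of_mem_dadeUnion B hM h hzS
        exact not_dvd_of_parts B P hG hc hy1 hgy hgz hr hrz hrk
      · set Y := (fittingHallOf T).comap (MulAut.conj g).toMonoidHom ⊓
          Subgroup.centralizer ({z} : Set G) with hY
        have hyY : y ∈ Y := ⟨hgy, Subgroup.mem_centralizer_singleton_iff.2 hc.symm⟩
        refine le_piCoreOf (Y := Y) inf_le_right (fun c hc' => ?_) (fun q hq hdvd => ?_) hyY
        · have hcT : g * c * g⁻¹ ∈ T := centralizer_le_of_commute B P hG hgz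
            (fun h => hz1 (conj_eq_one_iff.1 h)) hgy (fun h => hy1 (conj_eq_one_iff.1 h))
            ((show Commute z y from hc).map (MulAut.conj g)).eq
            (Subgroup.mem_centralizer_singleton_iff.2
              ((show Commute c z from Subgroup.mem_centralizer_singleton_iff.1 hc').map
                (MulAut.conj g)).eq)
          have key : ∀ d : G, g * d * g⁻¹ ∈ T → d ∈ Subgroup.centralizer ({z} : Set G) →
              ∀ a ∈ Y, d * a * d⁻¹ ∈ Y := fun d hd hd' a ha => by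
            refine ⟨?_, Subgroup.mul_mem _ (Subgroup.mul_mem _ hd' ha.2) (Subgroup.inv_mem _ hd')⟩
            show g * (d * a * d⁻¹) * g⁻¹ ∈ fittingHallOf T
            rw [show g * (d * a * d⁻¹) * g⁻¹ =
              g * d * g⁻¹ * (g * a * g⁻¹) * (g * d * g⁻¹)⁻¹ by group]
            exact conj_mem_fittingHallOf' hd ha.1
          refine Subgroup.mem_normalizer_iff.2 fun a => ⟨key c hcT hc' a, fun ha => ?_⟩
          have := key c⁻¹ (by simpa [mul_assoc] using inv_mem hcT) (inv_mem hc') _ ha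
          simpa [mul_assoc] using this
        · haveI := Fact.mk hq
          obtain ⟨a, ha⟩ := exists_prime_orderOf_dvd_card' q hdvd
          refine ⟨hq, ?_⟩
          rw [← ha, ← orderOf_injective Y.subtype Y.subtype_injective a,
            ← MulEquiv.orderOf_eq (MulAut.conj g) (Y.subtype a)]
          exact Subgroup.orderOf_dvd_natCard (fittingHallOf T) a.2.1
    · refine absurd (Finset.mem_filter.2 ⟨Finset.mem_univ _, g, Finset.mem_image.2
        ⟨(g * y * g⁻¹, g * z * g⁻¹), Finset.mem_product.2 ⟨Finset.mem_filter.2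
          ⟨Finset.mem_univ _, hgy, fun h => hy1 (conj_eq_one_iff.1 h)⟩, Finset.mem_filter.2
          ⟨Finset.mem_univ _, hgz, fun h => hz1 (conj_eq_one_iff.1 h)⟩⟩, ?_⟩⟩) hxV
      rw [hc]; group
  -- the Galois average
  have hgen : IsGeneralizedCharacter G f := hS.image_gen hS.mem
  have hclosed : ∀ z ∈ Z, ∀ k : ℕ, k.Coprime (Nat.card G) → z ^ k ∈ Z ∧ Q (z ^ k) = Q z := by
    intro z hz k hk
    obtain ⟨-, hz1, hzS, hzc⟩ := Finset.mem_filter.1 hz
    obtain ⟨m, hm⟩ := exists_pow_inverse (G := G) Nat.card_pos hk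
    refine ⟨Finset.mem_filter.2 ⟨Finset.mem_univ _, fun e => hz1 ?_, fun hmem => hzS ?_,
      hzc.coprime_dvd_left (orderOf_pow_dvd k)⟩, ?_⟩
    · rw [← hm z pow_card_eq_one', e, one_pow]
    · obtain ⟨a, ha, v, hv, x, hx⟩ := mem_dadeUnion.1 hmem
      have hcen : Subgroup.centralizer ({a ^ m} : Set G) = Subgroup.centralizer ({a} : Set G) := by
        have hak : (a ^ m) ^ k = a := by rw [← pow_mul, mul_comm, pow_mul, hm a pow_card_eq_one']
        rw [← centralizer_pow_eq (z := a ^ m) hk, hak]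
      refine mem_dadeUnion.2 ⟨a ^ m, ?_, v ^ m, ?_, x, ?_⟩
      · rw [typeA_eq_commutator B hM h] at ha ⊢
        refine ⟨pow_mem ha.1 m, fun e => ha.2 ?_⟩
        show a = 1
        rw [← hm a pow_card_eq_one', ← pow_mul, mul_comm, pow_mul, e, one_pow]
      · have e : supportR M (a ^ m) = supportR M a := by simp only [supportR, hcen]
        rw [e]; exact pow_mem hv m
      · rw [← (dade_commute hD ha hv).mul_pow, ← hx, conj_pow, hm z pow_card_eq_one']
    · simp only [hQ, centralizer_pow_eq hk]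
  have hne : ∀ z ∈ Z, f z ≠ 0 := by
    intro z hz e
    obtain ⟨-, hz1, hzS, hzc⟩ := Finset.mem_filter.1 hz
    obtain ⟨i, hi, he⟩ := etaCol_one_odd hW hodd hη
      (hzc.coprime_dvd_right (Subgroup.card_dvd_of_le (W₁_le_H P)))
    have := hnorm z hzS
    rw [e, norm_zero, he, eq_comm, norm_eq_zero, Int.cast_eq_zero] at this
    rw [this] at hi
    exact absurd hi (by decide)
  have hGal := sum_card_le_sum_normSq hgen Z Q hclosed (fun z _ => hQcomm z) hne
  have hcard : (R.card : ℝ) ≤ ∑ g ∈ I, ‖f g‖ ^ 2 := by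
    rw [hI, Finset.sum_image hJinj, hJ, Finset.sum_sigma]
    refine le_trans ?_ hGal
    refine le_trans (Nat.cast_le.2 (Finset.card_le_card hRI)) ?_
    rw [hI, Finset.card_image_of_injOn hJinj, hJ, Finset.card_sigma, Nat.cast_sum]
    refine le_of_eq (Finset.sum_congr rfl fun z _ => ?_)
    rw [Nat.card_eq_fintype_card, Fintype.card_subtype]
  have htot : ∑ g : G, ‖f g‖ ^ 2 = (Nat.card G : ℝ) := by
    have h1 := (hS.image_inner hS.mem hS.mem).trans hS.norm_one
    simp only [classInner, Complex.mul_conj, Complex.normSq_eq_norm_sq, ← hf] at h1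
    rw [inv_mul_eq_iff_eq_mul₀ (Nat.cast_ne_zero.2 Nat.card_pos.ne'), mul_one,
      ← Complex.ofReal_sum, ← Complex.ofReal_natCast, Complex.ofReal_inj] at h1
    exact h1
  -- sizes
  set N := Nat.card G
  set w₁ := Nat.card W₁
  set w₂ := Nat.card W₂
  set k := Nat.card (⁅M, M⁆ : Subgroup G)
  obtain ⟨hw₁, hw₂⟩ := three_le_card hW hodd
  obtain ⟨hidx, hk⟩ := index_commutator_eq P.hMP
  have hk0 : 0 < k := Nat.card_pos
  have hSS : (N : ℝ) * ((k : ℝ) - w₁) ≤ k * ∑ g ∈ S, ‖f g‖ ^ 2 := by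
    have h1 := (hS.norm_invDade_self_ge (by rw [hidx, hk]; nlinarith)).trans
      (sum_normSq_invDade_le hD (Char.IsGeneralizedCharacter.isClassFunction hgen))
    simp only [hidx, hk, Complex.normSq_eq_norm_sq, ← hSdef] at h1
    have hNp : (0 : ℝ) < N := Nat.cast_pos.2 Nat.card_pos
    have hkp : (0 : ℝ) < k := Nat.cast_pos.2 hk0
    rw [inv_mul_eq_div, le_div_iff₀ hNp, one_sub_div hkp.ne', div_mul_eq_mul_div,
      div_le_iff₀ hkp] at h1
    linarith
  have hs : (k : ℝ) * w₁ * S.card = N * ((k : ℝ) - 1) := by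
    have h1 := card_dadeUnion hD
    have hA : Nat.card {a : M // (a : G) ∈ typeA' M} + 1 = k := by
      haveI : Fintype ↥(⁅M, M⁆ : Subgroup G) := Fintype.ofFinite _
      have hiff : ∀ a : G, a ∈ typeA' M ↔ a ∈ (⁅M, M⁆ : Subgroup G) ∧ a ≠ 1 := fun a => by
        rw [typeA_eq_commutator B hM h]; rfl
      let e : {a : M // (a : G) ∈ typeA' M} ≃ {a : ↥(⁅M, M⁆ : Subgroup G) // a ≠ 1} :=
        { toFun := fun a => ⟨⟨a.1.1, ((hiff _).1 a.2).1⟩, fun e =>
            ((hiff _).1 a.2).2 (congrArg Subtype.val e)⟩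
          invFun := fun a => ⟨⟨a.1.1, M.commutator_le_self a.1.2⟩,
            (hiff _).2 ⟨a.1.2, fun e => a.2 (Subtype.ext e)⟩⟩
          left_inv := fun a => rfl
          right_inv := fun a => rfl }
      rw [Nat.card_congr e, Nat.card_eq_fintype_card, Fintype.card_subtype_compl,
        Fintype.card_subtype_eq, ← Nat.card_eq_fintype_card]
      exact Nat.sub_add_cancel hk0
    rw [card_M B P, ← hSdef] at h1
    have h2 : ((k * w₁ * S.card : ℕ) : ℝ) = ((N * Nat.card {a : M // (a : G) ∈ typeA' M} : ℕ) : ℝ) :=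
      congrArg _ h1
    have h3 : ((Nat.card {a : M // (a : G) ∈ typeA' M} : ℕ) : ℝ) = (k : ℝ) - 1 := by
      rw [eq_sub_iff_add_eq]; exact_mod_cast hA
    push_cast at h2
    rw [h3] at h2
    exact h2
  have hV : (w₁ : ℝ) * w₂ * VG.card ≤ N * (((w₁ : ℝ) - 1) * ((w₂ : ℝ) - 1)) := by
    have hcardne : ∀ X : Subgroup G, (Finset.univ.filter fun x => x ∈ X ∧ x ≠ 1).card + 1 =
        Nat.card X := by
      intro X
      rw [Nat.card_eq_fintype_card, Fintype.card_subtype,
        show (Finset.univ.filter fun x => x ∈ X ∧ x ≠ 1) =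
          (Finset.univ.filter fun x => x ∈ X).erase 1 by ext; simp [and_comm]]
      exact Finset.card_erase_add_one (by simp [one_mem])
    have h1 : VG.card ≤ (W₁ ⊔ W₂).index * XV.card := card_conj_le _ XV fun l hl x hx => by
      obtain ⟨p, hp, rfl⟩ := Finset.mem_image.1 hx
      have h2 : p.1 * p.2 ∈ W₁ ⊔ W₂ :=
        mul_mem (Subgroup.mem_sup_left (Finset.mem_filter.1 (Finset.mem_product.1 hp).1).2.1)
          (Subgroup.mem_sup_right (Finset.mem_filter.1 (Finset.mem_product.1 hp).2).2.1)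
      have h3 := congrArg Subtype.val (isCyclicTI_comm hW ⟨l, hl⟩ ⟨_, h2⟩)
      simp only [Subgroup.coe_mul] at h3
      refine Finset.mem_image.2 ⟨p, hp, ?_⟩
      rw [h3]; group
    have h2 : (XV.card : ℝ) ≤ ((w₁ : ℝ) - 1) * ((w₂ : ℝ) - 1) := by
      refine le_trans (Nat.cast_le.2 Finset.card_image_le) (le_of_eq ?_)
      rw [Finset.card_product, Nat.cast_mul]
      congr 1 <;> rw [eq_sub_iff_add_eq] <;> exact_mod_cast hcardne _
    have h3 : ((W₁ ⊔ W₂).index : ℝ) * ((w₁ : ℝ) * w₂) = N := by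
      rw [mul_comm]; exact_mod_cast (card_W P) ▸ (W₁ ⊔ W₂).card_mul_index
    have h4 : (VG.card : ℝ) ≤ ((W₁ ⊔ W₂).index : ℝ) * XV.card := by exact_mod_cast h1
    have h5 : (VG.card : ℝ) ≤ ((W₁ ⊔ W₂).index : ℝ) * (((w₁ : ℝ) - 1) * ((w₂ : ℝ) - 1)) :=
      h4.trans (mul_le_mul_of_nonneg_left h2 (Nat.cast_nonneg _))
    rw [← h3]
    nlinarith [mul_le_mul_of_nonneg_left h5 (show (0 : ℝ) ≤ (w₁ : ℝ) * w₂ by positivity)]
  have hH : (5 : ℝ) * w₂ * (HG.card + 1) ≤ N := by
    have h1 : HG.card ≤ T.index * XH.card := card_conj_le _ XH fun l hl x hx => by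
      obtain ⟨-, hxH, hx1⟩ := Finset.mem_filter.1 hx
      exact Finset.mem_filter.2 ⟨Finset.mem_univ _, conj_mem_fittingHallOf' hl hxH,
        fun e => hx1 (conj_eq_one_iff.1 e)⟩
    have h2 : XH.card + 1 = n := by
      rw [hn, Nat.card_eq_fintype_card, Fintype.card_subtype,
        show XH = (Finset.univ.filter fun x => x ∈ fittingHallOf T).erase 1 by
          rw [hXH]; ext; simp [and_comm]]
      exact Finset.card_erase_add_one (by simp [one_mem])
    have h3 : n * Nat.card V * w₂ * T.index = N := (card_T P) ▸ T.card_mul_index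
    have h4 := five_le_card_V P hG
    have h5 : 0 < T.index := Nat.pos_of_ne_zero Subgroup.index_ne_zero_of_finite
    have h6 : HG.card + 1 ≤ T.index * n := by rw [← h2]; nlinarith
    have h7 : 5 * w₂ * (HG.card + 1) ≤ N :=
      calc 5 * w₂ * (HG.card + 1) ≤ Nat.card V * w₂ * (T.index * n) :=
            Nat.mul_le_mul (Nat.mul_le_mul_right _ h4) h6
        _ = N := by rw [← h3]; ring
    exact_mod_cast h7
  refine noncoherent_count_false (R := (R.card : ℝ)) (Nat.cast_pos.2 Nat.card_pos) hSS ?_ ?_ hs hV hH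
    (by exact_mod_cast hsize) (by exact_mod_cast hw₁) (by exact_mod_cast (by omega : 1 ≤ w₂))
  · rw [← htot]
    refine le_trans (add_le_add le_rfl hcard) ?_
    rw [← Finset.sum_union hIS]
    exact Finset.sum_le_sum_of_subset_of_nonneg (Finset.subset_univ _) fun g _ _ => sq_nonneg _
  · have h1 : (Finset.univ : Finset G) ⊆ R ∪ {1} ∪ S ∪ VG ∪ HG := by
      intro g _
      simp only [Finset.mem_union, Finset.mem_singleton, hR, Finset.mem_filter, Finset.mem_univ,
        true_and]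
      tauto
    have h2 := (Finset.card_le_card h1).trans ((Finset.card_union_le _ _).trans
      (add_le_add ((Finset.card_union_le _ _).trans (add_le_add ((Finset.card_union_le _ _).trans
        (add_le_add (Finset.card_union_le _ _) le_rfl)) le_rfl)) le_rfl))
    rw [Finset.card_univ, ← Nat.card_eq_fintype_card, Finset.card_singleton] at h2
    exact_mod_cast h2

end Cfsg.Agent.OddOrder.PF
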