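import Cfsg.Agent.Lib.OddOrder.PF.PrimeDadeImage
import Cfsg.Agent.Lib.OddOrder.PF.TypePDade
import Cfsg.Agent.Lib.OddOrder.FrobeniusCoherence
import Cfsg.Agent.S1486

/-!
Peterfalvi (5.8), (5.9): the characters induced from the irreducible characters of `K` not trivial
on `H` form a coherence system for the Dade map, with `R χ` orthogonal to the family `η` for
irreducible `χ`, and `R μ_j = {δ η_ij} ∪ {- δ η_i(-j)}` for the sums `μ_j`.
-/

set_option autoImplicit false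
set_option linter.style.haveILetI false
set_option linter.unusedSectionVars false
set_option linter.unnecessarySimpa false

namespace Cfsg.Agent.OddOrder.PF

open Cfsg Cfsg.Agent.OddOrder
open scoped ComplexConjugate

universe u
variable {G : Type u} [Group G]

/-- The set `S` of Peterfalvi (5.8): characters induced from `K`, not trivial on `H`. -/
def primeS (L K H : Subgroup G) [Fintype L] : Set (L → ℂ) :=
  {φ | ∃ θ : ↥(K.subgroupOf L) → ℂ, IsIrrCharacter _ θ ∧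
    (∃ z : ↥(K.subgroupOf L), (z : L) ∈ H.subgroupOf L ∧ θ z ≠ θ 1) ∧
    φ = indFun (K.subgroupOf L) θ}

/-- The sum `μ_j`, as a function of its index. -/
noncomputable def muSum (K : Subgroup G) {L W₁ W₂ : Subgroup G} [Fintype L]
    (μ : (↥(W₁ ⊔ W₂) →* ℂˣ) → (L → ℂ)) (ψ : Ann W₁ W₂ W₁) : L → ℂ :=
  indFun (K.subgroupOf L) fun y => μ ψ.1 y

open Classical in
/-- The set `R μ_j` of Peterfalvi (5.8). -/
noncomputable def muR {W₁ W₂ : Subgroup G} [Fintype (Ann W₁ W₂ W₂)] (δ : (↥(W₁ ⊔ W₂) →* ℂˣ) → ℤ)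
    (η : (↥(W₁ ⊔ W₂) →* ℂˣ) → (G → ℂ)) (ψ : Ann W₁ W₂ W₁) : Finset (G → ℂ) :=
  Finset.univ.image (fun φ : Ann W₁ W₂ W₂ => (δ ψ.1 : ℂ) • η (ψ.1 * φ.1)) ∪
    Finset.univ.image (fun φ : Ann W₁ W₂ W₂ => -((δ ψ.1 : ℂ) • η (ψ.1⁻¹ * φ.1)))

variable {A : Set G} {L K H W₁ W₂ : Subgroup G} {R : G → Subgroup G}

/-- The inverse in `Ann`. -/
noncomputable def annConj (ψ : Ann W₁ W₂ W₁) : Ann W₁ W₂ W₁ :=
  ⟨ψ.1⁻¹, fun w hw => by rw [MonoidHom.inv_apply, ψ.2 w hw, inv_one]⟩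

theorem dadeIsometry_int_smul (A : Set G) (L : Subgroup G) (R : G → Subgroup G) (α : L → ℂ) (n : ℤ) :
    dadeIsometry A L R (n • α) = n • dadeIsometry A L R α := by
  funext g
  simp only [dadeIsometry, Pi.smul_apply]
  split_ifs <;> simp

variable [Fintype L] (P : PrimeDade A L K H W₁ W₂ R)
include P

namespace PrimeDade

/-- The members of `S` are characters. -/
theorem isCharacter_primeS {φ : L → ℂ} (hφ : φ ∈ primeS L K H) : IsCharacter L φ := by
  obtain ⟨θ, hθ, -, rfl⟩ := hφ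
  exact Char.isCharacter_indFun _ (Char.IsIrrCharacter.isCharacter hθ)

theorem conj_mem_primeS {φ : L → ℂ} (hφ : φ ∈ primeS L K H) : conjFun φ ∈ primeS L K H := by
  haveI : Fintype ↥(K.subgroupOf L) := Fintype.ofFinite _
  obtain ⟨θ, hθ, ⟨z, hz, hne⟩, rfl⟩ := hφ
  refine ⟨fun k => conj (θ k), Char.IsIrrCharacter.conj_fun hθ, ⟨z, hz, fun e => hne ?_⟩,
    Char.conj_indFun _ θ⟩
  simpa using congrArg conj e

/-- An element of `ℤ[S]` vanishing at `1` vanishes off `A`. -/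
theorem supp_zspanOn [Finite G] {α : L → ℂ} (hα : α ∈ zspanOn (primeS L K H) {1}ᶜ) :
    IsGeneralizedCharacter L α ∧ ∀ y : L, (y : G) ∉ A → α y = 0 := by
  have key : ∀ β ∈ Submodule.span ℤ (primeS L K H), IsGeneralizedCharacter L β ∧
      ∀ y : L, y ≠ 1 → (y : G) ∉ A → β y = 0 := by
    intro β hβ
    induction hβ using Submodule.span_induction with
    | mem x hx =>
      exact ⟨Char.IsCharacter.isGeneralized (P.isCharacter_primeS hx),
        fun y h1 hy => P.support_of_nonTriv hx h1 hy⟩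
    | zero => exact ⟨Char.IsGeneralizedCharacter.zero, fun _ _ _ => rfl⟩
    | add x y _ _ hx hy =>
      exact ⟨Char.IsGeneralizedCharacter.add hx.1 hy.1, fun z h1 hz => by
        rw [Pi.add_apply, hx.2 z h1 hz, hy.2 z h1 hz, add_zero]⟩
    | smul n x _ hx =>
      refine ⟨?_, fun z h1 hz => by rw [Pi.smul_apply, hx.2 z h1 hz, smul_zero]⟩
      have := Char.IsGeneralizedCharacter.intCast_smul hx.1 n
      rwa [show ((n : ℂ) • x) = n • x from (Int.cast_smul_eq_zsmul ℂ n x)] at this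
  obtain ⟨h1, h2⟩ := key α hα.1
  refine ⟨h1, fun y hy => ?_⟩
  by_cases hy1 : y = 1
  · exact hα.2 y (by simp [hy1])
  · exact h2 y hy1 hy

theorem orth_primeS {φ χ : L → ℂ} (hφ : φ ∈ primeS L K H) (hχ : χ ∈ primeS L K H) (hne : φ ≠ χ) :
    classInner φ χ = 0 := by
  haveI := P.K_subgroupOf_normal
  obtain ⟨θ, hθ, -, rfl⟩ := hφ
  obtain ⟨θ', hθ', -, rfl⟩ := hχ
  exact (S1486.result (K.subgroupOf L) θ' θ hθ' hθ).2 fun h =>
    hne ((S1486.result (K.subgroupOf L) θ' θ hθ' hθ).1 h)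

theorem ann_sq_ne_one [Finite G] {ψ : Ann W₁ W₂ W₁} (h : ψ.1 ≠ 1) : ψ.1⁻¹ ≠ ψ.1 := by
  intro e
  refine h (MonoidHom.ext fun w => ?_)
  have h2 : ψ.1 w * ψ.1 w = 1 := by
    have := DFunLike.congr_fun e w
    rw [MonoidHom.inv_apply] at this
    nth_rw 1 [← this]
    exact inv_mul_cancel _
  obtain ⟨k, hk⟩ := P.oddW
  have h3 : ψ.1 w ^ Nat.card ↥(W₁ ⊔ W₂) = 1 := by rw [← map_pow, pow_card_eq_one', map_one]
  rw [hk, pow_succ, pow_mul, sq, h2, one_pow, one_mul] at h3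
  rw [h3, MonoidHom.one_apply]

end PrimeDade

variable {μ : (↥(W₁ ⊔ W₂) →* ℂˣ) → (L → ℂ)} {δ : (↥(W₁ ⊔ W₂) →* ℂˣ) → ℤ}

namespace MuFamily

variable (M : MuFamily L W₁ W₂ μ δ)
include M

/-- `μ 1` is the trivial character. -/
theorem map_one [Finite G] : μ 1 = fun _ => 1 := by
  obtain ⟨x, hx, hx1, -⟩ := P.exists_generic
  have hirr : IsIrrCharacter L (fun _ : L => (1 : ℂ)) := Char.isIrrCharacter_one
  obtain ⟨ω, hω⟩ : ∃ ω, (fun _ : L => (1 : ℂ)) = μ ω := by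
    by_contra hne
    push Not at hne
    have := M.other _ hirr hne ⟨x, P.compl.2.1 hx⟩ (Subgroup.mem_sup_left hx)
      (P.notMem_W₂_of_mem_W₁ hx hx1)
    exact one_ne_zero this
  obtain ⟨rfl, -⟩ := P.eq_of_agree_off (Or.inl rfl) (M.sign ω) (a := 1) (b := ω) fun w hw2 => by
    rw [← M.apply ω ⟨w, P.W_le w.2⟩ w.2 hw2, ← hω]; simp
  exact hω.symm

theorem muSum_eq [Finite G] [Fintype (Ann W₁ W₂ W₂)] (ψ : Ann W₁ W₂ W₁) :
    muSum K μ ψ = ∑ φ : Ann W₁ W₂ W₂, μ (ψ.1 * φ.1) := M.indFun_res P ψ.1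

theorem classInner_muSum [Finite G] [Fintype (Ann W₁ W₂ W₂)] [DecidableEq (Ann W₁ W₂ W₁)]
    (ψ ψ' : Ann W₁ W₂ W₁) :
    classInner (muSum K μ ψ) (muSum K μ ψ') = if ψ = ψ' then (Nat.card W₁ : ℂ) else 0 := by
  classical
  rw [M.muSum_eq P, M.muSum_eq P, Char.classInner_sum_left]
  have key : ∀ φ φ' : Ann W₁ W₂ W₂, classInner (μ (ψ.1 * φ.1)) (μ (ψ'.1 * φ'.1)) =
      if φ = φ' ∧ ψ = ψ' then 1 else 0 := by
    intro φ φ'
    by_cases h : φ = φ' ∧ ψ = ψ'
    · rw [if_pos h, h.1, h.2]; exact Char.classInner_irr_self (M.irr _)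
    · rw [if_neg h]
      refine Char.classInner_irr_of_ne (M.irr _) (M.irr _) fun e => h ?_
      have e' : φ.1 * ψ.1 = φ'.1 * ψ'.1 := by
        have := M.inj e
        refine MonoidHom.ext fun w => ?_
        have h2 := DFunLike.congr_fun this w
        simp only [MonoidHom.mul_apply] at h2 ⊢
        rwa [mul_comm (φ.1 w), mul_comm (φ'.1 w)]
      exact mul_inj P.selfNorm e'
  simp only [Char.classInner_sum_right, key]
  by_cases h : ψ = ψ'
  · simp only [h, and_true, if_true, Finset.sum_ite_eq, Finset.mem_univ, Finset.sum_const,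
      Finset.card_univ, nsmul_eq_mul, mul_one]
    rw [← Nat.card_eq_fintype_card, (ann_facts P.selfNorm).2.1]
  · simp [h]

theorem muSum_mem [Finite G] {ψ : Ann W₁ W₂ W₁} (hψ : ψ.1 ≠ 1) : muSum K μ ψ ∈ primeS L K H := by
  refine ⟨_, M.irr_res P ψ.1, ?_, rfl⟩
  have hne : ¬ ∀ w : ↥(W₁ ⊔ W₂), (w : G) ∈ W₂ → ψ.1 w = 1 := fun h => hψ <| by
    have := mul_inj P.selfNorm (a := ⟨ψ.1, h⟩) (a' := ⟨1, fun _ _ => rfl⟩)
      (b := ⟨1, fun _ _ => rfl⟩) (b' := ψ) (MonoidHom.ext fun w => by simp)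
    exact (congrArg Subtype.val this.2).symm
  have h := M.not_trivOn P hne
  simp only [Char.TrivOn, not_forall] at h
  obtain ⟨z, hz, hzne⟩ := h
  exact ⟨⟨z, P.H_le hz⟩, hz, hzne⟩

theorem muSum_not_irr [Finite G] (ψ : Ann W₁ W₂ W₁) : ¬ IsIrrCharacter L (muSum K μ ψ) := by
  classical
  haveI := (ann_facts P.selfNorm).1
  haveI : Fintype (Ann W₁ W₂ W₂) := Fintype.ofFinite _
  intro h
  have h1 := Char.classInner_irr_self h
  rw [M.classInner_muSum P, if_pos rfl] at h1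
  have := (three_le_card P.selfNorm P.oddW).1
  have h2 : Nat.card W₁ = 1 := by exact_mod_cast h1
  omega

/-- The members of `S`: irreducible characters and the sums `μ_j`. -/
theorem primeS_cases [Finite G] {φ : L → ℂ} (hφ : φ ∈ primeS L K H) :
    IsIrrCharacter L φ ∨ ∃ ψ : Ann W₁ W₂ W₁, ψ.1 ≠ 1 ∧ φ = muSum K μ ψ := by
  obtain ⟨θ, hθ, ⟨z, hz, hne⟩, rfl⟩ := hφ
  rcases M.fixed_eq_res P hθ with h | ⟨ψ, rfl⟩
  · exact Or.inl h
  · exact Or.inr ⟨ψ, fun e => hne (by simp [e, M.map_one P]), rfl⟩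

theorem conj_muSum [Finite G] (ψ : Ann W₁ W₂ W₁) :
    conjFun (muSum K μ ψ) = muSum K μ (annConj ψ) := by
  haveI : Fintype ↥(K.subgroupOf L) := Fintype.ofFinite _
  refine (Char.conj_indFun _ _).trans ?_
  congr 1
  funext y
  exact congrFun (M.conj_eq P ψ.1).1 y

/-- `S` is a coherence system (Peterfalvi (5.8)), with the properties of (5.9). -/
theorem exists_system [Fintype G] [Fintype (Ann W₁ W₂ W₂)]
    {η : (↥(W₁ ⊔ W₂) →* ℂˣ) → (G → ℂ)} (hη : IsCyclicTIFamily W₁ W₂ η) :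
    ∃ Rs : (L → ℂ) → Finset (G → ℂ),
      IsCoherenceSystem (primeS L K H) (dadeIsometry (A ∪ classV L W₁ W₂) L R) Rs ∧
      (∀ χ ∈ primeS L K H, IsIrrCharacter L χ → ∀ α ∈ Rs χ, ∀ ω, classInner α (η ω) = 0) ∧
      ∀ ψ : Ann W₁ W₂ W₁, ψ.1 ≠ 1 → Rs (muSum K μ ψ) = muR δ η ψ := by
  classical
  haveI := (ann_facts P.selfNorm).1
  set τ := dadeIsometry (A ∪ classV L W₁ W₂) L R with hτdef
  have hsupp : ∀ α ∈ zspanOn (primeS L K H) {1}ᶜ, IsGeneralizedCharacter L α ∧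
      ∀ y : L, (y : G) ∉ A ∪ classV L W₁ W₂ → α y = 0 := fun α hα =>
    ⟨(P.supp_zspanOn hα).1, fun y hy => (P.supp_zspanOn hα).2 y fun h => hy (Or.inl h)⟩
  have hτ1 : ∀ α : L → ℂ, τ α 1 = 0 := by
    intro α
    rw [hτdef, dadeIsometry, dif_neg]
    rintro ⟨a, ha, x, u, hu, e⟩
    rw [mul_one, mul_inv_cancel] at e
    have hua : u = (a : G)⁻¹ := (inv_eq_of_mul_eq_one_right e.symm).symm
    have hbot := P.dade.inf_eq_bot _ ha
    have hcomm : (a : G)⁻¹ ∈ L ⊓ Subgroup.centralizer ({(a : G)} : Set G) :=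
      ⟨L.inv_mem a.2, Subgroup.inv_mem _ (Subgroup.mem_centralizer_singleton_iff.2 rfl)⟩
    have hmem : u ∈ R (a : G) ⊓ (L ⊓ Subgroup.centralizer ({(a : G)} : Set G)) :=
      ⟨hu, hua ▸ hcomm⟩
    rw [hbot, Subgroup.mem_bot, hua, inv_eq_one] at hmem
    exact P.dade.one_not_mem (hmem ▸ ha)
  have hiso : IsLinearIsometryOn (zspanOn (primeS L K H) {1}ᶜ) τ := by
    refine ⟨fun α _ β _ => dadeIsometry_add α β, fun α _ n => dadeIsometry_int_smul _ _ _ α n,
      fun α hα β hβ => ?_, fun α hα => ?_⟩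
    · exact classInner_dade_dade P.dade
        (Char.IsGeneralizedCharacter.isClassFunction (hsupp α hα).1) (hsupp α hα).2
        (hsupp β hβ).1 (hsupp β hβ).2
    · exact isGeneralizedCharacter_dadeIsometry P.dade (hsupp α hα).1 (hsupp α hα).2
  have hconjne : ∀ χ ∈ primeS L K H, conjFun χ ≠ χ := by
    intro χ hχ
    rcases M.primeS_cases P hχ with h | ⟨ψ, hψ, rfl⟩
    · obtain ⟨x, hx, hx1, -⟩ := P.exists_generic
      refine conjFun_ne_of_odd P.odd h ⟨⟨x, P.compl.2.1 hx⟩, fun e => ?_⟩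
      obtain ⟨θ, -, -, rfl⟩ := hχ
      haveI := P.K_subgroupOf_normal
      rw [Char.indFun_of_notMem_normal _ _ (fun hk => hx1 (by
        have : x ∈ K ⊓ W₁ := ⟨hk, hx⟩
        rwa [P.compl.2.2.1, Subgroup.mem_bot] at this))] at e
      exact Char.IsIrrCharacter.apply_one_ne_zero h e.symm
    · intro e
      rw [M.conj_muSum P] at e
      have h1 := M.classInner_muSum P (annConj ψ) ψ
      rw [e, M.classInner_muSum P, if_pos rfl,
        if_neg fun e' => P.ann_sq_ne_one hψ (congrArg Subtype.val e')] at h1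
      exact Nat.cast_ne_zero.2 Nat.card_pos.ne' h1
  set Si : Set (L → ℂ) := {χ | χ ∈ primeS L K H ∧ IsIrrCharacter L χ} with hSi
  have hSisub : Si ⊆ primeS L K H := fun χ h => h.1
  have hSiconj : ∀ χ ∈ Si, conjFun χ ∈ Si ∧ conjFun χ ≠ χ := fun χ h =>
    ⟨⟨P.conj_mem_primeS h.1, Char.IsIrrCharacter.conj_fun h.2⟩, hconjne χ h.1⟩
  have hzmono : zspanOn Si {1}ᶜ ⊆ zspanOn (primeS L K H) {1}ᶜ := fun a ha =>
    ⟨Submodule.span_mono hSisub ha.1, ha.2⟩
  obtain ⟨R₀, hR₀⟩ : ∃ R₀ : (L → ℂ) → Finset (G → ℂ), Si.Nonempty → IsCoherenceSystem Si τ R₀ := by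
    by_cases hne : Si.Nonempty
    · obtain ⟨R₀, hR₀⟩ := exists_coherenceSystem Si hne (fun χ h => h.2) hSiconj τ
        ⟨fun a ha b hb => hiso.1 a (hzmono ha) b (hzmono hb), fun a ha n => hiso.2.1 a (hzmono ha) n,
          fun a ha b hb => hiso.2.2.1 a (hzmono ha) b (hzmono hb),
          fun a ha => hiso.2.2.2 a (hzmono ha)⟩ fun a _ => hτ1 a
      exact ⟨R₀, fun _ => hR₀⟩
    · exact ⟨fun _ => ∅, fun h => absurd h hne⟩
  let Rs : (L → ℂ) → Finset (G → ℂ) := fun χ =>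
    if IsIrrCharacter L χ then R₀ χ
    else if h : ∃ ψ : Ann W₁ W₂ W₁, χ = muSum K μ ψ then muR δ η h.choose else ∅
  have hinj : ∀ ψ ψ' : Ann W₁ W₂ W₁, muSum K μ ψ = muSum K μ ψ' → ψ = ψ' := by
    intro ψ ψ' e
    by_contra hne
    have h1 := M.classInner_muSum P ψ ψ'
    rw [e, M.classInner_muSum P, if_pos rfl, if_neg hne] at h1
    exact Nat.cast_ne_zero.2 Nat.card_pos.ne' h1
  have hRsum : ∀ ψ : Ann W₁ W₂ W₁, Rs (muSum K μ ψ) = muR δ η ψ := by
    intro ψ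
    have h : ∃ ψ' : Ann W₁ W₂ W₁, muSum K μ ψ = muSum K μ ψ' := ⟨ψ, rfl⟩
    simp only [Rs, if_neg (M.muSum_not_irr P ψ), dif_pos h]
    rw [← hinj _ _ h.choose_spec]
  -- the members of `R χ` for irreducible `χ` are orthogonal to `η`
  have horth : ∀ χ ∈ Si, ∀ α ∈ R₀ χ, ∀ ω, classInner α (η ω) = 0 := by
    intro χ hχ α hα ω
    have hS := hR₀ ⟨χ, hχ⟩
    have hαg := hS.virtual χ hχ α hα
    have hα1 : classInner α α = 1 := by rw [hS.orthonormal χ hχ α hα α hα, if_pos rfl]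
    have hαi : IsIrrCharacter G α ∨ IsIrrCharacter G (-α) := by
      obtain ⟨ψ, rfl | rfl⟩ := Char.IsGeneralizedCharacter.irr_or_neg_of_norm_one hαg hα1
      · exact Or.inl ψ.2
      · exact Or.inr (by rw [neg_neg]; exact ψ.2)
    rcases signed_eq_or_orth hαi
      (hη.irr_or_neg ω) with ⟨e, he, hαe⟩ | h
    swap
    · exact h
    exfalso
    have hother : ∀ β ∈ R₀ χ, β ≠ α → classInner β (η ω) = 0 := by
      intro β hβ hne
      have h0 := hS.orthonormal χ hχ β hβ α hα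
      rw [if_neg hne, hαe, Char.classInner_smul_right] at h0
      exact (mul_eq_zero.1 h0).resolve_left fun h => he (by simpa using h)
    have hmem : χ - conjFun χ ∈ zspanOn (primeS L K H) {1}ᶜ := hzmono (Char.mem_zspanOn_compl_one.2
      ⟨Submodule.sub_mem _ (Submodule.subset_span hχ) (Submodule.subset_span (hSiconj χ hχ).1), by
        rw [Pi.sub_apply, conjFun_apply_one hS hχ, sub_self]⟩)
    have hnorm : classInner (χ - conjFun χ) (χ - conjFun χ) = ((2 : ℤ) : ℂ) := by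
      simp only [Char.classInner_sub_left, Char.classInner_sub_right,
        Char.classInner_irr_self hχ.2, Char.classInner_irr_self (hSiconj χ hχ).1.2,
        Char.classInner_irr_of_ne hχ.2 (hSiconj χ hχ).1.2 (hSiconj χ hχ).2.symm,
        Char.classInner_irr_of_ne (hSiconj χ hχ).1.2 hχ.2 (hSiconj χ hχ).2]
      norm_num
    have hzero := P.eta_orth_tau hη (P.supp_zspanOn hmem).1 (P.supp_zspanOn hmem).2 hnorm le_rfl ω
    rw [← hτdef, hS.sum_eq χ hχ, Char.classInner_sum_left, Finset.sum_eq_single α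
      (fun β hβ hne => hother β hβ hne) (fun h => absurd hα h), hαe, Char.classInner_smul_left,
      hη.orthonormal, if_pos rfl, mul_one] at hzero
    exact he hzero
  -- the sets `R μ_j`
  have hδ0 : ∀ ω, (δ ω : ℂ) ≠ 0 := fun ω => by rcases M.sign ω with h | h <;> simp [h]
  have hδc : ∀ ω, conj (δ ω : ℂ) = δ ω := fun ω => map_intCast _ _
  have hδsq : ∀ ω, (δ ω : ℂ) * δ ω = 1 := fun ω => by rcases M.sign ω with h | h <;> simp [h]
  have hmemR : ∀ (ψ : Ann W₁ W₂ W₁) (α : G → ℂ), α ∈ muR δ η ψ → ∃ (c : ℂ) (ω : Ann W₁ W₂ W₂)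
      (b : Ann W₁ W₂ W₁), (b = ψ ∧ c = δ ψ.1 ∨ b = annConj ψ ∧ c = -(δ ψ.1 : ℂ)) ∧
      α = c • η (b.1 * ω.1) := by
    intro ψ α hα
    simp only [muR, Finset.mem_union, Finset.mem_image, Finset.mem_univ, true_and] at hα
    rcases hα with ⟨φ, rfl⟩ | ⟨φ, rfl⟩
    · exact ⟨_, φ, ψ, Or.inl ⟨rfl, rfl⟩, rfl⟩
    · exact ⟨_, φ, annConj ψ, Or.inr ⟨rfl, rfl⟩, (neg_smul _ _).symm⟩
  have hswap : ∀ (b : Ann W₁ W₂ W₁) (φ : Ann W₁ W₂ W₂) (b' : Ann W₁ W₂ W₁) (φ' : Ann W₁ W₂ W₂),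
      b.1 * φ.1 = b'.1 * φ'.1 → φ = φ' ∧ b = b' := by
    intro b φ b' φ' e
    refine mul_inj P.selfNorm (MonoidHom.ext fun w => ?_)
    have h2 := DFunLike.congr_fun e w
    simp only [MonoidHom.mul_apply] at h2 ⊢
    rwa [mul_comm (φ.1 w), mul_comm (φ'.1 w)]
  refine ⟨Rs, ⟨?_, fun χ hχ => P.isCharacter_primeS hχ, fun χ hχ => P.conj_mem_primeS hχ, hconjne,
    hiso, fun α _ => hτ1 α, fun χ hχ φ hφ h => P.orth_primeS hχ hφ h, ?_, ?_, ?_, ?_⟩, ?_,
    fun ψ _ => hRsum ψ⟩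
  · obtain ⟨ψ, hψ⟩ : ∃ ψ : Ann W₁ W₂ W₁, ψ.1 ≠ 1 := by
      have h3 := (three_le_card P.selfNorm P.oddW).2
      rw [← (ann_facts P.selfNorm).2.2.1] at h3
      obtain ⟨a, b, hab⟩ := (Finite.one_lt_card_iff_nontrivial.1
        (show 1 < Nat.card (Ann W₁ W₂ W₁) by omega)).exists_pair_ne
      by_cases ha : a.1 = 1
      · exact ⟨b, fun hb => hab (Subtype.ext (ha.trans hb.symm))⟩
      · exact ⟨a, ha⟩
    exact ⟨_, M.muSum_mem P hψ⟩
  · intro χ hχ α hα β hβ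
    rcases M.primeS_cases P hχ with h | ⟨ψ, hψ, rfl⟩
    · simp only [Rs, if_pos h] at hα hβ
      exact (hR₀ ⟨χ, hχ, h⟩).orthonormal χ ⟨hχ, h⟩ α hα β hβ
    rw [hRsum] at hα hβ
    obtain ⟨c, φ, b, hb, rfl⟩ := hmemR ψ α hα
    obtain ⟨c', φ', b', hb', rfl⟩ := hmemR ψ β hβ
    rw [Char.classInner_smul_left, Char.classInner_smul_right, hη.orthonormal]
    have hne := P.ann_sq_ne_one hψ
    by_cases e : b.1 * φ.1 = b'.1 * φ'.1
    · obtain ⟨rfl, rfl⟩ := hswap _ _ _ _ e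
      have hcc : c = c' := by
        rcases hb with ⟨h1, h1'⟩ | ⟨h1, h1'⟩ <;> rcases hb' with ⟨h2, h2'⟩ | ⟨h2, h2'⟩
        · rw [h1', h2']
        · exact absurd (congrArg Subtype.val (h1.symm.trans h2)).symm hne
        · exact absurd (congrArg Subtype.val (h1.symm.trans h2)) hne
        · rw [h1', h2']
      subst hcc
      rw [if_pos rfl, if_pos rfl, mul_one]
      rcases hb with ⟨-, h⟩ | ⟨-, h⟩ <;> simp [h, hδc, hδsq]
    · rw [if_neg e, mul_zero, mul_zero, if_neg]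
      intro h
      have h1 := congrArg (fun g => classInner g (η (b.1 * φ.1))) h
      simp only [Char.classInner_smul_left, hη.orthonormal, if_true, if_neg (Ne.symm e), mul_one,
        mul_zero] at h1
      rcases hb with ⟨-, h⟩ | ⟨-, h⟩ <;> simp [h, hδ0] at h1
  · intro χ hχ α hα
    rcases M.primeS_cases P hχ with h | ⟨ψ, -, rfl⟩
    · simp only [Rs, if_pos h] at hα
      exact (hR₀ ⟨χ, hχ, h⟩).virtual χ ⟨hχ, h⟩ α hα
    rw [hRsum] at hα
    obtain ⟨c, φ, b, hb, rfl⟩ := hmemR ψ α hα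
    rcases hb with ⟨-, rfl⟩ | ⟨-, rfl⟩
    · exact Char.IsGeneralizedCharacter.intCast_smul (eta_isGeneralized hη _) _
    · rw [neg_smul]
      exact Char.IsGeneralizedCharacter.neg
        (Char.IsGeneralizedCharacter.intCast_smul (eta_isGeneralized hη _) _)
  · intro χ hχ
    rcases M.primeS_cases P hχ with h | ⟨ψ, hψ, rfl⟩
    · simp only [Rs, if_pos h]
      exact (hR₀ ⟨χ, hχ, h⟩).sum_eq χ ⟨hχ, h⟩
    have hne : ∀ b : Ann W₁ W₂ W₁, b.1 ≠ 1 → ¬ ∀ w : ↥(W₁ ⊔ W₂), (w : G) ∈ W₂ → b.1 w = 1 :=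
      fun b hb h => hb <| by
        have := mul_inj P.selfNorm (a := ⟨b.1, h⟩) (a' := ⟨1, fun _ _ => rfl⟩)
          (b := ⟨1, fun _ _ => rfl⟩) (b' := b) (MonoidHom.ext fun w => by simp)
        exact (congrArg Subtype.val this.2).symm
    have hd : μ ψ.1 1 = μ (annConj ψ).1 1 := by
      show μ ψ.1 1 = μ ψ.1⁻¹ 1
      rw [← (M.conj_eq P ψ.1).1]
      obtain ⟨n, hn⟩ := Char.IsCharacter.apply_one (Char.IsIrrCharacter.isCharacter (M.irr ψ.1))
      simp [conjFun, hn]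
    have hag : ∀ w : ↥(W₁ ⊔ W₂), (w : G) ∈ W₁ → ψ.1 w = (annConj ψ).1 w := fun w hw => by
      rw [ψ.2 w hw, (annConj ψ).2 w hw]
    letI : DecidableEq (G → ℂ) := Classical.decEq _
    rw [hRsum, M.conj_muSum P, M.muSum_eq P, M.muSum_eq P, hτdef,
      M.tau_sum_sub P hη (hne _ hψ) (hne _ fun h => hψ <| by
        have h' : ψ.1⁻¹ = 1 := h
        ext w
        have h2 := DFunLike.congr_fun h' w
        simp only [MonoidHom.inv_apply, MonoidHom.one_apply, inv_eq_one] at h2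
        simp [h2]) hag hd, smul_sub,
      Finset.smul_sum, Finset.smul_sum, muR, Finset.sum_union, Finset.sum_image, Finset.sum_image,
      Finset.sum_neg_distrib, sub_eq_add_neg]
    · rfl
    · intro a _ b _ e
      have h1 := congrArg (fun g => classInner g (η (ψ.1⁻¹ * a.1))) e
      simp only [Char.classInner_neg_left, Char.classInner_smul_left, hη.orthonormal, if_true] at h1
      by_contra hab
      rw [if_neg (show ¬ ψ.1⁻¹ * b.1 = ψ.1⁻¹ * a.1 from fun e' =>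
          hab (hswap (annConj ψ) b (annConj ψ) a e').1.symm), mul_zero, neg_zero,
        neg_eq_zero, mul_one] at h1
      exact hδ0 _ h1
    · intro a _ b _ e
      have h1 := congrArg (fun g => classInner g (η (ψ.1 * a.1))) e
      simp only [Char.classInner_smul_left, hη.orthonormal, if_true] at h1
      by_contra hab
      rw [if_neg fun e' => hab (hswap ψ b ψ a e').1.symm, mul_zero, mul_one] at h1
      exact hδ0 _ h1
    · rw [Finset.disjoint_left]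
      intro g hg hg'
      simp only [Finset.mem_image, Finset.mem_univ, true_and] at hg hg'
      obtain ⟨a, rfl⟩ := hg
      obtain ⟨b, e⟩ := hg'
      have h1 := congrArg (fun g => classInner g (η (ψ.1 * a.1))) e
      simp only [Char.classInner_neg_left, Char.classInner_smul_left, hη.orthonormal, if_true] at h1
      rw [if_neg (show ¬ ψ.1⁻¹ * b.1 = ψ.1 * a.1 from fun e' =>
          P.ann_sq_ne_one hψ (congrArg Subtype.val (hswap (annConj ψ) b ψ a e').2)),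
        mul_zero, neg_zero, mul_one] at h1
      exact hδ0 _ h1.symm
  · intro χ hχ φ hφ h1 h2 α hα β hβ
    rcases M.primeS_cases P hφ with hφi | ⟨ψ, hψ, rfl⟩ <;>
      rcases M.primeS_cases P hχ with hχi | ⟨ψ', hψ', rfl⟩
    · simp only [Rs, if_pos hφi] at hα
      simp only [Rs, if_pos hχi] at hβ
      exact (hR₀ ⟨χ, hχ, hχi⟩).disjoint χ ⟨hχ, hχi⟩ φ ⟨hφ, hφi⟩ h1 h2 α hα β hβ
    · simp only [Rs, if_pos hφi] at hα
      rw [hRsum] at hβ
      obtain ⟨c, φ', b, -, rfl⟩ := hmemR ψ' β hβ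
      rw [Char.classInner_smul_right, horth φ ⟨hφ, hφi⟩ α hα, mul_zero]
    · simp only [Rs, if_pos hχi] at hβ
      rw [hRsum] at hα
      obtain ⟨c, φ', b, -, rfl⟩ := hmemR ψ α hα
      rw [Char.classInner_smul_left, ← Char.conj_classInner, horth χ ⟨hχ, hχi⟩ β hβ, map_zero,
        mul_zero]
    · rw [hRsum] at hα hβ
      obtain ⟨c, a, b, hb, rfl⟩ := hmemR ψ α hα
      obtain ⟨c', a', b', hb', rfl⟩ := hmemR ψ' β hβ
      rw [M.conj_muSum P] at h2
      rw [M.classInner_muSum P] at h1 h2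
      have hW0 : (Nat.card W₁ : ℂ) ≠ 0 := Nat.cast_ne_zero.2 Nat.card_pos.ne'
      have hne1 : ψ ≠ ψ' := fun e => hW0 (by simpa [e] using h1)
      have hne2 : ψ ≠ annConj ψ' := fun e => hW0 (by simpa [e] using h2)
      rw [Char.classInner_smul_left, Char.classInner_smul_right, hη.orthonormal, if_neg, mul_zero,
        mul_zero]
      intro e
      have hbb := (hswap _ _ _ _ e).2
      have hinv : ∀ x y : Ann W₁ W₂ W₁, annConj x = y → x = annConj y := fun x y h => by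
        subst h; exact Subtype.ext (inv_inv x.1).symm
      rcases hb with ⟨rfl, -⟩ | ⟨rfl, -⟩ <;> rcases hb' with ⟨rfl, -⟩ | ⟨rfl, -⟩
      · exact hne1 hbb
      · exact hne2 hbb
      · exact hne2 (hinv _ _ hbb)
      · exact hne1 (by
          have := hinv _ _ hbb
          rw [this]; exact Subtype.ext (inv_inv ψ'.1))
  · intro χ hχ h α hα
    simp only [Rs, if_pos h] at hα
    exact horth χ ⟨hχ, h⟩ α hα

end MuFamily

omit P [Fintype L]

/-- The coherence system of `calS` or `calSF` of a maximal subgroup of type P. -/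
theorem exists_system_typeP [Fintype G] {M W₁ U W₂ : Subgroup G} [Fintype M]
    [Fintype (Ann W₁ W₂ W₂)]
    (hG : IsMinSimpleOddOrder G) (B : BGFacts G) (hM : IsCoatom M) (hP : IsTypePWith M W₁ U W₂)
    (hI : ¬ IsOfTypeI' M) {S : Set (M → ℂ)} (hS : S = calS M ∨ S = calSF M)
    {μ : (↥(W₁ ⊔ W₂) →* ℂˣ) → (M → ℂ)} {δ : (↥(W₁ ⊔ W₂) →* ℂˣ) → ℤ}
    (hμ : MuFamily M W₁ W₂ μ δ) {η : (↥(W₁ ⊔ W₂) →* ℂˣ) → (G → ℂ)}
    (hη : IsCyclicTIFamily W₁ W₂ η) :
    ∃ Rs : (M → ℂ) → Finset (G → ℂ), IsCoherenceSystem S (ftTau M) Rs ∧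
      (∀ χ ∈ S, IsIrrCharacter M χ → ∀ α ∈ Rs χ, ∀ ω, classInner α (η ω) = 0) ∧
      ∀ ψ : Ann W₁ W₂ W₁, ψ.1 ≠ 1 → Rs (muSum ⁅M, M⁆ μ ψ) = muR δ η ψ := by
  have hτ : ftTau M = dadeIsometry (typeA' M ∪ classV M W₁ W₂) M (supportR M) :=
    funext (ftTau_eq hP hI)
  have hK : ∀ (X : Subgroup G), inducedNonTriv (commutator ↥M) (X.subgroupOf M) =
      primeS M ⁅M, M⁆ X := fun X => by
    have key : ∀ K : Subgroup ↥M, K = commutator ↥M → inducedNonTriv K (X.subgroupOf M) =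
        inducedNonTriv (commutator ↥M) (X.subgroupOf M) := fun K h => by subst h; rfl
    rw [← key _ (commutator_eq_subgroupOf M).symm]
    rfl
  rcases hS with rfl | rfl
  · rw [calS, hK, hτ]
    exact hμ.exists_system (primeDade_typeP hG B hM hP hI (Or.inl rfl)) hη
  · rw [calSF, ← subgroupOf_fittingHallOf, hK, hτ]
    exact hμ.exists_system (primeDade_typeP hG B hM hP hI (Or.inr rfl)) hη

end Cfsg.Agent.OddOrder.PF
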