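import Cfsg.Agent.Lib.OddOrder.PF.S10_Noncoherent
import Cfsg.Agent.Lib.OddOrder.PF.SubCoherent
import Cfsg.Agent.Lib.OddOrder.HallFusion
import Cfsg.Agent.Lib.Solvable.Basic
import Cfsg.Agent.Lib.OddOrder.CoherenceCongr

/-!
Preliminaries for Peterfalvi (10.10): for a maximal subgroup `M` of Type V the subgroup `M'` is the
nilpotent `M_F`, the complement `W₁` acts fixed point freely modulo every normal subgroup containing
`W₂`, the characters induced from linear ones are irreducible and those not trivial on `M''` have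
small norm.
-/

set_option autoImplicit false
set_option linter.style.haveILetI false

namespace Cfsg.Agent.OddOrder.PF

open Cfsg Cfsg.Agent.OddOrder Cfsg.Agent

universe u

section Abstract

variable {L : Type u} [Group L] [Finite L]

/-- A complement acting on `K` with all fixed points in `W₂` has none modulo a normal `N ⊇ W₂`. -/
theorem frob_mod {K W₁ W₂ N : Subgroup L} [N.Normal]
    (hcop : (Nat.card W₁).Coprime (Nat.card K))
    (hs : ∀ x : L, ∃ c ∈ K, ∃ w ∈ W₁, x = c * w)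
    (hC : ∀ w ∈ W₁, w ≠ 1 → ∀ k ∈ K, w * k = k * w → k ∈ W₂) (hWN : W₂ ≤ N) (hNK : N ≤ K)
    {k : L} (hk : k ∈ K) (hkN : k ∉ N) (hkc : ∀ c ∈ K, c * k * c⁻¹ * k⁻¹ ∈ N) {x : L}
    (hx : x * k * x⁻¹ * k⁻¹ ∈ N) : x ∈ K := by
  obtain ⟨c, hc, w, hw, rfl⟩ := hs x
  suffices w = 1 by rw [this, mul_one]; exact hc
  by_contra hw1
  set h := k⁻¹ * w * k * w⁻¹ with hh
  have hhN : h ∈ N := by
    have h1 : w * k * w⁻¹ * k⁻¹ ∈ N := by
      have := N.mul_mem (‹N.Normal›.conj_mem _ hx c⁻¹) (N.inv_mem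
        (‹N.Normal›.conj_mem _ (hkc c hc) c⁻¹))
      rwa [show c⁻¹ * (c * w * k * (c * w)⁻¹ * k⁻¹) * c⁻¹⁻¹ * (c⁻¹ * (c * k * c⁻¹ * k⁻¹) * c⁻¹⁻¹)⁻¹ =
        w * k * w⁻¹ * k⁻¹ by group] at this
    have := ‹N.Normal›.conj_mem _ h1 k⁻¹
    rwa [show k⁻¹ * (w * k * w⁻¹ * k⁻¹) * k⁻¹⁻¹ = h by rw [hh]; group] at this
  have hordw : (orderOf w).Coprime (Nat.card N) :=
    (hcop.coprime_dvd_left (Subgroup.orderOf_dvd_natCard W₁ hw)).coprime_dvd_right
      (Subgroup.card_dvd_of_le hNK)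
  obtain ⟨y, hy, d, hd, hdw, e⟩ := S1496.result N w (by rw [Subgroup.normalizer_eq_top]; trivial)
    hordw h hhN
  have hd1 : d = 1 := by
    have hcd : (orderOf d).Coprime (orderOf w) :=
      (hordw.coprime_dvd_right (Subgroup.orderOf_dvd_natCard N hd)).symm
    have h2 := (show Commute d w from hdw).orderOf_mul_eq_mul_orderOf_of_coprime hcd
    rw [← e, show y * (h * w) * y⁻¹ = (y * k⁻¹) * w * (y * k⁻¹)⁻¹ by rw [hh]; group,
      show orderOf ((y * k⁻¹) * w * (y * k⁻¹)⁻¹) = orderOf w from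
        MulEquiv.orderOf_eq (MulAut.conj (y * k⁻¹)) w] at h2
    exact orderOf_eq_one_iff.1 ((Nat.mul_eq_right (orderOf_pos w).ne').1 h2.symm)
  rw [hd1, one_mul] at e
  have hcomm : w * (y * k⁻¹) = (y * k⁻¹) * w := by
    conv_lhs => rw [← e]
    rw [hh]; group
  have := N.mul_mem (N.inv_mem hy) (hWN (hC w hw hw1 _ (K.mul_mem (hNK hy) (K.inv_mem hk)) hcomm))
  rw [inv_mul_cancel_left] at this
  exact hkN (inv_inv k ▸ N.inv_mem this)

/-- An odd group `W₁` acting freely on the non-identity elements of a section `D/N` of odd order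
leaves room for two orbits in it. -/
theorem two_mul_card_lt_relIndex {W₁ N D : Subgroup L} [N.Normal] [D.Normal]
    (hodd : Odd (Nat.card L)) {k : L} (hk : k ∈ D) (hkN : k ∉ N)
    (hfree : ∀ w ∈ W₁, w * k * w⁻¹ * k⁻¹ ∈ N → w = 1) :
    2 * Nat.card W₁ < N.relIndex D := by
  classical
  haveI : Fintype W₁ := Fintype.ofFinite _
  haveI : Fintype (D ⧸ N.subgroupOf D) := Fintype.ofFinite _
  have hmem : ∀ w : L, w * k * w⁻¹ ∈ D := fun w => ‹D.Normal›.conj_mem _ hk w
  have hsq : ∀ a : L, a * a ∈ N → a ∈ N := fun a ha => by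
    obtain ⟨j, hj⟩ := hodd.of_dvd_nat (orderOf_dvd_natCard a)
    have := pow_mem ha (j + 1)
    rwa [← pow_two, ← pow_mul, show 2 * (j + 1) = orderOf a + 1 by omega, pow_add,
      pow_orderOf_eq_one, one_mul, pow_one] at this
  have hne : ∀ w : L, w * k * w⁻¹ ∉ N := fun w h => hkN <| by
    have := ‹N.Normal›.conj_mem _ h w⁻¹
    rwa [show w⁻¹ * (w * k * w⁻¹) * w⁻¹⁻¹ = k by group] at this
  have key : ∀ v w : W₁, ((v : L) * k * (v : L)⁻¹)⁻¹ * ((w : L) * k * (w : L)⁻¹) ∈ N → v = w := by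
    intro v w h
    have h' := ‹N.Normal›.conj_mem _ h ((v : L) * k * (v : L)⁻¹)
    have h'' := ‹N.Normal›.conj_mem _ h' (v : L)⁻¹
    have := hfree _ (W₁.mul_mem (W₁.inv_mem v.2) w.2) (by
      rwa [show ((v : L)⁻¹) * ((v : L) * k * (v : L)⁻¹ * (((v : L) * k * (v : L)⁻¹)⁻¹ *
          ((w : L) * k * (w : L)⁻¹)) * ((v : L) * k * (v : L)⁻¹)⁻¹) * ((v : L)⁻¹)⁻¹ =
        (v : L)⁻¹ * w * k * ((v : L)⁻¹ * w)⁻¹ * k⁻¹ by group] at h'')
    exact Subtype.ext (inv_mul_eq_one.1 this)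
  have hflip : ∀ v w : W₁, (v : L) * k * (v : L)⁻¹ * ((w : L) * k * (w : L)⁻¹) ∉ N := by
    intro v w h
    -- `t = v⁻¹ w` inverts `k` modulo `N`, so `t²` fixes it and `t = 1`
    set t := (v : L)⁻¹ * w with ht
    have h1 : k * (t * k * t⁻¹) ∈ N := by
      have := ‹N.Normal›.conj_mem _ h (v : L)⁻¹
      rwa [show (v : L)⁻¹ * ((v : L) * k * (v : L)⁻¹ * ((w : L) * k * (w : L)⁻¹)) * ((v : L)⁻¹)⁻¹ =
        k * (t * k * t⁻¹) by rw [ht]; group] at this
    have htW : t ∈ W₁ := W₁.mul_mem (W₁.inv_mem v.2) w.2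
    have h2 : t * t * k * (t * t)⁻¹ * k⁻¹ ∈ N := by
      set q := QuotientGroup.mk' N
      have e : q t * q k * (q t)⁻¹ = (q k)⁻¹ := by
        refine (inv_eq_of_mul_eq_one_right ?_).symm
        rw [← map_inv, ← map_mul, ← map_mul, ← map_mul]
        exact (QuotientGroup.eq_one_iff _).2 h1
      refine (QuotientGroup.eq_one_iff _).1 (?_ : q (t * t * k * (t * t)⁻¹ * k⁻¹) = 1)
      calc q (t * t * k * (t * t)⁻¹ * k⁻¹)
          = q t * (q t * q k * (q t)⁻¹) * (q t)⁻¹ * (q k)⁻¹ := by simp [mul_assoc]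
        _ = (q t * q k * (q t)⁻¹)⁻¹ * (q k)⁻¹ := by rw [e]; simp [← e, mul_assoc]
        _ = 1 := by rw [e]; simp
    have htt := hfree _ (W₁.mul_mem htW htW) h2
    have : t = 1 := orderOf_eq_one_iff.1 (Nat.eq_one_of_dvd_coprimes
      (Nat.coprime_two_left.2 (hodd.of_dvd_nat (orderOf_dvd_natCard t)))
      (orderOf_dvd_of_pow_eq_one (by rwa [pow_two])) dvd_rfl)
    rw [this, one_mul, inv_one, mul_one] at h1
    exact hkN (hsq k h1)
  let F : Bool × W₁ ⊕ Unit → D ⧸ N.subgroupOf D := Sum.elim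
    (fun p => if p.1 then ((⟨_, hmem p.2⟩ : D) : D ⧸ N.subgroupOf D)
      else ((⟨_, D.inv_mem (hmem p.2)⟩ : D) : D ⧸ N.subgroupOf D))
    fun _ => ((1 : D) : D ⧸ N.subgroupOf D)
  have hF : Function.Injective F := by
    rintro (⟨b, v⟩ | ⟨⟩) (⟨b', w⟩ | ⟨⟩) h
    · rcases b with _ | _ <;> rcases b' with _ | _ <;>
        simp only [F, Sum.elim_inl, if_true, Bool.false_eq_true, if_false, QuotientGroup.eq,
          Subgroup.mem_subgroupOf, Subgroup.coe_mul, Subgroup.coe_inv, inv_inv] at h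
      · have := ‹N.Normal›.conj_mem _ (N.inv_mem h) ((v : L) * k * (v : L)⁻¹)⁻¹
        rw [key v w (by
          convert this using 1
          group)]
      · exact absurd h (hflip v w)
      · refine absurd ?_ (hflip w v)
        have := N.inv_mem h
        convert this using 1
        group
      · rw [key v w h]
    · exfalso
      rcases b with _ | _ <;>
        simp only [F, Sum.elim_inl, Sum.elim_inr, if_true, Bool.false_eq_true, if_false,
          QuotientGroup.eq, Subgroup.mem_subgroupOf, Subgroup.coe_inv, inv_inv, mul_one] at h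
      · exact hne v h
      · exact hne v (inv_inv ((v : L) * k * (v : L)⁻¹) ▸ N.inv_mem h)
    · exfalso
      rcases b' with _ | _ <;>
        simp only [F, Sum.elim_inl, Sum.elim_inr, if_true, Bool.false_eq_true, if_false,
          QuotientGroup.eq, Subgroup.mem_subgroupOf, inv_one, one_mul] at h
      · exact hne w (inv_inv ((w : L) * k * (w : L)⁻¹) ▸ N.inv_mem h)
      · exact hne w h
    · rfl
  have := Fintype.card_le_of_injective F hF
  rw [Fintype.card_sum, Fintype.card_prod, Fintype.card_bool, Fintype.card_unit,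
    ← Nat.card_eq_fintype_card (α := D ⧸ N.subgroupOf D), ← Nat.card_eq_fintype_card (α := W₁)] at this
  exact Nat.lt_of_succ_le this

omit [Finite L] in
/-- A section of a nilpotent normal subgroup has a non-trivial normal central part. -/
theorem exists_central_section {K Z : Subgroup L} [K.Normal] [Z.Normal] (hnil : Group.IsNilpotent K)
    (hZK : Z < K) :
    ∃ D : Subgroup L, D.Normal ∧ Z ≤ D ∧ D ≤ K ∧ (∀ x ∈ D, ∀ y ∈ K, x * y * x⁻¹ * y⁻¹ ∈ Z) ∧
      ∃ d ∈ D, d ∉ Z := by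
  set q := QuotientGroup.mk' Z with hq
  set Kq := K.map q
  haveI : Kq.Normal := Subgroup.Normal.map ‹K.Normal› q (QuotientGroup.mk'_surjective Z)
  haveI : Group.IsNilpotent K := hnil
  haveI : Group.IsNilpotent Kq :=
    Group.nilpotent_of_surjective (q.subgroupMap K) (q.subgroupMap_surjective K)
  have hne : (⊤ : Subgroup Kq) ≠ ⊥ := by
    intro h
    obtain ⟨x, hx, hxZ⟩ := SetLike.exists_of_lt hZK
    have : (⟨q x, ⟨x, hx, rfl⟩⟩ : Kq) = 1 := Subgroup.mem_bot.1 (h ▸ Subgroup.mem_top _)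
    exact hxZ ((QuotientGroup.eq_one_iff x).1 (congrArg Subtype.val this))
  obtain ⟨z, hz, hz1⟩ :=
    (Subgroup.bot_or_exists_ne_one _).resolve_left (Solvable.inf_center_ne_bot hne)
  refine ⟨(Kq ⊓ Subgroup.centralizer (Kq : Set (L ⧸ Z))).comap q, inferInstance, ?_, ?_, ?_, ?_⟩
  · intro x hx
    rw [Subgroup.mem_comap, show q x = 1 from (QuotientGroup.eq_one_iff x).2 hx]
    exact one_mem _
  · intro x hx
    obtain ⟨y, hy, e⟩ := hx.1
    have : y⁻¹ * x ∈ Z := QuotientGroup.eq.1 e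
    simpa using K.mul_mem hy (hZK.le this)
  · intro x hx y hy
    have h := Subgroup.mem_centralizer_iff.1 hx.2 (q y) ⟨y, hy, rfl⟩
    rw [← QuotientGroup.eq_one_iff]
    show q (x * y * x⁻¹ * y⁻¹) = 1
    simp only [map_mul, map_inv, ← h]
    group
  · obtain ⟨d, hd, e⟩ := z.2
    refine ⟨d, ⟨e ▸ z.2, Subgroup.mem_centralizer_iff.2 fun a ha => ?_⟩, fun h => hz1 ?_⟩
    · rw [e]
      exact congrArg Subtype.val (Subgroup.mem_center_iff.1 hz.2 ⟨a, ha⟩)
    · exact Subtype.ext (e.symm.trans ((QuotientGroup.eq_one_iff d).2 h))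

end Abstract

variable {G : Type u} [Group G] [Fintype G] {M W₁ U W₂ : Subgroup G} [Fintype M] (B : BGFacts G)
include B

omit [Fintype M] in
theorem fittingHallOf_eq_commutator (hM : IsCoatom M) (hV : IsOfTypeV M) :
    fittingHallOf M = ⁅M, M⁆ := by
  rw [← typeCore_eq_commutator B hM (Or.inr (Or.inr hV)),
    typeCore_eq_fittingHallOf fun h => not_typeV_of_typeIII_IV B hM h hV]

omit [Fintype M] in
theorem typeV_nilpotent (hM : IsCoatom M) (hV : IsOfTypeV M) : Group.IsNilpotent ↥(commutator ↥M) := by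
  haveI : Group.IsNilpotent ↥(⁅M, M⁆ : Subgroup G) :=
    fittingHallOf_eq_commutator B hM hV ▸ HallFusion.isNilpotent_fittingHallOf M
  rw [commutator_eq_subgroupOf]
  exact Group.nilpotent_of_mulEquiv (Subgroup.subgroupOfEquivOfLe M.commutator_le_self).symm

omit B [Fintype G] [Fintype M] in
/-- The decomposition `M = M' W₁` inside `M`. -/
theorem typeP_decomp [Finite G] (hP : IsTypePWith M W₁ U W₂) :
    (∀ x : M, ∃ c ∈ commutator ↥M, ∃ w ∈ W₁.subgroupOf M, x = c * w) ∧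
      Nat.card (W₁.subgroupOf M) = (commutator ↥M).index ∧
      (Nat.card (W₁.subgroupOf M)).Coprime (Nat.card ↥(commutator ↥M)) ∧
      ∀ w ∈ W₁.subgroupOf M, w ≠ 1 → ∀ k ∈ commutator ↥M, w * k = k * w → k ∈ W₂.subgroupOf M := by
  haveI : Fintype M := Fintype.ofFinite _
  have hc : Nat.card (W₁.subgroupOf M) = Nat.card W₁ :=
    Nat.card_congr (Subgroup.subgroupOfEquivOfLe hP.W₁_compl.2.1).toEquiv
  refine ⟨fun x => ?_, hc.trans (index_commutator_eq hP).1.symm, ?_, fun w hw hw1 k hk hwk => ?_⟩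
  · obtain ⟨c, hc, w, hw, e⟩ := hP.W₁_compl.2.2.2 x x.2
    refine ⟨⟨c, M.commutator_le_self hc⟩, ?_, ⟨w, hP.W₁_compl.2.1 hw⟩, hw, Subtype.ext e⟩
    rw [commutator_eq_subgroupOf, Subgroup.mem_subgroupOf]
    exact hc
  · rw [hc, (index_commutator_eq hP).2]
    exact typeP_card_W₁_coprime hP
  · rw [commutator_eq_subgroupOf, Subgroup.mem_subgroupOf] at hk
    have h : (k : G) ∈ ⁅M, M⁆ ⊓ Subgroup.centralizer ({(w : G)} : Set G) :=
      ⟨hk, Subgroup.mem_centralizer_singleton_iff.2 (congrArg Subtype.val hwk).symm⟩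
    rwa [hP.W₂_centralizer (w : G) hw fun e => hw1 (Subtype.ext e)] at h

omit B [Fintype G] [Fintype M] in
theorem W₂_le_second (hP : IsTypePWith M W₁ U W₂) :
    W₂.subgroupOf M ≤ ⁅commutator ↥M, commutator ↥M⁆ := by
  intro y hy
  have h2 := (hP.W₂_le hy).2
  rw [show (⁅(⁅M, M⁆ : Subgroup G), (⁅M, M⁆ : Subgroup G)⁆ : Subgroup G) =
    (⁅commutator ↥M, commutator ↥M⁆).map M.subtype by
      rw [Subgroup.map_commutator, Subgroup.map_subtype_commutator]] at h2
  obtain ⟨z, hz, e⟩ := h2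
  rwa [← show z = y from Subtype.ext e]

omit B [Fintype M] in
theorem second_lt (hG : IsMinSimpleOddOrder G) (hM : IsCoatom M) (hP : IsTypePWith M W₁ U W₂) :
    ⁅commutator ↥M, commutator ↥M⁆ < commutator ↥M ∧ commutator ↥M < ⊤ := by
  haveI : Group.IsSolvable M := hG.2.2.2 M hM.1
  refine ⟨Group.IsSolvable.commutator_lt_of_ne_bot fun h => ?_, lt_of_le_of_ne le_top fun h => ?_⟩
  · obtain ⟨x, hx, hx1⟩ := (Subgroup.bot_or_exists_ne_one W₂).resolve_left hP.selfNormalizing.2.1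
    have hxM : x ∈ M := (hP.W₂_le hx).2 |> fun h => M.commutator_le_self (Subgroup.commutator_le_self _ h)
    have := W₂_le_second hP (show (⟨x, hxM⟩ : M) ∈ W₂.subgroupOf M from hx)
    rw [h, Subgroup.commutator_bot_left, Subgroup.mem_bot] at this
    exact hx1 (congrArg Subtype.val this)
  · have h2 : (commutator ↥M).index = 1 := Subgroup.index_eq_one.2 h
    haveI : Fintype M := Fintype.ofFinite _
    rw [(index_commutator_eq hP).1] at h2
    exact hP.W₁_ne (Subgroup.card_eq_one.1 h2)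

omit B [Fintype M] in
/-- `W₁` acts without fixed points modulo `N ⊇ W₂`. -/
theorem typeP_frob (hP : IsTypePWith M W₁ U W₂) (N : Subgroup M) [N.Normal]
    (hWN : W₂.subgroupOf M ≤ N) (hNK : N ≤ commutator ↥M) {k : M} (hk : k ∈ commutator ↥M)
    (hkN : k ∉ N) (hkc : ∀ c ∈ commutator ↥M, c * k * c⁻¹ * k⁻¹ ∈ N) {x : M}
    (hx : x * k * x⁻¹ * k⁻¹ ∈ N) : x ∈ commutator ↥M :=
  frob_mod (typeP_decomp hP).2.2.1 (typeP_decomp hP).1 (typeP_decomp hP).2.2.2 hWN hNK hk hkN hkc hx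

omit B [Fintype M] in
/-- A central section over `N ⊇ W₂` is bigger than twice the index. -/
theorem typeP_section (hG : IsMinSimpleOddOrder G) (hP : IsTypePWith M W₁ U W₂) (N D : Subgroup M)
    [N.Normal] [D.Normal] (hWN : W₂.subgroupOf M ≤ N) (hNK : N ≤ commutator ↥M)
    (hDK : D ≤ commutator ↥M) {d : M} (hd : d ∈ D) (hdN : d ∉ N)
    (hdc : ∀ y ∈ commutator ↥M, d * y * d⁻¹ * y⁻¹ ∈ N) :
    2 * (commutator ↥M).index < N.relIndex D := by
  rw [← (typeP_decomp hP).2.1]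
  refine two_mul_card_lt_relIndex (hG.1.of_dvd_nat (Subgroup.card_subgroup_dvd_card M)) hd hdN
    fun w hw hwd => ?_
  have hK := typeP_frob hP N hWN hNK (hDK hd) hdN (fun c hc => ?_) hwd
  · by_contra hw1
    obtain ⟨c, hc, -, -⟩ := (typeP_decomp hP).1 w
    have : (w : G) ∈ ⁅M, M⁆ ⊓ W₁ := ⟨by rwa [commutator_eq_subgroupOf] at hK, hw⟩
    rw [hP.W₁_compl.2.2.1, Subgroup.mem_bot] at this
    exact hw1 (Subtype.ext this)
  · have := N.inv_mem (hdc c hc)
    rwa [show (d * c * d⁻¹ * c⁻¹)⁻¹ = c * d * c⁻¹ * d⁻¹ by group] at this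

omit B in
/-- The members induced from linear characters are irreducible. -/
theorem linear_norm (hG : IsMinSimpleOddOrder G) (B : BGFacts G) (hM : IsCoatom M)
    (hV : IsOfTypeV M) (hP : IsTypePWith M W₁ U W₂) {φ : M → ℂ}
    (hφ : φ ∈ inducedIrrAbove (commutator ↥M) ⁅commutator ↥M, commutator ↥M⁆) :
    IsIrrCharacter M φ ∧ classInner φ φ = 1 := by
  obtain ⟨μ, δ, hμ⟩ := (primeDade_345 B hG hM (Or.inr (Or.inr hV)) hP).exists_muFamily
  obtain ⟨θ, hθ, hne, htriv, rfl⟩ := hφ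
  have := irr_indFun_above B hG hM (Or.inr (Or.inr hV)) hP hμ hθ hne htriv
  exact ⟨this, Char.classInner_irr_self this⟩

/-- A character of `M'` induces irreducibly or is the restriction of some `μ ψ`. -/
theorem typeP_cases (hG : IsMinSimpleOddOrder G) (hM : IsCoatom M) (h : IsType345 M)
    (hP : IsTypePWith M W₁ U W₂) {μ : (↥(W₁ ⊔ W₂) →* ℂˣ) → (M → ℂ)}
    {δ : (↥(W₁ ⊔ W₂) →* ℂˣ) → ℤ} (hμ : MuFamily M W₁ W₂ μ δ)
    (θ : IrrCharacter ↥(commutator ↥M)) :
    IsIrrCharacter M (indFun (commutator ↥M) θ.1) ∨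
      ∃ ψ : Ann W₁ W₂ W₁, θ.1 = (fun y : ↥(commutator ↥M) => μ ψ.1 y) ∧
        indFun (commutator ↥M) θ.1 = muSum (⁅M, M⁆ : Subgroup G) μ ψ := by
  have P := primeDade_345 B hG hM h hP
  obtain ⟨θ, hθ⟩ := θ
  revert θ
  unfold muSum
  rw [commutator_eq_subgroupOf M]
  intro θ hθ
  exact (hμ.fixed_eq_res P hθ).imp_right fun ⟨ψ, e⟩ => ⟨ψ, e, congrArg (indFun _) e⟩

/-- A character not trivial on `M''` has degree at least two and induces to a character of norm at
most `2 r + 1` and less than `r²`. -/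
theorem typeV_norm (hG : IsMinSimpleOddOrder G) (hM : IsCoatom M) (h : IsType345 M)
    (hP : IsTypePWith M W₁ U W₂) (θ : IrrCharacter ↥(commutator ↥M))
    (hθ : ∃ z : ↥(commutator ↥M), (z : M) ∈ ⁅commutator ↥M, commutator ↥M⁆ ∧ θ.1 z ≠ θ.1 1) :
    2 ≤ charDegree θ.1 ∧ ∃ n : ℕ, classInner (indFun (commutator ↥M) θ.1)
      (indFun (commutator ↥M) θ.1) = n ∧ n ≤ 2 * charDegree θ.1 + 1 ∧ n < charDegree θ.1 ^ 2 := by
  classical
  have P := primeDade_345 B hG hM h hP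
  obtain ⟨μ, δ, hμ⟩ := P.exists_muFamily
  have hr : 2 ≤ charDegree θ.1 := by
    have h0 := Char.charDegree_pos θ
    by_contra hcon
    obtain ⟨z, hz, hne⟩ := hθ
    obtain ⟨lam, hlam⟩ := Char.IsCharacter.exists_monoidHom (Char.irr_isCharacter θ)
      (by rw [← Char.charDegree_cast, show charDegree θ.1 = 1 by omega, Nat.cast_one])
    rw [← hlam] at hne
    refine hne ((?_ : lam z = 1).trans (map_one lam).symm)
    have hz' : z ∈ (commutator ↥(commutator ↥M)) := by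
      rw [← Subgroup.map_subtype_commutator] at hz
      obtain ⟨a, ha, e⟩ := hz
      rwa [← show a = z from Subtype.ext e]
    exact congrArg Units.val (MonoidHom.mem_ker.1 (Abelianization.commutator_subset_ker lam.toHomUnits hz'))
  refine ⟨hr, ?_⟩
  rcases typeP_cases B hG hM h hP hμ θ with hirr | ⟨ψ, e, e'⟩
  · refine ⟨1, by rw [Char.classInner_irr_self hirr, Nat.cast_one], by omega, by nlinarith⟩
  haveI := (ann_facts P.selfNorm).1
  haveI : Fintype (Ann W₁ W₂ W₂) := Fintype.ofFinite _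
  refine ⟨Nat.card W₁, by rw [e', hμ.classInner_muSum P, if_pos rfl], ?_⟩
  have hψ : ψ.1 ≠ 1 := by
    intro h1
    obtain ⟨z, -, hne⟩ := hθ
    rw [e, h1, hμ.map_one P] at hne
    exact hne rfl
  obtain ⟨d, hd, hde⟩ := mu_degree B hG hM h hP hμ (ω := ψ.1) fun h' => hψ <| by
    have := mul_inj P.selfNorm (a := ⟨ψ.1, h'⟩) (a' := ⟨1, fun _ _ => rfl⟩)
      (b := ⟨1, fun _ _ => rfl⟩) (b' := ψ) (MonoidHom.ext fun w => by simp)
    exact (congrArg Subtype.val this.2).symm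
  have hdr : d = charDegree θ.1 := by
    have h1 : θ.1 1 = (d : ℂ) := (congrFun e 1).trans hd
    rw [← Char.charDegree_cast] at h1
    exact_mod_cast h1.symm
  subst hdr
  exact ⟨by omega, by nlinarith⟩

/-- The members of `ℤ[calS M]` vanishing at `1` vanish off `A(M)`. -/
theorem typeV_supp (hM : IsCoatom M) (h : IsType345 M) {α : M → ℂ}
    (hα : α ∈ zspanOn (inducedIrrAbove (commutator ↥M) ⊥) {1}ᶜ) :
    IsGeneralizedCharacter M α ∧ ∀ x : M, (x : G) ∉ typeA' M → α x = 0 := by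
  obtain ⟨hsp, h1⟩ := Char.mem_zspanOn_compl_one.1 hα
  have key : ∀ β ∈ zspan (inducedIrrAbove (commutator ↥M) ⊥),
      IsGeneralizedCharacter M β ∧ ∀ x, x ∉ commutator ↥M → β x = 0 := by
    intro β hβ
    refine Submodule.span_induction ?_ ?_ ?_ ?_ hβ
    · exact fun φ hφ => ⟨Char.IsCharacter.isGeneralized (isCharacter_of_mem_indIrr _ hφ),
        fun x hx => indIrr_apply_notMem _ hφ hx⟩
    · exact ⟨Char.IsGeneralizedCharacter.zero, fun _ _ => rfl⟩
    · exact fun a b _ _ ha hb => ⟨Char.IsGeneralizedCharacter.add ha.1 hb.1,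
        fun x hx => by simp [ha.2 x hx, hb.2 x hx]⟩
    · refine fun c a _ ha => ⟨?_, fun x hx => by simp [ha.2 x hx]⟩
      rw [← Int.cast_smul_eq_zsmul ℂ c a]
      exact Char.IsGeneralizedCharacter.intCast_smul ha.1 c
  refine ⟨(key α hsp).1, fun x hx => ?_⟩
  by_cases hxK : x ∈ commutator ↥M
  · have hx1 : x = 1 := by
      by_contra hne
      exact hx ((support_commutator B hM h x).2 ⟨hxK, hne⟩)
    rw [hx1, h1]
  · exact (key α hsp).2 x hxK

end Cfsg.Agent.OddOrder.PF
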