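import Cfsg.Agent.Lib.OddOrder.PF.S10_TypeV
import Cfsg.Agent.Lib.OddOrder.PF.S10_ClassSum
import Cfsg.Agent.S1522
import Cfsg.Agent.S1531

/-!
Peterfalvi (10.10), first case: if `M_F` is a TI-subset for a maximal subgroup `M` of Type V then
`calS M` is coherent. Either `W₂` is central in `M'` and one uses the congruence for characters real
on `W₂`, or the central part `Z` of `M''` meets `W₂` trivially and one uses the congruence for
characters constant on `Z ∖ {1}`.
-/

set_option autoImplicit false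
set_option linter.style.haveILetI false

namespace Cfsg.Agent.OddOrder.PF

open Cfsg Cfsg.Agent.OddOrder Cfsg.Agent
open scoped ComplexConjugate

universe u
variable {G : Type u} [Group G] [Fintype G] {M W₁ U W₂ : Subgroup G} [Fintype M] (B : BGFacts G)
  (hG : IsMinSimpleOddOrder G) (hM : IsCoatom M) (hV : IsOfTypeV M)
  (hP : IsTypePWith M W₁ U W₂) (hTI : IsTISubset ((⁅M, M⁆ : Subgroup G) : Set G))

omit [Fintype M] hV in
include hG hM hP in
theorem normalizer_derived : Subgroup.normalizer ((⁅M, M⁆ : Subgroup G) : Set G) = M := by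
  rw [← Subgroup.map_subtype_commutator]
  refine normalizer_eq_of_normal hG hM (Subgroup.map_subtype_le _) (le_normalizer_map_subtype _) ?_
  rw [Subgroup.map_subtype_commutator]
  exact fun h => hP.selfNormalizing.2.1 (le_bot_iff.1 (h ▸ (hP.W₂_le.trans inf_le_right).trans
    (Subgroup.commutator_le_self _)))

include hG hM hP

omit [Fintype M] in
/-- The hypotheses of the class-sum congruence for `M'`. -/
theorem derived_hall : ∀ l ∈ Subgroup.normalizer ((⁅M, M⁆ : Subgroup G) : Set G),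
    orderOf l ∣ Nat.card (⁅M, M⁆ : Subgroup G) → l ∈ (⁅M, M⁆ : Subgroup G) := by
  intro l hl hdvd
  rw [normalizer_derived hG hM hP] at hl
  haveI : Fintype M := Fintype.ofFinite _
  obtain ⟨-, hcard, hcop, -⟩ := typeP_decomp hP
  rw [hcard] at hcop
  set q := QuotientGroup.mk' (commutator ↥M)
  have h1 : q ⟨l, hl⟩ = 1 := orderOf_eq_one_iff.1 (Nat.eq_one_of_dvd_coprimes hcop
    (orderOf_dvd_natCard _) ((orderOf_map_dvd q ⟨l, hl⟩).trans (by
      rw [Subgroup.orderOf_mk, (index_commutator_eq hP).2]; exact hdvd)))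
  have h2 := (QuotientGroup.eq_one_iff _).1 h1
  rwa [commutator_eq_subgroupOf, Subgroup.mem_subgroupOf] at h2

include hTI

omit hP [Fintype M] in
include B hV in
theorem supportR_typeV {a : G} (ha : a ∈ typeA' M) : supportR M a = ⊥ := by
  rw [typeA_eq_commutator B hM (Or.inr (Or.inr hV))] at ha
  refine supportR_eq_bot (isTISubset_centralizer_le hG hM (N := commutator ↥M) ?_ ?_ ha.2)
  · rw [Subgroup.map_subtype_commutator]; exact hTI
  · rw [Subgroup.map_subtype_commutator]; exact ha.1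

omit hP in
include B hV in
/-- The Dade map is adjoint to restriction. -/
theorem classInner_ftTau {α : M → ℂ} (hα : α ∈ zspanOn (inducedIrrAbove (commutator ↥M) ⊥) {1}ᶜ)
    {F : G → ℂ} (hF : IsClassFunction G F) :
    classInner (ftTau M α) F = classInner α (fun x : M => F x) := by
  obtain ⟨hg, hz⟩ := typeV_supp B hM (Or.inr (Or.inr hV)) hα
  have hcl := Char.IsGeneralizedCharacter.isClassFunction hg
  rw [ftTau_eq_typeA B hM hcl hz]
  refine classInner_dadeIsometry (dadeHypothesis_typeSet B hM (A := typeA' M) (Or.inr (Or.inl rfl)))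
    hcl hz hF _ fun a ha => ?_
  rw [supportR_typeV B hG hM hV hTI ha, Subgroup.coe_bot, finsum_mem_singleton]
  simp

omit hP hG hTI in
include B hV in
/-- The Dade map keeps the values on `A(M)`. -/
theorem ftTau_apply {α : M → ℂ} (hα : α ∈ zspanOn (inducedIrrAbove (commutator ↥M) ⊥) {1}ᶜ)
    {a : M} (ha : (a : G) ∈ typeA' M) : ftTau M α a = α a := by
  obtain ⟨hg, hz⟩ := typeV_supp B hM (Or.inr (Or.inr hV)) hα
  have hcl := Char.IsGeneralizedCharacter.isClassFunction hg
  rw [ftTau_eq_typeA B hM hcl hz]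
  exact dadeIsometry_apply (dadeHypothesis_typeSet B hM (A := typeA' M) (Or.inr (Or.inl rfl))) hcl ha
    (x := 1) (u := 1) (Subgroup.one_mem _) (by simp)

variable {Rs : (M → ℂ) → Finset (G → ℂ)}
  (hS : IsCoherenceSystem (inducedIrrAbove (commutator ↥M) ⊥) (ftTau M) Rs)
include B hV hS

/-- The image of a member of the linear family is real on `W₂`. -/
theorem image_real {σ : (M → ℂ) → (G → ℂ)}
    (hσ : IsLinearIsometryOn
      (zspan (inducedIrrAbove (commutator ↥M) ⁅commutator ↥M, commutator ↥M⁆)) σ)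
    (hσA : ∀ α ∈ zspanOn (inducedIrrAbove (commutator ↥M) ⁅commutator ↥M, commutator ↥M⁆) {1}ᶜ,
      σ α = ftTau M α)
    {η : M → ℂ} (hη : η ∈ inducedIrrAbove (commutator ↥M) ⁅commutator ↥M, commutator ↥M⁆)
    {w : G} (hw : w ∈ W₂) : σ η w⁻¹ = σ η w := by
  classical
  set K := commutator ↥M with hK
  haveI : Fintype K := Fintype.ofFinite _
  set Y := inducedIrrAbove K ⁅K, K⁆ with hYdef
  rcases eq_or_ne w 1 with rfl | hw1
  · rw [inv_one]
  have hηc : conjFun η ∈ Y := conj_mem_inducedIrrAbove K hη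
  have hYS : Y ⊆ inducedIrrAbove K ⊥ := inducedIrrAbove_subset_bot K _
  have hne := hS.conj_ne η (hYS hη)
  have hmem : η - conjFun η ∈ zspanOn Y {1}ᶜ := Char.mem_zspanOn_compl_one.2
    ⟨Submodule.sub_mem _ (Submodule.subset_span hη) (Submodule.subset_span hηc), by
      rw [Pi.sub_apply, conjFun_apply_one hS (hYS hη), sub_self]⟩
  have hmem' : η - conjFun η ∈ zspanOn (inducedIrrAbove K ⊥) {1}ᶜ :=
    ⟨Submodule.span_mono hYS hmem.1, hmem.2⟩
  obtain ⟨hirr, h1⟩ := linear_norm hG B hM hV hP hη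
  obtain ⟨hcirr, hc1⟩ := linear_norm hG B hM hV hP hηc
  set a := σ η with ha
  set b := σ (conjFun η) with hb
  have hgen : ∀ φ ∈ Y, IsGeneralizedCharacter G (σ φ) := fun φ hφ =>
    hσ.2.2.2 _ (Submodule.subset_span hφ)
  have hin : ∀ φ ∈ Y, ∀ ψ ∈ Y, classInner (σ φ) (σ ψ) = classInner φ ψ := fun φ hφ ψ hψ =>
    hσ.2.2.1 _ (Submodule.subset_span hφ) _ (Submodule.subset_span hψ)
  have hsub : a - b = ftTau M (η - conjFun η) := by
    rw [← hσA _ hmem, Char.iso_map_sub (E := Submodule.span ℤ Y) hσ (Submodule.subset_span hη)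
      (Submodule.subset_span hηc)]
  -- the difference is orthogonal to the principal character and inverted by conjugation
  have hd1 : classInner (a - b) (fun _ => (1 : ℂ)) = 0 := by
    rw [hsub, classInner_ftTau B hG hM hV hTI hmem' (fun _ _ => rfl), Char.classInner_sub_left,
      classInner_indIrr_one K (hYS hη), classInner_indIrr_one K (hYS hηc), sub_zero]
  have hdc : conjFun a - conjFun b = b - a := by
    have h : conjFun (a - b) = ftTau M (-(η - conjFun η)) := by
      rw [hsub, ftTau, conjFun_dadeIsometry]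
      congr 1
      funext x
      simp [conjFun]
    have h' : ftTau M (-(η - conjFun η)) = -(a - b) := by
      rw [hsub, show -(η - conjFun η) = ((-1 : ℤ)) • (η - conjFun η) by simp,
        hS.isometry.2.1 _ hmem']
      simp
    funext g
    have := congrFun (h.trans h') g
    simp only [conjFun, Pi.sub_apply, Pi.neg_apply, map_sub] at this ⊢
    rw [this]; ring
  have haa : classInner a a = 1 := by rw [hin η hη η hη, h1]
  have hbb : classInner b b = 1 := by rw [hin _ hηc _ hηc, hc1]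
  have hab : classInner a b = 0 := by
    rw [hin η hη _ hηc, Char.classInner_irr_of_ne hirr hcirr hne.symm]
  obtain ⟨ψ, hψ⟩ := Char.IsGeneralizedCharacter.irr_or_neg_of_norm_one (hgen η hη) haa
  obtain ⟨φ, hφ⟩ := Char.IsGeneralizedCharacter.irr_or_neg_of_norm_one (hgen _ hηc) hbb
  obtain ⟨e, he, hae⟩ : ∃ e : ℂ, (e = 1 ∨ e = -1) ∧ a = e • ψ.1 := by
    rcases hψ with h | h
    · exact ⟨1, Or.inl rfl, by rw [one_smul]; exact h⟩
    · exact ⟨-1, Or.inr rfl, by rw [neg_one_smul]; exact h⟩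
  obtain ⟨e', he', hbe⟩ : ∃ e : ℂ, (e = 1 ∨ e = -1) ∧ b = e • φ.1 := by
    rcases hφ with h | h
    · exact ⟨1, Or.inl rfl, by rw [one_smul]; exact h⟩
    · exact ⟨-1, Or.inr rfl, by rw [neg_one_smul]; exact h⟩
  have hconjcl : ∀ z : ℂ, z = 1 ∨ z = -1 → conj z = z := by rintro z (rfl | rfl) <;> simp
  have hac : conjFun a = e • conjFun ψ.1 := by
    funext g; simp [hae, conjFun, hconjcl e he]
  have hpsi : classInner ψ.1 (conjFun ψ.1) = 0 := by
    refine Char.classInner_irr_of_ne ψ.2 (Char.IsIrrCharacter.conj_fun ψ.2) fun heq => ?_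
    have hψ1 : ψ.1 = fun _ => 1 := by
      by_contra hn
      refine conjFun_ne_of_odd hG.1 ψ.2 ?_ heq.symm
      by_contra hcon
      push Not at hcon
      refine hn (funext fun g => ?_)
      have h0 := Char.classInner_irr_self ψ.2
      rw [show ψ.1 = fun _ => ψ.1 1 from funext hcon, Char.classInner_self] at h0
      simp only [Finset.sum_const, Finset.card_univ, nsmul_eq_mul, ← Nat.card_eq_fintype_card] at h0
      rw [hcon g]
      obtain ⟨n, hn0, hn⟩ := Char.IsIrrCharacter.exists_degree ψ.2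
      rw [hn] at h0 ⊢
      push_cast at h0
      rw [inv_mul_cancel_left₀ (Nat.cast_ne_zero.2 Nat.card_pos.ne'), Complex.normSq_natCast] at h0
      have : n * n = 1 := by exact_mod_cast h0
      rw [Nat.eq_one_of_mul_eq_one_right this, Nat.cast_one]
    rw [hae, hψ1, hbe, Char.classInner_sub_left, Char.classInner_smul_left,
      Char.classInner_smul_left, show (fun _ : G => (1 : ℂ)) = ψ.1 from hψ1.symm,
      Char.classInner_irr_self ψ.2] at hd1
    have h0 : classInner φ.1 ψ.1 = 0 := by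
      have := hab
      rw [hae, hbe, Char.classInner_smul_left, Char.classInner_smul_right, ← mul_assoc, mul_eq_zero,
        mul_eq_zero] at this
      rcases this with (h | h) | h
      · rcases he with rfl | rfl <;> norm_num at h
      · rcases he' with rfl | rfl <;> norm_num at h
      · rw [← Char.conj_classInner, h, map_zero]
    rw [h0, mul_zero, mul_one, sub_zero] at hd1
    rcases he with rfl | rfl <;> norm_num at hd1
  have hbca : classInner b (conjFun a) = 1 := by
    have hca : classInner a (conjFun a) = 0 := by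
      rw [hac, hae, Char.classInner_smul_left, Char.classInner_smul_right, hpsi, mul_zero, mul_zero]
    have h := congrArg (fun x => classInner x (conjFun a)) hdc
    simp only [Char.classInner_sub_left, classInner_conjFun] at h
    rw [haa, hca, map_one, sub_zero,
      show classInner b a = 0 by rw [← Char.conj_classInner, hab, map_zero], map_zero,
      sub_zero] at h
    exact h.symm
  have hbeq : b = conjFun a := by
    refine sub_eq_zero.1 (Char.classInner_self_eq_zero ?_)
    rw [Char.classInner_sub_left, Char.classInner_sub_right, Char.classInner_sub_right, hbb, hbca,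
      show classInner (conjFun a) b = 1 by rw [← Char.conj_classInner, hbca, map_one],
      classInner_conjFun, haa, map_one]
    ring
  have hwM : w ∈ M := (hP.W₂_le hw).2 |> fun h => M.commutator_le_self (Subgroup.commutator_le_self _ h)
  have hwA : ((⟨w, hwM⟩ : M) : G) ∈ typeA' M := by
    rw [typeA_eq_commutator B hM (Or.inr (Or.inr hV))]
    exact ⟨Subgroup.commutator_le_self _ (hP.W₂_le hw).2, hw1⟩
  have hval := congrFun hsub w
  rw [show ftTau M (η - conjFun η) w = ftTau M (η - conjFun η) ((⟨w, hwM⟩ : M) : G) from rfl,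
    ftTau_apply B hM hV hmem' hwA, Pi.sub_apply, Pi.sub_apply, hbeq] at hval
  have hreal : conjFun η ⟨w, hwM⟩ = η ⟨w, hwM⟩ := by
    obtain ⟨θ, hθ, -, htriv, hη'⟩ := id hη
    haveI : (⁅K, K⁆ : Subgroup M).Normal := inferInstance
    have hKK : (⟨w, hwM⟩ : M) ∈ ⁅K, K⁆ := W₂_le_second hP hw
    have e : η ⟨w, hwM⟩ = η 1 := by
      rw [hη']
      simp only [indFun]
      congr 1
      refine Finset.sum_congr rfl fun x _ => ?_
      have hxA : x⁻¹ * ⟨w, hwM⟩ * x ∈ ⁅K, K⁆ := by
        simpa using (inferInstance : (⁅K, K⁆ : Subgroup M).Normal).conj_mem _ hKK x⁻¹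
      rw [Char.extendByZero_of_mem _ _ (Subgroup.commutator_le_self _ hxA),
        Char.extendByZero_of_mem _ _ (show x⁻¹ * 1 * x ∈ K by simp),
        htriv ⟨_, Subgroup.commutator_le_self _ hxA⟩ hxA]
      exact congrArg θ (Subtype.ext (by simp))
    show conj (η ⟨w, hwM⟩) = _
    rw [e]
    exact conjFun_apply_one hS (hYS hη)
  rw [hreal, sub_self, sub_eq_zero] at hval
  rw [hval]
  exact (Char.IsGeneralizedCharacter.conj_apply (hgen η hη) w).symm

/-- Coherence from a congruence on a central normal `Z ≤ M''` for the images of the linear family. -/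
theorem coherent_of_congr {Z : Subgroup M} [Z.Normal]
    (hZK : Z ≤ ⁅commutator ↥M, commutator ↥M⁆)
    (hZc : ∀ z ∈ Z, ∀ k ∈ commutator ↥M, z * k = k * z)
    (hrest : ∀ θ : IrrCharacter ↥(commutator ↥M), (∀ w : ↥(commutator ↥M), (w : M) ∈ Z → θ.1 w = θ.1 1) →
      2 * ((commutator ↥M).index * charDegree θ.1) + Z.relIndex (commutator ↥M) <
        Nat.card ↥(commutator ↥M))
    (hmod : ∀ σ : (M → ℂ) → (G → ℂ),
      IsLinearIsometryOn (zspan (inducedIrrAbove (commutator ↥M) ⁅commutator ↥M, commutator ↥M⁆)) σ →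
      (∀ α ∈ zspanOn (inducedIrrAbove (commutator ↥M) ⁅commutator ↥M, commutator ↥M⁆) {1}ᶜ,
        σ α = ftTau M α) →
      ∀ η ∈ inducedIrrAbove (commutator ↥M) ⁅commutator ↥M, commutator ↥M⁆,
        ∀ ψ : G → ℂ, IsIrrCharacter G ψ → (σ η = ψ ∨ σ η = -ψ) →
          ∀ w : M, w ∈ Z → ∃ x : ℂ, IsIntegral ℤ x ∧
            ψ w - ψ 1 = (Nat.card (⁅M, M⁆ : Subgroup G) : ℂ) * x) :
    IsCoherent (inducedIrrAbove (commutator ↥M) ⊥) {1}ᶜ (ftTau M) := by
  classical
  set K := commutator ↥M with hK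
  haveI : Fintype K := Fintype.ofFinite _
  have h345 : IsType345 M := Or.inr (Or.inr hV)
  obtain ⟨hlt, -⟩ := second_lt hG hM hP
  have hY1 : ∀ η ∈ inducedIrrAbove K ⁅K, K⁆, classInner η η = 1 :=
    fun η hη => (linear_norm hG B hM hV hP hη).2
  haveI : Group.IsSolvable M := hG.2.2.2 M hM.1
  obtain ⟨θ, hθ, -⟩ := exists_linear_above K inferInstance ⁅K, K⁆ hlt
  have hY0 : (inducedIrrAbove K ⁅K, K⁆).Nonempty :=
    ⟨_, (mem_inducedIrrAbove_iff K).2 ⟨θ, hθ, rfl⟩⟩
  -- `[K : Z]` exceeds the index of `K`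
  have hsmall : K.index < Z.relIndex K := by
    obtain ⟨d, hd, hdN⟩ := SetLike.exists_of_lt hlt
    have h1 : 2 * K.index < Subgroup.relIndex ⁅K, K⁆ K := typeP_section hG hP ⁅K, K⁆ K (W₂_le_second hP) hlt.le le_rfl hd hdN
      fun y hy => by simpa [commutatorElement_def] using Subgroup.commutator_mem_commutator hd hy
    have h2 : Subgroup.relIndex ⁅K, K⁆ K ≤ Z.relIndex K :=
      Nat.le_of_dvd (Nat.pos_of_ne_zero Subgroup.index_ne_zero_of_finite)
        (Subgroup.relIndex_dvd_of_le_left K hZK)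
    omega
  obtain ⟨σ, η, hσ, hσA, hη, hcoef⟩ := exists_coeff_of_congr K hZK hS hZc hsmall hY1 hY0
    (fun θ ⟨z, hz, hne⟩ => (typeV_norm B hG hM h345 hP θ ⟨z, hZK hz, hne⟩).2)
    (fun σ hσ hσA η hη θ₀ hθ₀ => by
      have hs := hσ.2.2.2 _ (Submodule.subset_span hη)
      refine exists_dvd_of_congr K hZK hS hZc hη hs (Char.IsGeneralizedCharacter.restrict hs M)
        (fun α hα => classInner_ftTau B hG hM hV hTI hα
          (Char.IsGeneralizedCharacter.isClassFunction hs)) (fun w hw => ?_) θ₀ hθ₀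
      obtain ⟨ψ, hψ⟩ := Char.IsGeneralizedCharacter.irr_or_neg_of_norm_one hs (by
        rw [hσ.2.2.1 _ (Submodule.subset_span hη) _ (Submodule.subset_span hη), hY1 η hη])
      obtain ⟨x, hx, e⟩ := hmod σ hσ hσA η hη ψ.1 ψ.2 hψ w hw
      rw [(index_commutator_eq hP).2]
      rcases hψ with h | h
      · exact ⟨x, hx, by rw [h]; exact e⟩
      · refine ⟨-x, hx.neg, ?_⟩
        rw [h]
        simp only [Pi.neg_apply, Subgroup.coe_one]
        linear_combination -e)
  exact isCoherent_of_coeff K hZK hS hrest hY1 hσ hσA hη hcoef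

/-- `W₂` central in `M'`. -/
theorem coherent_of_W₂_central
    (hcen : ∀ z ∈ W₂, ∀ y ∈ (⁅M, M⁆ : Subgroup G), z * y = y * z) :
    IsCoherent (inducedIrrAbove (commutator ↥M) ⊥) {1}ᶜ (ftTau M) := by
  classical
  set K := commutator ↥M with hK
  haveI : Fintype K := Fintype.ofFinite _
  set Z := W₂.subgroupOf M with hZdef
  have hZK : Z ≤ ⁅K, K⁆ := W₂_le_second hP
  have hW₂K : W₂ ≤ (⁅M, M⁆ : Subgroup G) :=
    (hP.W₂_le.trans inf_le_right).trans (Subgroup.commutator_le_self _)
  have hcM : ∀ x ∈ M, ∀ z ∈ W₂, x * z = z * x := by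
    intro x hx z hz
    obtain ⟨c, hc, w, hw, rfl⟩ := hP.W₁_compl.2.2.2 x hx
    calc c * w * z = c * (w * z) := mul_assoc _ _ _
      _ = c * (z * w) := by rw [hP.selfNormalizing.2.2.2.1 w hw z hz]
      _ = c * z * w := (mul_assoc _ _ _).symm
      _ = z * (c * w) := by rw [← hcen z hz c hc, mul_assoc]
  haveI : Z.Normal := ⟨fun z hz g => by
    show ((g * z * g⁻¹ : M) : G) ∈ W₂
    rw [Subgroup.coe_mul, Subgroup.coe_mul, Subgroup.coe_inv, hcM g g.2 z hz, mul_inv_cancel_right]
    exact hz⟩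
  refine coherent_of_congr B hG hM hV hP hTI hS hZK
    (fun z hz k _ => Subtype.ext (hcM k k.2 z hz).symm) ?_ fun σ hσ hσA η hη ψ hψ hσψ w hw => ?_
  · obtain ⟨hlt, -⟩ := second_lt hG hM hP
    obtain ⟨D, hDn, hZD, hDK, hcent, d, hd, hdZ⟩ :=
      exists_central_section (typeV_nilpotent B hM hV) (lt_of_le_of_lt hZK hlt)
    have hbig : 2 * K.index < Z.relIndex D := typeP_section hG hP Z D le_rfl (hZD.trans hDK) hDK hd hdZ (hcent d hd)
    refine fun θ hθ => rest_of_central_section K hZK hS ?_ hZD hDK hcent (by omega) θ hθ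
    rw [Nat.card_congr (Subgroup.subgroupOfEquivOfLe (hW₂K.trans M.commutator_le_self)).toEquiv]
    exact (three_le_card hP.selfNormalizing
      (hG.1.of_dvd_nat (Subgroup.card_subgroup_dvd_card _))).2
  · refine congr_of_central hTI (derived_hall hG hM hP) hW₂K hcen hG.1
      (fun x hx z hz => hcM x (by rwa [normalizer_derived hG hM hP] at hx) z hz) hψ
      (fun v hv => ?_) hw
    have h := image_real B hG hM hV hP hTI hS hσ hσA hη hv
    rcases hσψ with e | e <;> rw [e] at h
    · exact h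
    · simpa using h

/-- `W₂` not central in `M'`. -/
theorem coherent_of_W₂_not_central (hp : (Nat.card W₂).Prime)
    (hnc : ¬ ∀ z ∈ W₂, ∀ y ∈ (⁅M, M⁆ : Subgroup G), z * y = y * z) :
    IsCoherent (inducedIrrAbove (commutator ↥M) ⊥) {1}ᶜ (ftTau M) := by
  classical
  set K := commutator ↥M with hK
  haveI : Fintype K := Fintype.ofFinite _
  haveI := Fact.mk hp
  have h345 : IsType345 M := Or.inr (Or.inr hV)
  have hnil := typeV_nilpotent B hM hV
  obtain ⟨hlt, hKtop⟩ := second_lt hG hM hP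
  obtain ⟨hdec, hidx, -, hC⟩ := typeP_decomp hP
  have hW₂K : W₂ ≤ (⁅M, M⁆ : Subgroup G) :=
    (hP.W₂_le.trans inf_le_right).trans (Subgroup.commutator_le_self _)
  haveI : (⁅K, K⁆ : Subgroup M).Normal := inferInstance
  set Z := ⁅K, K⁆ ⊓ Subgroup.centralizer (K : Set M) with hZdef
  haveI : Z.Normal := inferInstance
  have hZK : Z ≤ ⁅K, K⁆ := inf_le_left
  have hZK' : Z ≤ K := hZK.trans (Subgroup.commutator_le_self _)
  have hZc : ∀ z ∈ Z, ∀ k ∈ K, z * k = k * z := fun z hz k hk =>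
    (Subgroup.mem_centralizer_iff.1 hz.2 k hk).symm
  have hmemK : ∀ y : M, y ∈ K ↔ (y : G) ∈ (⁅M, M⁆ : Subgroup G) := fun y => by
    rw [hK, commutator_eq_subgroupOf, Subgroup.mem_subgroupOf]
  have hZ1 : Z ≠ ⊥ := by
    haveI := hnil
    haveI : ((⁅K, K⁆ : Subgroup M).subgroupOf K).Normal := inferInstance
    have hne : (⁅K, K⁆ : Subgroup M).subgroupOf K ≠ ⊥ := by
      intro h
      obtain ⟨x, hx, hx1⟩ := (Subgroup.bot_or_exists_ne_one W₂).resolve_left hP.selfNormalizing.2.1
      have hxK := W₂_le_second hP (show (⟨x, M.commutator_le_self (hW₂K hx)⟩ : M) ∈ W₂.subgroupOf M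
        from hx)
      have : (⟨_, Subgroup.commutator_le_self _ hxK⟩ : K) ∈ (⁅K, K⁆ : Subgroup M).subgroupOf K := hxK
      rw [h, Subgroup.mem_bot] at this
      exact hx1 (congrArg (fun y : K => ((y : M) : G)) this)
    obtain ⟨z, hz, hz1⟩ :=
      (Subgroup.bot_or_exists_ne_one _).resolve_left (Solvable.inf_center_ne_bot hne)
    intro h
    have : (z : M) ∈ Z := ⟨hz.1, Subgroup.mem_centralizer_iff.2 fun k hk =>
      congrArg Subtype.val (Subgroup.mem_center_iff.1 hz.2 ⟨k, hk⟩)⟩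
    rw [h, Subgroup.mem_bot] at this
    exact hz1 (Subtype.ext this)
  have hZW : ∀ z ∈ Z, (z : G) ∈ W₂ → z = 1 := by
    intro z hz hzW
    by_contra h1
    refine hnc fun v hv y hy => ?_
    have hcomm : y * (z : G) = (z : G) * y := congrArg Subtype.val
      (hZc z hz ⟨y, M.commutator_le_self hy⟩ ((hmemK _).2 hy)).symm
    obtain ⟨j, hj⟩ := mem_zpowers_of_prime_card (G := W₂) rfl (g := ⟨(z : G), hzW⟩) (g' := ⟨v, hv⟩)
      fun e => h1 (Subtype.ext (congrArg (fun a : W₂ => (a : G)) e : (z : G) = 1))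
    have hj' : (z : G) ^ j = v := congrArg Subtype.val hj
    rw [← hj']
    exact ((show Commute y (z : G) from hcomm).zpow_right j).eq.symm
  have hfree : ∀ z ∈ Z, z ≠ 1 → ∀ w ∈ W₁.subgroupOf M, w * z * w⁻¹ * z⁻¹ = 1 → w = 1 := by
    intro z hz hz1 w hw h
    by_contra hw1
    exact hz1 (hZW z hz (hC w hw hw1 z (hZK' hz) (mul_inv_eq_iff_eq_mul.1
      (mul_inv_eq_one.1 h))))
  -- every member not trivial on `Z` is irreducible
  have hirr : ∀ θ : IrrCharacter K, (∃ z : K, (z : M) ∈ Z ∧ θ.1 z ≠ θ.1 1) →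
      IsIrrCharacter M (indFun K θ.1) := by
    intro θ hθ
    obtain ⟨μ, δ, hμ⟩ := (primeDade_345 B hG hM h345 hP).exists_muFamily
    refine (typeP_cases B hG hM h345 hP hμ θ).resolve_right ?_
    rintro ⟨ψ, e, -⟩
    obtain ⟨u, hu, hune⟩ := hθ
    obtain ⟨w, hw, hw1⟩ : ∃ w ∈ W₁.subgroupOf M, w ≠ 1 := by
      refine ((Subgroup.bot_or_exists_ne_one _).resolve_left ?_)
      intro h
      rw [Subgroup.subgroupOf_eq_bot, disjoint_iff, inf_eq_left.2 hP.W₁_compl.2.1] at h
      exact hP.W₁_ne h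
    have hZn : ∀ z : M, z ∈ Z → w * z * w⁻¹ * z⁻¹ ∈ Z := fun z hz =>
      Z.mul_mem ((inferInstance : Z.Normal).conj_mem z hz w) (Z.inv_mem hz)
    let f : Z → Z := fun z => ⟨w * z * w⁻¹ * (z : M)⁻¹, hZn z z.2⟩
    have hinj : Function.Injective f := by
      intro a b hab
      have h := congrArg Subtype.val hab
      simp only [f] at h
      have hd : (a : M)⁻¹ * b ∈ Z := Z.mul_mem (Z.inv_mem a.2) b.2
      by_contra hne
      refine hw1 (hfree _ hd (fun h1 => hne (Subtype.ext (inv_mul_eq_one.1 h1))) w hw ?_)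
      have hcb : ∀ k ∈ K, (a : M) * k = k * a := fun k hk => hZc _ a.2 k hk
      calc w * ((a : M)⁻¹ * b) * w⁻¹ * ((a : M)⁻¹ * b)⁻¹
          = (w * a * w⁻¹)⁻¹ * ((w * b * w⁻¹ * (b : M)⁻¹) * a) := by group
        _ = (w * a * w⁻¹)⁻¹ * ((w * a * w⁻¹ * (a : M)⁻¹) * a) := by rw [h]
        _ = 1 := by group
    obtain ⟨z, hz⟩ := Finite.surjective_of_injective hinj ⟨(u : M), hu⟩
    have hzK : (z : M) ∈ K := hZK' z.2
    have hval : u = (⟨w * z * w⁻¹, (inferInstance : K.Normal).conj_mem _ hzK w⟩ : K) *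
        (⟨(z : M), hzK⟩ : K)⁻¹ := Subtype.ext (congrArg Subtype.val hz).symm
    set z' : K := ⟨(z : M), hzK⟩
    set v : K := ⟨w * z * w⁻¹, (inferInstance : K.Normal).conj_mem _ hzK w⟩
    have hcen : ∀ y : K, (y : M) ∈ Z → y ∈ Subgroup.center K := fun y hy =>
      Subgroup.mem_center_iff.2 fun g => Subtype.ext (hZc _ hy g g.2).symm
    have hv : θ.1 v = θ.1 z' := by
      rw [e]
      exact Char.IsCharacter.isClassFunction (Char.IsIrrCharacter.isCharacter (hμ.irr ψ.1)) (z : M) w
    have hvc := hcen v ((inferInstance : Z.Normal).conj_mem _ z.2 w)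
    have hzc := hcen z' z.2
    have h1 := ZassenhausSuzuki.apply_mul_central θ ⟨v, hvc⟩ 1
    have h2 := ZassenhausSuzuki.apply_mul_central θ ⟨z', hzc⟩ 1
    rw [mul_one] at h1 h2
    simp only at h1 h2
    have hl : ZassenhausSuzuki.centralChar θ ⟨v, hvc⟩ = ZassenhausSuzuki.centralChar θ ⟨z', hzc⟩ := by
      rw [h1, h2] at hv
      exact mul_right_cancel₀ (Char.IsIrrCharacter.apply_one_ne_zero θ.2) hv
    refine hune ?_
    have h3 := ZassenhausSuzuki.apply_mul_central θ (⟨v, hvc⟩ * (⟨z', hzc⟩ : Subgroup.center K)⁻¹) 1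
    rw [mul_one, map_mul, hl, ← map_mul, mul_inv_cancel, map_one, one_mul] at h3
    rw [hval]
    exact h3
  have hfrob : ∀ k ∈ K, k ∉ ⁅K, K⁆ → ∀ x : M, x * k * x⁻¹ * k⁻¹ ∈ ⁅K, K⁆ → x ∈ K :=
    fun k hk hkN x hx => typeP_frob hP ⁅K, K⁆ (W₂_le_second hP) (Subgroup.commutator_le_self _) hk hkN
      (fun c hc => by simpa [commutatorElement_def] using Subgroup.commutator_mem_commutator hc hk) hx
  have hoddM : Odd (Nat.card M) := hG.1.of_dvd_nat (Subgroup.card_subgroup_dvd_card M)
  haveI : Group.IsSolvable M := hG.2.2.2 M hM.1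
  obtain ⟨hXeq, -, σX, hσX, hσXA⟩ := S1522.result K inferInstance (ftTau M) Rs hS hoddM hnil hlt hKtop
    hfrob Z hZ1 hZK' hZc fun χ hχ => by
      obtain ⟨⟨θ, hθ, hne, -, rfl⟩, hnot⟩ := hχ
      refine hirr ⟨θ, hθ⟩ ?_
      by_contra hcon
      push Not at hcon
      exact hnot ⟨θ, hθ, hne, fun a ha => hcon a ha, rfl⟩
  set X := inducedIrrAbove K ⊥ \ inducedIrrAbove K Z with hXdef
  have hkey : K.index * 2 < Nat.card Z := by
    obtain ⟨z, hz, hz1⟩ := (Subgroup.bot_or_exists_ne_one Z).resolve_left hZ1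
    have := two_mul_card_lt_relIndex (W₁ := W₁.subgroupOf M) (N := ⊥) (D := Z) hoddM hz
      (fun h => hz1 (Subgroup.mem_bot.1 h))
      fun w hw h => hfree z hz hz1 w hw (Subgroup.mem_bot.1 h)
    rw [hidx, Subgroup.relIndex_bot_left, ← hK] at this
    omega
  refine coherent_of_congr B hG hM hV hP hTI hS hZK hZc (fun θ hθ => ?_)
    fun σ hσ hσA η hη ψ hψ hσψ w hw => ?_
  · have hr : charDegree θ.1 ^ 2 ≤ Z.relIndex K := degree_sq_le_index θ (Z.subgroupOf K) fun x hx y => by
      rw [show x * y * x⁻¹ * y⁻¹ = 1 by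
        apply Subtype.ext
        simp only [Subgroup.coe_mul, Subgroup.coe_inv, Subgroup.coe_one]
        rw [hZc (x : M) hx (y : M) y.2]; group]
    have hka : Nat.card Z * Z.relIndex K = Nat.card K := by
      have := Subgroup.relIndex_mul_relIndex ⊥ Z K bot_le hZK'
      rwa [Subgroup.relIndex_bot_left, Subgroup.relIndex_bot_left] at this
    have hr' : charDegree θ.1 ≤ Z.relIndex K := le_trans (Nat.le_self_pow (by norm_num) _) hr
    have hpos := Char.charDegree_pos θ
    show 2 * (K.index * charDegree θ.1) + Z.relIndex K < Nat.card K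
    rw [← hka]
    have ha2 : 2 ≤ Z.relIndex K := by
      have h1 : Z.relIndex K ≠ 1 := fun h =>
        not_le_of_gt (lt_of_le_of_lt hZK hlt) (Subgroup.relIndex_eq_one.1 h)
      omega
    have hr'' : charDegree θ.1 < Z.relIndex K := by
      by_contra hcon
      push Not at hcon
      nlinarith [Nat.pow_le_pow_left hcon 2]
    have he : 0 < K.index := Nat.pos_of_ne_zero Subgroup.index_ne_zero_of_finite
    nlinarith [Nat.mul_le_mul_right (Z.relIndex K) (Nat.succ_le_of_lt hkey),
      Nat.mul_lt_mul_of_pos_left hr'' he]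
  · -- `σ η` is orthogonal to the images of the members outside `S(Z)`
    set Y := inducedIrrAbove K ⁅K, K⁆ with hYdef
    have hXS : X ⊆ inducedIrrAbove K ⊥ := Set.sdiff_subset
    have hYS : Y ⊆ inducedIrrAbove K ⊥ := inducedIrrAbove_subset_bot K _
    have hXY : Disjoint X Y := Set.disjoint_left.2 fun φ h1 h2 => h1.2 (inducedIrrAbove_mono K hZK h2)
    obtain ⟨χ₀, hχ₀⟩ : X.Nonempty := by
      obtain ⟨z, hz, hz1⟩ := (Subgroup.bot_or_exists_ne_one Z).resolve_left hZ1
      by_contra hcon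
      rw [Set.not_nonempty_iff_eq_empty] at hcon
      rw [hcon] at hXeq
      refine hz1 ?_
      by_contra hne
      have h := Char.sum_irr_degree_mul z
      rw [if_neg hne, Finset.sum_congr rfl fun χ _ => by
        rw [show χ.1 z = χ.1 1 by
          by_contra h'
          exact (Set.mem_empty_iff_false χ.1).1 (hXeq.symm ▸ ⟨χ.2, z, hz, h'⟩)]] at h
      simp only [← pow_two, Char.sum_irr_degree_sq] at h
      exact Nat.cast_ne_zero.2 Nat.card_pos.ne' h
    have hXirr : ∀ χ ∈ X, IsIrrCharacter M χ := fun χ hχ => (hXeq ▸ hχ).1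
    have hXc : conjFun χ₀ ∈ X := ⟨hS.conj_mem _ hχ₀.1, fun h => hχ₀.2 (by
      have := conj_mem_inducedIrrAbove K h
      rwa [conjFun_conjFun] at this)⟩
    have hzmono : ∀ {T : Set (M → ℂ)}, T ⊆ inducedIrrAbove K ⊥ → zspanOn T {1}ᶜ ⊆
        zspanOn (inducedIrrAbove K ⊥) {1}ᶜ := fun hT a ha => ⟨Submodule.span_mono hT ha.1, ha.2⟩
    have hsub := hzmono (Set.union_subset hXS hYS)
    obtain ⟨horth, -⟩ := S1531.result M (X ∪ Y) X Y
      (fun ξ hξ => hξ.elim (hXirr ξ) fun h => (linear_norm hG B hM hV hP h).1)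
      Set.subset_union_left Set.subset_union_right hXY
      ⟨χ₀, hχ₀, _, hXc, (hS.conj_ne _ hχ₀.1).symm⟩
      ⟨η, hη, _, conj_mem_inducedIrrAbove K hη, (hS.conj_ne _ (hYS hη)).symm⟩ (ftTau M)
      ⟨fun a ha b hb => hS.isometry.1 a (hsub ha) b (hsub hb),
        fun a ha n => hS.isometry.2.1 a (hsub ha) n,
        fun a ha b hb => hS.isometry.2.2.1 a (hsub ha) b (hsub hb),
        fun a ha => hS.isometry.2.2.2 a (hsub ha)⟩
      (fun a ha => hS.map_one a (hsub ha)) σX σ hσX hσXA hσ hσA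
    set s := σ η with hsdef
    have hs : IsGeneralizedCharacter G s := hσ.2.2.2 _ (Submodule.subset_span hη)
    set f : M → ℂ := fun x => s x with hf
    have hfg : IsGeneralizedCharacter M f := Char.IsGeneralizedCharacter.restrict hs M
    have hfc := Char.IsGeneralizedCharacter.isClassFunction hfg
    have hd : ∀ χ ∈ X, ∃ d : ℕ, 0 < d ∧ χ 1 = d := fun χ hχ => by
      obtain ⟨d, h0, h⟩ := Char.IsIrrCharacter.exists_degree (hXirr χ hχ)
      exact ⟨d, h0, h⟩
    obtain ⟨d₀, hd₀, hd₀v⟩ := hd χ₀ hχ₀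
    have hprop : ∀ χ : IrrCharacter M, (∃ z ∈ Z, χ.1 z ≠ χ.1 1) →
        classInner f χ.1 = classInner f χ₀ / (d₀ : ℂ) * χ.1 1 := by
      intro χ hχ
      have hχX : χ.1 ∈ X := hXeq.symm ▸ ⟨χ.2, hχ⟩
      obtain ⟨d, hd', hdv⟩ := hd _ hχX
      have hm0 : (d₀ : ℤ) • χ.1 - (d : ℤ) • χ₀ ∈ zspanOn X {1}ᶜ := by
        refine Char.mem_zspanOn_compl_one.2 ⟨Submodule.sub_mem _
          (Submodule.smul_mem _ _ (Submodule.subset_span hχX))
          (Submodule.smul_mem _ _ (Submodule.subset_span hχ₀)), ?_⟩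
        simp [hdv, hd₀v, mul_comm]
      have h := classInner_ftTau B hG hM hV hTI (hzmono hXS hm0)
        (Char.IsGeneralizedCharacter.isClassFunction hs)
      rw [← hσXA _ hm0, Char.iso_map_sub (E := Submodule.span ℤ X) hσX
          (Submodule.smul_mem _ _ (Submodule.subset_span hχX))
          (Submodule.smul_mem _ _ (Submodule.subset_span hχ₀)),
        hσX.2.1 _ (Submodule.subset_span hχX), hσX.2.1 _ (Submodule.subset_span hχ₀),
        Char.classInner_sub_left, Char.classInner_zsmul_left, Char.classInner_zsmul_left,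
        horth _ hχX η hη, horth _ hχ₀ η hη, Char.classInner_sub_left, Char.classInner_zsmul_left,
        Char.classInner_zsmul_left] at h
      simp only [mul_zero, sub_zero, Int.cast_natCast] at h
      have h' := congrArg conj h
      simp only [map_zero, map_sub, map_mul, Complex.conj_natCast, Char.conj_classInner] at h'
      rw [hdv, div_mul_eq_mul_div, eq_div_iff (Nat.cast_ne_zero.2 hd₀.ne')]
      linear_combination -h'
    have hconst : ∀ a ∈ Z.map M.subtype, ∀ b ∈ Z.map M.subtype, a ≠ 1 → b ≠ 1 → ψ a = ψ b := by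
      rintro _ ⟨a, ha, rfl⟩ _ ⟨b, hb, rfl⟩ ha1 hb1
      have h := const_on_of_coeff_propto hfc Z _ hprop ha hb (fun e => ha1 (by rw [e]; rfl))
        (fun e => hb1 (by rw [e]; rfl))
      simp only [hf] at h
      rcases hσψ with e | e <;> rw [e] at h
      · exact h
      · simpa using h
    refine congr_of_const hTI (derived_hall hG hM hP) ?_ ?_ hG.1 ?_ hψ hconst
      (Subgroup.mem_map_of_mem M.subtype hw)
    · rintro _ ⟨a, ha, rfl⟩
      exact (hmemK a).1 (hZK' ha)
    · rintro _ ⟨a, ha, rfl⟩ y hy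
      exact congrArg Subtype.val (hZc a ha ⟨y, M.commutator_le_self hy⟩ ((hmemK _).2 hy))
    · intro x hx z hz
      rw [normalizer_derived hG hM hP] at hx
      exact conj_mem_map_subtype Z hx hz

/-- Peterfalvi (10.10) when `M_F` is a TI-subset. -/
theorem coherent_of_ti (hp : (Nat.card W₂).Prime) :
    IsCoherent (inducedIrrAbove (commutator ↥M) ⊥) {1}ᶜ (ftTau M) :=
  (em _).elim (coherent_of_W₂_central B hG hM hV hP hTI hS)
    (coherent_of_W₂_not_central B hG hM hV hP hTI hS hp)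

end Cfsg.Agent.OddOrder.PF
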