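import Cfsg.Agent.Lib.OddOrder.Coherence
import Cfsg.Agent.Lib.Char.RealChar
import Cfsg.Agent.S0161
import Mathlib.Algebra.Order.Chebyshev

/-!
The character computation of Peterfalvi (11.8) and (11.9), in abstract form.

`τ` is a linear isometry on a space `Supp` of functions, `S₁` a coherent set of `n` characters of
degree `q` with images `E`, `μ` a grid of characters of `L` indexed by `ι × Option κ` (`none` is the
trivial column, `μ i₀ none = 1`) whose differences are sent to the differences of the grid `η`.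
For `ζ ∈ S₁` put `α i j = μ i j - μ i none - n ζ` and let `y` be the common coefficient of `τ (α i j)`
on the members of `S₁` other than `ζ`.

* `y ∈ {0, 1, 2}` (`exists_hasY`);
* if `y ≠ 1` then, after at most a change of sign of `E`, every `χ - a ζ` is sent to a function with
  coefficient `-a` at `E ζ` (`exists_standard`, `Bridge.pivot_irr`, `Bridge.pivot_col`);
* if `y = 1` then `|κ| < q` (`Bridge.card_lt_of_one`) and there is no large family of irreducible
  characters of one small odd multiple of the degree `q` (`Bridge.false_of_family`).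
-/

set_option autoImplicit false

namespace Cfsg.Agent.OddOrder.PF

open Cfsg Cfsg.Agent.OddOrder Cfsg.Agent.Char

universe u v w w'

section Parity

variable {X : Type u} [Group X] [Fintype X]

/-- Cauchy–Schwarz for integral inner products. -/
theorem sq_inner_le {f g : X → ℂ} {A B I : ℤ} (hf : classInner f f = A) (hg : classInner g g = B)
    (hfg : classInner f g = I) : I ^ 2 ≤ A * B := by
  have hgf : classInner g f = (I : ℂ) := by rw [← conj_classInner, hfg, map_intCast]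
  have hcomb : classInner ((A : ℂ) • g - (I : ℂ) • f) ((A : ℂ) • g - (I : ℂ) • f) =
      ((A * (A * B - I ^ 2) : ℤ) : ℂ) := by
    simp only [classInner_sub_left, classInner_sub_right, classInner_smul_left,
      classInner_smul_right, hf, hg, hfg, hgf, map_intCast]
    push_cast
    ring
  have h0 := zero_le_of_classInner_self hcomb
  rcases eq_or_lt_of_le (zero_le_of_classInner_self hf) with e | e
  · rw [← e, Int.cast_zero] at hf
    rw [classInner_self_eq_zero hf, classInner_zero_left] at hfg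
    have : I = 0 := by exact_mod_cast hfg.symm
    simp [this, ← e]
  · nlinarith

/-- In a group of odd order two real virtual characters have inner product congruent modulo two to
the product of their coefficients at the principal character. -/
theorem even_inner_sub_of_real (hodd : Odd (Nat.card X)) {f g : X → ℂ}
    (hf : IsGeneralizedCharacter X f) (hg : IsGeneralizedCharacter X g) (hfr : conjFun f = f)
    (hgr : conjFun g = g) {z a b : ℤ} (hz : classInner f g = z)
    (ha : classInner f (fun _ => 1) = a) (hb : classInner g (fun _ => 1) = b) :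
    Even (z - a * b) := by
  classical
  obtain ⟨m, hm, hmc⟩ := IsGeneralizedCharacter.exists_decomp hf
  obtain ⟨k, -, hkc⟩ := IsGeneralizedCharacter.exists_decomp hg
  have key : ∀ {h : X → ℂ} {c : IrrCharacter X → ℤ}, conjFun h = h →
      (∀ ψ, classInner h ψ.1 = c ψ) → ∀ ψ, c (conjIrr ψ) = c ψ := by
    intro h c hr hc ψ
    have e : classInner h (conjIrr ψ).1 = classInner h ψ.1 := by
      have h2 := classInner_conjFun h ψ.1
      rw [hr, hc, map_intCast] at h2
      rw [hc ψ]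
      exact h2
    rw [hc, hc] at e
    exact_mod_cast e
  have hzsum : z = ∑ ψ, m ψ * k ψ := by
    have h1 : classInner f g = ((∑ ψ, m ψ * k ψ : ℤ) : ℂ) := by
      rw [hm, classInner_sum_left]
      push_cast
      refine Finset.sum_congr rfl fun ψ _ => ?_
      rw [classInner_smul_left, ← conj_classInner g ψ.1, hkc, map_intCast]
    rw [hz] at h1
    exact_mod_cast h1
  set t : IrrCharacter X := ⟨fun _ => 1, isIrrCharacter_one⟩ with ht
  have hat : m t = a := by exact_mod_cast (hmc t).symm.trans ha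
  have hbt : k t = b := by exact_mod_cast (hkc t).symm.trans hb
  rw [hzsum, ← Finset.add_sum_erase _ _ (Finset.mem_univ t), hat, hbt, add_sub_cancel_left,
    even_iff_two_dvd]
  refine (ZMod.intCast_zmod_eq_zero_iff_dvd _ 2).1 ?_
  push_cast
  refine Finset.sum_involution (fun ψ _ => conjIrr ψ) (fun ψ _ => ?_) (fun ψ hψ _ hfix => ?_)
    (fun ψ hψ => ?_) fun ψ _ => conjIrr_conjIrr ψ
  · rw [key hfr hmc, key hgr hkc]
    exact CharTwo.add_self_eq_zero _
  · exact Finset.ne_of_mem_erase hψ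
      (Subtype.ext (Cfsg.Agent.S0161.result hodd ψ ((conjIrr_eq_self_iff ψ).mp hfix)))
  · refine Finset.mem_erase.2 ⟨fun h => Finset.ne_of_mem_erase hψ ?_, Finset.mem_univ _⟩
    rw [← conjIrr_conjIrr ψ, h]
    exact Subtype.ext (funext fun _ => map_one _)

end Parity

variable {L : Type u} [Group L] [Fintype L] {G : Type v} [Group G] [Fintype G]
  {ι : Type w} [Fintype ι] {κ : Type w'} [Fintype κ]

open Classical in
/-- The data of Peterfalvi (11.8). -/
structure Bridge (τ : (L → ℂ) →ₗ[ℂ] (G → ℂ)) (Supp : Submodule ℂ (L → ℂ)) (S₁ : Finset (L → ℂ))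
    (μ : ι → Option κ → L → ℂ) (η : ι → Option κ → G → ℂ) (i₀ : ι) (E : (L → ℂ) → G → ℂ)
    (q n : ℕ) : Prop where
  odd : Odd (Nat.card G)
  card_ι : Fintype.card ι = q
  three_le : 3 ≤ q
  two_le_κ : 2 ≤ Fintype.card κ
  card_S₁ : S₁.card = n
  n_even : Even n
  two_le_n : 2 ≤ n
  iso : ∀ α ∈ Supp, ∀ β ∈ Supp, classInner (τ α) (τ β) = classInner α β
  inner_one : ∀ α ∈ Supp, classInner (τ α) (fun _ => 1) = classInner α (fun _ => 1)
  map_conj : ∀ α ∈ Supp, τ (conjFun α) = conjFun (τ α)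
  conj_supp : ∀ α ∈ Supp, conjFun α ∈ Supp
  virtual : ∀ α ∈ Supp, IsGeneralizedCharacter L α → IsGeneralizedCharacter G (τ α)
  μ_gen : ∀ i j, IsGeneralizedCharacter L (μ i j)
  μ_orth : ∀ i j i' j', classInner (μ i j) (μ i' j') = if i = i' ∧ j = j' then 1 else 0
  μ_one : μ i₀ none = fun _ => 1
  μ_col_real : conjFun (∑ i, μ i none) = ∑ i, μ i none
  η_gen : ∀ i j, IsGeneralizedCharacter G (η i j)
  η_orth : ∀ i j i' j', classInner (η i j) (η i' j') = if i = i' ∧ j = j' then 1 else 0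
  η_one : η i₀ none = fun _ => 1
  row_conj : ∀ j, ∃ j', conjFun (μ i₀ (some j)) = μ i₀ (some j') ∧
    conjFun (η i₀ (some j)) = η i₀ (some j')
  S₁_gen : ∀ ζ ∈ S₁, IsGeneralizedCharacter L ζ
  S₁_orth : ∀ ζ ∈ S₁, ∀ ζ' ∈ S₁, classInner ζ ζ' = if ζ = ζ' then 1 else 0
  S₁_conj : ∀ ζ ∈ S₁, conjFun ζ ∈ S₁
  S₁_conj_ne : ∀ ζ ∈ S₁, conjFun ζ ≠ ζ
  S₁_μ : ∀ ζ ∈ S₁, ∀ i j, classInner ζ (μ i j) = 0
  E_gen : ∀ ζ ∈ S₁, IsGeneralizedCharacter G (E ζ)
  E_orth : ∀ ζ ∈ S₁, ∀ ζ' ∈ S₁, classInner (E ζ) (E ζ') = if ζ = ζ' then 1 else 0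
  E_η : ∀ ζ ∈ S₁, ∀ i j, classInner (E ζ) (η i j) = 0
  E_conj : ∀ ζ ∈ S₁, conjFun (E ζ) = E (conjFun ζ)
  E_sub : ∀ ζ ∈ S₁, ∀ ζ' ∈ S₁, τ (ζ - ζ') = E ζ - E ζ'
  supp_alpha : ∀ ζ ∈ S₁, ∀ i j, μ i (some j) - μ i none - (n : ℂ) • ζ ∈ Supp
  supp_beta : ∀ ζ ∈ S₁, (∑ i, μ i none) - ζ ∈ Supp
  supp_sub : ∀ ζ ∈ S₁, ∀ ζ' ∈ S₁, ζ - ζ' ∈ Supp
  tau_diff : ∀ i j i' j', τ ((μ i (some j) - μ i none) - (μ i' (some j') - μ i' none)) =
    (η i (some j) - η i none) - (η i' (some j') - η i' none)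

/-- The closing inequality of (11.9). -/
theorem family_arith {q m n M a y : ℤ} (hq : 3 ≤ q) (hm : 2 ≤ m) (hn : 0 < n)
    (hM : 3 * (n + 1) ≤ M) (hsmall : 3 * (m + 1) * a ^ 2 ≤ 2 * m * (n * q))
    (hgap : n * (2 * a * y - n * y ^ 2) ≤ a ^ 2 - 1)
    (hcs : (M * (q * m) * a) ^ 2 ≤ (M ^ 2 * (2 * a * y - n * y ^ 2) + M) *
      ((q * m) ^ 2 * n + q * m + m ^ 2 * q)) : False := by
  have hMp : 0 < M := by omega
  have hqm : 6 ≤ q * m := by nlinarith
  have h1 : q * m * M * a ^ 2 ≤ (M * (2 * a * y - n * y ^ 2) + 1) * (q * m * n + m + 1) :=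
    le_of_mul_le_mul_left (by linarith) (show (0 : ℤ) < M * (q * m) by positivity)
  have h2 : n * (q * m * M) ≤ M * (a ^ 2 - 1) * (m + 1) + n * (q * m * n + m + 1) := by
    nlinarith [mul_le_mul_of_nonneg_left h1 hn.le,
      mul_le_mul_of_nonneg_left hgap (show (0 : ℤ) ≤ M * (q * m * n) by positivity),
      mul_le_mul_of_nonneg_left hgap (show (0 : ℤ) ≤ M * (m + 1) by positivity)]
  have h3 : 3 * n * (q * m * n + m + 1) ≤ n * (q * m) * M := by
    have h5 : m + 1 ≤ q * m := by nlinarith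
    nlinarith [mul_le_mul_of_nonneg_left hM (show (0 : ℤ) ≤ n * (q * m) by positivity),
      mul_le_mul_of_nonneg_left h5 (show (0 : ℤ) ≤ 3 * n by positivity)]
  have h4 : 3 * M * (a ^ 2 - 1) * (m + 1) ≤ 2 * n * (q * m) * M - 3 * M * (m + 1) := by
    nlinarith [mul_le_mul_of_nonneg_left hsmall hMp.le]
  nlinarith [mul_pos hMp (show (0 : ℤ) < m + 1 by omega)]

namespace Bridge

variable {τ : (L → ℂ) →ₗ[ℂ] (G → ℂ)} {Supp : Submodule ℂ (L → ℂ)} {S₁ : Finset (L → ℂ)}
  {μ : ι → Option κ → L → ℂ} {η : ι → Option κ → G → ℂ} {i₀ : ι} {E : (L → ℂ) → G → ℂ} {q n : ℕ}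

/-- `α i j = μ i j - μ i none - n ζ`. -/
def alpha (μ : ι → Option κ → L → ℂ) (n : ℕ) (ζ : L → ℂ) (i : ι) (j : κ) : L → ℂ :=
  μ i (some j) - μ i none - (n : ℂ) • ζ

open Classical in
/-- `y` is the coefficient of `τ (α i j)` on the images of the members other than `ζ`. -/
def HasY (τ : (L → ℂ) →ₗ[ℂ] (G → ℂ)) (S₁ : Finset (L → ℂ)) (μ : ι → Option κ → L → ℂ)
    (E : (L → ℂ) → G → ℂ) (n : ℕ) (ζ : L → ℂ) (y : ℤ) : Prop :=
  ∀ i j, ∀ ζ' ∈ S₁, classInner (τ (alpha μ n ζ i j)) (E ζ') =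
    ((y - if ζ' = ζ then (n : ℤ) else 0 : ℤ) : ℂ)

variable (h : Bridge τ Supp S₁ μ η i₀ E q n)
include h

/-- The coefficients along `E` of the image of a supported function differ as in the source. -/
theorem coeff_E {f : L → ℂ} (hf : f ∈ Supp) {ζ ζ' : L → ℂ} (hζ : ζ ∈ S₁) (hζ' : ζ' ∈ S₁) :
    classInner (τ f) (E ζ') =
      classInner (τ f) (E ζ) + (classInner f ζ' - classInner f ζ) := by
  have e := h.iso f hf _ (h.supp_sub ζ' hζ' ζ hζ)
  rw [h.E_sub ζ' hζ' ζ hζ, classInner_sub_right, classInner_sub_right] at e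
  linear_combination e

/-- The norm of what is left after removing the components along `E` and `η`. -/
theorem residual {f : G → ℂ} {N : ℂ} (hN : classInner f f = N) (c : (L → ℂ) → ℤ)
    (hc : ∀ ζ ∈ S₁, classInner f (E ζ) = c ζ) (a : ι → Option κ → ℤ)
    (ha : ∀ i j, classInner f (η i j) = a i j) :
    classInner (f - ∑ ζ ∈ S₁, (c ζ : ℂ) • E ζ - ∑ i, ∑ j, (a i j : ℂ) • η i j)
        (f - ∑ ζ ∈ S₁, (c ζ : ℂ) • E ζ - ∑ i, ∑ j, (a i j : ℂ) • η i j) =
      N - ((∑ ζ ∈ S₁, c ζ ^ 2 + ∑ i, ∑ j, a i j ^ 2 : ℤ) : ℂ) := by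
  classical
  set P := ∑ ζ ∈ S₁, (c ζ : ℂ) • E ζ with hP
  set Q := ∑ i, ∑ j, (a i j : ℂ) • η i j with hQ
  have hPE : ∀ ζ ∈ S₁, classInner P (E ζ) = c ζ := fun ζ hζ => by
    rw [hP, classInner_sum_left, Finset.sum_eq_single_of_mem ζ hζ fun b hb hne => by
      rw [classInner_smul_left, h.E_orth b hb ζ hζ, if_neg hne, mul_zero],
      classInner_smul_left, h.E_orth ζ hζ ζ hζ, if_pos rfl, mul_one]
  have hQE : ∀ ζ ∈ S₁, classInner Q (E ζ) = 0 := fun ζ hζ => by
    rw [hQ, classInner_sum_left]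
    refine Finset.sum_eq_zero fun i _ => ?_
    rw [classInner_sum_left]
    refine Finset.sum_eq_zero fun j _ => ?_
    rw [classInner_smul_left, ← conj_classInner, h.E_η ζ hζ, map_zero, mul_zero]
  have hPη : ∀ i j, classInner P (η i j) = 0 := fun i j => by
    rw [hP, classInner_sum_left]
    exact Finset.sum_eq_zero fun b hb => by rw [classInner_smul_left, h.E_η b hb, mul_zero]
  have hQη : ∀ i j, classInner Q (η i j) = a i j := fun i j => by
    rw [hQ, classInner_sum_left, Finset.sum_eq_single_of_mem i (Finset.mem_univ _) fun b _ hne => by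
      rw [classInner_sum_left]
      exact Finset.sum_eq_zero fun c _ => by
        rw [classInner_smul_left, h.η_orth, if_neg fun e => hne e.1, mul_zero],
      classInner_sum_left, Finset.sum_eq_single_of_mem j (Finset.mem_univ _) fun b _ hne => by
        rw [classInner_smul_left, h.η_orth, if_neg fun e => hne e.2, mul_zero],
      classInner_smul_left, h.η_orth, if_pos ⟨rfl, rfl⟩, mul_one]
  have key : ∀ T : G → ℂ, (∀ ζ ∈ S₁, classInner T (E ζ) = c ζ) →
      classInner T P = ((∑ ζ ∈ S₁, c ζ ^ 2 : ℤ) : ℂ) := fun T hT => by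
    rw [hP, classInner_sum_right]
    push_cast
    exact Finset.sum_congr rfl fun ζ hζ => by
      rw [classInner_smul_right, hT ζ hζ, map_intCast]; ring
  have key' : ∀ T : G → ℂ, (∀ i j, classInner T (η i j) = a i j) →
      classInner T Q = ((∑ i, ∑ j, a i j ^ 2 : ℤ) : ℂ) := fun T hT => by
    rw [hQ, classInner_sum_right]
    push_cast
    refine Finset.sum_congr rfl fun i _ => ?_
    rw [classInner_sum_right]
    exact Finset.sum_congr rfl fun j _ => by
      rw [classInner_smul_right, hT i j, map_intCast]; ring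
  have hPQ : classInner P Q = 0 := by
    rw [hQ, classInner_sum_right]
    refine Finset.sum_eq_zero fun i _ => ?_
    rw [classInner_sum_right]
    exact Finset.sum_eq_zero fun j _ => by rw [classInner_smul_right, hPη, mul_zero]
  have hQP : classInner Q P = 0 := by rw [← conj_classInner, hPQ, map_zero]
  have hPf : classInner P f = ((∑ ζ ∈ S₁, c ζ ^ 2 : ℤ) : ℂ) := by
    rw [← conj_classInner, key f hc, map_intCast]
  have hQf : classInner Q f = ((∑ i, ∑ j, a i j ^ 2 : ℤ) : ℂ) := by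
    rw [← conj_classInner, key' f ha, map_intCast]
  simp only [classInner_sub_left, classInner_sub_right, hN, hPf, hQf, key f hc, key' f ha,
    key P hPE, key' Q hQη, hPQ, hQP]
  push_cast
  ring

/-- Bessel's inequality along `E` and `η`, with the case of equality. -/
theorem bessel {f : G → ℂ} {N : ℤ} (hN : classInner f f = N) (c : (L → ℂ) → ℤ)
    (hc : ∀ ζ ∈ S₁, classInner f (E ζ) = c ζ) (a : ι → Option κ → ℤ)
    (ha : ∀ i j, classInner f (η i j) = a i j) :
    (∑ ζ ∈ S₁, c ζ ^ 2 + ∑ i, ∑ j, a i j ^ 2 ≤ N) ∧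
      (∑ ζ ∈ S₁, c ζ ^ 2 + ∑ i, ∑ j, a i j ^ 2 = N →
        f = ∑ ζ ∈ S₁, (c ζ : ℂ) • E ζ + ∑ i, ∑ j, (a i j : ℂ) • η i j) := by
  have r := h.residual hN c hc a ha
  rw [← Int.cast_sub] at r
  refine ⟨by linarith [zero_le_of_classInner_self r], fun e => ?_⟩
  rw [e, sub_self, Int.cast_zero] at r
  have := classInner_self_eq_zero r
  rwa [sub_sub, sub_eq_zero] at this

theorem int_coeff {f : G → ℂ} (hf : IsGeneralizedCharacter G f) (i : ι) (j : Option κ) :
    ∃ z : ℤ, classInner f (η i j) = z :=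
  IsGeneralizedCharacter.exists_int_classInner hf (h.η_gen i j)

theorem one_le_sum_sq {ζ : L → ℂ} (hζ : ζ ∈ S₁) (x : ℤ) :
    1 ≤ ∑ ζ' ∈ S₁, (x - if ζ' = ζ then 1 else 0) ^ 2 := by
  by_cases hx : x = 0
  · refine le_trans ?_ (Finset.single_le_sum (fun b _ => sq_nonneg _) hζ)
    rw [hx, if_pos rfl]; norm_num
  · refine le_trans ?_ (Finset.single_le_sum (fun b _ => sq_nonneg _) (h.S₁_conj ζ hζ))
    rw [if_neg (h.S₁_conj_ne ζ hζ), sub_zero]
    have : 0 < x ^ 2 := by positivity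
    omega

theorem sum_linear {ζ : L → ℂ} (hζ : ζ ∈ S₁) (y z : ℤ) :
    ∑ ζ' ∈ S₁, (y - if ζ' = ζ then z else 0) ^ 2 = (n : ℤ) * y ^ 2 - 2 * y * z + z ^ 2 := by
  classical
  rw [← Finset.add_sum_erase _ _ hζ, if_pos rfl, Finset.sum_congr rfl (g := fun _ => y ^ 2)
    fun b hb => by rw [if_neg (Finset.ne_of_mem_erase hb), sub_zero], Finset.sum_const,
    Finset.card_erase_of_mem hζ, h.card_S₁, nsmul_eq_mul, Nat.cast_sub (le_trans (by norm_num) h.two_le_n)]
  push_cast
  ring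

theorem sum_mul {ζ : L → ℂ} (hζ : ζ ∈ S₁) (x y z w : ℤ) :
    ∑ ζ' ∈ S₁, (x - if ζ' = ζ then z else 0) * (y - if ζ' = ζ then w else 0) =
      (n : ℤ) * (x * y) - x * w - y * z + z * w := by
  classical
  rw [← Finset.add_sum_erase _ _ hζ, if_pos rfl, if_pos rfl, Finset.sum_congr rfl (g := fun _ => x * y)
    fun b hb => by rw [if_neg (Finset.ne_of_mem_erase hb), if_neg (Finset.ne_of_mem_erase hb)]; ring,
    Finset.sum_const, Finset.card_erase_of_mem hζ, h.card_S₁, nsmul_eq_mul,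
    Nat.cast_sub (le_trans (by norm_num) h.two_le_n)]
  push_cast
  ring

/-- The inner product of the parts orthogonal to `E`. -/
theorem orth_part {X Y : G → ℂ} {c d : (L → ℂ) → ℤ} (hX : ∀ b ∈ S₁, classInner X (E b) = c b)
    (hY : ∀ b ∈ S₁, classInner Y (E b) = d b) :
    classInner (X - ∑ b ∈ S₁, (c b : ℂ) • E b) (Y - ∑ b ∈ S₁, (d b : ℂ) • E b) =
      classInner X Y - ((∑ b ∈ S₁, c b * d b : ℤ) : ℂ) := by
  classical
  have key : ∀ (T : G → ℂ) (a a' : (L → ℂ) → ℤ), (∀ b ∈ S₁, classInner T (E b) = a b) →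
      classInner T (∑ b ∈ S₁, (a' b : ℂ) • E b) = ((∑ b ∈ S₁, a b * a' b : ℤ) : ℂ) := by
    intro T a a' hT
    rw [classInner_sum_right]
    push_cast
    exact Finset.sum_congr rfl fun b hb => by
      rw [classInner_smul_right, hT b hb, map_intCast]; ring
  have hcomb : ∀ b ∈ S₁, classInner (∑ b ∈ S₁, (c b : ℂ) • E b) (E b) = c b := by
    intro b hb
    rw [classInner_sum_left, Finset.sum_eq_single_of_mem b hb fun e he hne => by
      rw [classInner_smul_left, h.E_orth e he b hb, if_neg hne, mul_zero],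
      classInner_smul_left, h.E_orth b hb b hb, if_pos rfl, mul_one]
  rw [classInner_sub_left, classInner_sub_right, classInner_sub_right,
    ← conj_classInner Y (∑ b ∈ S₁, (c b : ℂ) • E b), key Y d c hY, key X c d hX, key _ c d hcomb,
    map_intCast, Finset.sum_congr rfl fun b _ => mul_comm (d b) (c b)]
  ring

/-! ### The functions `α` -/

theorem alpha_mem {ζ : L → ℂ} (hζ : ζ ∈ S₁) (i : ι) (j : κ) : alpha μ n ζ i j ∈ Supp :=
  h.supp_alpha ζ hζ i j

theorem alpha_gen {ζ : L → ℂ} (hζ : ζ ∈ S₁) (i : ι) (j : κ) :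
    IsGeneralizedCharacter L (alpha μ n ζ i j) := by
  rw [alpha, show (n : ℂ) = ((n : ℤ) : ℂ) by norm_num]
  exact IsGeneralizedCharacter.sub (IsGeneralizedCharacter.sub (h.μ_gen _ _) (h.μ_gen _ _))
    (IsGeneralizedCharacter.intCast_smul (h.S₁_gen ζ hζ) _)

theorem inner_μ_S₁ {ζ : L → ℂ} (hζ : ζ ∈ S₁) (i : ι) (j : Option κ) :
    classInner (μ i j) ζ = 0 := by rw [← conj_classInner, h.S₁_μ ζ hζ, map_zero]

open Classical in
theorem inner_alpha_S₁ {ζ ζ' : L → ℂ} (hζ : ζ ∈ S₁) (hζ' : ζ' ∈ S₁) (i : ι) (j : κ) :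
    classInner (alpha μ n ζ i j) ζ' = -(if ζ' = ζ then (n : ℂ) else 0) := by
  rw [alpha, classInner_sub_left, classInner_sub_left, h.inner_μ_S₁ hζ', h.inner_μ_S₁ hζ',
    classInner_smul_left, h.S₁_orth ζ hζ ζ' hζ']
  by_cases e : ζ' = ζ
  · subst e; simp
  · rw [if_neg e, if_neg (Ne.symm e)]; simp

theorem inner_alpha_self {ζ : L → ℂ} (hζ : ζ ∈ S₁) (i : ι) (j : κ) :
    classInner (alpha μ n ζ i j) (alpha μ n ζ i j) = ((2 + (n : ℤ) ^ 2 : ℤ) : ℂ) := by
  simp only [alpha, classInner_sub_left, classInner_sub_right, classInner_smul_left,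
    classInner_smul_right, h.μ_orth, h.inner_μ_S₁ hζ, h.S₁_μ ζ hζ, h.S₁_orth ζ hζ ζ hζ,
    Complex.conj_natCast]
  simp
  ring

theorem inner_alpha_one {ζ : L → ℂ} (hζ : ζ ∈ S₁) (j : κ) :
    classInner (alpha μ n ζ i₀ j) (fun _ => 1) = -1 := by
  rw [← h.μ_one, alpha, classInner_sub_left, classInner_sub_left, h.μ_orth, h.μ_orth,
    classInner_smul_left, h.S₁_μ ζ hζ]
  simp

theorem tau_alpha_sub (ζ : L → ℂ) (i i' : ι) (j j' : κ) :
    τ (alpha μ n ζ i j) - τ (alpha μ n ζ i' j') =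
      (η i (some j) - η i none) - (η i' (some j') - η i' none) := by
  rw [← map_sub, ← h.tau_diff]
  congr 1
  simp only [alpha]
  abel

/-- The coefficient `y` exists and is `0`, `1` or `2`. -/
theorem exists_hasY {ζ : L → ℂ} (hζ : ζ ∈ S₁) :
    ∃ y : ℤ, HasY τ S₁ μ E n ζ y ∧ (y = 0 ∨ y = 1 ∨ y = 2) := by
  classical
  obtain ⟨j₀⟩ : Nonempty κ := Fintype.card_pos_iff.1 (lt_of_lt_of_le (by norm_num) h.two_le_κ)
  have hg := h.virtual _ (h.alpha_mem hζ i₀ j₀) (h.alpha_gen hζ i₀ j₀)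
  obtain ⟨c, hc⟩ := IsGeneralizedCharacter.exists_int_classInner hg (h.E_gen ζ hζ)
  have hY : HasY τ S₁ μ E n ζ (c + n) := by
    intro i j ζ' hζ'
    have e : classInner (τ (alpha μ n ζ i j)) (E ζ') =
        classInner (τ (alpha μ n ζ i₀ j₀)) (E ζ') := by
      rw [← sub_eq_zero, ← classInner_sub_left, h.tau_alpha_sub, classInner_sub_left,
        classInner_sub_left, classInner_sub_left]
      have : ∀ k l, classInner (η k l) (E ζ') = 0 := fun k l => by
        rw [← conj_classInner, h.E_η ζ' hζ', map_zero]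
      simp only [this, sub_zero]
    rw [e, h.coeff_E (h.alpha_mem hζ i₀ j₀) hζ hζ', hc, h.inner_alpha_S₁ hζ hζ',
      h.inner_alpha_S₁ hζ hζ]
    push_cast
    simp only [apply_ite (fun t : ℤ => (t : ℂ)), Int.cast_natCast, Int.cast_zero, if_pos]
    split_ifs <;> ring
  refine ⟨c + n, hY, ?_⟩
  choose a ha using fun k l => h.int_coeff hg k l
  have hn := h.iso _ (h.alpha_mem hζ i₀ j₀) _ (h.alpha_mem hζ i₀ j₀)
  rw [h.inner_alpha_self hζ] at hn
  have hb := (h.bessel hn _ (hY i₀ j₀) a ha).1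
  rw [h.sum_linear hζ] at hb
  have hnn : 0 ≤ ∑ k, ∑ l, a k l ^ 2 :=
    Finset.sum_nonneg fun _ _ => Finset.sum_nonneg fun _ _ => sq_nonneg _
  set y : ℤ := c + n with hy
  have hn2 : (2 : ℤ) ≤ n := by exact_mod_cast h.two_le_n
  by_contra hcon
  push Not at hcon
  have h3 : 3 ≤ y * (y - 2) := by
    rcases lt_trichotomy y 0 with hlt | heq | hgt
    · nlinarith
    · omega
    · have h3y : 3 ≤ y := by omega
      nlinarith
  nlinarith [mul_le_mul_of_nonneg_left h3 (show (0 : ℤ) ≤ n by omega)]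

open Classical in
/-- For `y = 0` or `y = 2` the image of `α` is determined. -/
theorem tau_alpha_eq {ζ : L → ℂ} (hζ : ζ ∈ S₁) {y : ℤ} (hY : HasY τ S₁ μ E n ζ y)
    (hy : y = 0 ∨ y = 2) (i : ι) (j : κ) :
    τ (alpha μ n ζ i j) =
      η i (some j) - η i none +
        ∑ ζ' ∈ S₁, ((y - if ζ' = ζ then (n : ℤ) else 0 : ℤ) : ℂ) • E ζ' := by
  set c : (L → ℂ) → ℤ := fun ζ' => y - if ζ' = ζ then (n : ℤ) else 0 with hcdef
  set S : G → ℂ := ∑ ζ' ∈ S₁, (c ζ' : ℂ) • E ζ' with hS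
  set T : G → ℂ := τ (alpha μ n ζ i j) - (η i (some j) - η i none) - S with hT
  suffices T = 0 by
    rw [hT, sub_sub, sub_eq_zero] at this
    exact this
  have hTij : ∀ k l, τ (alpha μ n ζ k l) = T + (η k (some l) - η k none) + S := fun k l => by
    have := h.tau_alpha_sub ζ k i l j
    rw [hT, eq_add_of_sub_eq this]
    abel
  have hSE : ∀ ζ' ∈ S₁, classInner S (E ζ') = c ζ' := fun ζ' hζ' => by
    rw [hS, classInner_sum_left, Finset.sum_eq_single_of_mem ζ' hζ' fun b hb hne => by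
      rw [classInner_smul_left, h.E_orth b hb ζ' hζ', if_neg hne, mul_zero],
      classInner_smul_left, h.E_orth ζ' hζ' ζ' hζ', if_pos rfl, mul_one]
  have hSη : ∀ k l, classInner S (η k l) = 0 := fun k l => by
    rw [hS, classInner_sum_left]
    exact Finset.sum_eq_zero fun b hb => by rw [classInner_smul_left, h.E_η b hb, mul_zero]
  have hTE : ∀ ζ' ∈ S₁, classInner T (E ζ') = 0 := fun ζ' hζ' => by
    have h1 := hY i j ζ' hζ'
    have h2 : ∀ k l, classInner (η k l) (E ζ') = 0 := fun k l => by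
      rw [← conj_classInner, h.E_η ζ' hζ', map_zero]
    rw [hT, classInner_sub_left, classInner_sub_left, classInner_sub_left, h1, h2, h2, hSE ζ' hζ']
    simp [hcdef]
  have hTS : classInner T S = 0 := by
    rw [hS, classInner_sum_right]
    exact Finset.sum_eq_zero fun b hb => by rw [classInner_smul_right, hTE b hb, mul_zero]
  have hST : classInner S T = 0 := by rw [← conj_classInner, hTS, map_zero]
  have hSS : classInner S S = ((n : ℂ)) ^ 2 := by
    conv_lhs => arg 2; rw [hS]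
    rw [classInner_sum_right, Finset.sum_congr rfl (g := fun b => (((c b) ^ 2 : ℤ) : ℂ)) fun b hb => by
      rw [classInner_smul_right, hSE b hb, map_intCast]; push_cast; ring]
    rw [← Int.cast_sum, h.sum_linear hζ]
    rcases hy with rfl | rfl <;> push_cast <;> ring
  have hTgen : IsGeneralizedCharacter G T := by
    refine IsGeneralizedCharacter.sub (IsGeneralizedCharacter.sub
      (h.virtual _ (h.alpha_mem hζ i j) (h.alpha_gen hζ i j))
      (IsGeneralizedCharacter.sub (h.η_gen _ _) (h.η_gen _ _))) ?_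
    exact IsGeneralizedCharacter.sum _ fun b hb =>
      IsGeneralizedCharacter.intCast_smul (h.E_gen b hb) _
  choose t ht using fun k l => h.int_coeff hTgen k l
  obtain ⟨N, hN⟩ := IsGeneralizedCharacter.exists_int_classInner hTgen hTgen
  have hrel : ∀ k l, N + 2 * (t k (some l) - t k none) = 0 := fun k l => by
    have e := h.iso _ (h.alpha_mem hζ k l) _ (h.alpha_mem hζ k l)
    rw [h.inner_alpha_self hζ, hTij k l] at e
    have e1 : ∀ o, classInner (η k o) T = t k o := fun o => by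
      rw [← conj_classInner, ht, map_intCast]
    have e2 : ∀ o, classInner (η k o) S = 0 := fun o => by rw [← conj_classInner, hSη, map_zero]
    simp only [classInner_add_left, classInner_add_right, classInner_sub_left, classInner_sub_right,
      hN, hTS, hST, hSS, hSη, ht, e1, e2, h.η_orth] at e
    simp at e
    have e' : ((N + 2 * (t k (some l) - t k none) : ℤ) : ℂ) = 0 := by
      push_cast
      linear_combination e
    exact_mod_cast e'
  obtain ⟨j₀⟩ : Nonempty κ := ⟨j⟩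
  have ht0 : t i₀ none = 0 := by
    have e := h.inner_one _ (h.alpha_mem hζ i₀ j)
    rw [h.inner_alpha_one hζ, ← h.η_one, hTij i₀ j] at e
    simp only [classInner_add_left, classInner_sub_left, hSη, ht, h.η_orth] at e
    simp at e
    exact_mod_cast e
  have hsum : ∑ k, ∑ l, t k l ^ 2 ≤ N := by
    have := (h.bessel hN (fun _ => 0) (fun ζ' hζ' => by rw [hTE ζ' hζ']; simp) t ht).1
    simpa using this
  have hm : (2 : ℤ) ≤ Fintype.card κ := by exact_mod_cast h.two_le_κ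
  have hrow : ∀ k, t k none ^ 2 + (Fintype.card κ : ℤ) * (t k none - N / 2) ^ 2 = ∑ l, t k l ^ 2 := by
    intro k
    rw [Fintype.sum_option, Finset.sum_congr rfl (g := fun _ => (t k none - N / 2) ^ 2) fun l _ => by
      have := hrel k l
      rw [show t k (some l) = t k none - N / 2 by omega], Finset.sum_const, Finset.card_univ,
      nsmul_eq_mul]
  obtain ⟨hh, hhN⟩ : ∃ hh : ℤ, N = 2 * hh := ⟨-(t i₀ (some j₀) - t i₀ none), by
    have := hrel i₀ j₀; omega⟩
  have hN2 : N / 2 = hh := by omega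
  have h0 : hh = 0 := by
    by_contra hne
    obtain ⟨k, hk⟩ := Fintype.exists_ne_of_one_lt_card
      (show 1 < Fintype.card ι by rw [h.card_ι]; exact lt_of_lt_of_le (by norm_num) h.three_le) i₀
    have h2 : (∑ l, t i₀ l ^ 2) + ∑ l, t k l ^ 2 ≤ N := by
      refine le_trans ?_ hsum
      rw [← Finset.sum_pair (f := fun b => ∑ l, t b l ^ 2) hk.symm]
      exact Finset.sum_le_univ_sum_of_nonneg fun b => Finset.sum_nonneg fun _ _ => sq_nonneg _
    rw [← hrow, ← hrow, hN2, ht0] at h2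
    have hN0 : 0 ≤ N := zero_le_of_classInner_self hN
    have h1 : 1 ≤ hh := by omega
    have h3 : 1 ≤ t k none ^ 2 + (Fintype.card κ : ℤ) * (t k none - hh) ^ 2 := by
      by_cases e : t k none = 0
      · rw [e]; nlinarith
      · nlinarith [sq_pos_of_ne_zero e]
    nlinarith
  have : N = 0 := by omega
  rw [this, Int.cast_zero] at hN
  exact classInner_self_eq_zero hN

/-! ### The function `β = τ (μ_0 - ζ)` -/

theorem beta_gen {ζ : L → ℂ} (hζ : ζ ∈ S₁) :
    IsGeneralizedCharacter L ((∑ i, μ i none) - ζ) :=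
  IsGeneralizedCharacter.sub (IsGeneralizedCharacter.sum _ fun i _ => h.μ_gen i none) (h.S₁_gen ζ hζ)

open Classical in
theorem inner_beta_S₁ {ζ ζ' : L → ℂ} (hζ : ζ ∈ S₁) (hζ' : ζ' ∈ S₁) :
    classInner ((∑ i, μ i none) - ζ) ζ' = -(if ζ' = ζ then (1 : ℂ) else 0) := by
  rw [classInner_sub_left, classInner_sum_left, Finset.sum_eq_zero fun i _ => h.inner_μ_S₁ hζ' i none,
    h.S₁_orth ζ hζ ζ' hζ', zero_sub]
  by_cases e : ζ' = ζ
  · subst e; rfl
  · rw [if_neg e, if_neg (Ne.symm e)]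

theorem inner_col_col : classInner (∑ i, μ i none) (∑ i, μ i none) = (q : ℂ) := by
  classical
  simp only [classInner_sum_left, classInner_sum_right, h.μ_orth, and_true]
  simp [h.card_ι]

theorem inner_beta_self {ζ : L → ℂ} (hζ : ζ ∈ S₁) :
    classInner ((∑ i, μ i none) - ζ) ((∑ i, μ i none) - ζ) = (((q : ℤ) + 1 : ℤ) : ℂ) := by
  have e1 : classInner (∑ i, μ i none) ζ = 0 := by
    rw [classInner_sum_left]; exact Finset.sum_eq_zero fun i _ => h.inner_μ_S₁ hζ i none
  have e2 : classInner ζ (∑ i, μ i none) = 0 := by rw [← conj_classInner, e1, map_zero]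
  simp only [classInner_sub_left, classInner_sub_right, h.inner_col_col, e1, e2,
    h.S₁_orth ζ hζ ζ hζ]
  simp

theorem inner_beta_one {ζ : L → ℂ} (hζ : ζ ∈ S₁) :
    classInner (τ ((∑ i, μ i none) - ζ)) (fun _ => 1) = 1 := by
  classical
  rw [h.inner_one _ (h.supp_beta ζ hζ), ← h.μ_one, classInner_sub_left, classInner_sum_left,
    h.S₁_μ ζ hζ, sub_zero, Finset.sum_eq_single_of_mem i₀ (Finset.mem_univ _) fun b _ hne => by
      rw [h.μ_orth, if_neg fun e => hne e.1], h.μ_orth, if_pos ⟨rfl, rfl⟩]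

theorem inner_alpha_beta {ζ : L → ℂ} (hζ : ζ ∈ S₁) (i : ι) (j : κ) :
    classInner (alpha μ n ζ i j) ((∑ k, μ k none) - ζ) = (((n : ℤ) - 1 : ℤ) : ℂ) := by
  classical
  rw [classInner_sub_right, h.inner_alpha_S₁ hζ hζ, if_pos rfl, alpha, classInner_sub_left,
    classInner_sub_left, classInner_sum_right, classInner_sum_right, classInner_smul_left,
    classInner_sum_right, Finset.sum_eq_zero (f := fun k => classInner ζ (μ k none))
      fun k _ => h.S₁_μ ζ hζ k none]
  simp [h.μ_orth]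
  ring

open Classical in
/-- The coefficients of `β`. -/
theorem exists_beta_coeff {ζ : L → ℂ} (hζ : ζ ∈ S₁) :
    ∃ (x : ℤ) (a : ι → Option κ → ℤ),
      (∀ ζ' ∈ S₁, classInner (τ ((∑ i, μ i none) - ζ)) (E ζ') =
        ((x - if ζ' = ζ then 1 else 0 : ℤ) : ℂ)) ∧
      (∀ i j, classInner (τ ((∑ i, μ i none) - ζ)) (η i j) = a i j) ∧
      a i₀ none = 1 ∧ ∑ i, ∑ j, a i j ^ 2 ≤ q := by
  have hg := h.virtual _ (h.supp_beta ζ hζ) (h.beta_gen hζ)
  obtain ⟨c, hc⟩ := IsGeneralizedCharacter.exists_int_classInner hg (h.E_gen ζ hζ)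
  choose a ha using fun i j => h.int_coeff hg i j
  have hx : ∀ ζ' ∈ S₁, classInner (τ ((∑ i, μ i none) - ζ)) (E ζ') =
      ((c + 1 - if ζ' = ζ then 1 else 0 : ℤ) : ℂ) := fun ζ' hζ' => by
    rw [h.coeff_E (h.supp_beta ζ hζ) hζ hζ', hc, h.inner_beta_S₁ hζ hζ', h.inner_beta_S₁ hζ hζ,
      if_pos (rfl : ζ = ζ)]
    split_ifs <;> push_cast <;> ring
  refine ⟨c + 1, a, hx, ha, ?_, ?_⟩
  · have := ha i₀ none
    rw [h.η_one, h.inner_beta_one hζ] at this
    exact_mod_cast this.symm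
  · have hn := h.iso _ (h.supp_beta ζ hζ) _ (h.supp_beta ζ hζ)
    rw [h.inner_beta_self hζ] at hn
    have := (h.bessel hn _ hx a ha).1
    linarith [h.one_le_sum_sq hζ (c + 1)]

open Classical in
/-- For `y = 0` or `y = 2` the column differences of the coefficients of `β` are constant. -/
theorem beta_step {ζ : L → ℂ} (hζ : ζ ∈ S₁) {y : ℤ} (hY : HasY τ S₁ μ E n ζ y)
    (hy : y = 0 ∨ y = 2) {x : ℤ} {a : ι → Option κ → ℤ}
    (hx : ∀ ζ' ∈ S₁, classInner (τ ((∑ i, μ i none) - ζ)) (E ζ') =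
      ((x - if ζ' = ζ then 1 else 0 : ℤ) : ℂ))
    (ha : ∀ i j, classInner (τ ((∑ i, μ i none) - ζ)) (η i j) = a i j) (i : ι) (j : κ) :
    a i (some j) - a i none + 1 = (n : ℤ) * x + y - n * (x * y) := by
  have e := h.iso _ (h.supp_beta ζ hζ) _ (h.alpha_mem hζ i j)
  rw [← conj_classInner (alpha μ n ζ i j), h.inner_alpha_beta hζ, map_intCast,
    h.tau_alpha_eq hζ hY hy i j, classInner_add_right, classInner_sub_right, ha, ha,
    classInner_sum_right,
    Finset.sum_congr rfl (g := fun b => ((((x - if b = ζ then 1 else 0) *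
      (y - if b = ζ then (n : ℤ) else 0)) : ℤ) : ℂ)) fun b hb => by
      rw [classInner_smul_right, hx b hb, map_intCast]; push_cast; ring,
    ← Int.cast_sum, h.sum_mul hζ] at e
  have e' : a i (some j) - a i none + ((n : ℤ) * (x * y) - x * n - y * 1 + 1 * n) = n - 1 := by
    exact_mod_cast e
  linarith

open Classical in
/-- The only possibilities are `y = 0, x = 0` and `y = 2, n = 2`. -/
theorem x_eq {ζ : L → ℂ} (hζ : ζ ∈ S₁) {y : ℤ} (hY : HasY τ S₁ μ E n ζ y)
    (hy : y = 0 ∨ y = 2) {x : ℤ} {a : ι → Option κ → ℤ}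
    (hx : ∀ ζ' ∈ S₁, classInner (τ ((∑ i, μ i none) - ζ)) (E ζ') =
      ((x - if ζ' = ζ then 1 else 0 : ℤ) : ℂ))
    (ha : ∀ i j, classInner (τ ((∑ i, μ i none) - ζ)) (η i j) = a i j)
    (ha0 : a i₀ none = 1) (hsum : ∑ i, ∑ j, a i j ^ 2 ≤ q) :
    (y = 0 ∧ x = 0) ∨ (y = 2 ∧ n = 2) := by
  set v : ℤ := (n : ℤ) * x + y - n * (x * y) with hv
  have hv2 : |v| ≤ 1 := by
    by_contra hcon
    push Not at hcon
    have hs : ∀ i j, a i (some j) = a i none + (v - 1) := fun i j => by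
      have := h.beta_step hζ hY hy hx ha i j
      omega
    have hv1 : v - 1 ≠ 0 := by
      intro e
      rw [show v = 1 by omega] at hcon
      norm_num at hcon
    have hrows : ∀ i, 1 ≤ ∑ j, a i j ^ 2 := fun i => by
      rw [Fintype.sum_option]
      by_cases e : a i none = 0
      · obtain ⟨j⟩ : Nonempty κ := Fintype.card_pos_iff.1 (lt_of_lt_of_le (by norm_num) h.two_le_κ)
        refine le_trans ?_ (le_add_of_nonneg_left (sq_nonneg _))
        refine le_trans ?_ (Finset.single_le_sum (fun b _ => sq_nonneg _) (Finset.mem_univ j))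
        rw [hs, e, zero_add]
        have : 0 < (v - 1) ^ 2 := by positivity
        omega
      · refine le_trans ?_ (le_add_of_nonneg_right (Finset.sum_nonneg fun _ _ => sq_nonneg _))
        have : 0 < a i none ^ 2 := by positivity
        omega
    rw [← Finset.add_sum_erase _ _ (Finset.mem_univ i₀)] at hsum
    have h1 : (q : ℤ) - 1 ≤ ∑ i ∈ Finset.univ.erase i₀, ∑ j, a i j ^ 2 := by
      refine le_trans ?_ (Finset.card_nsmul_le_sum _ _ 1 fun i _ => hrows i)
      rw [Finset.card_erase_of_mem (Finset.mem_univ _), Finset.card_univ, h.card_ι, nsmul_eq_mul,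
        mul_one, Nat.cast_sub (le_trans (by norm_num) h.three_le)]
      norm_num
    rw [Fintype.sum_option, ha0, Finset.sum_congr rfl (g := fun _ => v ^ 2) fun j _ => by
      rw [hs, ha0]; ring, Finset.sum_const, Finset.card_univ, nsmul_eq_mul] at hsum
    have hv4 : 4 ≤ v ^ 2 := by nlinarith [sq_abs v, abs_nonneg v]
    have hm : (2 : ℤ) ≤ Fintype.card κ := by exact_mod_cast h.two_le_κ
    nlinarith
  obtain ⟨k, hk⟩ := h.n_even
  have hn2 : (2 : ℤ) ≤ n := by exact_mod_cast h.two_le_n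
  have hnk : (n : ℤ) = 2 * k := by omega
  obtain ⟨hl, hr⟩ := abs_le.1 hv2
  rcases hy with rfl | rfl
  · refine Or.inl ⟨rfl, ?_⟩
    rw [hv, mul_zero, mul_zero, sub_zero, add_zero] at hl hr
    rcases lt_trichotomy x 0 with hlt | heq | hgt
    · nlinarith
    · exact heq
    · nlinarith
  · refine Or.inr ⟨rfl, ?_⟩
    rw [hv] at hl hr
    rcases le_or_gt x 0 with hle | hgt
    · nlinarith
    · rcases eq_or_lt_of_le (show 1 ≤ x by omega) with e | e
      · subst e
        omega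
      · nlinarith

/-- For `n = 2` the images may be exchanged and negated. -/
theorem swap (hn : n = 2) : Bridge τ Supp S₁ μ η i₀ (fun ζ => -E (conjFun ζ)) q n where
  __ := h
  E_gen ζ hζ := IsGeneralizedCharacter.neg (h.E_gen _ (h.S₁_conj ζ hζ))
  E_orth ζ hζ ζ' hζ' := by
    rw [classInner_neg_left, classInner_neg_right, neg_neg,
      h.E_orth _ (h.S₁_conj ζ hζ) _ (h.S₁_conj ζ' hζ')]
    by_cases e : ζ = ζ'
    · rw [if_pos e, if_pos (by rw [e])]
    · rw [if_neg e, if_neg fun e' => e (by rw [← conjFun_conjFun ζ, e', conjFun_conjFun])]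
  E_η ζ hζ i j := by rw [classInner_neg_left, h.E_η _ (h.S₁_conj ζ hζ), neg_zero]
  E_conj ζ hζ := by
    rw [← h.E_conj _ (h.S₁_conj ζ hζ)]
    funext g
    simp [conjFun]
  E_sub ζ hζ ζ' hζ' := by
    classical
    rw [h.E_sub ζ hζ ζ' hζ']
    by_cases e : ζ' = ζ
    · subst e; simp
    · have hs : {ζ, conjFun ζ} = S₁ := by
        refine Finset.eq_of_subset_of_card_le (by
          simp [Finset.insert_subset_iff, hζ, h.S₁_conj ζ hζ]) ?_
        rw [h.card_S₁, hn, Finset.card_pair (h.S₁_conj_ne ζ hζ).symm]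
      obtain rfl : ζ' = conjFun ζ := by
        have : ζ' ∈ ({ζ, conjFun ζ} : Finset (L → ℂ)) := hs ▸ hζ'
        simpa [e] using this
      rw [conjFun_conjFun]
      abel

/-- If `y ≠ 1`, some choice of the images makes `y = 0`. -/
theorem exists_standard {ζ : L → ℂ} (hζ : ζ ∈ S₁) {y : ℤ} (hY : HasY τ S₁ μ E n ζ y)
    (hy : y = 0 ∨ y = 2) :
    ∃ E' : (L → ℂ) → G → ℂ, Bridge τ Supp S₁ μ η i₀ E' q n ∧ HasY τ S₁ μ E' n ζ 0 := by
  classical
  obtain ⟨x, a, hx, ha, ha0, hsum⟩ := h.exists_beta_coeff hζ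
  rcases h.x_eq hζ hY hy hx ha ha0 hsum with ⟨rfl, -⟩ | ⟨rfl, hn⟩
  · exact ⟨E, h, hY⟩
  · refine ⟨_, h.swap hn, fun i j ζ' hζ' => ?_⟩
    rw [classInner_neg_right, hY i j _ (h.S₁_conj ζ' hζ'), ← Int.cast_neg]
    congr 1
    by_cases e : ζ' = ζ
    · subst e
      rw [if_neg (h.S₁_conj_ne _ hζ'), if_pos rfl, hn]; norm_num
    · have hs : {ζ, conjFun ζ} = S₁ := by
        refine Finset.eq_of_subset_of_card_le (by
          simp [Finset.insert_subset_iff, hζ, h.S₁_conj ζ hζ]) ?_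
        rw [h.card_S₁, hn, Finset.card_pair (h.S₁_conj_ne ζ hζ).symm]
      have : ζ' ∈ ({ζ, conjFun ζ} : Finset (L → ℂ)) := hs ▸ hζ'
      obtain rfl : ζ' = conjFun ζ := by simpa [e] using this
      rw [conjFun_conjFun, if_pos rfl, if_neg e, hn]; norm_num

open Classical in
/-- The standard bridge: `τ (μ_0 - ζ) = ∑ i η i none - E ζ`. -/
theorem tau_beta_eq {ζ : L → ℂ} (hζ : ζ ∈ S₁) (hY : HasY τ S₁ μ E n ζ 0) :
    τ ((∑ i, μ i none) - ζ) = (∑ i, η i none) - E ζ := by
  obtain ⟨x, a, hx, ha, ha0, hsum⟩ := h.exists_beta_coeff hζ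
  obtain ⟨-, rfl⟩ : (0 : ℤ) = 0 ∧ x = 0 :=
    (h.x_eq hζ hY (Or.inl rfl) hx ha ha0 hsum).resolve_right fun e => absurd e.1 (by norm_num)
  have hs : ∀ i j, a i (some j) = a i none - 1 := fun i j => by
    have := h.beta_step hζ hY (Or.inl rfl) hx ha i j
    simp at this
    omega
  have hm : (2 : ℤ) ≤ Fintype.card κ := by exact_mod_cast h.two_le_κ
  have hrow : ∀ i, ∑ j, a i j ^ 2 = a i none ^ 2 + (Fintype.card κ : ℤ) * (a i none - 1) ^ 2 := by
    intro i
    rw [Fintype.sum_option, Finset.sum_congr rfl (g := fun _ => (a i none - 1) ^ 2) fun j _ => by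
      rw [hs], Finset.sum_const, Finset.card_univ, nsmul_eq_mul]
  have hge : ∀ i, 1 ≤ ∑ j, a i j ^ 2 := fun i => by
    rw [hrow]
    by_cases e : a i none = 0
    · rw [e]; nlinarith
    · nlinarith [sq_pos_of_ne_zero e]
  have hone : ∀ i, a i none = 1 := by
    intro i
    have h1 : ∑ j, a i j ^ 2 ≤ 1 := by
      have h2 := Finset.add_sum_erase Finset.univ (fun i => ∑ j, a i j ^ 2) (Finset.mem_univ i)
      have h3 := Finset.card_nsmul_le_sum (Finset.univ.erase i) (fun i => ∑ j, a i j ^ 2) 1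
        fun b _ => hge b
      rw [Finset.card_erase_of_mem (Finset.mem_univ _), Finset.card_univ, h.card_ι, nsmul_eq_mul,
        mul_one, Nat.cast_sub (le_trans (by norm_num) h.three_le)] at h3
      push_cast at h3
      linarith
    rw [hrow] at h1
    by_contra e
    nlinarith [sq_pos_of_ne_zero (sub_ne_zero.2 e)]
  have hn := h.iso _ (h.supp_beta ζ hζ) _ (h.supp_beta ζ hζ)
  rw [h.inner_beta_self hζ] at hn
  have he := (h.bessel hn _ hx a ha).2
  rw [h.sum_linear hζ, Finset.sum_congr rfl fun i _ => hrow i,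
    Finset.sum_congr rfl (g := fun _ => (1 : ℤ)) fun i _ => by rw [hone]; ring,
    Finset.sum_const, Finset.card_univ, h.card_ι] at he
  rw [he (by simp; ring), Finset.sum_eq_single_of_mem ζ hζ fun b _ hne => by simp [hne],
    Finset.sum_congr rfl (g := fun i => η i none) fun i _ => by
      rw [Fintype.sum_option, Finset.sum_eq_zero fun j _ => by rw [hs, hone]; simp, hone]
      simp]
  simp
  abel

open Classical in
/-- Every irreducible `χ` of degree `a q` with `a ≤ n q + 1` is sent to one with coefficient `-a`. -/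
theorem pivot_irr {ζ : L → ℂ} (hζ : ζ ∈ S₁) (hY : HasY τ S₁ μ E n ζ 0) {χ : L → ℂ}
    (hχ : IsIrrCharacter L χ) (hχμ : ∀ i j, classInner χ (μ i j) = 0)
    (hχS : ∀ ζ' ∈ S₁, classInner χ ζ' = 0) {a : ℕ} (ha : a ≤ q * n + 1)
    (hsupp : χ - (a : ℂ) • ζ ∈ Supp) :
    classInner (τ (χ - (a : ℂ) • ζ)) (E ζ) = -(a : ℂ) := by
  set f : L → ℂ := χ - (a : ℂ) • ζ with hf
  have hfgen : IsGeneralizedCharacter L f := by
    rw [hf, show (a : ℂ) = ((a : ℤ) : ℂ) by norm_num]
    exact IsGeneralizedCharacter.sub (irr_isGeneralized ⟨χ, hχ⟩)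
      (IsGeneralizedCharacter.intCast_smul (h.S₁_gen ζ hζ) _)
  have hg := h.virtual f hsupp hfgen
  obtain ⟨z, hz⟩ := IsGeneralizedCharacter.exists_int_classInner hg (h.E_gen ζ hζ)
  choose c hc using fun i j => h.int_coeff hg i j
  set y : ℤ := z + a with hy
  have hfS : ∀ ζ' ∈ S₁, classInner f ζ' = -(if ζ' = ζ then (a : ℂ) else 0) := fun ζ' hζ' => by
    rw [hf, classInner_sub_left, hχS ζ' hζ', classInner_smul_left, h.S₁_orth ζ hζ ζ' hζ']
    by_cases e : ζ' = ζ
    · subst e; simp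
    · rw [if_neg e, if_neg (Ne.symm e)]; simp
  have hfμ : ∀ i j, classInner f (μ i j) = 0 := fun i j => by
    rw [hf, classInner_sub_left, hχμ, classInner_smul_left, h.S₁_μ ζ hζ, mul_zero, sub_zero]
  have hcE : ∀ ζ' ∈ S₁, classInner (τ f) (E ζ') = ((y - if ζ' = ζ then (a : ℤ) else 0 : ℤ) : ℂ) := by
    intro ζ' hζ'
    rw [h.coeff_E hsupp hζ hζ', hz, hfS ζ' hζ', hfS ζ hζ, if_pos rfl, hy]
    split_ifs <;> push_cast <;> ring
  have hc0 : c i₀ none = 0 := by
    have := hc i₀ none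
    rw [h.η_one, h.inner_one f hsupp, ← h.μ_one, hfμ] at this
    exact_mod_cast this.symm
  have hR : ∑ i, c i none = y := by
    have e := h.iso f hsupp _ (h.supp_beta ζ hζ)
    rw [h.tau_beta_eq hζ hY, classInner_sub_right, classInner_sum_right, classInner_sub_right,
      classInner_sum_right, Finset.sum_eq_zero fun i _ => hfμ i none, hfS ζ hζ,
      Finset.sum_congr rfl fun i _ => hc i none, hz, if_pos rfl, ← Int.cast_sum] at e
    have : (((∑ i, c i none) - z : ℤ) : ℂ) = ((a : ℤ) : ℂ) := by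
      push_cast at e ⊢
      linear_combination e
    have := Int.cast_inj.1 this
    omega
  have hdiff : ∀ i j, c i (some j) = c i none + n * y := fun i j => by
    have e := h.iso f hsupp _ (h.alpha_mem hζ i j)
    rw [h.tau_alpha_eq hζ hY (Or.inl rfl) i j,
      Finset.sum_eq_single_of_mem ζ hζ fun b _ hne => by simp [hne]] at e
    simp only [alpha, classInner_add_right, classInner_sub_right, classInner_smul_right, hc, hfμ,
      hcE ζ hζ, hfS ζ hζ, map_intCast, Complex.conj_natCast] at e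
    simp at e
    have e' : ((c i (some j) - c i none - n * y : ℤ) : ℂ) = 0 := by
      push_cast
      linear_combination e
    have := Int.cast_inj.1 (e'.trans Int.cast_zero.symm)
    omega
  have hnorm : classInner (τ f) (τ f) = (((a : ℤ) ^ 2 + 1 : ℤ) : ℂ) := by
    have e2 : classInner ζ χ = 0 := by rw [← conj_classInner, hχS ζ hζ, map_zero]
    rw [h.iso f hsupp f hsupp, hf]
    simp only [classInner_sub_left, classInner_sub_right, classInner_smul_left,
      classInner_smul_right, classInner_irr_self hχ, hχS ζ hζ, e2, h.S₁_orth ζ hζ ζ hζ]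
    simp
    ring
  have hb := (h.bessel hnorm _ hcE c hc).1
  rw [h.sum_linear hζ] at hb
  suffices y = 0 by
    rw [hz, show z = -(a : ℤ) by omega]; simp
  by_contra hne
  have hcol : ∀ j, (((q * n + 1 : ℕ) : ℤ) * y) ^ 2 ≤ (q : ℤ) * ∑ i, c i (some j) ^ 2 := by
    intro j
    have h1 := sq_sum_le_card_mul_sum_sq (s := (Finset.univ : Finset ι)) (f := fun i => c i (some j))
    rw [Finset.card_univ, h.card_ι] at h1
    refine le_of_eq_of_le ?_ h1
    rw [Finset.sum_congr rfl fun i _ => hdiff i j, Finset.sum_add_distrib, hR, Finset.sum_const,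
      Finset.card_univ, h.card_ι, nsmul_eq_mul]
    push_cast
    ring
  have hall : (Fintype.card κ : ℤ) * (((q * n + 1 : ℕ) : ℤ) * y) ^ 2 ≤
      (q : ℤ) * ∑ i, ∑ j, c i j ^ 2 := by
    refine le_trans ?_ (mul_le_mul_of_nonneg_left (Finset.sum_le_sum fun i _ => ?_)
      (Int.natCast_nonneg _) : (q : ℤ) * ∑ i, ∑ j, c i (some j) ^ 2 ≤ _)
    · rw [Finset.sum_comm, Finset.mul_sum, ← nsmul_eq_mul, ← Finset.card_univ]
      exact Finset.card_nsmul_le_sum _ _ _ fun j _ => hcol j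
    · rw [Fintype.sum_option]; exact le_add_of_nonneg_left (sq_nonneg _)
  set U : ℤ := ((q * n + 1 : ℕ) : ℤ) with hU
  have hm : (2 : ℤ) ≤ Fintype.card κ := by exact_mod_cast h.two_le_κ
  have hn2 : (2 : ℤ) ≤ n := by exact_mod_cast h.two_le_n
  have hq3 : (3 : ℤ) ≤ q := by exact_mod_cast h.three_le
  have haU : (a : ℤ) ≤ U := by rw [hU]; exact_mod_cast ha
  have hUq : (q : ℤ) * n ≤ U := by rw [hU]; push_cast; omega
  have hy2 : y ≤ y ^ 2 := Int.le_self_sq y
  have hy1 : 1 ≤ y ^ 2 := by have : 0 < y ^ 2 := by positivity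
                             omega
  have hbound : (q : ℤ) * ∑ i, ∑ j, c i j ^ 2 ≤ q * (1 + 2 * U * y ^ 2) := by
    refine mul_le_mul_of_nonneg_left ?_ (by omega)
    have : y * (a : ℤ) ≤ U * y ^ 2 := by
      rcases le_or_gt y 0 with hle | hgt
      · nlinarith
      · nlinarith
    nlinarith
  have hlow : 4 * ((q : ℤ) * U * y ^ 2) ≤ (Fintype.card κ : ℤ) * (U * y) ^ 2 := by
    have h4 : 4 * (q : ℤ) ≤ (Fintype.card κ : ℤ) * U := by nlinarith
    nlinarith [mul_le_mul_of_nonneg_right h4 (show 0 ≤ U * y ^ 2 by nlinarith)]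
  have hUy : (1 : ℤ) < 2 * U * y ^ 2 := by nlinarith
  nlinarith

/-- The column sums `μ j`. -/
theorem pivot_col {ζ : L → ℂ} (hζ : ζ ∈ S₁) (hY : HasY τ S₁ μ E n ζ 0) (j : κ) :
    classInner (τ ((∑ i, μ i (some j)) - ((q * n + 1 : ℕ) : ℂ) • ζ)) (E ζ) =
      -((q * n + 1 : ℕ) : ℂ) := by
  classical
  have e : (∑ i, μ i (some j)) - ((q * n + 1 : ℕ) : ℂ) • ζ =
      (∑ i, alpha μ n ζ i j) + ((∑ i, μ i none) - ζ) := by
    simp only [alpha, Finset.sum_sub_distrib, Finset.sum_const, Finset.card_univ, h.card_ι]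
    push_cast
    rw [add_smul, one_smul, mul_smul, Nat.cast_smul_eq_nsmul ℂ q]
    abel
  rw [e, map_add, map_sum, classInner_add_left, classInner_sum_left,
    Finset.sum_congr rfl fun i _ => hY i j ζ hζ, h.tau_beta_eq hζ hY, classInner_sub_left,
    classInner_sum_left, h.E_orth ζ hζ ζ hζ]
  have h0 : ∀ i, classInner (η i none) (E ζ) = 0 := fun i => by
    rw [← conj_classInner, h.E_η ζ hζ, map_zero]
  simp [h0, h.card_ι]
  ring

/-! ### The case `y = 1` -/

open Classical in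
theorem card_lt_of_one {ζ : L → ℂ} (hζ : ζ ∈ S₁) (hY : HasY τ S₁ μ E n ζ 1) :
    Fintype.card κ + 1 ≤ q := by
  obtain ⟨x, a, hx, ha, ha0, hsum⟩ := h.exists_beta_coeff hζ
  set β : G → ℂ := τ ((∑ i, μ i none) - ζ) with hβ
  have hζc := h.S₁_conj ζ hζ
  have hodd : ∀ j, Odd (a i₀ (some j)) := by
    intro j
    obtain ⟨j', hj1, hj2⟩ := h.row_conj j
    set Ω : G → ℂ := τ (alpha μ n ζ i₀ j) + (n : ℂ) • E ζ - η i₀ (some j) + η i₀ none with hΩ
    have hΩgen : IsGeneralizedCharacter G Ω := by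
      rw [hΩ, show (n : ℂ) = ((n : ℤ) : ℂ) by norm_num]
      exact IsGeneralizedCharacter.add (IsGeneralizedCharacter.sub (IsGeneralizedCharacter.add
        (h.virtual _ (h.alpha_mem hζ _ _) (h.alpha_gen hζ _ _))
        (IsGeneralizedCharacter.intCast_smul (h.E_gen ζ hζ) _)) (h.η_gen _ _)) (h.η_gen _ _)
    have hΩr : conjFun Ω = Ω := by
      have e1 : conjFun Ω = conjFun (τ (alpha μ n ζ i₀ j)) + (n : ℂ) • conjFun (E ζ) -
          conjFun (η i₀ (some j)) + conjFun (η i₀ none) := by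
        funext g; simp [hΩ, conjFun]
      have e2 : conjFun (alpha μ n ζ i₀ j) =
          alpha μ n ζ i₀ j' + (n : ℂ) • (ζ - conjFun ζ) := by
        rw [show conjFun (alpha μ n ζ i₀ j) = conjFun (μ i₀ (some j)) - conjFun (μ i₀ none) -
          (n : ℂ) • conjFun ζ by funext g; simp [alpha, conjFun], hj1, h.μ_one]
        simp only [alpha, h.μ_one]
        funext g; simp [conjFun]; ring
      rw [e1, ← h.map_conj _ (h.alpha_mem hζ _ _), e2, map_add, map_smul, h.E_sub ζ hζ _ hζc,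
        h.E_conj ζ hζ, hj2, eq_add_of_sub_eq (h.tau_alpha_sub ζ i₀ i₀ j' j), hΩ]
      rw [show conjFun (η i₀ none) = η i₀ none by rw [h.η_one]; funext g; simp [conjFun], smul_sub]
      abel
    have hβr : conjFun (β + E ζ) = β + E ζ := by
      rw [show conjFun (β + E ζ) = conjFun β + conjFun (E ζ) by funext g; simp [conjFun], hβ,
        ← h.map_conj _ (h.supp_beta ζ hζ), h.E_conj ζ hζ,
        show conjFun ((∑ i, μ i none) - ζ) = ((∑ i, μ i none) - ζ) + (ζ - conjFun ζ) by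
          rw [show conjFun ((∑ i, μ i none) - ζ) = conjFun (∑ i, μ i none) - conjFun ζ by
            funext g; simp [conjFun], h.μ_col_real]
          abel,
        map_add, h.E_sub ζ hζ _ hζc]
      abel
    have hβgen : IsGeneralizedCharacter G (β + E ζ) := IsGeneralizedCharacter.add
      (h.virtual _ (h.supp_beta ζ hζ) (h.beta_gen hζ)) (h.E_gen ζ hζ)
    have hEone : classInner (E ζ) (fun _ => 1) = 0 := by rw [← h.η_one]; exact h.E_η ζ hζ i₀ none
    have e1 : classInner (β + E ζ) (fun _ => 1) = ((1 : ℤ) : ℂ) := by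
      rw [classInner_add_left, h.inner_beta_one hζ, hEone, Int.cast_one, add_zero]
    have e2 : classInner Ω (fun _ => 1) = ((0 : ℤ) : ℂ) := by
      rw [hΩ, classInner_add_left, classInner_sub_left, classInner_add_left,
        h.inner_one _ (h.alpha_mem hζ _ _), h.inner_alpha_one hζ, classInner_smul_left, hEone,
        ← h.η_one, h.η_orth, h.η_orth]
      simp
    have e3 : classInner (β + E ζ) Ω = (((n : ℤ) * x + 1 - a i₀ (some j) : ℤ) : ℂ) := by
      have f1 : classInner β (τ (alpha μ n ζ i₀ j)) = (((n : ℤ) - 1 : ℤ) : ℂ) := by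
        rw [hβ, h.iso _ (h.supp_beta ζ hζ) _ (h.alpha_mem hζ _ _),
          ← conj_classInner, h.inner_alpha_beta hζ, map_intCast]
      have f2 : classInner (E ζ) (τ (alpha μ n ζ i₀ j)) = (((1 : ℤ) - n : ℤ) : ℂ) := by
        rw [← conj_classInner, hY i₀ j ζ hζ, map_intCast, if_pos rfl]
      rw [hΩ]
      simp only [classInner_add_left, classInner_add_right, classInner_sub_right,
        classInner_smul_right, f1, f2, hx ζ hζ, ha, ha0, h.E_η ζ hζ, h.E_orth ζ hζ ζ hζ]
      simp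
      ring
    have := even_inner_sub_of_real h.odd hβgen hΩgen hβr hΩr e3 e1 e2
    obtain ⟨k, hk⟩ := h.n_even
    obtain ⟨r, hr⟩ := this
    refine ⟨k * x - r, ?_⟩
    have : (n : ℤ) * x = 2 * (k * x) := by rw [hk]; push_cast; ring
    linarith
  have h1 : ∑ j, a i₀ j ^ 2 ≤ q := le_trans (Finset.single_le_sum
    (fun b _ => Finset.sum_nonneg fun _ _ => sq_nonneg _) (Finset.mem_univ i₀)) hsum
  rw [Fintype.sum_option, ha0] at h1
  have h2 : (Fintype.card κ : ℤ) ≤ ∑ j, a i₀ (some j) ^ 2 := by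
    refine le_trans ?_ (Finset.card_nsmul_le_sum Finset.univ _ 1 fun j _ => ?_)
    · rw [Finset.card_univ, nsmul_eq_mul, mul_one]
    · obtain ⟨k, hk⟩ := hodd j
      have : 0 < a i₀ (some j) ^ 2 := by
        have : a i₀ (some j) ≠ 0 := by omega
        positivity
      omega
  have : (Fintype.card κ : ℤ) + 1 ≤ q := by linarith
  exact_mod_cast this

open Classical in
/-- Members of one degree have the same coefficient at `E ζ`. -/
theorem family_const {ζ : L → ℂ} (hζ : ζ ∈ S₁) (F : Finset (L → ℂ)) {a : ℕ}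
    (hirr : ∀ χ ∈ F, IsIrrCharacter L χ) (hne : ∀ χ ∈ F, conjFun χ ≠ χ)
    (hFS : ∀ χ ∈ F, ∀ ζ' ∈ S₁, classInner χ ζ' = 0)
    (hsupp : ∀ χ ∈ F, χ - (a : ℂ) • ζ ∈ Supp) {z : (L → ℂ) → ℤ}
    (hz : ∀ χ ∈ F, classInner (τ (χ - (a : ℂ) • ζ)) (E ζ) = z χ) {χ χ' : L → ℂ} (hχ : χ ∈ F)
    (hχ₀ : χ' ∈ F) : z χ = z χ' := by
  have hfS : ∀ χ ∈ F, ∀ ζ' ∈ S₁, classInner (χ - (a : ℂ) • ζ) ζ' =
      -(if ζ' = ζ then (a : ℂ) else 0) := fun χ hχ ζ' hζ' => by
    rw [classInner_sub_left, hFS χ hχ ζ' hζ', classInner_smul_left, h.S₁_orth ζ hζ ζ' hζ']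
    by_cases e : ζ' = ζ
    · subst e; simp
    · rw [if_neg e, if_neg (Ne.symm e)]; simp
  by_contra hd
  have hne0 : χ ≠ χ' := fun e => hd (by rw [e])
  set f : L → ℂ := χ - χ' with hf
  have hfs : f ∈ Supp := by
    have := Supp.sub_mem (hsupp χ hχ) (hsupp χ' hχ₀)
    rwa [sub_sub_sub_cancel_right] at this
  have hfg : IsGeneralizedCharacter L f := IsGeneralizedCharacter.sub
    (irr_isGeneralized ⟨χ, hirr χ hχ⟩) (irr_isGeneralized ⟨χ', hirr χ' hχ₀⟩)
  set d : ℤ := z χ - z χ' with hd'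
  have hd0 : d ≠ 0 := by omega
  have hdE : ∀ ζ' ∈ S₁, classInner (τ f) (E ζ') = (d : ℂ) := fun ζ' hζ' => by
    rw [hf, ← sub_sub_sub_cancel_right χ χ' ((a : ℂ) • ζ), map_sub, classInner_sub_left,
      h.coeff_E (hsupp χ hχ) hζ hζ', h.coeff_E (hsupp χ' hχ₀) hζ hζ', hz χ hχ, hz χ' hχ₀,
      hfS χ hχ ζ' hζ', hfS χ hχ ζ hζ, hfS χ' hχ₀ ζ' hζ', hfS χ' hχ₀ ζ hζ, hd']
    push_cast
    ring
  choose c hc using fun i j => h.int_coeff (h.virtual f hfs hfg) i j
  have hnorm : classInner (τ f) (τ f) = ((2 : ℤ) : ℂ) := by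
    rw [h.iso f hfs f hfs, hf]
    simp only [classInner_sub_left, classInner_sub_right, classInner_irr_self (hirr χ hχ),
      classInner_irr_self (hirr χ' hχ₀), classInner_irr_of_ne (hirr χ hχ) (hirr χ' hχ₀) hne0,
      classInner_irr_of_ne (hirr χ' hχ₀) (hirr χ hχ) hne0.symm]
    norm_num
  obtain ⟨hle, heq⟩ := h.bessel hnorm (fun _ => d) hdE c hc
  rw [Finset.sum_const, h.card_S₁, nsmul_eq_mul] at hle heq
  have hnn : 0 ≤ ∑ i, ∑ j, c i j ^ 2 :=
    Finset.sum_nonneg fun _ _ => Finset.sum_nonneg fun _ _ => sq_nonneg _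
  have hd1 : 1 ≤ d ^ 2 := by have : 0 < d ^ 2 := by positivity
                             omega
  have hn2 : (2 : ℤ) ≤ n := by exact_mod_cast h.two_le_n
  have hc0 : ∑ i, ∑ j, c i j ^ 2 = 0 := by nlinarith
  have hc00 : ∀ i j, c i j = 0 := fun i j => by
    have h1 := (Finset.sum_eq_zero_iff_of_nonneg (fun b _ =>
      Finset.sum_nonneg fun _ _ => sq_nonneg _)).1 hc0 i (Finset.mem_univ _)
    have h2 := (Finset.sum_eq_zero_iff_of_nonneg (fun b _ => sq_nonneg _)).1 h1 j (Finset.mem_univ _)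
    exact pow_eq_zero_iff (by norm_num) |>.1 h2
  have he := heq (le_antisymm hle (by nlinarith))
  simp only [hc00, Int.cast_zero, zero_smul, Finset.sum_const_zero, add_zero] at he
  have hreal : conjFun (τ f) = τ f := by
    rw [he, show conjFun (∑ b ∈ S₁, (d : ℂ) • E b) = ∑ b ∈ S₁, (d : ℂ) • conjFun (E b) by
      funext g; simp [conjFun, Finset.sum_apply]]
    exact Finset.sum_nbij' conjFun conjFun h.S₁_conj h.S₁_conj
      (fun b _ => conjFun_conjFun b) (fun b _ => conjFun_conjFun b)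
      fun b hb => by rw [h.E_conj b hb]
  have hz0 : conjFun f - f = 0 := by
    refine classInner_self_eq_zero ?_
    have hm := Supp.sub_mem (h.conj_supp f hfs) hfs
    rw [← h.iso _ hm _ hm, map_sub, h.map_conj f hfs, hreal, sub_self, classInner_zero_left]
  rw [sub_eq_zero] at hz0
  have := congrArg (fun t => classInner t χ) hz0
  rw [hf, show conjFun (χ - χ') = conjFun χ - conjFun χ' by funext g; simp [conjFun]] at this
  have hc1 : classInner (conjFun χ) χ = 0 :=
    classInner_irr_of_ne (Char.IsIrrCharacter.conj (hirr χ hχ)) (hirr χ hχ) (hne χ hχ)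
  simp only [classInner_sub_left, classInner_irr_self (hirr χ hχ),
    classInner_irr_of_ne (hirr χ' hχ₀) (hirr χ hχ) hne0.symm, hc1] at this
  by_cases e : conjFun χ' = χ
  · rw [e, classInner_irr_self (hirr χ hχ)] at this
    norm_num at this
  · have hc2 : classInner (conjFun χ') χ = 0 :=
      classInner_irr_of_ne (Char.IsIrrCharacter.conj (hirr χ' hχ₀)) (hirr χ hχ) e
    rw [hc2] at this
    norm_num at this

open Classical in
/-- No large family of irreducible characters of one odd degree `a q` with `a` small. -/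
theorem false_of_family {ζ : L → ℂ} (hζ : ζ ∈ S₁) (hY : HasY τ S₁ μ E n ζ 1) (F : Finset (L → ℂ))
    {a : ℕ} (ha : Odd a) (hirr : ∀ χ ∈ F, IsIrrCharacter L χ) (hne : ∀ χ ∈ F, conjFun χ ≠ χ)
    (hFμ : ∀ χ ∈ F, ∀ i j, classInner χ (μ i j) = 0)
    (hFS : ∀ χ ∈ F, ∀ ζ' ∈ S₁, classInner χ ζ' = 0)
    (hsupp : ∀ χ ∈ F, χ - (a : ℂ) • ζ ∈ Supp) (hcard : 3 * (n + 1) ≤ F.card)
    (hsmall : 3 * (Fintype.card κ + 1) * a ^ 2 ≤ 2 * Fintype.card κ * (n * q)) : False := by
  set M := F.card with hM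
  obtain ⟨χ₀, hχ₀⟩ : F.Nonempty := Finset.card_pos.1 (by omega)
  have hgen : ∀ χ ∈ F, IsGeneralizedCharacter L (χ - (a : ℂ) • ζ) := fun χ hχ => by
    rw [show (a : ℂ) = ((a : ℤ) : ℂ) by norm_num]
    exact IsGeneralizedCharacter.sub (irr_isGeneralized ⟨χ, hirr χ hχ⟩)
      (IsGeneralizedCharacter.intCast_smul (h.S₁_gen ζ hζ) _)
  have hfS : ∀ χ ∈ F, ∀ ζ' ∈ S₁, classInner (χ - (a : ℂ) • ζ) ζ' =
      -(if ζ' = ζ then (a : ℂ) else 0) := fun χ hχ ζ' hζ' => by
    rw [classInner_sub_left, hFS χ hχ ζ' hζ', classInner_smul_left, h.S₁_orth ζ hζ ζ' hζ']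
    by_cases e : ζ' = ζ
    · subst e; simp
    · rw [if_neg e, if_neg (Ne.symm e)]; simp
  choose! z hz using fun χ (hχ : χ ∈ F) => IsGeneralizedCharacter.exists_int_classInner
    (h.virtual _ (hsupp χ hχ) (hgen χ hχ)) (h.E_gen ζ hζ)
  have hconst := fun χ hχ => h.family_const hζ F hirr hne hFS hsupp hz (χ := χ) (χ' := χ₀) hχ hχ₀
  set y : ℤ := z χ₀ + a with hy
  set N : ℕ := q * Fintype.card κ with hNdef
  -- the sums over the family and over the grid
  set X : G → ℂ := ∑ χ ∈ F, τ (χ - (a : ℂ) • ζ) with hX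
  set Y : G → ℂ := ∑ i, ∑ j, τ (alpha μ n ζ i j) with hYdef
  have hXE : ∀ ζ' ∈ S₁, classInner X (E ζ') =
      (((M : ℤ) * (y - if ζ' = ζ then (a : ℤ) else 0) : ℤ) : ℂ) := fun ζ' hζ' => by
    rw [hX, classInner_sum_left, Finset.sum_congr rfl
      (g := fun _ => (((y - if ζ' = ζ then (a : ℤ) else 0) : ℤ) : ℂ)) fun χ hχ => by
        rw [h.coeff_E (hsupp χ hχ) hζ hζ', hz χ hχ, hconst χ hχ, hfS χ hχ ζ' hζ', hfS χ hχ ζ hζ,
          if_pos rfl, hy]
        split_ifs <;> push_cast <;> ring, Finset.sum_const, nsmul_eq_mul, ← hM]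
    push_cast
    ring
  have hYE : ∀ ζ' ∈ S₁, classInner Y (E ζ') =
      (((N : ℤ) * (1 - if ζ' = ζ then (n : ℤ) else 0) : ℤ) : ℂ) := fun ζ' hζ' => by
    rw [hYdef]
    simp only [classInner_sum_left, hY _ _ ζ' hζ', Finset.sum_const, Finset.card_univ, nsmul_eq_mul,
      h.card_ι, hNdef]
    push_cast
    ring
  have hχχ : ∀ χ ∈ F, ∀ ψ ∈ F, classInner (χ - (a : ℂ) • ζ) (ψ - (a : ℂ) • ζ) =
      (if χ = ψ then 1 else 0) + (a : ℂ) ^ 2 := fun χ hχ ψ hψ => by
    have e2 : classInner ζ ψ = 0 := by rw [← conj_classInner, hFS ψ hψ ζ hζ, map_zero]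
    simp only [classInner_sub_left, classInner_sub_right, classInner_smul_left,
      classInner_smul_right, hFS χ hχ ζ hζ, e2, h.S₁_orth ζ hζ ζ hζ]
    by_cases e : χ = ψ
    · subst e; rw [classInner_irr_self (hirr χ hχ)]; simp; ring
    · rw [classInner_irr_of_ne (hirr χ hχ) (hirr ψ hψ) e, if_neg e]; simp; ring
  have hXX : classInner X X = (((M : ℤ) + (M : ℤ) ^ 2 * a ^ 2 : ℤ) : ℂ) := by
    rw [hX]
    simp only [classInner_sum_left, classInner_sum_right]
    rw [Finset.sum_congr rfl (g := fun _ => (1 : ℂ) + (M : ℂ) * (a : ℂ) ^ 2) fun χ hχ => by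
      rw [Finset.sum_congr rfl (g := fun ψ => (if ψ = χ then (1 : ℂ) else 0) + (a : ℂ) ^ 2) fun ψ hψ => by
        rw [h.iso _ (hsupp ψ hψ) _ (hsupp χ hχ), hχχ ψ hψ χ hχ],
        Finset.sum_add_distrib, Finset.sum_ite_eq', if_pos hχ, Finset.sum_const, nsmul_eq_mul, ← hM],
      Finset.sum_const, nsmul_eq_mul, ← hM]
    push_cast
    ring
  have hYY : classInner Y Y =
      (((N : ℤ) + (Fintype.card κ : ℤ) ^ 2 * q + (N : ℤ) ^ 2 * n ^ 2 : ℤ) : ℂ) := by
    rw [hYdef]
    simp only [classInner_sum_left, classInner_sum_right]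
    rw [Finset.sum_congr rfl (g := fun _ => (Fintype.card κ : ℂ) * (1 + (Fintype.card κ : ℂ) +
        (N : ℂ) * (n : ℂ) ^ 2)) fun k _ => ?_, Finset.sum_const, Finset.card_univ, h.card_ι,
      nsmul_eq_mul]
    · rw [hNdef]; push_cast; ring
    rw [Finset.sum_congr rfl (g := fun _ => 1 + (Fintype.card κ : ℂ) + (N : ℂ) * (n : ℂ) ^ 2)
      fun l _ => ?_, Finset.sum_const, Finset.card_univ, nsmul_eq_mul]
    rw [Finset.sum_congr rfl (g := fun i => (if i = k then (1 : ℂ) + (Fintype.card κ : ℂ) else 0) +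
      (Fintype.card κ : ℂ) * (n : ℂ) ^ 2) fun i _ => ?_, Finset.sum_add_distrib, Finset.sum_ite_eq',
      if_pos (Finset.mem_univ _), Finset.sum_const, Finset.card_univ, h.card_ι, nsmul_eq_mul, hNdef]
    · push_cast; ring
    rw [Finset.sum_congr rfl (g := fun j => (if i = k ∧ j = l then (1 : ℂ) else 0) +
      (if i = k then 1 else 0) + (n : ℂ) ^ 2) fun j _ => ?_]
    · by_cases e : i = k
      · subst e
        simp [Finset.sum_add_distrib]
      · simp [e]
    rw [h.iso _ (h.alpha_mem hζ i j) _ (h.alpha_mem hζ k l)]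
    simp only [alpha, classInner_sub_left, classInner_sub_right, classInner_smul_left,
      classInner_smul_right, h.μ_orth, h.inner_μ_S₁ hζ, h.S₁_μ ζ hζ, h.S₁_orth ζ hζ ζ hζ,
      Option.some_inj]
    simp
    ring
  have hXY : classInner X Y = (((M : ℤ) * N * (a * n) : ℤ) : ℂ) := by
    rw [hX, hYdef, classInner_sum_left, Finset.sum_congr rfl (g := fun _ => (N : ℂ) * ((a : ℂ) * n))
      fun χ hχ => ?_, Finset.sum_const, nsmul_eq_mul, ← hM]
    · push_cast; ring
    simp only [classInner_sum_right]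
    rw [Finset.sum_congr rfl (g := fun _ => (Fintype.card κ : ℂ) * ((a : ℂ) * n)) fun i _ => ?_,
      Finset.sum_const, Finset.card_univ, h.card_ι, nsmul_eq_mul, hNdef]
    · push_cast; ring
    rw [Finset.sum_congr rfl (g := fun _ => (a : ℂ) * n) fun j _ => ?_, Finset.sum_const,
      Finset.card_univ, nsmul_eq_mul]
    rw [h.iso _ (hsupp χ hχ) _ (h.alpha_mem hζ i j)]
    simp only [alpha, classInner_sub_left, classInner_sub_right, classInner_smul_left,
      classInner_smul_right, hFμ χ hχ, hFS χ hχ ζ hζ, h.S₁_μ ζ hζ, h.S₁_orth ζ hζ ζ hζ]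
    simp
    ring
  set A : ℤ := (M : ℤ) ^ 2 * (2 * a * y - n * y ^ 2) + M with hA
  set B : ℤ := (N : ℤ) ^ 2 * n + N + (Fintype.card κ : ℤ) ^ 2 * q with hB
  set I : ℤ := (M : ℤ) * N * a with hI
  have hXp : classInner (X - ∑ b ∈ S₁, (((M : ℤ) * (y - if b = ζ then (a : ℤ) else 0) : ℤ) : ℂ) • E b)
      (X - ∑ b ∈ S₁, (((M : ℤ) * (y - if b = ζ then (a : ℤ) else 0) : ℤ) : ℂ) • E b) = (A : ℂ) := by
    rw [h.orth_part hXE hXE, hXX, Finset.sum_congr rfl (fun b _ => mul_mul_mul_comm _ _ _ _),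
      ← Finset.mul_sum, h.sum_mul hζ, hA, ← Int.cast_sub]
    congr 1
    ring
  have hYp : classInner (Y - ∑ b ∈ S₁, (((N : ℤ) * (1 - if b = ζ then (n : ℤ) else 0) : ℤ) : ℂ) • E b)
      (Y - ∑ b ∈ S₁, (((N : ℤ) * (1 - if b = ζ then (n : ℤ) else 0) : ℤ) : ℂ) • E b) = (B : ℂ) := by
    rw [h.orth_part hYE hYE, hYY, Finset.sum_congr rfl (fun b _ => mul_mul_mul_comm _ _ _ _),
      ← Finset.mul_sum, h.sum_mul hζ, hB, ← Int.cast_sub]
    congr 1
    ring
  have hXYp : classInner (X - ∑ b ∈ S₁, (((M : ℤ) * (y - if b = ζ then (a : ℤ) else 0) : ℤ) : ℂ) • E b)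
      (Y - ∑ b ∈ S₁, (((N : ℤ) * (1 - if b = ζ then (n : ℤ) else 0) : ℤ) : ℂ) • E b) = (I : ℂ) := by
    rw [h.orth_part hXE hYE, hXY, Finset.sum_congr rfl (fun b _ => mul_mul_mul_comm _ _ _ _),
      ← Finset.mul_sum, h.sum_mul hζ, hI, ← Int.cast_sub]
    congr 1
    ring
  have hCS := sq_inner_le hXp hYp hXYp
  have hP1 : (n : ℤ) * (2 * a * y - n * y ^ 2) ≤ (a : ℤ) ^ 2 - 1 := by
    have : (a : ℤ) - n * y ≠ 0 := by
      intro e
      obtain ⟨k, hk⟩ := h.n_even
      obtain ⟨r, hr⟩ := ha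
      have e2 : (a : ℤ) = 2 * ((k : ℤ) * y) := by rw [hk] at e; push_cast at e; linarith
      omega
    have hpos : 0 < ((a : ℤ) - n * y) ^ 2 := by positivity
    nlinarith
  have hN' : (N : ℤ) = q * (Fintype.card κ : ℤ) := by rw [hNdef]; push_cast; ring
  rw [hI, hA, hB, hN'] at hCS
  exact family_arith (q := (q : ℤ)) (by exact_mod_cast h.three_le) (by exact_mod_cast h.two_le_κ)
    (by have := h.two_le_n; omega) (by exact_mod_cast hcard) (by exact_mod_cast hsmall) hP1 hCS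

end Bridge

end Cfsg.Agent.OddOrder.PF
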