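import Cfsg.Agent.Lib.OddOrder.PF.S11_Chief
import Cfsg.Agent.Lib.OddOrder.CoherenceFrobenius

/-!
Peterfalvi (11.3) to (11.7) in abstract form: if the set of characters induced from `K = L'` is a
non-coherent coherence system then `[H, U] = H` is elementary abelian of order `p ^ q`, the
centraliser `C` of `H` in `U` is `U'`, and the characters trivial on `C` are not coherent either.
-/

set_option autoImplicit false
set_option linter.style.haveILetI false

namespace Cfsg.Agent.OddOrder.PF.Eleven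

open Cfsg Cfsg.Agent Cfsg.Agent.OddOrder
open scoped commutatorElement

universe u v

variable {L : Type u} [Group L] [Fintype L] {G : Type v} [Group G] [Fintype G]
  {τ : (L → ℂ) → (G → ℂ)} {R : (L → ℂ) → Finset (G → ℂ)}
  {K H U W W₂ : Subgroup L} {p q : ℕ}
  (E : Eleven K H U W W₂ p q)
include E

theorem K_index : K.index = q := by
  haveI := E.K_normal
  have hc : Subgroup.IsComplement' K W := Subgroup.isComplement'_of_disjoint_and_mul_eq_univ
    (disjoint_iff.2 E.K_inf_W) (by rw [← Subgroup.normal_mul, E.K_sup_W, Subgroup.coe_top])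
  rw [hc.symm.index_eq_card, E.card_W]

theorem card_bound : 4 * q ^ 2 + 1 < p ^ q := by
  have h3q := E.three_le_q
  have h3p := E.three_le_p
  obtain ⟨r, hr⟩ := E.q_prime.odd_of_ne_two (by omega)
  rcases eq_or_lt_of_le h3q with h | h
  · subst h
    have : 4 ≤ p := by
      have := E.p_ne_q
      omega
    calc 4 * 3 ^ 2 + 1 < 4 ^ 3 := by norm_num
      _ ≤ p ^ 3 := Nat.pow_le_pow_left this 3
  · refine lt_of_lt_of_le ?_ (Nat.pow_le_pow_left h3p q)
    obtain ⟨t, rfl⟩ : ∃ t, q = 5 + t := ⟨q - 5, by omega⟩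
    clear h3q h hr r E
    induction t with
    | zero => norm_num
    | succ t ih =>
      rw [← add_assoc, pow_succ 3 (5 + t)]
      have h1 : 4 * (5 + t + 1) ^ 2 + 1 ≤ 3 * (4 * (5 + t) ^ 2 + 1) := by
        ring_nf
        omega
      omega

theorem C_derived_lt : ⁅U, U⁆ < U := by
  haveI : Nontrivial U := Subgroup.nontrivial_iff_ne_bot U |>.2 E.U_ne_bot
  haveI : Group.IsSolvable L := E.solvable
  exact Group.IsSolvable.commutator_lt_of_ne_bot E.U_ne_bot

theorem sup_lt {A : Subgroup L} (hA : A ≤ H) {Y : Subgroup L} (hY : Y < U)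
    (hn : Y ≤ Subgroup.normalizer (A : Set L)) : A ⊔ Y < K := by
  refine lt_of_le_of_ne (sup_le (hA.trans E.H_le) (hY.le.trans E.U_le)) fun h => hY.not_ge ?_
  have h1 := E.relIndex_sup hA hY.le hn
  rw [h, Subgroup.relIndex_self] at h1
  exact Subgroup.relIndex_eq_one.1 (Nat.eq_one_of_mul_eq_one_left h1.symm)

theorem derived_U_normal : (H ⊔ ⁅U, U⁆).Normal := by
  haveI := E.H_normal
  refine E.normal_of _ (le_sup_left.trans Subgroup.le_normalizer) (fun u hu => ?_) fun w hw => ?_
  all_goals refine Coprime.mem_normalizer_of_conj_smul_eq ?_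
  · show Subgroup.map (MulAut.conj u).toMonoidHom _ = _
    rw [Subgroup.map_sup, E.map_conj_H, Subgroup.map_commutator,
      show U.map (MulAut.conj u).toMonoidHom = U from
        Coprime.conj_smul_eq_self_of_mem (Subgroup.le_normalizer hu)]
  · show Subgroup.map (MulAut.conj w).toMonoidHom _ = _
    rw [Subgroup.map_sup, E.map_conj_H, Subgroup.map_commutator, E.map_conj_U hw]

theorem isNilpotent_HC : Group.IsNilpotent ↥(H ⊔ (U ⊓ Subgroup.centralizer (H : Set L))) := by
  set C := U ⊓ Subgroup.centralizer (H : Set L) with hC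
  haveI := E.H_nilpotent
  haveI := E.U_nilpotent
  have hCU : C ≤ U := inf_le_left
  haveI : Group.IsNilpotent C :=
    Group.nilpotent_of_surjective (Subgroup.subgroupOfEquivOfLe hCU).toMonoidHom
      (Subgroup.subgroupOfEquivOfLe hCU).surjective
  have hcomm : ∀ (h : H) (c : C), Commute (h : L) (c : L) := fun h c =>
    (Subgroup.mem_centralizer_iff.1 c.2.2 h h.2)
  let f : ↥H × ↥C →* ↥(H ⊔ C) :=
    MonoidHom.noncommCoprod (Subgroup.inclusion le_sup_left) (Subgroup.inclusion le_sup_right)
      fun h c => Subtype.ext (hcomm h c).eq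
  refine Group.nilpotent_of_surjective f fun x => ?_
  haveI := E.H_normal
  obtain ⟨h, hh, c, hc, e⟩ := Subgroup.mem_sup_of_normal_left.1 x.2
  exact ⟨(⟨h, hh⟩, ⟨c, hc⟩), Subtype.ext e⟩

variable (hS : IsCoherenceSystem (inducedIrrAbove K ⊥) τ R)
  (hncoh : ¬ IsCoherent (inducedIrrAbove K ⊥) {1}ᶜ τ)
include hS hncoh

/-- Peterfalvi (11.3). -/
theorem not_coherent_base :
    ¬ IsCoherent (inducedIrrAbove K ((H ⊓ Subgroup.centralizer (U : Set L)) ⊔
      ⁅U ⊓ Subgroup.centralizer (H : Set L), U ⊓ Subgroup.centralizer (H : Set L)⁆)) {1}ᶜ τ := by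
  haveI := E.K_normal
  haveI := E.H_normal
  haveI := E.centralizer_U_normal
  haveI := E.C_normal
  haveI : Group.IsSolvable L := E.solvable
  set H₀ := H ⊓ Subgroup.centralizer (U : Set L) with hH₀
  set C := U ⊓ Subgroup.centralizer (H : Set L) with hC
  intro hc
  refine hncoh (isCoherent_nilpotent_section K inferInstance hS ⊥ (H₀ ⊔ ⁅C, C⁆) (H ⊔ C) bot_le
    (sup_le_sup inf_le_left (Subgroup.commutator_le_self C)) (sup_le E.H_le (inf_le_left.trans E.U_le))
    ?_ hc ?_)
  · haveI := E.isNilpotent_HC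
    exact Group.nilpotent_of_surjective (QuotientGroup.mk' _) (QuotientGroup.mk'_surjective _)
  · rw [E.K_index]
    refine lt_of_lt_of_le E.card_bound (Nat.le_of_dvd (Nat.pos_of_ne_zero Subgroup.index_ne_zero_of_finite) ?_)
    have key : ∀ {A B : Subgroup L}, A ≤ B → Nat.card A * A.relIndex B = Nat.card B :=
      fun {A B} h => by
        rw [← Nat.card_congr (Subgroup.subgroupOfEquivOfLe h).toEquiv]
        exact Subgroup.card_mul_index _
    have hC'U : ⁅C, C⁆ ≤ U := (Subgroup.commutator_le_self C).trans inf_le_left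
    have h1 := key (sup_le_sup (inf_le_left : H₀ ≤ H) (Subgroup.commutator_le_self C))
    rw [E.card_sup inf_le_left hC'U Subgroup.le_normalizer_of_normal,
      E.card_sup le_rfl inf_le_left Subgroup.le_normalizer_of_normal,
      ← key (inf_le_left : H₀ ≤ H), ← key (Subgroup.commutator_le_self C), E.relIndex_H₀,
      mul_mul_mul_comm] at h1
    exact ⟨_, Nat.eq_of_mul_eq_mul_left (Nat.mul_pos Nat.card_pos Nat.card_pos) h1⟩

/-- Peterfalvi (11.4). -/
theorem relIndex_bound (A : Subgroup L) [A.Normal] (hA : A < K)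
    (hc : IsCoherent (inducedIrrAbove K A) {1}ᶜ τ) :
    A.relIndex K - 1 ≤ 2 * q * (U ⊓ Subgroup.centralizer (H : Set L)).relIndex U := by
  haveI := E.K_normal
  haveI := E.H_normal
  haveI := E.centralizer_U_normal
  haveI := E.C_normal
  haveI : Group.IsSolvable L := E.solvable
  set H₀ := H ⊓ Subgroup.centralizer (U : Set L) with hH₀
  set C := U ⊓ Subgroup.centralizer (H : Set L) with hC
  by_contra hlt
  push Not at hlt
  have hC'U : ⁅C, C⁆ ≤ U := (Subgroup.commutator_le_self C).trans inf_le_left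
  have hBK : H₀ ⊔ ⁅C, C⁆ < K := by
    refine E.sup_lt inf_le_left (lt_of_le_of_lt (Subgroup.commutator_le_self C) E.C_lt)
      Subgroup.le_normalizer_of_normal
  have hHCK : H ⊔ C ≤ K := sup_le E.H_le (inf_le_left.trans E.U_le)
  refine E.not_coherent_base hS hncoh (isCoherent_central_step K inferInstance hS A (H₀ ⊔ ⁅C, C⁆)
    (H ⊔ C) (H ⊔ C) hA hBK le_rfl hHCK (fun x hx y hy => ?_) hc ?_)
  · have hx' := Subgroup.mem_sup_of_normal_left.1 hx
    have hy' := Subgroup.mem_sup_of_normal_left.1 hy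
    obtain ⟨h, hh, c, hc', rfl⟩ := hx'
    obtain ⟨h', hh', c', hc'', rfl⟩ := hy'
    rw [← QuotientGroup.eq_one_iff (N := H₀ ⊔ ⁅C, C⁆)]
    set π := QuotientGroup.mk' (H₀ ⊔ ⁅C, C⁆) with hπ
    have hone : ∀ z, z ∈ H₀ ⊔ ⁅C, C⁆ → π z = 1 := fun z hz => (QuotientGroup.eq_one_iff z).2 hz
    have k1 : Commute (π h) (π h') := commutatorElement_eq_one_iff_commute.1 (by
      rw [← map_commutatorElement]
      exact hone _ (Subgroup.mem_sup_left (E.commutator_H_le (Subgroup.commutator_mem_commutator hh hh'))))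
    have k2 : Commute (π c) (π c') := commutatorElement_eq_one_iff_commute.1 (by
      rw [← map_commutatorElement]
      exact hone _ (Subgroup.mem_sup_right (Subgroup.commutator_mem_commutator hc' hc'')))
    have k3 : Commute (π h) (π c') := (show Commute h c' from Subgroup.mem_centralizer_iff.1 hc''.2 h hh).map π
    have k4 : Commute (π c) (π h') :=
      (show Commute c h' from (Subgroup.mem_centralizer_iff.1 hc'.2 h' hh').symm).map π
    show π (h * c * (h' * c') * (h * c)⁻¹ * (h' * c')⁻¹) = 1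
    simp only [map_mul, map_inv]
    rw [show π h * π c * (π h' * π c') = π h' * π c' * (π h * π c) from
      ((k1.mul_left k4).mul_right (k3.mul_left k2)).eq]
    group
  · have h1 : (H ⊔ C).index = q * C.relIndex U := by
      rw [← Subgroup.relIndex_mul_index hHCK, E.K_index,
        E.relIndex_sup le_rfl inf_le_left Subgroup.le_normalizer_of_normal, Subgroup.relIndex_self,
        one_mul, mul_comm]
    rw [h1, Subgroup.relIndex_self, mul_one]
    calc 4 * (q * C.relIndex U) ^ 2 = (2 * q * C.relIndex U) ^ 2 := by ring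
      _ < (A.relIndex K - 1) ^ 2 := Nat.pow_lt_pow_left hlt two_ne_zero

omit hS hncoh in
/-- An index congruent to one and at most `2 q` is one. -/
theorem eq_one_of_bound {c : ℕ} (hodd : Odd c) (hmod : c ≡ 1 [MOD q])
    (hb : c * (U ⊓ Subgroup.centralizer (H : Set L)).relIndex U - 1 ≤
      2 * q * (U ⊓ Subgroup.centralizer (H : Set L)).relIndex U) : c = 1 := by
  set r := (U ⊓ Subgroup.centralizer (H : Set L)).relIndex U with hr
  have hr2 := E.two_q_lt_index
  have hq := E.three_le_q
  have hc : c ≤ 2 * q := by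
    by_contra h
    push Not at h
    have : (2 * q + 1) * r ≤ c * r := Nat.mul_le_mul_right r h
    nlinarith [Nat.sub_add_cancel (show 1 ≤ c * r by nlinarith)]
  obtain ⟨t, ht⟩ := (Nat.modEq_iff_dvd' hodd.pos).1 hmod.symm
  rcases t with _ | _ | t
  · have := hodd.pos
    omega
  · obtain ⟨k, hk⟩ := hodd
    obtain ⟨j, hj⟩ := E.q_prime.odd_of_ne_two (by omega)
    omega
  · have := Nat.sub_add_cancel hodd.pos
    nlinarith

/-- Peterfalvi (11.5): `C = U'`. -/
theorem C_eq_derived : U ⊓ Subgroup.centralizer (H : Set L) = ⁅U, U⁆ := by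
  haveI := E.K_normal
  haveI := E.H_normal
  haveI := E.C_normal
  haveI := E.derived_U_normal
  haveI : Group.IsSolvable L := E.solvable
  set C := U ⊓ Subgroup.centralizer (H : Set L) with hC
  have hU' : ⁅U, U⁆ ≤ C := E.commutator_U_le
  have hA : H ⊔ ⁅U, U⁆ < K :=
    E.sup_lt le_rfl E.C_derived_lt Subgroup.le_normalizer_of_normal
  have hab : ⁅K, K⁆ ≤ H ⊔ ⁅U, U⁆ := E.commutator_K_le _
    (H.commutator_le_self.trans le_sup_left) (E.commutator_le_H.trans le_sup_left) le_sup_right
  have hb := E.relIndex_bound hS hncoh (H ⊔ ⁅U, U⁆) hA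
    (isCoherent_abelian_section K inferInstance hS _ hA hab)
  rw [E.relIndex_sup le_rfl (Subgroup.commutator_le_self U) Subgroup.le_normalizer_of_normal,
    Subgroup.relIndex_self, one_mul, ← Subgroup.relIndex_mul_relIndex _ C U hU' inf_le_left] at hb
  have key : ∀ {A B : Subgroup L}, A ≤ B → Nat.card A * A.relIndex B = Nat.card B :=
    fun {A B} h => by
      rw [← Nat.card_congr (Subgroup.subgroupOfEquivOfLe h).toEquiv]
      exact Subgroup.card_mul_index _
  have hm := key hU'
  have hodd : Odd ((⁅U, U⁆).relIndex C) :=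
    (E.odd.of_dvd_nat C.card_subgroup_dvd_card).of_dvd_nat (hm ▸ dvd_mul_left _ _)
  have hnW : W ≤ Subgroup.normalizer ((⁅U, U⁆ : Subgroup L) : Set L) := fun w hw =>
    Coprime.mem_normalizer_of_conj_smul_eq (by
      show Subgroup.map (MulAut.conj w).toMonoidHom ⁅U, U⁆ = _
      rw [Subgroup.map_commutator, E.map_conj_U hw])
  have hmod : (⁅U, U⁆).relIndex C ≡ 1 [MOD q] := by
    have h1 := E.card_modEq_one (X := C) inf_le_left Subgroup.le_normalizer_of_normal
    have h2 := E.card_modEq_one (X := ⁅U, U⁆) (Subgroup.commutator_le_self U) hnW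
    rw [← hm] at h1
    calc (⁅U, U⁆).relIndex C = 1 * (⁅U, U⁆).relIndex C := (one_mul _).symm
      _ ≡ Nat.card ↥(⁅U, U⁆ : Subgroup L) * (⁅U, U⁆).relIndex C [MOD q] := h2.symm.mul_right _
      _ ≡ 1 [MOD q] := h1
  exact le_antisymm (Subgroup.relIndex_eq_one.1 (E.eq_one_of_bound hodd hmod hb)) hU'

/-- Peterfalvi (11.6): `H = [H, U]`. -/
theorem commutator_eq : ⁅H, U⁆ = H := by
  haveI := E.K_normal
  haveI := E.H_normal
  haveI := E.C_normal
  haveI := E.commutator_HU_normal
  haveI : Group.IsSolvable L := E.solvable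
  have hC := E.C_eq_derived hS hncoh
  set C := U ⊓ Subgroup.centralizer (H : Set L) with hCdef
  set X := ⁅H, H⁆ ⊔ ⁅H, U⁆ with hX
  have hXH : X ≤ H := sup_le H.commutator_le_self E.commutator_le_H
  haveI : X.Normal := inferInstance
  have hab : ⁅K, K⁆ ≤ X ⊔ C := E.commutator_K_le _ (le_sup_left.trans le_sup_left)
    (le_sup_right.trans le_sup_left) (hC.symm.le.trans le_sup_right)
  have hA : X ⊔ C < K := E.sup_lt hXH E.C_lt Subgroup.le_normalizer_of_normal
  have hb := E.relIndex_bound hS hncoh (X ⊔ C) hA (isCoherent_abelian_section K inferInstance hS _ hA hab)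
  rw [E.relIndex_sup hXH inf_le_left Subgroup.le_normalizer_of_normal] at hb
  have key : ∀ {A B : Subgroup L}, A ≤ B → Nat.card A * A.relIndex B = Nat.card B :=
    fun {A B} h => by
      rw [← Nat.card_congr (Subgroup.subgroupOfEquivOfLe h).toEquiv]
      exact Subgroup.card_mul_index _
  have hm := key hXH
  have hodd : Odd (X.relIndex H) :=
    (E.odd.of_dvd_nat H.card_subgroup_dvd_card).of_dvd_nat (hm ▸ dvd_mul_left _ _)
  have hmod : X.relIndex H ≡ 1 [MOD q] := by
    have h1 := E.card_modEq_p (X := H) E.H_le E.W₂_le E.W_le_normalizer_H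
    have h2 := E.card_modEq_p (X := X) (hXH.trans E.H_le)
      (E.W₂_le_commutator.trans le_sup_right) Subgroup.le_normalizer_of_normal
    rw [← hm] at h1
    have h3 : p * X.relIndex H ≡ p * 1 [MOD q] := by
      rw [mul_one]
      exact (h2.symm.mul_right _).trans h1
    refine Nat.ModEq.cancel_left_of_coprime ?_ h3
    exact (Nat.coprime_primes E.q_prime E.p_prime).2 E.p_ne_q.symm
  have h1 : X.relIndex H = 1 := E.eq_one_of_bound hodd hmod hb
  have hXe : X = H := le_antisymm hXH (Subgroup.relIndex_eq_one.1 h1)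
  refine le_antisymm E.commutator_le_H ?_
  refine le_of_le_commutator_sup E.H_nilpotent le_rfl ?_
  exact hXe.ge

/-- Peterfalvi (11.7) together with the non-coherence of the characters trivial on `C`. -/
theorem summary :
    IsMulCommutative H ∧ (∀ x ∈ H, x ^ p = 1) ∧ Nat.card H = p ^ q ∧
      H ⊓ Subgroup.centralizer (U : Set L) = ⊥ ∧
      U ⊓ Subgroup.centralizer (H : Set L) = ⁅U, U⁆ ∧
      ¬ IsCoherent (inducedIrrAbove K (U ⊓ Subgroup.centralizer (H : Set L))) {1}ᶜ τ := by
  haveI := E.K_normal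
  haveI := E.H_normal
  haveI := E.C_normal
  haveI : Group.IsSolvable L := E.solvable
  obtain ⟨hab, hpow, hbot, hcard⟩ := E.H_elementary (E.commutator_eq hS hncoh)
  refine ⟨hab, hpow, hcard, hbot, E.C_eq_derived hS hncoh, fun hc => ?_⟩
  set C := U ⊓ Subgroup.centralizer (H : Set L) with hC
  have hCK : C < K := lt_of_lt_of_le E.C_lt E.U_le
  have hb := E.relIndex_bound hS hncoh C hCK hc
  have h1 := E.relIndex_sup (X := ⊥) bot_le (Y := C) inf_le_left Subgroup.le_normalizer_of_normal
  rw [bot_sup_eq, Subgroup.relIndex_bot_left, hcard] at h1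
  rw [h1] at hb
  have h2 := E.two_q_lt_index
  have h3 := E.card_bound
  have hq := E.three_le_q
  have h4 : (2 * q + 1) * C.relIndex U ≤ p ^ q * C.relIndex U := Nat.mul_le_mul_right _ (by nlinarith)
  nlinarith [Nat.sub_add_cancel (show 1 ≤ p ^ q * C.relIndex U by nlinarith)]

end Cfsg.Agent.OddOrder.PF.Eleven
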