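import Cfsg.Agent.Lib.OddOrder.PF.S11_Dichotomy
import Cfsg.Agent.Lib.OddOrder.PF.S11_Coherence
import Cfsg.Agent.Lib.OddOrder.CoherenceFrobenius
import Cfsg.Agent.S1486

/-!
Characters in the configuration of Peterfalvi 11, inside the group `L`: the degrees of the
irreducible characters of `K` trivial on `C` or on `Y C`, the characters trivial on `H C` and the
large family attached to a line, the characters trivial on `C` among those not vanishing at a
generator of `W`, and the criterion by which one pivot makes a set of characters coherent.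
-/

set_option autoImplicit false
set_option linter.style.haveILetI false
set_option linter.unusedSectionVars false

namespace Cfsg.Agent.OddOrder.PF

open Cfsg Cfsg.Agent Cfsg.Agent.OddOrder
open scoped ComplexConjugate commutatorElement

universe u v

section Generic

variable {X : Type u} [Group X] [Fintype X]

/-- The degree is at most the index of a normal subgroup abelian modulo the kernel. -/
theorem degree_le_of_abelian (θ : IrrCharacter X) (J : Subgroup X)
    (h : ∀ x ∈ J, ∀ y ∈ J, θ.1 (x * y * x⁻¹ * y⁻¹) = θ.1 1) [J.Normal] :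
    charDegree θ.1 ≤ J.index := by
  classical
  obtain ⟨η, hη⟩ := Char.exists_constituent J θ
  have hη' : classInner η.1 (fun x : J => θ.1 x) ≠ 0 := fun h0 => hη (by
    rw [show Char.resFun J θ.1 = fun x : J => θ.1 x from rfl, ← Char.conj_classInner, h0, map_zero])
  have h1 := Char.degree_le_index_mul J θ η hη'
  have h2 : charDegree η.1 ^ 2 ≤ (⊤ : Subgroup J).index := degree_sq_le_index η ⊤ fun x _ y =>
    constituent_trivOn J θ η hη' (h x x.2 y y.2)
  rw [Subgroup.index_top] at h2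
  have h3 : charDegree η.1 ≤ 1 := by nlinarith
  exact h1.trans ((Nat.mul_le_mul_left _ h3).trans (mul_one _).le)

/-- The degree is at least the index of a subgroup containing the stabiliser of a constituent on a
normal subgroup. -/
theorem index_le_degree (θ : IrrCharacter X) (N J : Subgroup X) [N.Normal] [Fintype N]
    (lam : IrrCharacter N) (hlam : classInner (Char.resFun N θ.1) lam.1 ≠ 0)
    (hI : ∀ g, Char.conjFun N lam.1 g = lam.1 → g ∈ J) : J.index ≤ charDegree θ.1 := by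
  classical
  let f : X ⧸ J → ↥(Char.orbitFinset N lam) := fun c =>
    ⟨Char.conjChar N lam c.out⁻¹, (Char.mem_orbitFinset N).2 ⟨_, rfl⟩⟩
  have hf : Function.Injective f := fun a b h => by
    have h1 : Char.conjFun N lam.1 a.out⁻¹ = Char.conjFun N lam.1 b.out⁻¹ :=
      congrArg (fun z => z.1.1) h
    have h2 : Char.conjFun N lam.1 (a.out⁻¹ * b.out) = lam.1 := by
      rw [Char.conjFun_mul, h1, ← Char.conjFun_mul, inv_mul_cancel, Char.conjFun_one]
    rw [← a.out_eq', ← b.out_eq']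
    exact QuotientGroup.eq.2 (hI _ h2)
  have hcard : J.index ≤ (Char.orbitFinset N lam).card := by
    rw [Subgroup.index_eq_card, ← Fintype.card_coe (Char.orbitFinset N lam), ← Nat.card_eq_fintype_card]
    exact Nat.card_le_card_of_injective f hf
  obtain ⟨m, hm⟩ := Char.IsCharacter.exists_nat_classInner
    (Char.IsCharacter.restrict (Char.irr_isCharacter θ) N) (Char.irr_isCharacter lam)
  rw [show (fun x : N => θ.1 x) = Char.resFun N θ.1 from rfl] at hm
  have h1 := Char.apply_one_eq_mul_card_orbit N θ lam hlam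
  rw [hm, ← Char.charDegree_cast, ← Char.charDegree_cast] at h1
  have h2 : charDegree θ.1 = m * ((Char.orbitFinset N lam).card * charDegree lam.1) := by
    exact_mod_cast h1
  have hm0 : m ≠ 0 := fun e => hlam (by rw [hm, e, Nat.cast_zero])
  rw [h2]
  exact hcard.trans <| (Nat.le_mul_of_pos_right _ (Char.charDegree_pos lam)).trans
    (Nat.le_mul_of_pos_left _ (Nat.pos_of_ne_zero hm0))

/-- If `w` fixes no nonidentity element of `C` and as many characters as its centraliser has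
elements have norm one at `w`, the others vanishing there, then these characters are trivial on
`C`. -/
theorem trivOn_of_count (C : Subgroup X) [C.Normal] (w : X)
    (hfree : ∀ c ∈ C, w * c = c * w → c = 1) {ι : Type v} [Fintype ι] (μ : ι → IrrCharacter X)
    (hinj : Function.Injective μ) (hnorm : ∀ i, (μ i).1 w * conj ((μ i).1 w) = 1)
    (hoth : ∀ χ : IrrCharacter X, (∀ i, χ ≠ μ i) → χ.1 w = 0)
    (hcard : Nat.card (Subgroup.centralizer ({w} : Set X)) = Fintype.card ι) (i : ι) :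
    Char.TrivOn C (μ i).1 := by
  classical
  haveI : Fintype C := Fintype.ofFinite _
  have h := Char.sum_trivOn_mul_conj C w w
  have hall : Nat.card {k : C // IsConj (w * k) w} = Nat.card C := by
    refine Nat.card_congr (Equiv.subtypeUnivEquiv fun k => ?_)
    let f : C → C := fun c => ⟨w⁻¹ * (c : X) * w * (c : X)⁻¹,
      C.mul_mem (by simpa using ‹C.Normal›.conj_mem _ c.2 w⁻¹) (C.inv_mem c.2)⟩
    have hf : Function.Injective f := fun a b e => by
      have h1 : w⁻¹ * (a : X) * w * (a : X)⁻¹ = w⁻¹ * (b : X) * w * (b : X)⁻¹ := congrArg Subtype.val e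
      refine Subtype.ext (inv_mul_eq_one.1 (hfree _ (C.mul_mem (C.inv_mem b.2) a.2) ?_)).symm
      calc w * ((b : X)⁻¹ * a) = w * (b : X)⁻¹ * a := by group
        _ = (b : X)⁻¹ * w * (w⁻¹ * (b : X) * w * (b : X)⁻¹) * a := by group
        _ = (b : X)⁻¹ * w * (w⁻¹ * (a : X) * w * (a : X)⁻¹) * a := by rw [h1]
        _ = (b : X)⁻¹ * a * w := by group
    obtain ⟨c, hc⟩ := Finite.surjective_of_injective hf k
    rw [isConj_iff]
    refine ⟨(c : X)⁻¹, ?_⟩
    rw [← hc]
    show (c : X)⁻¹ * (w * (w⁻¹ * (c : X) * w * (c : X)⁻¹)) * ((c : X)⁻¹)⁻¹ = w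
    group
  rw [hall, hcard, mul_comm (Fintype.card ι : ℂ)] at h
  have h1 := mul_left_cancel₀ (Nat.cast_ne_zero.2 Nat.card_pos.ne') h
  rw [← Finset.sum_subset (s₁ := (Finset.univ.filter fun i => Char.TrivOn C (μ i).1).image μ)
    (fun χ hχ => by
      obtain ⟨j, hj, rfl⟩ := Finset.mem_image.1 hχ
      exact Finset.mem_filter.2 ⟨Finset.mem_univ _, (Finset.mem_filter.1 hj).2⟩)
    (fun χ hχ hχ' => by
      rw [hoth χ fun j e => hχ' (Finset.mem_image.2 ⟨j, Finset.mem_filter.2 ⟨Finset.mem_univ _,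
        e ▸ (Finset.mem_filter.1 hχ).2⟩, e.symm⟩), zero_mul]),
    Finset.sum_image hinj.injOn, Finset.sum_congr rfl fun j _ => hnorm j, Finset.sum_const,
    nsmul_eq_mul, mul_one, Nat.cast_inj, Finset.card_eq_iff_eq_univ] at h1
  exact (Finset.mem_filter.1 (h1.symm ▸ Finset.mem_univ i : i ∈ Finset.univ.filter _)).2

end Generic

/-- The kernel of an irreducible character on the elements of `N`, as a subgroup. -/
theorem exists_kernel_in {X : Type u} [Group X] [Finite X] (θ : IrrCharacter X) (N : Subgroup X) :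
    ∃ M : Subgroup X, ∀ x, x ∈ M ↔ x ∈ N ∧ θ.1 x = θ.1 1 :=
  ⟨N ⊓ CharInt.charKernel (Char.irr_isCharacter θ), fun _ => Iff.rfl⟩

section Pivot

variable {L : Type u} [Group L] [Fintype L] {G : Type v} [Group G] [Fintype G]
  {τ : (L → ℂ) →ₗ[ℂ] (G → ℂ)} {S : Set (L → ℂ)} {R : (L → ℂ) → Finset (G → ℂ)}

/-- One pivot makes a set coherent. -/
theorem isCoherent_of_pivot (hS : IsCoherenceSystem S τ R) {ζ : L → ℂ} {E : G → ℂ} (hζ : ζ ∈ S)
    (hζζ : classInner ζ ζ = 1) (hζ1 : ζ 1 ≠ 0) (hE : IsGeneralizedCharacter G E)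
    (hEE : classInner E E = 1) (d : (L → ℂ) → ℕ) (hd : ∀ χ ∈ S, χ 1 = (d χ : ℂ) * ζ 1)
    (hp : ∀ χ ∈ S, classInner (τ (χ - (d χ : ℂ) • ζ)) E = classInner χ ζ - (d χ : ℂ)) :
    IsCoherent S {1}ᶜ τ := by
  refine ⟨⟨ζ - conjFun ζ, sub_conj_mem hS hζ, sub_ne_zero.2 (hS.conj_ne ζ hζ).symm⟩, ?_⟩
  let c : (L → ℂ) → ℂ := fun f => f 1 * (ζ 1)⁻¹
  let red : (L → ℂ) → (L → ℂ) := fun f => f - c f • ζ
  let τ₁ : (L → ℂ) → (G → ℂ) := fun f => τ (red f) + c f • E
  have hcadd : ∀ f g, c (f + g) = c f + c g := fun f g => add_mul _ _ _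
  have hcsmul : ∀ (n : ℤ) f, c (n • f) = (n : ℂ) * c f := fun n f => by
    show (n • f) 1 * (ζ 1)⁻¹ = _
    rw [Pi.smul_apply, zsmul_eq_mul, mul_assoc]
  have hradd : ∀ f g, red (f + g) = red f + red g := fun f g => by
    simp only [red, hcadd, add_smul]; abel
  have hrsmul : ∀ (n : ℤ) f, red (n • f) = (n : ℂ) • red f := fun n f => by
    simp only [red, hcsmul, smul_sub, smul_smul, Int.cast_smul_eq_zsmul]
  have key : ∀ f ∈ Submodule.span ℤ S, red f ∈ zspanOn S {1}ᶜ ∧ (∃ m : ℤ, c f = m) ∧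
      classInner (τ (red f)) E = classInner f ζ - c f := by
    intro f hf
    induction hf using Submodule.span_induction with
    | mem x hx =>
      have hc : c x = (d x : ℂ) := by
        show x 1 * (ζ 1)⁻¹ = _
        rw [hd x hx, mul_assoc, mul_inv_cancel₀ hζ1, mul_one]
      refine ⟨Char.mem_zspanOn_compl_one.2 ⟨?_, ?_⟩, ⟨d x, by rw [hc]; simp⟩, ?_⟩
      · show x - c x • ζ ∈ _
        rw [hc, show (d x : ℂ) = ((d x : ℤ) : ℂ) by simp, Int.cast_smul_eq_zsmul]
        exact Submodule.sub_mem _ (Submodule.subset_span hx)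
          (Submodule.smul_mem _ _ (Submodule.subset_span hζ))
      · show x 1 - c x * ζ 1 = 0
        rw [hc, ← hd x hx, sub_self]
      · show classInner (τ (x - c x • ζ)) E = _
        rw [hc, hp x hx]
    | zero =>
      have hc : c 0 = 0 := zero_mul _
      have hr : red 0 = 0 := by simp only [red, hc, zero_smul, sub_zero]
      exact ⟨by rw [hr]; exact Char.mem_zspanOn_compl_one.2 ⟨Submodule.zero_mem _, rfl⟩, ⟨0, by simp [hc]⟩,
        by rw [hr, map_zero, hc, Char.classInner_zero_left, Char.classInner_zero_left, sub_zero]⟩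
    | add x y _ _ hx hy =>
      obtain ⟨hx1, ⟨m, hm⟩, hx3⟩ := hx
      obtain ⟨hy1, ⟨k, hk⟩, hy3⟩ := hy
      refine ⟨?_, ⟨m + k, by rw [hcadd, hm, hk]; simp⟩, ?_⟩
      · rw [hradd]
        refine Char.mem_zspanOn_compl_one.2 ⟨Submodule.add_mem _ hx1.1 hy1.1, ?_⟩
        rw [Pi.add_apply, hx1.2 1 (by simp), hy1.2 1 (by simp), add_zero]
      · rw [hradd, map_add, Char.classInner_add_left, hx3, hy3, Char.classInner_add_left, hcadd]
        ring
    | smul n x _ hx =>
      obtain ⟨hx1, ⟨m, hm⟩, hx3⟩ := hx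
      refine ⟨?_, ⟨n * m, by rw [hcsmul, hm]; simp⟩, ?_⟩
      · rw [hrsmul, Int.cast_smul_eq_zsmul]
        refine Char.mem_zspanOn_compl_one.2 ⟨Submodule.smul_mem _ _ hx1.1, ?_⟩
        rw [Pi.smul_apply, hx1.2 1 (by simp), smul_zero]
      · rw [hrsmul, map_smul, Char.classInner_smul_left, hx3, hcsmul,
          ← Int.cast_smul_eq_zsmul ℂ n x, Char.classInner_smul_left]
        ring
  refine ⟨τ₁, ⟨fun f _ g _ => ?_, fun f _ n => ?_, fun f hf g hg => ?_, fun f hf => ?_⟩,
    fun f hf => ?_⟩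
  · simp only [τ₁, hradd, map_add, hcadd, add_smul]; abel
  · show τ (red (n • f)) + c (n • f) • E = n • (τ (red f) + c f • E)
    rw [hrsmul, map_smul, hcsmul, ← Int.cast_smul_eq_zsmul ℂ n (τ (red f) + c f • E), smul_add,
      smul_smul]
  · obtain ⟨hf1, ⟨m, hm⟩, hf3⟩ := key f hf
    obtain ⟨hg1, ⟨k, hk⟩, hg3⟩ := key g hg
    have hEg : classInner E (τ (red g)) = classInner ζ g - c g := by
      rw [← Char.conj_classInner, hg3, map_sub, Char.conj_classInner, hk, map_intCast]
    have hiso : classInner (τ (red f)) (τ (red g)) = classInner (red f) (red g) :=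
      hS.isometry.2.2.1 _ hf1 _ hg1
    simp only [τ₁, Char.classInner_add_left, Char.classInner_add_right, Char.classInner_smul_left,
      Char.classInner_smul_right, hiso, hf3, hEg, hEE]
    simp only [red, Char.classInner_sub_left, Char.classInner_sub_right, Char.classInner_smul_left,
      Char.classInner_smul_right, hζζ, hm, hk, map_intCast]
    ring
  · obtain ⟨hf1, ⟨m, hm⟩, -⟩ := key f hf
    show IsGeneralizedCharacter G (τ (red f) + c f • E)
    rw [hm]
    exact Char.IsGeneralizedCharacter.add (hS.isometry.2.2.2 _ hf1)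
      (Char.IsGeneralizedCharacter.intCast_smul hE m)
  · have hc : c f = 0 := by
      show f 1 * _ = 0
      rw [hf.2 1 (by simp), zero_mul]
    show τ (red f) + c f • E = _
    simp only [red, hc, zero_smul, add_zero, sub_zero]

end Pivot

namespace Eleven

variable {L : Type u} [Group L] [Fintype L] {K H U W W₂ : Subgroup L} {p q : ℕ}
  (E : Eleven K H U W W₂ p q)
include E

theorem HC_normal : (H ⊔ (U ⊓ Subgroup.centralizer (H : Set L))).Normal := by
  haveI := E.H_normal
  haveI := E.C_normal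
  infer_instance

theorem HC_le : H ⊔ (U ⊓ Subgroup.centralizer (H : Set L)) ≤ K :=
  sup_le E.H_le (inf_le_left.trans E.U_le)

theorem relIndex_HC : (H ⊔ (U ⊓ Subgroup.centralizer (H : Set L))).relIndex K =
    (U ⊓ Subgroup.centralizer (H : Set L)).relIndex U := by
  haveI := E.H_normal
  rw [E.relIndex_sup le_rfl inf_le_left Subgroup.le_normalizer_of_normal, Subgroup.relIndex_self,
    one_mul]

theorem commutator_K_le_HC : ⁅K, K⁆ ≤ H ⊔ (U ⊓ Subgroup.centralizer (H : Set L)) := by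
  haveI := E.HC_normal
  exact E.commutator_K_le _ (H.commutator_le_self.trans le_sup_left)
    (E.commutator_le_H.trans le_sup_left) (E.commutator_U_le.trans le_sup_right)

variable [IsMulCommutative H]

theorem HC_cent {z h : L} (hz : z ∈ H ⊔ (U ⊓ Subgroup.centralizer (H : Set L))) (hh : h ∈ H) :
    Commute z h := by
  haveI := E.H_normal
  obtain ⟨a, ha, c, hc, rfl⟩ := Subgroup.mem_sup_of_normal_left.1 hz
  exact Commute.mul_left (congrArg Subtype.val (mul_comm' (⟨a, ha⟩ : H) ⟨h, hh⟩) :)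
    (Subgroup.mem_centralizer_iff.1 hc.2 h hh).symm

/-- If `u` of `U` fixes a constituent of `θ` on `H`, all `[u, h]` lie in the kernel of `θ`. -/
theorem apply_commutator_of_fixed [Fintype K] (θ : IrrCharacter K) [(H.subgroupOf K).Normal]
    [Fintype (H.subgroupOf K)] (lam : IrrCharacter (H.subgroupOf K))
    (hlam : classInner (Char.resFun (H.subgroupOf K) θ.1) lam.1 ≠ 0) {u : K} (hu : (u : L) ∈ U)
    (hfix : Char.conjFun (H.subgroupOf K) lam.1 u = lam.1) (n : H.subgroupOf K) :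
    θ.1 (u * n * (u : K)⁻¹ * (n : K)⁻¹) = θ.1 1 := by
  classical
  have hcomm : ∀ a b : H.subgroupOf K, a * b = b * a := fun a b => Subtype.ext (Subtype.ext
    (congrArg Subtype.val (mul_comm' (⟨((a : K) : L), a.2⟩ : H) ⟨((b : K) : L), b.2⟩) :))
  set u' : H.subgroupOf K := MulAut.conjNormal u n * n⁻¹ with hu'
  have hval : ((u' : H.subgroupOf K) : K) = u * n * u⁻¹ * (n : K)⁻¹ := by simp [hu']
  have horb : ∀ κ ∈ Char.orbitFinset (H.subgroupOf K) lam, κ.1 u' = κ.1 1 := by
    intro κ hκ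
    obtain ⟨g, rfl⟩ := (Char.mem_orbitFinset _).1 hκ
    obtain ⟨l, hl⟩ := Char.IsCharacter.exists_monoidHom (Char.irr_isCharacter lam)
      (Char.apply_one_of_comm hcomm lam)
    simp only [Char.conjChar_coe, Char.conjFun]
    rw [map_one, ← hl, map_one, hu', map_mul, map_inv, map_mul]
    have h1 : MulAut.conjNormal g (MulAut.conjNormal u n) =
        MulAut.conjNormal u (MulAut.conjNormal g n) := by
      apply Subtype.ext; apply Subtype.ext
      have hz : ((g : L) * u * (g : L)⁻¹ * (u : L)⁻¹) ∈ H ⊔ (U ⊓ Subgroup.centralizer (H : Set L)) :=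
        E.commutator_K_le_HC (by
          have := Subgroup.commutator_mem_commutator g.2 u.2
          rwa [commutatorElement_def] at this)
      have hm : (u : L) * ((g : L) * ((n : K) : L) * (g : L)⁻¹) * (u : L)⁻¹ ∈ H :=
        E.H_normal.conj_mem _ (E.H_normal.conj_mem _ n.2 g) u
      simp only [MulAut.conjNormal_apply, Subgroup.coe_mul, Subgroup.coe_inv]
      have e := (E.HC_cent hz hm).eq
      calc (g : L) * ((u : L) * ((n : K) : L) * (u : L)⁻¹) * (g : L)⁻¹
          = ((g : L) * u * (g : L)⁻¹ * (u : L)⁻¹) * ((u : L) * ((g : L) * ((n : K) : L) * (g : L)⁻¹) *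
            (u : L)⁻¹) * ((g : L) * u * (g : L)⁻¹ * (u : L)⁻¹)⁻¹ := by group
        _ = _ := by rw [e, mul_inv_cancel_right]
    rw [h1, show l (MulAut.conjNormal u (MulAut.conjNormal g n)) = l (MulAut.conjNormal g n) by
      have := congrFun hfix (MulAut.conjNormal g n)
      simpa only [Char.conjFun, ← hl] using this, ← map_mul, mul_inv_cancel, map_one]
  have h2 := congrFun (Char.resFun_eq_smul_orbitSum (H.subgroupOf K) θ lam hlam) u'
  have h3 := congrFun (Char.resFun_eq_smul_orbitSum (H.subgroupOf K) θ lam hlam) 1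
  simp only [Char.resFun_apply, Pi.smul_apply, Char.orbitSum, Finset.sum_apply] at h2 h3
  rw [Finset.sum_congr rfl horb, ← h3, hval] at h2
  simpa using h2

/-- The degree of a character of `K` whose stabilisers of constituents on `H` lie in `H ⊔ V`. -/
theorem degree_eq [Fintype K] (θ : IrrCharacter K) (V : Subgroup L)
    (hCV : U ⊓ Subgroup.centralizer (H : Set L) ≤ V) (hVU : V ≤ U)
    (hab : ∀ x ∈ H ⊔ V, ∀ y ∈ H ⊔ V, ∀ hm : x * y * x⁻¹ * y⁻¹ ∈ K, θ.1 ⟨_, hm⟩ = θ.1 1)
    (hstab : ∀ u : K, (u : L) ∈ U →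
      (∀ n : K, (n : L) ∈ H → θ.1 (u * n * u⁻¹ * n⁻¹) = θ.1 1) → (u : L) ∈ V) :
    charDegree θ.1 = V.relIndex U := by
  classical
  haveI := E.H_normal
  have hle : H ⊔ V ≤ K := sup_le E.H_le (hVU.trans E.U_le)
  have hK' : ⁅K, K⁆ ≤ H ⊔ V := E.commutator_K_le_HC.trans (sup_le_sup_left hCV _)
  haveI hJ : ((H ⊔ V).subgroupOf K).Normal := ⟨fun x hx g => by
    show (g : L) * x * (g : L)⁻¹ ∈ H ⊔ V
    rw [show (g : L) * x * (g : L)⁻¹ = ⁅(g : L), (x : L)⁆ * x by rw [commutatorElement_def]; group]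
    exact (H ⊔ V).mul_mem (hK' (Subgroup.commutator_mem_commutator g.2 x.2)) hx⟩
  have hidx : ((H ⊔ V).subgroupOf K).index = V.relIndex U := by
    show (H ⊔ V).relIndex K = _
    rw [E.relIndex_sup le_rfl hVU Subgroup.le_normalizer_of_normal, Subgroup.relIndex_self, one_mul]
  rw [← hidx]
  refine le_antisymm (degree_le_of_abelian θ _ fun x hx y hy =>
    hab x hx y hy (x * y * x⁻¹ * y⁻¹ : K).2) ?_
  haveI : (H.subgroupOf K).Normal := inferInstance
  obtain ⟨lam, hlam⟩ := Char.exists_constituent (H.subgroupOf K) θ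
  refine index_le_degree θ (H.subgroupOf K) _ lam hlam fun g hg => ?_
  have hgK : (g : L) ∈ H ⊔ U := by rw [E.H_sup_U]; exact g.2
  obtain ⟨h, hh, u, hu, e⟩ := Subgroup.mem_sup_of_normal_left.1 hgK
  have hge : g = ⟨h, E.H_le hh⟩ * ⟨u, E.U_le hu⟩ := Subtype.ext e.symm
  have hfix : Char.conjFun (H.subgroupOf K) lam.1 ⟨u, E.U_le hu⟩ = lam.1 := by
    have h1 : Char.conjFun (H.subgroupOf K) lam.1 ⟨h, E.H_le hh⟩ = lam.1 := funext fun n => by
      refine congrArg lam.1 (Subtype.ext (Subtype.ext ?_))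
      show h * ((n : K) : L) * h⁻¹ = ((n : K) : L)
      have h2 : h * ((n : K) : L) = ((n : K) : L) * h :=
        congrArg Subtype.val (mul_comm' (⟨h, hh⟩ : H) ⟨_, n.2⟩)
      rw [h2, mul_inv_cancel_right]
    rw [hge, Char.conjFun_mul, h1] at hg
    exact hg
  have huV : u ∈ V := hstab ⟨u, E.U_le hu⟩ hu fun n hn =>
    E.apply_commutator_of_fixed θ lam hlam hu hfix ⟨n, hn⟩
  show (g : L) ∈ H ⊔ V
  rw [← e]
  exact (H ⊔ V).mul_mem (Subgroup.mem_sup_left hh) (Subgroup.mem_sup_right huV)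

/-- The degree of a character trivial on `C` is at most `u`. -/
theorem degree_le [Fintype K] (θ : IrrCharacter K)
    (hC : ∀ a : K, (a : L) ∈ U ⊓ Subgroup.centralizer (H : Set L) → θ.1 a = θ.1 1) :
    charDegree θ.1 ≤ (U ⊓ Subgroup.centralizer (H : Set L)).relIndex U := by
  classical
  haveI := E.H_normal
  haveI := E.C_normal
  haveI := E.HC_normal
  set C := U ⊓ Subgroup.centralizer (H : Set L) with hCdef
  rw [← E.relIndex_HC]
  refine degree_le_of_abelian θ ((H ⊔ C).subgroupOf K) fun x hx y hy => hC _ ?_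
  obtain ⟨a, ha, c, hc, hx'⟩ := Subgroup.mem_sup_of_normal_left.1
    (show (x : L) ∈ H ⊔ C from hx)
  obtain ⟨b, hb, d, hd, hy'⟩ := Subgroup.mem_sup_of_normal_left.1
    (show (y : L) ∈ H ⊔ C from hy)
  show (x : L) * y * (x : L)⁻¹ * (y : L)⁻¹ ∈ C
  rw [← QuotientGroup.eq_one_iff (N := C), ← QuotientGroup.mk'_apply]
  set π := QuotientGroup.mk' C
  have h1 : π c = 1 := (QuotientGroup.eq_one_iff c).2 hc
  have h2 : π d = 1 := (QuotientGroup.eq_one_iff d).2 hd
  have h3 : a * b = b * a := congrArg Subtype.val (mul_comm' (⟨a, ha⟩ : H) ⟨b, hb⟩)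
  simp only [map_mul, map_inv, ← hx', ← hy', h1, h2, mul_one]
  rw [← map_mul π a b, h3, map_mul, mul_assoc (π b), mul_inv_cancel, mul_one, mul_inv_cancel]

/-- A character of `K` trivial on `C` and faithful on `H` has degree `u`. -/
theorem degree_eq_u [Fintype K] (θ : IrrCharacter K)
    (hC : ∀ a : K, (a : L) ∈ U ⊓ Subgroup.centralizer (H : Set L) → θ.1 a = θ.1 1)
    (hfaith : ∀ a : K, (a : L) ∈ H → θ.1 a = θ.1 1 → a = 1) :
    charDegree θ.1 = (U ⊓ Subgroup.centralizer (H : Set L)).relIndex U := by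
  haveI := E.C_normal
  haveI := E.H_normal
  refine E.degree_eq θ _ le_rfl inf_le_left (fun x hx y hy hm => ?_) fun u hu hk => ⟨hu, ?_⟩
  · set C := U ⊓ Subgroup.centralizer (H : Set L) with hCdef
    obtain ⟨a, ha, c, hc, rfl⟩ := Subgroup.mem_sup_of_normal_left.1 hx
    obtain ⟨b, hb, d, hd, rfl⟩ := Subgroup.mem_sup_of_normal_left.1 hy
    refine hC ⟨_, hm⟩ ?_
    show a * c * (b * d) * (a * c)⁻¹ * (b * d)⁻¹ ∈ C
    rw [← QuotientGroup.eq_one_iff (N := C), ← QuotientGroup.mk'_apply]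
    set π := QuotientGroup.mk' C
    have h1 : π c = 1 := (QuotientGroup.eq_one_iff c).2 hc
    have h2 : π d = 1 := (QuotientGroup.eq_one_iff d).2 hd
    have h3 : a * b = b * a := congrArg Subtype.val (mul_comm' (⟨a, ha⟩ : H) ⟨b, hb⟩)
    simp only [map_mul, map_inv, h1, h2, mul_one]
    rw [← map_mul π a b, h3, map_mul, mul_assoc (π b), mul_inv_cancel, mul_one, mul_inv_cancel]
  · refine Subgroup.mem_centralizer_iff.2 fun x hx => ?_
    have h1 := hfaith _ (H.mul_mem (E.H_normal.conj_mem x hx u) (H.inv_mem hx))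
      (hk ⟨x, E.H_le hx⟩ hx)
    have h2 : (u : L) * x * (u : L)⁻¹ * x⁻¹ = 1 := congrArg Subtype.val h1
    rw [mul_inv_eq_one, mul_inv_eq_iff_eq_mul] at h2
    exact h2.symm

/-- A character of `K` trivial on `Y C`, not on `H`, has degree `a`. -/
theorem degree_eq_a [Fintype K] {X Y : Subgroup L} {a : ℕ} (hl : Line H U X Y p a)
    (θ : IrrCharacter K)
    (hC : ∀ z : K, (z : L) ∈ Y ⊔ (U ⊓ Subgroup.centralizer (H : Set L)) → θ.1 z = θ.1 1)
    (hH : ¬ ∀ z : K, (z : L) ∈ H → θ.1 z = θ.1 1) : charDegree θ.1 = a := by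
  classical
  haveI := E.H_normal
  haveI := E.C_normal
  set C := U ⊓ Subgroup.centralizer (H : Set L) with hCdef
  set V := U ⊓ Subgroup.centralizer (X : Set L) with hV
  have hCV : C ≤ V := le_inf inf_le_left (inf_le_right.trans (Subgroup.centralizer_le hl.X_le))
  rw [← hl.index]
  have hKN : K ≤ Subgroup.normalizer (Y : Set L) := by
    rw [← E.H_sup_U]
    refine sup_le (fun h hh => Subgroup.centralizer_le_normalizer _ ?_) hl.U_Y
    exact Subgroup.mem_centralizer_iff.2 fun y hy =>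
      congrArg Subtype.val (mul_comm' (⟨y, hl.Y_le hy⟩ : H) ⟨h, hh⟩)
  refine E.degree_eq θ V hCV inf_le_left (fun x hx y hy hm => ?_) fun u hu hk => ?_
  · -- `[H ⊔ V, H ⊔ V] ≤ Y ⊔ C`
    refine hC ⟨_, hm⟩ ?_
    haveI hn : ((Y ⊔ C).subgroupOf K).Normal := by
      refine Coprime.normal_subgroupOf_of_le_normalizer ((le_inf hKN ?_).trans
        (Subgroup.normalizer_inf_normalizer_le_normalizer_sup _ _))
      exact Subgroup.le_normalizer_of_normal
    let π : K →* K ⧸ (Y ⊔ C).subgroupOf K := QuotientGroup.mk' _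
    let J : Subgroup K := (H ⊔ V).subgroupOf K
    have hone : ∀ z : K, (z : L) ∈ Y ⊔ C → π z = 1 := fun z hz => (QuotientGroup.eq_one_iff z).2 hz
    have hxK : x ∈ K := sup_le E.H_le (inf_le_left.trans E.U_le) hx
    have hyK : y ∈ K := sup_le E.H_le (inf_le_left.trans E.U_le) hy
    have hHV : ∀ h : K, (h : L) ∈ H → ∀ v : K, (v : L) ∈ V → Commute (π h) (π v) := by
      intro h hh v hv
      refine commutatorElement_eq_one_iff_commute.1 ?_
      rw [← map_commutatorElement]
      refine hone _ ?_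
      have hhs : (h : L) ∈ X ⊔ Y := by rw [hl.sup_eq]; exact hh
      have hYX : Y ≤ Subgroup.normalizer (X : Set L) := fun y hy =>
        Subgroup.centralizer_le_normalizer _ (Subgroup.mem_centralizer_iff.2 fun z hz =>
          congrArg Subtype.val (mul_comm' (⟨z, hl.X_le hz⟩ : H) ⟨y, hl.Y_le hy⟩))
      rw [sup_comm] at hhs
      obtain ⟨y', hy', x', hx', e⟩ := (Coprime.mem_sup_iff_of_le_normalizer hYX).1 hhs
      have hvx : x' * v * x'⁻¹ = (v : L) := by
        rw [Subgroup.mem_centralizer_iff.1 hv.2 x' hx', mul_inv_cancel_right]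
      refine Subgroup.mem_sup_left ?_
      show ⁅(h : L), (v : L)⁆ ∈ Y
      rw [commutatorElement_def, ← e, show y' * x' * (v : L) * (y' * x')⁻¹ * (v : L)⁻¹ =
        y' * (x' * v * x'⁻¹) * y'⁻¹ * (v : L)⁻¹ by group, hvx,
        show y' * (v : L) * y'⁻¹ * (v : L)⁻¹ = y' * (v * y'⁻¹ * (v : L)⁻¹) by group]
      exact Y.mul_mem hy' ((Subgroup.mem_normalizer_iff.1 (hl.U_Y hv.1) _).1 (Y.inv_mem hy'))
    have hVV : ∀ v : K, (v : L) ∈ V → ∀ w : K, (w : L) ∈ V → Commute (π v) (π w) := by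
      intro v hv w hw
      refine commutatorElement_eq_one_iff_commute.1 ?_
      rw [← map_commutatorElement]
      exact hone _ (Subgroup.mem_sup_right
        (E.commutator_U_le (Subgroup.commutator_mem_commutator hv.1 hw.1)))
    obtain ⟨h, hh, v, hv, hx'⟩ := Subgroup.mem_sup_of_normal_left.1 hx
    obtain ⟨g, hg, w, hw, hy'⟩ := Subgroup.mem_sup_of_normal_left.1 hy
    let h' : K := ⟨h, E.H_le hh⟩
    let g' : K := ⟨g, E.H_le hg⟩
    let v' : K := ⟨v, E.U_le hv.1⟩
    let w' : K := ⟨w, E.U_le hw.1⟩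
    have hHH : Commute h' g' := Subtype.ext
      (congrArg Subtype.val (mul_comm' (⟨h, hh⟩ : H) ⟨g, hg⟩) :)
    have hc : Commute (π (h' * v')) (π (g' * w')) := by
      rw [map_mul, map_mul]
      exact ((hHH.map π).mul_right (hHV h' hh w' hw)).mul_left
        ((hHV g' hg v' hv).symm.mul_right (hVV v' hv w' hw))
    have hz : π (h' * v' * (g' * w') * (h' * v')⁻¹ * (g' * w')⁻¹) = 1 := by
      rw [← commutatorElement_def, map_commutatorElement, commutatorElement_eq_one_iff_commute]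
      exact hc
    have := (QuotientGroup.eq_one_iff _).1 hz
    show x * y * x⁻¹ * y⁻¹ ∈ Y ⊔ C
    rw [← hx', ← hy']
    exact this
  · refine ⟨hu, Subgroup.mem_centralizer_iff.2 fun x hx => ?_⟩
    obtain ⟨M, hM⟩ := exists_kernel_in θ (X.subgroupOf K)
    have hXK : X ≤ K := hl.X_le.trans E.H_le
    haveI : Fact (Nat.card (X.subgroupOf K)).Prime := ⟨by
      rw [Nat.card_congr (Subgroup.subgroupOfEquivOfLe hXK).toEquiv, hl.card_X]; exact E.p_prime⟩
    have hz : (u : L) * x * (u : L)⁻¹ * x⁻¹ ∈ X :=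
      X.mul_mem ((Subgroup.mem_normalizer_iff.1 (hl.U_X hu) x).1 hx) (X.inv_mem hx)
    have hzM : u * ⟨x, hXK hx⟩ * u⁻¹ * (⟨x, hXK hx⟩ : K)⁻¹ ∈ M :=
      (hM _).2 ⟨hz, hk ⟨x, hXK hx⟩ (hl.X_le hx)⟩
    rcases Subgroup.eq_bot_or_eq_top_of_prime_card (M.subgroupOf (X.subgroupOf K)) with h | h
    · rw [Subgroup.subgroupOf_eq_bot, disjoint_iff] at h
      have h2 : u * ⟨x, hXK hx⟩ * u⁻¹ * (⟨x, hXK hx⟩ : K)⁻¹ ∈ M ⊓ X.subgroupOf K := ⟨hzM, hz⟩
      rw [h, Subgroup.mem_bot] at h2
      have h3 : (u : L) * x * (u : L)⁻¹ * x⁻¹ = 1 := congrArg Subtype.val h2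
      rw [mul_inv_eq_one, mul_inv_eq_iff_eq_mul] at h3
      exact h3.symm
    · exfalso
      refine hH fun z hz' => ?_
      obtain ⟨N, hN⟩ := exists_kernel_in θ (H.subgroupOf K)
      have h1 : H.subgroupOf K ≤ N := by
        rw [← hl.sup_eq, Subgroup.subgroupOf_sup hXK (hl.Y_le.trans E.H_le)]
        exact sup_le (fun a ha => (hN a).2 ⟨hl.X_le ha,
          ((hM a).1 (Subgroup.subgroupOf_eq_top.1 h ha)).2⟩)
          fun a ha => (hN a).2 ⟨hl.Y_le ha, hC a (Subgroup.mem_sup_left ha)⟩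
      exact ((hN z).1 (h1 hz')).2

/-- An irreducible character of `K` fixed by no element outside `K` induces irreducibly. -/
theorem irr_indFun [Fintype K] (θ : IrrCharacter K)
    (h : haveI := E.K_normal; ∀ g, Char.conjFun K θ.1 g = θ.1 → g ∈ K) :
    IsIrrCharacter L (indFun K θ.1) := by
  haveI := E.K_normal
  exact Char.isIrrCharacter_indFun_inertia K K le_rfl θ h (ψ := θ) one_ne_zero fun n => by simp

/-- The characters of `K` trivial on `H C` have degree one. -/
theorem degree_lin [Fintype K] (θ : IrrCharacter K)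
    (hθ : θ ∈ aboveChars K (H ⊔ (U ⊓ Subgroup.centralizer (H : Set L)))) : charDegree θ.1 = 1 := by
  haveI := E.K_normal
  refine le_antisymm ?_ (Char.charDegree_pos θ)
  have h := degree_le_of_abelian θ ⊤ fun x _ y _ => ((mem_aboveChars K).1 hθ).2 _ (E.commutator_K_le_HC (by
    have := Subgroup.commutator_mem_commutator x.2 y.2
    rwa [commutatorElement_def] at this))
  rwa [Subgroup.index_top] at h

/-- A nontrivial character of `K` trivial on `H C` is fixed by no element outside `K`. -/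
theorem lin_stab [Fintype K] (θ : IrrCharacter K)
    (hθ : θ ∈ aboveChars K (H ⊔ (U ⊓ Subgroup.centralizer (H : Set L)))) :
    haveI := E.K_normal; ∀ g, Char.conjFun K θ.1 g = θ.1 → g ∈ K := by
  haveI := E.K_normal
  haveI := E.H_normal
  intro g hg
  by_contra hgK
  obtain ⟨hne, htriv⟩ := (mem_aboveChars K).1 hθ
  have hgt : g ∈ K ⊔ W := by rw [E.K_sup_W]; exact Subgroup.mem_top g
  obtain ⟨k, hk, w, hw, e⟩ := Subgroup.mem_sup_of_normal_left.1 hgt
  have hw1 : w ≠ 1 := fun e' => hgK (by rw [← e, e', mul_one]; exact hk)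
  obtain ⟨l, hl⟩ := Char.IsCharacter.exists_monoidHom (Char.irr_isCharacter θ)
    (by rw [← Char.charDegree_cast, E.degree_lin θ hθ, Nat.cast_one])
  have hcl := Char.IsCharacter.isClassFunction (Char.irr_isCharacter θ)
  have hwK : ∀ x : K, θ.1 (MulAut.conjNormal w x) = θ.1 x := fun x => by
    have h1 := congrFun hg x
    rw [Char.conjFun, show MulAut.conjNormal g x =
      (⟨k, hk⟩ : K) * MulAut.conjNormal w x * (⟨k, hk⟩ : K)⁻¹ from Subtype.ext (by
        simp only [MulAut.conjNormal_apply, Subgroup.coe_mul, Subgroup.coe_inv, ← e]; group), hcl] at h1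
    exact h1
  -- `θ` is trivial on `U`
  have hU : ∀ u : K, (u : L) ∈ U → l u = 1 := by
    intro u hu
    let f : U → U := fun v => ⟨(v : L)⁻¹ * (w * v * w⁻¹), U.mul_mem (U.inv_mem v.2)
      ((Subgroup.mem_normalizer_iff.1 (E.W_normalizes hw) _).1 v.2)⟩
    have hf : Function.Injective f := fun a b h => by
      have h1 : (a : L)⁻¹ * (w * a * w⁻¹) = (b : L)⁻¹ * (w * b * w⁻¹) := congrArg Subtype.val h
      refine Subtype.ext (mul_inv_eq_one.1 (E.fpf w hw hw1 _ (U.mul_mem b.2 (U.inv_mem a.2)) ?_)).symm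
      calc w * ((b : L) * (a : L)⁻¹) = (b : L) * ((b : L)⁻¹ * (w * b * w⁻¹)) * w * (a : L)⁻¹ := by group
        _ = (b : L) * ((a : L)⁻¹ * (w * a * w⁻¹)) * w * (a : L)⁻¹ := by rw [h1]
        _ = (b : L) * (a : L)⁻¹ * w := by group
    obtain ⟨v, hv⟩ := Finite.surjective_of_injective hf ⟨u, hu⟩
    have hu' : u = (⟨v, E.U_le v.2⟩ : K)⁻¹ * MulAut.conjNormal w (⟨v, E.U_le v.2⟩ : K) :=
      Subtype.ext (by simpa [f] using (congrArg Subtype.val hv).symm)
    have h2 := hwK ⟨v, E.U_le v.2⟩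
    rw [← hl] at h2
    rw [hu', map_mul, h2, ← map_mul, inv_mul_cancel, map_one]
  refine hne (Subtype.ext (funext fun x => ?_))
  show θ.1 x = 1
  have hxK : (x : L) ∈ H ⊔ U := by rw [E.H_sup_U]; exact x.2
  obtain ⟨a, ha, u, hu, hx⟩ := Subgroup.mem_sup_of_normal_left.1 hxK
  rw [← hl, show x = ⟨a, E.H_le ha⟩ * ⟨u, E.U_le hu⟩ from Subtype.ext hx.symm, map_mul,
    hU ⟨u, E.U_le hu⟩ hu, mul_one]
  have h3 := htriv ⟨a, E.H_le ha⟩ (Subgroup.mem_sup_left ha)
  rwa [← hl, map_one] at h3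

open scoped Classical in
/-- The characters of `L` induced from those trivial on `H C` are irreducible of degree `q`, and
there are `(u - 1) / q` of them. -/
theorem lin_card [Fintype K] {n : ℕ}
    (hn : n * q + 1 = (U ⊓ Subgroup.centralizer (H : Set L)).relIndex U) :
    (∀ φ ∈ inducedIrrAbove K (H ⊔ (U ⊓ Subgroup.centralizer (H : Set L))),
        IsIrrCharacter L φ ∧ φ 1 = q) ∧
      ((aboveChars K (H ⊔ (U ⊓ Subgroup.centralizer (H : Set L)))).image
        fun θ => indFun K θ.1).card = n := by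
  haveI := E.K_normal
  haveI := E.HC_normal
  set A := H ⊔ (U ⊓ Subgroup.centralizer (H : Set L)) with hA
  have hirr : ∀ θ ∈ aboveChars K A, IsIrrCharacter L (indFun K θ.1) := fun θ hθ =>
    E.irr_indFun θ (E.lin_stab θ hθ)
  have hdeg : ∀ θ ∈ aboveChars K A, indFun K θ.1 1 = (q : ℂ) := fun θ hθ => by
    rw [Char.indFun_apply_one, ← Char.charDegree_cast, E.degree_lin θ hθ, E.K_index, Nat.cast_one,
      mul_one]
  refine ⟨fun φ hφ => ?_, ?_⟩
  · obtain ⟨θ, hθ, rfl⟩ := (mem_inducedIrrAbove_iff K).1 hφ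
    exact ⟨hirr θ hθ, hdeg θ hθ⟩
  have hsum := sum_sq_div_norm K (aboveChars K A) (fun θ hθ g => conjChar_mem_aboveChars K hθ g)
    (fun _ => q) (fun _ => 1) hdeg
    fun θ hθ => by rw [Nat.cast_one]; exact Char.classInner_irr_self (hirr θ hθ)
  have hcount : (∑ φ ∈ aboveChars K A, (charDegree φ.1 : ℝ) ^ 2) = (A.relIndex K : ℝ) - 1 := by
    have := sum_aboveChars K A
    simp only [← Char.charDegree_cast] at this
    exact Complex.ofReal_injective (by push_cast; exact this)
  rw [hcount, E.K_index, E.relIndex_HC, ← hn, Finset.sum_const, nsmul_eq_mul] at hsum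
  push_cast at hsum
  have hq : (0 : ℝ) < q := by exact_mod_cast E.q_prime.pos
  have h1 : (((aboveChars K A).image fun θ => indFun K θ.1).card : ℝ) = n :=
    mul_right_cancel₀ (pow_ne_zero 2 hq.ne') (by linear_combination hsum)
  exact_mod_cast h1

theorem le_normalizer_Y {X Y : Subgroup L} {a : ℕ} (hl : Line H U X Y p a) :
    K ≤ Subgroup.normalizer (Y : Set L) := by
  rw [← E.H_sup_U]
  refine sup_le (fun h hh => Subgroup.centralizer_le_normalizer _ ?_) hl.U_Y
  exact Subgroup.mem_centralizer_iff.2 fun y hy =>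
    congrArg Subtype.val (mul_comm' (⟨y, hl.Y_le hy⟩ : H) ⟨h, hh⟩)

theorem relIndex_Y {X Y : Subgroup L} {a : ℕ} (hl : Line H U X Y p a) : Y.relIndex H = p := by
  have hn : X ≤ Subgroup.normalizer (Y : Set L) := hl.X_le.trans (E.H_le.trans (E.le_normalizer_Y hl))
  have h1 : Nat.card H = Nat.card X * Nat.card Y := by
    rw [← hl.sup_eq, Coprime.card_sup_of_le_normalizer hn hl.inf_eq]
  have h2 : Nat.card Y * Y.relIndex H = Nat.card H := by
    rw [← Nat.card_congr (Subgroup.subgroupOfEquivOfLe hl.Y_le).toEquiv]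
    exact Subgroup.card_mul_index _
  rw [h1, hl.card_X, mul_comm p] at h2
  exact Nat.eq_of_mul_eq_mul_left Nat.card_pos h2

/-- A conjugate of `Y` by an element outside `K` meets the kernel properly. -/
theorem mem_K_of_trivOn_conj [Fintype K] {X Y : Subgroup L} {a : ℕ} (hl : Line H U X Y p a)
    (hbot : H ⊓ Subgroup.centralizer (U : Set L) = ⊥) (θ : IrrCharacter K)
    (hY : ∀ z : K, (z : L) ∈ Y → θ.1 z = θ.1 1) (hH : ¬ ∀ z : K, (z : L) ∈ H → θ.1 z = θ.1 1)
    {g : L} (hg : haveI := E.K_normal; ∀ z : K, (z : L) ∈ Y → θ.1 (MulAut.conjNormal g z) = θ.1 1) :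
    g ∈ K := by
  haveI := E.K_normal
  haveI := E.H_normal
  by_contra hgK
  obtain ⟨M, hM⟩ := exists_kernel_in θ (H.subgroupOf K)
  have hYK : Y ≤ K := hl.Y_le.trans E.H_le
  haveI : Fact p.Prime := ⟨E.p_prime⟩
  set N := M.map K.subtype with hN
  have hYN : Y ≤ N := fun y hy => ⟨⟨y, hYK hy⟩, (hM _).2 ⟨hl.Y_le hy, hY _ hy⟩, rfl⟩
  have hgN : ∀ y ∈ Y, g * y * g⁻¹ ∈ N := fun y hy => by
    refine ⟨MulAut.conjNormal g (⟨y, hYK hy⟩ : K), (hM _).2 ⟨?_, hg _ hy⟩, by simp⟩
    show ((MulAut.conjNormal g (⟨y, hYK hy⟩ : K) : K) : L) ∈ H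
    rw [MulAut.conjNormal_apply]
    exact E.H_normal.conj_mem y (hl.Y_le hy) g
  have hNH : N ≤ H := by rintro _ ⟨z, hz, rfl⟩; exact ((hM z).1 hz).1
  have hmul := Subgroup.relIndex_mul_relIndex Y N H hYN hNH
  rw [E.relIndex_Y hl] at hmul
  rcases (Nat.dvd_prime E.p_prime).1 ⟨_, hmul.symm⟩ with e | e
  · -- then `g` normalises `Y`
    have hgY : g ∈ Subgroup.normalizer (Y : Set L) := by
      refine Coprime.mem_normalizer_of_conj_smul_eq ?_
      show Subgroup.map (MulAut.conj g).toMonoidHom Y = Y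
      refine Subgroup.eq_of_le_of_card_ge ?_ (Subgroup.card_map_of_injective (MulAut.conj g).injective).ge
      rintro _ ⟨y, hy, rfl⟩
      exact Subgroup.relIndex_eq_one.1 e (hgN y hy)
    have htop : Subgroup.normalizer (Y : Set L) = ⊤ := by
      refine Subgroup.index_eq_one.1 ?_
      have h := Subgroup.relIndex_mul_index (E.le_normalizer_Y hl)
      rw [E.K_index] at h
      rcases (Nat.dvd_prime E.q_prime).1 ⟨_, h.symm⟩ with h' | h'
      · exact absurd (Subgroup.relIndex_eq_one.1 h' hgY) hgK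
      · rw [h'] at h
        exact Nat.eq_of_mul_eq_mul_left E.q_prime.pos (by rw [h, mul_one])
    haveI : Y.Normal := Subgroup.normalizer_eq_top_iff.1 htop
    have h := E.eq_or_eq Y (by rw [hbot]; exact bot_le) hl.Y_le
    rw [hbot] at h
    have h1 := E.relIndex_Y hl
    rcases h with h | h
    · rw [h, Subgroup.relIndex_bot_left, E.card_H, hbot, Subgroup.card_bot, mul_one] at h1
      have h2 : p ^ q = p := h1
      exact E.q_prime.ne_one (Nat.pow_right_injective E.p_prime.two_le (h2.trans (pow_one p).symm))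
    · rw [h, Subgroup.relIndex_self] at h1
      exact E.p_prime.ne_one h1.symm
  · rw [e] at hmul
    have h := Subgroup.relIndex_eq_one.1 (Nat.eq_of_mul_eq_mul_left E.p_prime.pos
      (hmul.trans (mul_one p).symm))
    refine hH fun z hz => ?_
    obtain ⟨z', hz', e'⟩ := h hz
    rw [← show z' = z from Subtype.ext e']
    exact ((hM z').1 hz').2

open scoped Classical in
/-- The family attached to a line. -/
theorem exists_family [Fintype K] {X Y : Subgroup L} {a : ℕ} (hl : Line H U X Y p a)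
    (hbot : H ⊓ Subgroup.centralizer (U : Set L) = ⊥) :
    ∃ F : Finset (L → ℂ),
      (∀ φ ∈ F, IsIrrCharacter L φ ∧ φ 1 = ((a * q : ℕ) : ℂ) ∧
        φ ∈ inducedIrrAbove K (U ⊓ Subgroup.centralizer (H : Set L)) ∧
        φ ∉ inducedIrrAbove K (H ⊔ (U ⊓ Subgroup.centralizer (H : Set L)))) ∧
      a ^ 2 * F.card = (p - 1) * (U ⊓ Subgroup.centralizer (H : Set L)).relIndex U := by
  haveI := E.K_normal
  haveI := E.H_normal
  haveI := E.C_normal
  set C := U ⊓ Subgroup.centralizer (H : Set L) with hC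
  set u := C.relIndex U
  haveI : (((Y ⊔ C)).subgroupOf K).Normal := Coprime.normal_subgroupOf_of_le_normalizer
    ((le_inf (E.le_normalizer_Y hl) Subgroup.le_normalizer_of_normal).trans
      (Subgroup.normalizer_inf_normalizer_le_normalizer_sup _ _))
  set P : IrrCharacter K → Prop := fun θ => Char.TrivOn ((Y ⊔ C).subgroupOf K) θ.1
  set Q : IrrCharacter K → Prop := fun θ => Char.TrivOn ((H ⊔ C).subgroupOf K) θ.1
  have hQP : ∀ θ, Q θ → P θ := fun θ h z hz => h z (sup_le_sup_right hl.Y_le C hz)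
  set Θ := (Finset.univ.filter P) \ (Finset.univ.filter Q) with hΘ
  have hmem : ∀ θ ∈ Θ, (∀ z : K, (z : L) ∈ Y ⊔ C → θ.1 z = θ.1 1) ∧
      ¬ ∀ z : K, (z : L) ∈ H → θ.1 z = θ.1 1 := by
    intro θ hθ
    rw [hΘ, Finset.mem_sdiff, Finset.mem_filter, Finset.mem_filter] at hθ
    refine ⟨fun z hz => hθ.1.2 z hz, fun hh => hθ.2 ⟨Finset.mem_univ _, fun z hz => ?_⟩⟩
    obtain ⟨h, hh', c, hc, e⟩ := Subgroup.mem_sup_of_normal_left.1 (show (z : L) ∈ H ⊔ C from hz)
    rw [show z = ⟨h, E.H_le hh'⟩ * ⟨c, E.U_le hc.1⟩ from Subtype.ext e.symm,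
      CharInt.char_mul_of_mem_kernel (Char.irr_isCharacter θ) (hh ⟨h, E.H_le hh'⟩ hh')]
    exact hθ.1.2 ⟨c, E.U_le hc.1⟩ (Subgroup.mem_sup_right hc)
  have hdeg : ∀ θ ∈ Θ, charDegree θ.1 = a := fun θ hθ =>
    E.degree_eq_a hl θ (hmem θ hθ).1 (hmem θ hθ).2
  have hY : ∀ θ ∈ Θ, ∀ z : K, (z : L) ∈ Y → θ.1 z = θ.1 1 := fun θ hθ z hz =>
    (hmem θ hθ).1 z (Subgroup.mem_sup_left hz)
  have hirr : ∀ θ ∈ Θ, IsIrrCharacter L (indFun K θ.1) := fun θ hθ =>
    E.irr_indFun θ fun g hg => E.mem_K_of_trivOn_conj hl hbot θ (hY θ hθ) (hmem θ hθ).2 fun z hz =>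
      (congrFun hg z).trans (hY θ hθ z hz)
  refine ⟨Θ.image fun θ => indFun K θ.1, fun φ hφ => ?_, ?_⟩
  · obtain ⟨θ, hθ, rfl⟩ := Finset.mem_image.1 hφ
    refine ⟨hirr θ hθ, ?_, (mem_inducedIrrAbove_iff K).2 ⟨θ, (mem_aboveChars K).2
      ⟨fun e => (hmem θ hθ).2 fun z _ => by rw [e]; rfl,
        fun z hz => (hmem θ hθ).1 z (Subgroup.mem_sup_right hz)⟩, rfl⟩, fun h => ?_⟩
    · rw [Char.indFun_apply_one, ← Char.charDegree_cast, hdeg θ hθ, E.K_index]; push_cast; ring
    · obtain ⟨θ', hθ', e⟩ := (mem_inducedIrrAbove_iff K).1 h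
      obtain ⟨g, hg⟩ := not_not.1 fun hne => by
        have h0 := (S1486.result K θ'.1 θ.1 θ'.2 θ.2).2 hne
        rw [← e, Char.classInner_irr_self (hirr θ hθ)] at h0
        exact one_ne_zero h0
      refine (hmem θ hθ).2 fun z hz => ?_
      have hz' : g * (z : L) * g⁻¹ ∈ H ⊔ C := Subgroup.mem_sup_left (E.H_normal.conj_mem _ hz g)
      rw [congrFun hg z, congrFun hg 1,
        ((mem_aboveChars K).1 hθ').2 ⟨g * (z : L) * g⁻¹, E.HC_le hz'⟩ hz']
      exact congrArg θ'.1 (Subtype.ext (by simp))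
  · rw [Finset.card_image_of_injOn fun θ hθ θ' hθ' e => ?_]
    · have h1 := Char.sum_trivOn_degree_sq ((Y ⊔ C).subgroupOf K)
      haveI : ((H ⊔ C).subgroupOf K).Normal := inferInstance
      have h2 := Char.sum_trivOn_degree_sq ((H ⊔ C).subgroupOf K)
      have h3 := Finset.sum_sdiff (f := fun θ : IrrCharacter K => charDegree θ.1 ^ 2)
        (show Finset.univ.filter Q ⊆ Finset.univ.filter P from fun θ h =>
          Finset.mem_filter.2 ⟨Finset.mem_univ _, hQP θ (Finset.mem_filter.1 h).2⟩)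
      rw [← hΘ, Finset.sum_congr rfl fun θ hθ => by rw [hdeg θ hθ], Finset.sum_const, smul_eq_mul,
        h1, h2] at h3
      change _ + (H ⊔ C).relIndex K = (Y ⊔ C).relIndex K at h3
      rw [E.relIndex_HC, E.relIndex_sup hl.Y_le inf_le_left (inf_le_left.trans hl.U_Y),
        E.relIndex_Y hl] at h3
      rw [mul_comm, Nat.sub_mul, one_mul]
      exact Nat.eq_sub_of_add_eq h3
    · obtain ⟨g, hg⟩ := not_not.1 fun hne => by
        have h0 := (S1486.result K θ.1 θ'.1 θ.2 θ'.2).2 hne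
        change indFun K θ.1 = indFun K θ'.1 at e
        rw [e, Char.classInner_irr_self (hirr θ' hθ')] at h0
        exact one_ne_zero h0
      have hgK : g ∈ K := E.mem_K_of_trivOn_conj hl hbot θ (hY θ hθ) (hmem θ hθ).2 fun z hz => by
        have h1 := (congrFun hg z).symm.trans ((hY θ' hθ' z hz).trans (congrFun hg 1))
        refine Eq.trans (congrArg θ.1 (Subtype.ext (by simp))) (h1.trans (congrArg θ.1 (Subtype.ext ?_)))
        simp
      refine Subtype.ext ?_
      rw [hg]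
      funext z
      exact (Char.IsCharacter.isClassFunction (Char.irr_isCharacter θ) z ⟨g, hgK⟩).symm

end Eleven

end Cfsg.Agent.OddOrder.PF
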