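import Cfsg.Agent.Lib.OddOrder.PF.S11_Structure
import Cfsg.Agent.Lib.PGroup.Extraspecial
import Cfsg.Agent.Lib.Coprime.IndexBound
import Cfsg.Prelude.Def_OddOrderLocal

/-!
The chief factor `H / C_H(U)` of Peterfalvi 11.

* `exists_line`, `pow_mem_centralizer`: if `U` is reducible on the factor then it normalises a line,
  and every `(p - 1)`-th power of an element of `U` centralises `H`;
* `H_elementary` (Peterfalvi (11.7)): if `H = [H, U]` then `H` is elementary abelian of order `p ^ q`.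
-/

set_option autoImplicit false
set_option linter.style.haveILetI false

namespace Cfsg.Agent.OddOrder.PF.Eleven

open Cfsg.Agent
open scoped commutatorElement

universe u

variable {L : Type u} [Group L] [Finite L] {K H U W W₂ : Subgroup L} {p q : ℕ}
  (E : Eleven K H U W W₂ p q)
include E

theorem le_normalizer_of_H₀ {X : Subgroup L} (h0 : H ⊓ Subgroup.centralizer (U : Set L) ≤ X)
    (hX : X ≤ H) : H ≤ Subgroup.normalizer (X : Set L) :=
  Coprime.le_normalizer_of_commutator_le_of_le E.commutator_H_le h0 hX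

omit [Finite L] E in
theorem conj_mem_normalizer {U X : Subgroup L} {w : L} (hw : U.map (MulAut.conj w).toMonoidHom = U)
    (hU : U ≤ Subgroup.normalizer (X : Set L)) :
    U ≤ Subgroup.normalizer ((X.map (MulAut.conj w).toMonoidHom : Subgroup L) : Set L) := by
  rw [← hw]
  exact (Subgroup.map_mono hU).trans (Subgroup.le_normalizer_map _)

/-- If `U` normalises a proper subgroup strictly above `C_H(U)`, it normalises a line. -/
theorem exists_line {X₀ : Subgroup L} (h0 : H ⊓ Subgroup.centralizer (U : Set L) < X₀) (h1 : X₀ < H)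
    (hU : U ≤ Subgroup.normalizer (X₀ : Set L)) :
    ∃ X : Subgroup L, H ⊓ Subgroup.centralizer (U : Set L) ≤ X ∧ X ≤ H ∧
      U ≤ Subgroup.normalizer (X : Set L) ∧
      (H ⊓ Subgroup.centralizer (U : Set L)).relIndex X = p := by
  classical
  haveI := E.H_normal
  haveI := E.centralizer_U_normal
  set H₀ := H ⊓ Subgroup.centralizer (U : Set L) with hH₀
  let S : Set (Subgroup L) := {X | H₀ < X ∧ X ≤ H ∧ U ≤ Subgroup.normalizer (X : Set L)}
  obtain ⟨X, ⟨hX0, hXH, hXU⟩, hmin⟩ := (Set.toFinite S).exists_minimalFor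
    (fun X : Subgroup L => Nat.card X) S ⟨X₀, h0, h1.le, hU⟩
  refine ⟨X, hX0.le, hXH, hXU, ?_⟩
  have hXlt : X < H := lt_of_le_of_ne hXH fun e => by
    have := hmin (j := X₀) ⟨h0, h1.le, hU⟩
      (Subgroup.card_le_of_le (e ▸ h1.le))
    rw [e] at this
    exact h1.ne (Subgroup.eq_of_le_of_card_ge h1.le this)
  set d := H₀.relIndex X with hd
  haveI : Fintype W := Fintype.ofFinite W
  let conj : W → Subgroup L := fun w => X.map (MulAut.conj (w : L)).toMonoidHom
  have hconj : ∀ w : W, H₀ ≤ conj w ∧ conj w ≤ H ∧ U ≤ Subgroup.normalizer (conj w : Set L) ∧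
      H₀.relIndex (conj w) = d ∧ Nat.card (conj w) = Nat.card X := by
    intro w
    have hH₀w : H₀.map (MulAut.conj (w : L)).toMonoidHom = H₀ := Coprime.conj_smul_eq_self_of_mem
      (Subgroup.le_normalizer_of_normal (Subgroup.mem_top _))
    refine ⟨hH₀w ▸ Subgroup.map_mono hX0.le, E.map_conj_H (w : L) ▸ Subgroup.map_mono hXH,
      conj_mem_normalizer (E.map_conj_U w.2) hXU, ?_,
      Subgroup.card_map_of_injective (MulAut.conj (w : L)).injective⟩
    show H₀.relIndex (X.map (MulAut.conj (w : L)).toMonoidHom) = d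
    conv_lhs => rw [← hH₀w]
    exact Subgroup.relIndex_map_map_of_injective _ _ (MulAut.conj (w : L)).injective
  let Y : Finset W → Subgroup L := fun s => H₀ ⊔ s.sup conj
  have hY : ∀ s, Y s ≤ H ∧ U ≤ Subgroup.normalizer (Y s : Set L) ∧ ∃ k, H₀.relIndex (Y s) = d ^ k := by
    intro s
    induction s using Finset.induction with
    | empty =>
      refine ⟨?_, ?_, 0, ?_⟩ <;> simp only [Y, Finset.sup_empty, sup_bot_eq]
      · exact inf_le_left
      · exact Subgroup.le_normalizer_of_normal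
      · rw [Subgroup.relIndex_self, pow_zero]
    | insert w s hw ih =>
      obtain ⟨ihH, ihU, k, hk⟩ := ih
      obtain ⟨hw0, hwH, hwU, hwd, hwc⟩ := hconj w
      have he : Y (insert w s) = conj w ⊔ Y s := by
        simp only [Y, Finset.sup_insert, sup_left_comm]
      have hn : conj w ≤ Subgroup.normalizer (Y s : Set L) :=
        hwH.trans (E.le_normalizer_of_H₀ le_sup_left ihH)
      refine ⟨he ▸ sup_le hwH ihH, he ▸ (le_inf hwU ihU).trans
        (Subgroup.normalizer_inf_normalizer_le_normalizer_sup _ _), ?_⟩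
      by_cases hle : conj w ≤ Y s
      · exact ⟨k, by rw [he, sup_eq_right.2 hle, hk]⟩
      have hinf : conj w ⊓ Y s = H₀ := by
        by_contra hne
        have hlt : H₀ < conj w ⊓ Y s := lt_of_le_of_ne (le_inf hw0 le_sup_left) (Ne.symm hne)
        have hmem : conj w ⊓ Y s ∈ S := ⟨hlt, inf_le_right.trans ihH,
          (le_inf hwU ihU).trans Subgroup.inf_normalizer_le_normalizer_inf⟩
        have hle' : Nat.card ↥(conj w ⊓ Y s) ≤ Nat.card X :=
          hwc ▸ Subgroup.card_le_of_le inf_le_left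
        have : Nat.card X ≤ Nat.card ↥(conj w ⊓ Y s) := hmin hmem hle'
        rw [← hwc] at this
        exact hle (inf_eq_left.1 (Subgroup.eq_of_le_of_card_ge inf_le_left this))
      refine ⟨k + 1, ?_⟩
      rw [he, ← Subgroup.relIndex_mul_relIndex H₀ (Y s) _ le_sup_left le_sup_right, hk,
        Coprime.relIndex_sup_right_of_le_normalizer hn, ← Subgroup.inf_relIndex_right, inf_comm,
        hinf, hwd, pow_succ]
  obtain ⟨hYH, hYU, k, hk⟩ := hY Finset.univ
  set Z := Y Finset.univ with hZ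
  have hZn : Z.Normal := by
    refine E.normal_of Z (E.le_normalizer_of_H₀ le_sup_left hYH) hYU fun v hv => ?_
    refine Coprime.mem_normalizer_of_conj_smul_eq ?_
    show Subgroup.map (MulAut.conj v).toMonoidHom Z = Z
    have hle : ∀ v ∈ W, Subgroup.map (MulAut.conj v).toMonoidHom Z ≤ Z := by
      intro v hv
      rw [Subgroup.map_le_iff_le_comap]
      refine sup_le ?_ (Finset.sup_le fun w _ => ?_) <;> rw [← Subgroup.map_le_iff_le_comap]
      · exact (Coprime.conj_smul_eq_self_of_mem (H := H₀)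
          (Subgroup.le_normalizer_of_normal (Subgroup.mem_top v))).le.trans le_sup_left
      · refine le_trans (le_of_eq ?_) (le_sup_of_le_right
          (Finset.le_sup (f := conj) (Finset.mem_univ (⟨v, hv⟩ * w))))
        simp only [conj, Subgroup.map_map]
        congr 1
        ext x
        simp [mul_assoc]
    refine le_antisymm (hle v hv) fun z hz => ?_
    exact ⟨v⁻¹ * z * v, by simpa using hle v⁻¹ (W.inv_mem hv) (Subgroup.mem_map_of_mem _ hz),
      by simp [mul_assoc]⟩
  have hXZ : X ≤ Z := by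
    refine le_sup_of_le_right (le_trans (le_of_eq ?_) (Finset.le_sup (f := conj) (Finset.mem_univ 1)))
    simp only [conj]
    refine SetLike.ext fun x => ?_
    simp
  rcases E.eq_or_eq Z le_sup_left hYH with h | h
  · exact absurd (hXZ.trans h.le) hX0.not_ge
  rw [h, E.relIndex_H₀] at hk
  have hk0 : k ≠ 0 := by
    intro e0
    rw [e0, pow_zero] at hk
    exact E.p_prime.ne_one ((Nat.pow_eq_one.1 hk).resolve_right E.q_prime.ne_zero)
  obtain ⟨e, he, hde⟩ := (Nat.dvd_prime_pow E.p_prime).1 (hk.symm ▸ dvd_pow_self d hk0 : d ∣ p ^ q)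
  rw [hde, ← pow_mul] at hk
  have hek : q = e * k := Nat.pow_right_injective E.p_prime.two_le hk
  rcases E.q_prime.eq_one_or_self_of_dvd e ⟨k, hek⟩ with h' | h'
  · rw [hde, h', pow_one]
  · exfalso
    have h2 := Subgroup.relIndex_mul_relIndex H₀ X H hX0.le hXH
    rw [← hd, hde, h', E.relIndex_H₀] at h2
    refine hXlt.not_ge (Subgroup.relIndex_eq_one.1 ?_)
    exact (Nat.eq_of_mul_eq_mul_left (pow_pos E.p_prime.pos q) (by rw [h2, mul_one]))

/-- The scalar by which an element normalising a line acts on it. -/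
theorem exists_scalar {X : Subgroup L} (h0 : H ⊓ Subgroup.centralizer (U : Set L) ≤ X)
    (hXU : U ≤ Subgroup.normalizer (X : Set L))
    (hc : (H ⊓ Subgroup.centralizer (U : Set L)).relIndex X = p) :
    haveI := E.centralizer_U_normal
    ∃ x ∈ X, x ∉ H ⊓ Subgroup.centralizer (U : Set L) ∧
      X ≤ (H ⊓ Subgroup.centralizer (U : Set L)) ⊔ Subgroup.zpowers x ∧
      ∀ v ∈ U, ∃ k : ℕ, QuotientGroup.mk' (H ⊓ Subgroup.centralizer (U : Set L)) (v * x * v⁻¹) =
        QuotientGroup.mk' (H ⊓ Subgroup.centralizer (U : Set L)) x ^ k := by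
  haveI := E.centralizer_U_normal
  set H₀ := H ⊓ Subgroup.centralizer (U : Set L) with hH₀
  have hlt : ¬ X ≤ H₀ := fun h => E.p_prime.ne_one
    (hc ▸ Subgroup.relIndex_eq_one.2 h)
  obtain ⟨x, hx, hx0⟩ := SetLike.not_le_iff_exists.1 hlt
  have hgen : X ≤ H₀ ⊔ Subgroup.zpowers x := by
    have h1 := Subgroup.relIndex_mul_relIndex H₀ (H₀ ⊔ Subgroup.zpowers x) X le_sup_left
      (sup_le h0 (Subgroup.zpowers_le.2 hx))
    rw [hc] at h1
    rcases (Nat.dvd_prime E.p_prime).1 ⟨_, h1.symm⟩ with e | e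
    · exact absurd (Subgroup.relIndex_eq_one.1 e
        (Subgroup.mem_sup_right (Subgroup.mem_zpowers x))) hx0
    · rw [e] at h1
      exact Subgroup.relIndex_eq_one.1
        (Nat.eq_of_mul_eq_mul_left E.p_prime.pos (by rw [h1, mul_one]))
  refine ⟨x, hx, hx0, hgen, fun v hv => ?_⟩
  have hvx : v * x * v⁻¹ ∈ H₀ ⊔ Subgroup.zpowers x :=
    hgen ((Subgroup.mem_normalizer_iff.1 (hXU hv) x).1 hx)
  obtain ⟨z, hz, y, hy, e⟩ := Subgroup.mem_sup_of_normal_left.1 hvx
  have hfo : IsOfFinOrder x := isOfFinOrder_of_finite x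
  obtain ⟨k, rfl⟩ := hfo.mem_powers_iff_mem_zpowers.2 hy
  refine ⟨k, ?_⟩
  rw [← e, map_mul, show QuotientGroup.mk' H₀ z = 1 from (QuotientGroup.eq_one_iff z).2 hz, one_mul,
    map_pow]

/-- If `U` is reducible on the factor, its `(p - 1)`-th powers centralise `H`. -/
theorem pow_mem_centralizer {X : Subgroup L} (h0 : H ⊓ Subgroup.centralizer (U : Set L) ≤ X)
    (hXH : X ≤ H) (hXU : U ≤ Subgroup.normalizer (X : Set L))
    (hc : (H ⊓ Subgroup.centralizer (U : Set L)).relIndex X = p) {u : L} (hu : u ∈ U) :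
    u ^ (p - 1) ∈ Subgroup.centralizer (H : Set L) := by
  haveI := E.H_normal
  haveI := E.centralizer_U_normal
  obtain ⟨x, hx, hx0, hgen, hsc⟩ := E.exists_scalar h0 hXU hc
  set H₀ := H ⊓ Subgroup.centralizer (U : Set L) with hH₀
  set π := QuotientGroup.mk' H₀ with hπ
  have hxp : π x ^ p = 1 := by
    rw [← map_pow]; exact (QuotientGroup.eq_one_iff _).2 (E.pow_mem (hXH hx))
  have hxne : π x ≠ 1 := fun h => hx0 ((QuotientGroup.eq_one_iff x).1 h)
  have hline : ∀ v ∈ U, Commute (π (v ^ (p - 1))) (π x) := by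
    intro v hv
    obtain ⟨k, hk⟩ := hsc v hv
    rw [map_mul, map_mul, map_inv] at hk
    have hpow : ∀ m : ℕ, π (v ^ m) * π x * (π (v ^ m))⁻¹ = π x ^ (k ^ m) := by
      intro m
      induction m with
      | zero => simp
      | succ m ih =>
        rw [pow_succ', map_mul, mul_inv_rev, show π v * π (v ^ m) * π x * ((π (v ^ m))⁻¹ * (π v)⁻¹) =
          π v * (π (v ^ m) * π x * (π (v ^ m))⁻¹) * (π v)⁻¹ by group, ih, ← conj_pow, hk, ← pow_mul,
          ← pow_succ']
    have hkp : ¬ p ∣ k := by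
      rintro ⟨r, rfl⟩
      rw [pow_mul, hxp, one_pow] at hk
      exact hxne (conj_eq_one_iff.1 hk)
    have h1 : π x ^ (k ^ (p - 1)) = π x := by
      haveI : Fact p.Prime := ⟨E.p_prime⟩
      have hf : k ^ (p - 1) ≡ 1 [MOD p] := by
        rw [← ZMod.natCast_eq_natCast_iff, Nat.cast_pow, Nat.cast_one]
        exact ZMod.pow_card_sub_one_eq_one fun h => hkp ((ZMod.natCast_eq_zero_iff k p).1 h)
      conv_rhs => rw [← pow_one (π x)]
      rw [pow_eq_pow_iff_modEq, orderOf_eq_prime hxp hxne]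
      exact hf
    have h2 := hpow (p - 1)
    rw [h1] at h2
    exact mul_inv_eq_iff_eq_mul.1 h2
  let T : Subgroup L := (Subgroup.centralizer {π (u ^ (p - 1))}).comap π
  have hconjx : ∀ w ∈ W, w * x * w⁻¹ ∈ T := by
    intro w hw
    have h1 := hline (w⁻¹ * u * w) (by
      simpa using (Subgroup.mem_normalizer_iff.1 (E.W_normalizes (W.inv_mem hw)) u).1 hu)
    rw [show (w⁻¹ * u * w) ^ (p - 1) = w⁻¹ * u ^ (p - 1) * w by
      simpa using conj_pow (i := p - 1) (a := w⁻¹) (b := u)] at h1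
    rw [map_mul, map_mul, map_inv] at h1
    show π (w * x * w⁻¹) ∈ Subgroup.centralizer {π (u ^ (p - 1))}
    rw [Subgroup.mem_centralizer_singleton_iff, map_mul, map_mul, map_inv]
    calc π w * π x * (π w)⁻¹ * π (u ^ (p - 1))
        = π w * (π x * ((π w)⁻¹ * π (u ^ (p - 1)) * π w)) * (π w)⁻¹ := by group
      _ = π w * ((π w)⁻¹ * π (u ^ (p - 1)) * π w * π x) * (π w)⁻¹ := by rw [h1.eq]
      _ = π (u ^ (p - 1)) * (π w * π x * (π w)⁻¹) := by group
  let N : Subgroup L := H ⊓ ⨅ w : W, T.comap (MulAut.conj (w : L)).toMonoidHom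
  have hXN : X ≤ N := by
    refine le_inf hXH (le_iInf fun w => hgen.trans (sup_le ?_ (Subgroup.zpowers_le.2 (hconjx w w.2))))
    intro z hz
    show π ((w : L) * z * (w : L)⁻¹) ∈ Subgroup.centralizer {π (u ^ (p - 1))}
    rw [show π ((w : L) * z * (w : L)⁻¹) = 1 from (QuotientGroup.eq_one_iff _).2
      (‹H₀.Normal›.conj_mem z hz w)]
    exact Subgroup.one_mem _
  -- the conjugates of `X` span the factor
  have hspan : (H₀ ⊔ ⨆ w : W, X.map (MulAut.conj (w : L)).toMonoidHom) = H := by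
    set Z := H₀ ⊔ ⨆ w : W, X.map (MulAut.conj (w : L)).toMonoidHom with hZ
    have hZH : Z ≤ H := sup_le inf_le_left (iSup_le fun w =>
      E.map_conj_H (w : L) ▸ Subgroup.map_mono hXH)
    have hmap : ∀ g : L, H₀.map (MulAut.conj g).toMonoidHom = H₀ := fun g =>
      Coprime.conj_smul_eq_self_of_mem (Subgroup.le_normalizer_of_normal (Subgroup.mem_top g))
    have hZn : Z.Normal := by
      refine E.normal_of Z (E.le_normalizer_of_H₀ le_sup_left hZH) (fun v hv => ?_) fun v hv => ?_
      all_goals refine Coprime.mem_normalizer_of_conj_smul_eq ?_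
      all_goals show Subgroup.map (MulAut.conj v).toMonoidHom Z = Z
      all_goals rw [hZ, Subgroup.map_sup, Subgroup.map_iSup, hmap]
      all_goals refine congrArg _ ?_
      · refine iSup_congr fun w => ?_
        exact Coprime.conj_smul_eq_self_of_mem
          (conj_mem_normalizer (E.map_conj_U w.2) hXU hv)
      · refine Equiv.iSup_congr (Equiv.mulLeft (⟨v, hv⟩ : W)) fun w => ?_
        simp only [Subgroup.map_map]
        congr 1
        ext y
        simp [mul_assoc]
    refine (E.eq_or_eq Z le_sup_left hZH).resolve_left fun h => hx0 ?_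
    show x ∈ H₀
    rw [show H₀ = Z from h.symm]
    refine Subgroup.mem_sup_right (Subgroup.mem_iSup_of_mem 1 ⟨x, hx, by simp⟩)
  have hHT : H ≤ T := by
    rw [← hspan]
    refine sup_le (fun z hz => ?_) (iSup_le fun w => ?_)
    · show π z ∈ Subgroup.centralizer {π (u ^ (p - 1))}
      rw [show π z = 1 from (QuotientGroup.eq_one_iff z).2 hz]
      exact Subgroup.one_mem _
    · rw [Subgroup.map_le_iff_le_comap]
      exact hXN.trans (inf_le_right.trans (iInf_le _ w))
  refine E.mem_centralizer_of_commutator_mem (U.pow_mem hu _) fun y hy => ?_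
  have hc' := Subgroup.mem_centralizer_singleton_iff.1 (hHT hy)
  rw [← QuotientGroup.eq_one_iff (N := H₀), ← QuotientGroup.mk'_apply, map_commutatorElement,
    commutatorElement_eq_one_iff_mul_comm]
  exact hc'.symm

/-! ### (11.7) -/

/-- If `H = [H, U]`, then `C_H(U)` is central in `H`. -/
theorem H₀_central (hD : ⁅H, U⁆ = H) {z y : L} (hz : z ∈ H ⊓ Subgroup.centralizer (U : Set L))
    (hy : y ∈ H) : Commute y z := by
  have h := E.commutator_D_cent
  rw [hD, Subgroup.commutator_eq_bot_iff_le_centralizer] at h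
  exact (Subgroup.mem_centralizer_iff.1 (h hy) z hz).symm

/-- If `H = [H, U]`, then `H` has exponent `p`. -/
theorem pow_eq_one (hD : ⁅H, U⁆ = H) {x : L} (hx : x ∈ H) : x ^ p = 1 := by
  haveI := E.H_normal
  have hodd : Odd p := E.p_prime.odd_of_ne_two (by have := E.three_le_p; omega)
  obtain ⟨k, hk⟩ := hodd
  have key : ∀ a ∈ H, ∀ b ∈ H, (a * b) ^ p = a ^ p * b ^ p := by
    intro a ha b hb
    set z := ⁅b, a⁆ with hz
    have hzm : z ∈ H ⊓ Subgroup.centralizer (U : Set L) :=
      E.commutator_H_le (Subgroup.commutator_mem_commutator hb ha)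
    have hza : Commute z a := (E.H₀_central hD hzm ha).symm
    have hzb : Commute z b := (E.H₀_central hD hzm hb).symm
    have hzp : z ^ p = 1 := by
      have h1 : Commute (b ^ p) a := (E.H₀_central hD (E.pow_mem hb) ha).symm
      have h2 : ∀ m : ℕ, b ^ m * a = z ^ m * (a * b ^ m) := by
        intro m
        induction m with
        | zero => simp
        | succ m ih =>
          rw [pow_succ', mul_assoc, ih, ← mul_assoc, ← (hzb.pow_left m).eq, mul_assoc,
            ← mul_assoc b a, show b * a = z * (a * b) by rw [hz, commutatorElement_def]; group,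
            ← mul_assoc (z ^ m), ← mul_assoc (z ^ m), ← pow_succ]
          group
      have := h2 p
      rw [h1.eq, eq_comm, mul_eq_right] at this
      exact this
    have h3 : ∀ m : ℕ, (a * b) ^ m = z ^ (m * (m - 1) / 2) * (a ^ m * b ^ m) := by
      have hbm : ∀ m : ℕ, b ^ m * a = z ^ m * (a * b ^ m) := by
        intro m
        induction m with
        | zero => simp
        | succ m ih =>
          rw [pow_succ', mul_assoc, ih, ← mul_assoc, ← (hzb.pow_left m).eq, mul_assoc,
            ← mul_assoc b a, show b * a = z * (a * b) by rw [hz, commutatorElement_def]; group,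
            ← mul_assoc (z ^ m), ← mul_assoc (z ^ m), ← pow_succ]
          group
      intro m
      induction m with
      | zero => simp
      | succ m ih =>
        have hzam : Commute (z ^ m) (a ^ m) := (hza.pow_left m).pow_right m
        calc (a * b) ^ (m + 1) = z ^ (m * (m - 1) / 2) * (a ^ m * (b ^ m * a) * b) := by
              rw [pow_succ, ih]; group
          _ = z ^ (m * (m - 1) / 2) * (a ^ m * z ^ m * (a * b ^ m) * b) := by rw [hbm]; group
          _ = z ^ (m * (m - 1) / 2) * (z ^ m * a ^ m * (a * b ^ m) * b) := by rw [hzam.eq]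
          _ = z ^ (m * (m - 1) / 2 + m) * (a ^ (m + 1) * b ^ (m + 1)) := by
              rw [pow_add, pow_succ a, pow_succ b]; group
          _ = z ^ ((m + 1) * (m + 1 - 1) / 2) * (a ^ (m + 1) * b ^ (m + 1)) := by
              simp only [← Nat.choose_two_right]
              rw [Nat.choose_succ_succ, Nat.choose_one_right, add_comm]
    have h4 : z ^ (p * (p - 1) / 2) = 1 := by
      rw [show p * (p - 1) / 2 = p * k by
        rw [hk, Nat.add_sub_cancel, show (2 * k + 1) * (2 * k) = 2 * ((2 * k + 1) * k) by ring,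
          Nat.mul_div_cancel_left _ two_pos], pow_mul, hzp, one_pow]
    rw [h3, h4, one_mul]
  let N : Subgroup L :=
    { carrier := {y | y ∈ H ∧ y ^ p = 1}
      one_mem' := ⟨H.one_mem, one_pow p⟩
      mul_mem' := fun {a b} ha hb => ⟨H.mul_mem ha.1 hb.1, by
        rw [key a ha.1 b hb.1, ha.2, hb.2, one_mul]⟩
      inv_mem' := fun {a} ha => ⟨H.inv_mem ha.1, by rw [inv_pow, ha.2, inv_one]⟩ }
  have hle : ⁅H, U⁆ ≤ N := by
    refine Subgroup.commutator_le.2 fun a ha u hu => ⟨E.commutator_le_H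
      (Subgroup.commutator_mem_commutator ha hu), ?_⟩
    have hb : u * a⁻¹ * u⁻¹ ∈ H := E.H_normal.conj_mem _ (H.inv_mem ha) u
    rw [show ⁅a, u⁆ = a * (u * a⁻¹ * u⁻¹) by rw [commutatorElement_def]; group, key a ha _ hb,
      conj_pow, inv_pow]
    have h5 : Commute u (a ^ p) := Subgroup.mem_centralizer_iff.1 (E.pow_mem ha).2 u hu
    rw [(h5.inv_right).eq, mul_inv_cancel_right, mul_inv_cancel]
  exact (hle (hD.symm ▸ hx)).2

theorem isPGroup_H (hD : ⁅H, U⁆ = H) : IsPGroup p H := fun x =>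
  ⟨1, Subtype.ext (by simpa using E.pow_eq_one hD x.2)⟩

/-- The reducible case of (11.7). -/
theorem comm_of_line (hD : ⁅H, U⁆ = H) {X : Subgroup L}
    (h0 : H ⊓ Subgroup.centralizer (U : Set L) ≤ X) (hXH : X ≤ H)
    (hXU : U ≤ Subgroup.normalizer (X : Set L))
    (hc : (H ⊓ Subgroup.centralizer (U : Set L)).relIndex X = p) :
    ∀ a ∈ H, ∀ b ∈ H, a * b = b * a := by
  haveI := E.H_normal
  haveI := E.centralizer_U_normal
  haveI : Fact p.Prime := ⟨E.p_prime⟩
  obtain ⟨x, hx, hx0, hgen, hsc⟩ := E.exists_scalar h0 hXU hc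
  set H₀ := H ⊓ Subgroup.centralizer (U : Set L) with hH₀
  set π := QuotientGroup.mk' H₀ with hπ
  have hxp : π x ^ p = 1 := by
    rw [← map_pow, E.pow_eq_one hD (hXH hx), map_one]
  have hxne : π x ≠ 1 := fun h => hx0 ((QuotientGroup.eq_one_iff x).1 h)
  choose! k hk using hsc
  have huniq : ∀ v ∈ U, ∀ m : ℕ, π (v * x * v⁻¹) = π x ^ m → (k v : ZMod p) = m := by
    intro v hv m hm
    rw [hk v hv, pow_eq_pow_iff_modEq, orderOf_eq_prime hxp hxne] at hm
    exact (ZMod.natCast_eq_natCast_iff _ _ _).2 hm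
  have hpow : ∀ v ∈ U, ∀ m : ℕ, (k (v ^ m) : ZMod p) = (k v : ZMod p) ^ m := by
    intro v hv m
    rw [← Nat.cast_pow]
    refine huniq _ (U.pow_mem hv m) _ ?_
    induction m with
    | zero => simp
    | succ m ih =>
      rw [pow_succ', show v * v ^ m * x * (v * v ^ m)⁻¹ = v * (v ^ m * x * (v ^ m)⁻¹) * v⁻¹ by group,
        map_mul, map_mul, map_inv, ih, ← conj_pow, ← map_inv, ← map_mul, ← map_mul, hk v hv, ← pow_mul,
        ← pow_succ']
  let xc : L → L := fun w => w * x * w⁻¹
  have hcomm : ∀ a ∈ W, ∀ b ∈ W, ⁅xc a, xc b⁆ = 1 := by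
    intro a ha b hb
    by_contra hne
    set z := ⁅xc a, xc b⁆ with hz
    have hxaH : ∀ w : L, xc w ∈ H := fun w => E.H_normal.conj_mem x (hXH hx) w
    have hzm : z ∈ H₀ := E.commutator_H_le (Subgroup.commutator_mem_commutator (hxaH a) (hxaH b))
    have hzo : orderOf z = p := orderOf_eq_prime (E.pow_eq_one hD hzm.1) hne
    have hbil : ∀ (y y' : L), y ∈ H → y' ∈ H → ∀ i j : ℕ, ⁅y ^ i, y' ^ j⁆ = ⁅y, y'⁆ ^ (i * j) := by
      intro y y' hy hy' i j
      have hcl : ∀ s ∈ H, ∀ t ∈ H, ∀ r ∈ H, Commute r ⁅s, t⁆ := fun s hs t ht r hr =>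
        E.H₀_central hD (E.commutator_H_le (Subgroup.commutator_mem_commutator hs ht)) hr
      have h1 : ∀ s ∈ H, ∀ t ∈ H, ∀ m : ℕ, ⁅s ^ m, t⁆ = ⁅s, t⁆ ^ m := by
        intro s hs t ht m
        induction m with
        | zero => simp
        | succ m ih =>
          rw [pow_succ', commutatorElement_mul_left_eq_conj_mul, ih,
            (((hcl s hs t ht s hs).pow_right m)).eq, mul_inv_cancel_right, pow_succ]
      rw [h1 y hy _ (H.pow_mem hy' j), ← commutatorElement_inv, h1 y' hy' y hy, ← inv_pow,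
        commutatorElement_inv, ← pow_mul, mul_comm j i]
    -- the scalars on the two lines multiply to one
    have hrel : ∀ u ∈ U, (k (a⁻¹ * u * a) : ZMod p) * k (b⁻¹ * u * b) = 1 := by
      intro u hu
      have hact : ∀ w ∈ W, ∃ z' ∈ H₀, u * xc w * u⁻¹ = z' * xc w ^ k (w⁻¹ * u * w) := by
        intro w hw
        have hv : w⁻¹ * u * w ∈ U := by
          simpa using (Subgroup.mem_normalizer_iff.1 (E.W_normalizes (W.inv_mem hw)) u).1 hu
        refine ⟨u * xc w * u⁻¹ * (xc w ^ k (w⁻¹ * u * w))⁻¹, ?_, by group⟩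
        rw [← QuotientGroup.eq_one_iff (N := H₀), ← QuotientGroup.mk'_apply, ← hπ, map_mul, map_inv,
          mul_inv_eq_one, map_pow,
          show u * xc w * u⁻¹ = w * ((w⁻¹ * u * w) * x * (w⁻¹ * u * w)⁻¹) * w⁻¹ by
            simp only [xc]; group,
          map_mul, map_mul, hk _ hv, map_inv, ← conj_pow, ← map_inv, ← map_mul, ← map_mul]
      obtain ⟨za, hza, ea⟩ := hact a ha
      obtain ⟨zb, hzb, eb⟩ := hact b hb
      set i := k (a⁻¹ * u * a)
      set j := k (b⁻¹ * u * b)
      have hu1 : u * z * u⁻¹ = z := by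
        rw [Subgroup.mem_centralizer_iff.1 hzm.2 u hu, mul_inv_cancel_right]
      rw [hz, show u * ⁅xc a, xc b⁆ * u⁻¹ = ⁅u * xc a * u⁻¹, u * xc b * u⁻¹⁆ by
        simp only [commutatorElement_def]; group, ea, eb] at hu1
      have hA : xc a ^ i ∈ H := H.pow_mem (hxaH a) i
      have hB : zb * xc b ^ j ∈ H := H.mul_mem hzb.1 (H.pow_mem (hxaH b) j)
      rw [commutatorElement_mul_left_eq_conj_mul, commutatorElement_mul_right_eq_mul_conj,
        commutatorElement_eq_one_iff_commute.2 ((E.H₀_central hD hzb hA)),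
        one_mul, commutatorElement_eq_one_iff_commute.2 ((E.H₀_central hD hza hB).symm), mul_one,
        hbil _ _ (hxaH a) (hxaH b)] at hu1
      have hcen : ∀ m : ℕ, Commute zb (⁅xc a, xc b⁆ ^ m) := fun m =>
        ((E.H₀_central hD hzm hzb.1).pow_right m)
      rw [(hcen _).eq, mul_inv_cancel_right, ← hz,
        ((E.H₀_central hD hzm hza.1).pow_right (i * j)).eq, mul_inv_cancel_right] at hu1
      nth_rw 2 [← pow_one z] at hu1
      rw [pow_eq_pow_iff_modEq, hzo, ← ZMod.natCast_eq_natCast_iff, Nat.cast_mul, Nat.cast_one] at hu1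
      exact hu1
    set g := b⁻¹ * a with hg
    have hgW : g ∈ W := W.mul_mem (W.inv_mem hb) ha
    have hrel2 : ∀ v ∈ U, (k v : ZMod p) * k (g * v * g⁻¹) = 1 := by
      intro v hv
      have := hrel (a * v * a⁻¹) ((Subgroup.mem_normalizer_iff.1 (E.W_normalizes ha) v).1 hv)
      rwa [show a⁻¹ * (a * v * a⁻¹) * a = v by group,
        show b⁻¹ * (a * v * a⁻¹) * b = g * v * g⁻¹ by rw [hg]; group] at this
    have hinv : ∀ m : ℕ, ∀ v ∈ U, (k (g ^ (2 * m) * v * (g ^ (2 * m))⁻¹) : ZMod p) = k v := by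
      intro m
      induction m with
      | zero => simp
      | succ m ih =>
        intro v hv
        have hv1 : g * v * g⁻¹ ∈ U := (Subgroup.mem_normalizer_iff.1 (E.W_normalizes hgW) v).1 hv
        have hv2 : g * (g * v * g⁻¹) * g⁻¹ ∈ U :=
          (Subgroup.mem_normalizer_iff.1 (E.W_normalizes hgW) _).1 hv1
        have h1 := hrel2 v hv
        have h2 := hrel2 _ hv1
        rw [show g ^ (2 * (m + 1)) * v * (g ^ (2 * (m + 1)))⁻¹ =
          g ^ (2 * m) * (g * (g * v * g⁻¹) * g⁻¹) * (g ^ (2 * m))⁻¹ by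
            rw [mul_add, mul_one, pow_add]; group, ih _ hv2]
        exact (mul_left_cancel₀ (left_ne_zero_of_mul (h2.trans_ne one_ne_zero))
          (h2.trans (by rw [mul_comm]; exact h1.symm)))
    have hgfix : ∀ v ∈ U, (k (g * v * g⁻¹) : ZMod p) = k v := by
      intro v hv
      obtain ⟨r, hr⟩ := E.q_prime.odd_of_ne_two (by have := E.three_le_q; omega)
      have hgq : g ^ q = 1 := by
        have := pow_card_eq_one' (x := (⟨g, hgW⟩ : W))
        rw [E.card_W] at this
        exact congrArg Subtype.val this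
      have := hinv (r + 1) v hv
      rwa [show 2 * (r + 1) = q + 1 by omega, pow_succ, hgq, one_mul] at this
    -- so every scalar is one
    have hone : ∀ v ∈ U, (k v : ZMod p) = 1 := by
      intro v hv
      have hsq : (k v : ZMod p) ^ 2 = 1 := by
        have := hrel2 v hv
        rwa [hgfix v hv, ← pow_two] at this
      have hodd : Odd (orderOf v) := E.odd.of_dvd_nat (orderOf_dvd_natCard v)
      obtain ⟨r, hr⟩ := hodd
      have h1 : (k v : ZMod p) ^ orderOf v = 1 := by
        rw [← hpow v hv, pow_orderOf_eq_one]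
        exact huniq 1 U.one_mem 1 (by simp) |>.trans Nat.cast_one
      rwa [hr, pow_succ, pow_mul, hsq, one_pow, one_mul] at h1
    refine hx0 ⟨hXH hx, Subgroup.mem_centralizer_iff.2 fun v hv => ?_⟩
    have hm : π (v * x * v⁻¹) = π x := by
      have h1 : k v ≡ 1 [MOD p] := (ZMod.natCast_eq_natCast_iff _ _ _).1 (by
        rw [hone v hv, Nat.cast_one])
      rw [hk v hv]
      conv_rhs => rw [← pow_one (π x)]
      rwa [pow_eq_pow_iff_modEq, orderOf_eq_prime hxp hxne]
    set z' := v * x * v⁻¹ * x⁻¹ with hz'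
    have hz'm : z' ∈ H₀ := by
      rw [← QuotientGroup.eq_one_iff (N := H₀), ← QuotientGroup.mk'_apply, ← hπ, hz', map_mul, hm,
        map_inv, mul_inv_cancel]
    have hzv : Commute v z' := Subgroup.mem_centralizer_iff.1 hz'm.2 v hv
    have hit : ∀ m : ℕ, v ^ m * x = z' ^ m * x * v ^ m := by
      intro m
      induction m with
      | zero => simp
      | succ m ih =>
        rw [pow_succ', mul_assoc, ih, ← mul_assoc, ← mul_assoc, (hzv.pow_right m).eq,
          mul_assoc (z' ^ m) v x, show v * x = z' * x * v by rw [hz']; group, pow_succ z' m]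
        group
    have h1 := hit (orderOf v)
    rw [pow_orderOf_eq_one, one_mul, mul_one, eq_comm, mul_eq_right] at h1
    have hz1 : z' = 1 := orderOf_eq_one_iff.1 (Nat.eq_one_of_dvd_coprimes E.H_coprime
      (Subgroup.orderOf_dvd_natCard _ hz'm.1)
      ((orderOf_dvd_of_pow_eq_one h1).trans (Subgroup.orderOf_dvd_natCard _ hv)))
    rw [hz', mul_inv_eq_one, mul_inv_eq_iff_eq_mul] at hz1
    exact hz1
  -- `H` is generated by commuting elements
  let S : Set L := (H₀ : Set L) ∪ xc '' (W : Set L)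
  have hS : ∀ s ∈ S, ∀ t ∈ S, s * t = t * s := by
    have hxaH : ∀ w : L, xc w ∈ H := fun w => E.H_normal.conj_mem x (hXH hx) w
    rintro s (hs | ⟨a, ha, rfl⟩) t (ht | ⟨b, hb, rfl⟩)
    · exact E.H₀_central hD ht hs.1
    · exact (E.H₀_central hD hs (hxaH b)).symm
    · exact E.H₀_central hD ht (hxaH a)
    · exact commutatorElement_eq_one_iff_mul_comm.1 (hcomm a ha b hb)
  have hHS : H ≤ Subgroup.closure S := by
    set Z := Subgroup.closure S with hZ
    have hH₀Z : H₀ ≤ Z := fun s hs => Subgroup.subset_closure (Or.inl hs)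
    have hxZ : ∀ w ∈ W, xc w ∈ Z := fun w hw => Subgroup.subset_closure (Or.inr ⟨w, hw, rfl⟩)
    have hZH : Z ≤ H := by
      rw [hZ, Subgroup.closure_le]
      rintro s (hs | ⟨a, -, rfl⟩)
      · exact hs.1
      · exact E.H_normal.conj_mem x (hXH hx) a
    have hconjS : ∀ g : L, (∀ w ∈ W, g * xc w * g⁻¹ ∈ Z) → ∀ z ∈ Z, g * z * g⁻¹ ∈ Z := by
      intro g hg z hz
      have hle : Z ≤ Z.comap (MulAut.conj g).toMonoidHom := by
        rw [hZ, Subgroup.closure_le]
        rintro s (hs | ⟨a, ha, rfl⟩)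
        · exact hH₀Z (‹H₀.Normal›.conj_mem s hs g)
        · exact hg a ha
      exact hle hz
    have hUZ : ∀ u ∈ U, ∀ z ∈ Z, u * z * u⁻¹ ∈ Z := fun u hu => hconjS u fun w hw => by
      have hv : w⁻¹ * u * w ∈ U := by
        simpa using (Subgroup.mem_normalizer_iff.1 (E.W_normalizes (W.inv_mem hw)) u).1 hu
      obtain ⟨z, hz, y, hy, e⟩ := Subgroup.mem_sup_of_normal_left.1
        (hgen ((Subgroup.mem_normalizer_iff.1 (hXU hv) x).1 hx))
      rw [show u * xc w * u⁻¹ = w * ((w⁻¹ * u * w) * x * (w⁻¹ * u * w)⁻¹) * w⁻¹ by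
        simp only [xc]; group, ← e, show w * (z * y) * w⁻¹ = (w * z * w⁻¹) * (w * y * w⁻¹) by group]
      refine Z.mul_mem (hH₀Z (‹H₀.Normal›.conj_mem z hz w)) ?_
      obtain ⟨m, rfl⟩ := Subgroup.mem_zpowers_iff.1 hy
      rw [← conj_zpow]
      exact Z.zpow_mem (hxZ w hw) m
    have hWZ : ∀ v ∈ W, ∀ z ∈ Z, v * z * v⁻¹ ∈ Z := fun v hv => hconjS v fun w hw => by
      rw [show v * xc w * v⁻¹ = xc (v * w) by simp only [xc]; group]
      exact hxZ _ (W.mul_mem hv hw)
    have hnorm : ∀ {A : Subgroup L}, (∀ g ∈ A, ∀ z ∈ Z, g * z * g⁻¹ ∈ Z) →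
        A ≤ Subgroup.normalizer (Z : Set L) := fun {A} h g hg => Subgroup.mem_normalizer_iff.2
      fun z => ⟨h g hg z, fun hz => by simpa [mul_assoc] using h g⁻¹ (A.inv_mem hg) _ hz⟩
    have hZn : Z.Normal := E.normal_of Z (E.le_normalizer_of_H₀ hH₀Z hZH) (hnorm hUZ) (hnorm hWZ)
    refine ((E.eq_or_eq Z hH₀Z hZH).resolve_left fun h => hx0 ?_).ge
    show x ∈ H₀
    rw [show H₀ = Z from h.symm]
    simpa [xc] using hxZ 1 W.one_mem
  intro a ha b hb
  have := Subgroup.closure_le (Subgroup.centralizer (Subgroup.closure S : Set L)) |>.2 (fun s hs => by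
    rw [SetLike.mem_coe, Subgroup.centralizer_closure]
    exact Subgroup.mem_centralizer_iff.2 fun t ht => hS t ht s hs) (hHS ha)
  exact (Subgroup.mem_centralizer_iff.1 this b (hHS hb)).symm

/-- The irreducible case of (11.7). -/
theorem comm_of_irreducible (hD : ⁅H, U⁆ = H)
    (hirr : ∀ X : Subgroup L, H ⊓ Subgroup.centralizer (U : Set L) ≤ X → X ≤ H →
      U ≤ Subgroup.normalizer (X : Set L) → X = H ⊓ Subgroup.centralizer (U : Set L) ∨ X = H) :
    ∀ a ∈ H, ∀ b ∈ H, a * b = b * a := by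
  haveI := E.H_normal
  haveI := E.centralizer_U_normal
  haveI : Fact p.Prime := ⟨E.p_prime⟩
  intro a ha b hb
  by_contra hab
  set H₀ := H ⊓ Subgroup.centralizer (U : Set L) with hH₀
  set c := ⁅a, b⁆ with hc
  have hc1 : c ≠ 1 := fun h => hab (commutatorElement_eq_one_iff_mul_comm.1 h)
  have hcH' : c ∈ ⁅H, H⁆ := Subgroup.commutator_mem_commutator ha hb
  have hcp : orderOf c = p := orderOf_eq_prime (E.pow_eq_one hD (E.commutator_H_le hcH').1) hc1
  obtain ⟨N, ⟨hNH', hcN⟩, hmax⟩ := (Set.toFinite {N : Subgroup L | N ≤ ⁅H, H⁆ ∧ c ∉ N}).exists_maximal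
    ⟨⊥, bot_le, by simpa using hc1⟩
  have hcentral : ∀ z ∈ ⁅H, H⁆, ∀ y ∈ H, Commute y z := fun z hz y hy =>
    E.H₀_central hD (E.commutator_H_le hz) hy
  have hH'N : ⁅H, H⁆ ≤ N ⊔ Subgroup.zpowers c := by
    intro y hy
    by_cases hyN : y ∈ N
    · exact Subgroup.mem_sup_left hyN
    have hcy : c ∈ N ⊔ Subgroup.zpowers y := by
      by_contra h
      exact hyN (hmax ⟨sup_le hNH' (Subgroup.zpowers_le.2 hy), h⟩ le_sup_left
        (Subgroup.mem_sup_right (Subgroup.mem_zpowers y)))
    have hnrm : Subgroup.zpowers y ≤ Subgroup.normalizer (N : Set L) := by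
      rw [Subgroup.zpowers_le]
      refine Subgroup.centralizer_le_normalizer _ (Subgroup.mem_centralizer_iff.2 fun z hz => ?_)
      exact ((hcentral z (hNH' hz) y (E.commutator_H_le hy).1).eq).symm
    rw [sup_comm] at hcy
    obtain ⟨y', hy', n, hn, e⟩ := (Coprime.mem_sup_iff_of_le_normalizer hnrm).1 hcy
    obtain ⟨m, rfl⟩ := Subgroup.mem_zpowers_iff.1 hy'
    have hyp : orderOf y ∣ p := orderOf_dvd_of_pow_eq_one (E.pow_eq_one hD (E.commutator_H_le hy).1)
    have hndvd : ¬ (p : ℤ) ∣ m := by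
      rintro ⟨r, rfl⟩
      rw [zpow_mul, zpow_natCast, orderOf_dvd_iff_pow_eq_one.1 hyp, one_zpow, one_mul] at e
      exact hcN (e ▸ hn)
    obtain ⟨r, s, hrs⟩ : ∃ r s : ℤ, r * m + s * p = 1 := by
      have : IsCoprime (p : ℤ) m := (Nat.prime_iff_prime_int.1 E.p_prime).coprime_iff_not_dvd.2 hndvd
      obtain ⟨s, r, h⟩ := this
      exact ⟨r, s, by linarith⟩
    have hym : y ^ m = c * n⁻¹ := by rw [← e, mul_inv_cancel_right]
    rw [show y = (y ^ m) ^ r by
      conv_lhs => rw [← zpow_one y, ← hrs, zpow_add, mul_comm s, zpow_mul y (p : ℤ) s, zpow_natCast,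
        orderOf_dvd_iff_pow_eq_one.1 hyp, one_zpow, mul_one, mul_comm r, zpow_mul], hym]
    exact Subgroup.zpow_mem _ (Subgroup.mul_mem _ (Subgroup.mem_sup_right (Subgroup.mem_zpowers c))
      (Subgroup.inv_mem _ (Subgroup.mem_sup_left hn))) r
  set N' : Subgroup H := N.subgroupOf H with hN'
  haveI hN'n : N'.Normal := ⟨fun z hz y => by
    have h1 : Commute (y : L) (z : L) := hcentral _ (hNH' hz) y y.2
    show (y : L) * z * (y : L)⁻¹ ∈ N
    rw [h1.eq, mul_inv_cancel_right]
    exact hz⟩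
  let Q := H ⧸ N'
  let π : H →* Q := QuotientGroup.mk' N'
  let c' : H := ⟨c, (E.commutator_H_le hcH').1⟩
  set Z : Subgroup Q := Subgroup.zpowers (π c') with hZ
  have hπc : π c' ≠ 1 := fun h => hcN ((QuotientGroup.eq_one_iff c').1 h)
  have hZc : Nat.card Z = p := by
    rw [hZ, Nat.card_zpowers]
    refine orderOf_eq_prime ?_ hπc
    rw [← map_pow, show c' ^ p = 1 from Subtype.ext (E.pow_eq_one hD c'.2), map_one]
  have hπsurj : Function.Surjective π := QuotientGroup.mk'_surjective _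
  have hZcen : Z ≤ Subgroup.center Q := by
    rw [hZ, Subgroup.zpowers_le, Subgroup.mem_center_iff]
    intro g
    obtain ⟨y, rfl⟩ := hπsurj g
    rw [← map_mul, ← map_mul]
    exact congrArg π (Subtype.ext (hcentral c hcH' y y.2).eq)
  have hmemZ : ∀ y : H, (y : L) ∈ ⁅H, H⁆ → π y ∈ Z := by
    intro y hy
    have hyc : Subgroup.zpowers c ≤ Subgroup.normalizer (N : Set L) := by
      rw [Subgroup.zpowers_le]
      exact Subgroup.centralizer_le_normalizer _ (Subgroup.mem_centralizer_iff.2 fun z hz =>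
        ((hcentral z (hNH' hz) c (E.commutator_H_le hcH').1).eq).symm)
    have h1 := hH'N hy
    rw [sup_comm] at h1
    obtain ⟨y', hy', n, hn, e⟩ := (Coprime.mem_sup_iff_of_le_normalizer hyc).1 h1
    obtain ⟨m, rfl⟩ := Subgroup.mem_zpowers_iff.1 hy'
    have hey : y = c' ^ m * ⟨n, (E.commutator_H_le (hNH' hn)).1⟩ := Subtype.ext (by simp [c', e])
    rw [hey, map_mul, map_zpow,
      show π ⟨n, (E.commutator_H_le (hNH' hn)).1⟩ = 1 from (QuotientGroup.eq_one_iff _).2 hn, mul_one]
    exact Subgroup.zpow_mem _ (Subgroup.mem_zpowers _) m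
  have hcomm' : ∀ g h : Q, ⁅g, h⁆ ∈ Z := by
    intro g h
    obtain ⟨y, rfl⟩ := hπsurj g
    obtain ⟨y', rfl⟩ := hπsurj h
    rw [← map_commutatorElement]
    exact hmemZ _ (Subgroup.commutator_mem_commutator y.2 y'.2)
  have hpow' : ∀ e : Q, e ^ p ∈ Z := by
    intro e
    obtain ⟨y, rfl⟩ := hπsurj e
    rw [← map_pow, show y ^ p = 1 from Subtype.ext (E.pow_eq_one hD y.2), map_one]
    exact Z.one_mem
  -- the centre is the image of `C_H(U)`
  have hcenter : (Subgroup.center Q).comap π = H₀.subgroupOf H := by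
    set R : Subgroup L := ((Subgroup.center Q).comap π).map H.subtype with hR
    have hRmem : ∀ y : L, y ∈ R ↔ y ∈ H ∧ ∀ z ∈ H, ⁅y, z⁆ ∈ N := by
      intro y
      constructor
      · rintro ⟨y, hy, rfl⟩
        refine ⟨y.2, fun z hz => ?_⟩
        have := Subgroup.mem_center_iff.1 hy (π ⟨z, hz⟩)
        rw [eq_comm, ← commutatorElement_eq_one_iff_mul_comm, ← map_commutatorElement] at this
        exact (QuotientGroup.eq_one_iff (⁅y, ⟨z, hz⟩⁆ : H)).1 this
      · rintro ⟨hy, hyz⟩
        refine ⟨⟨y, hy⟩, Subgroup.mem_center_iff.2 fun g => ?_, rfl⟩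
        obtain ⟨z, rfl⟩ := hπsurj g
        rw [eq_comm, ← commutatorElement_eq_one_iff_mul_comm, ← map_commutatorElement]
        exact (QuotientGroup.eq_one_iff _).2 (hyz z z.2)
    have h0R : H₀ ≤ R := fun z hz => (hRmem z).2 ⟨hz.1, fun y hy => by
      rw [commutatorElement_eq_one_iff_mul_comm.2 (E.H₀_central hD hz hy).eq.symm]
      exact N.one_mem⟩
    have hRH : R ≤ H := Subgroup.map_subtype_le _
    have hRU : U ≤ Subgroup.normalizer (R : Set L) := by
      have hu : ∀ u ∈ U, ∀ y ∈ R, u * y * u⁻¹ ∈ R := by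
        intro u hu y hy
        rw [hRmem] at hy ⊢
        refine ⟨E.H_normal.conj_mem y hy.1 u, fun z hz => ?_⟩
        have hz' : u⁻¹ * z * u ∈ H := by simpa using E.H_normal.conj_mem z hz u⁻¹
        have h1 := hy.2 _ hz'
        rw [show ⁅u * y * u⁻¹, z⁆ = u * ⁅y, u⁻¹ * z * u⁆ * u⁻¹ by
          simp only [commutatorElement_def]; group,
          Subgroup.mem_centralizer_iff.1 (E.commutator_H_le (hNH' h1)).2 u hu, mul_inv_cancel_right]
        exact h1
      exact fun u hu' => Subgroup.mem_normalizer_iff.2 fun y => ⟨hu u hu' y, fun hy => by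
        simpa [mul_assoc] using hu u⁻¹ (U.inv_mem hu') _ hy⟩
    rcases hirr R h0R hRH hRU with h | h
    · rw [← h, hR, Subgroup.subgroupOf,
        Subgroup.comap_map_eq_self_of_injective H.subtype_injective]
    · exfalso
      exact hcN (((hRmem a).1 (h ▸ ha)).2 b hb)
  obtain ⟨A, hZA, hA, hAmax⟩ := PGroup.exists_le_maximal_abelian (E := Q) (A := Subgroup.center Q)
    (inferInstance)
  have hCA := PGroup.centralizer_eq_of_maximal_abelian hA hAmax
  have mono := fun {X Y : Subgroup Q} (h1 : Z ≤ X) (h2 : X ≤ Y) =>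
    PGroup.card_mul_card_centralizer_mono (p := p) Z ⊤ hZcen hZc (fun g e _ => hcomm' g e)
      (fun e _ => hpow' e) h1 h2 le_top
  have h1 := mono hZcen hZA
  have h2 := mono (hZcen.trans hZA) (le_top : A ≤ ⊤)
  rw [Subgroup.centralizer_eq_top_iff_subset.2 le_rfl, Subgroup.card_top, hCA] at h1
  rw [Subgroup.coe_top, Subgroup.centralizer_univ, Subgroup.card_top, hCA] at h2
  have heq : Nat.card A * Nat.card A = Nat.card Q * Nat.card (Subgroup.center Q) :=
    le_antisymm h2 ((mul_comm _ _).trans_le h1)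
  have hidx : (Subgroup.center Q).index = p ^ q := by
    rw [← Subgroup.index_comap_of_surjective _ hπsurj, hcenter]
    exact E.relIndex_H₀
  rw [← Subgroup.card_mul_index (Subgroup.center Q), hidx] at heq
  have h3 := congrArg (fun m => Nat.factorization m p) heq
  simp only [Nat.factorization_mul Nat.card_pos.ne' Nat.card_pos.ne',
    Nat.factorization_mul (mul_ne_zero Nat.card_pos.ne' (pow_ne_zero q E.p_prime.ne_zero))
      Nat.card_pos.ne',
    Nat.factorization_mul Nat.card_pos.ne' (pow_ne_zero q E.p_prime.ne_zero),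
    Nat.factorization_pow, Finsupp.add_apply, Finsupp.smul_apply, E.p_prime.factorization_self,
    smul_eq_mul, mul_one] at h3
  obtain ⟨r, hr⟩ := E.q_prime.odd_of_ne_two (by have := E.three_le_q; omega)
  omega

/-- Peterfalvi (11.7): if `H = [H, U]` then `H` is elementary abelian of order `p ^ q`. -/
theorem H_elementary (hD : ⁅H, U⁆ = H) :
    IsMulCommutative H ∧ (∀ x ∈ H, x ^ p = 1) ∧ H ⊓ Subgroup.centralizer (U : Set L) = ⊥ ∧
      Nat.card H = p ^ q := by
  haveI := E.H_normal
  have hab : ∀ a ∈ H, ∀ b ∈ H, a * b = b * a := by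
    by_cases h : ∀ X : Subgroup L, H ⊓ Subgroup.centralizer (U : Set L) ≤ X → X ≤ H →
        U ≤ Subgroup.normalizer (X : Set L) → X = H ⊓ Subgroup.centralizer (U : Set L) ∨ X = H
    · exact E.comm_of_irreducible hD h
    · push Not at h
      obtain ⟨X₀, h0, h1, hU, hne0, hne1⟩ := h
      obtain ⟨X, hX0, hXH, hXU, hc⟩ := E.exists_line (lt_of_le_of_ne h0 hne0.symm)
        (lt_of_le_of_ne h1 hne1) hU
      exact E.comm_of_line hD hX0 hXH hXU hc
  haveI hcomm : IsMulCommutative H := ⟨⟨fun a b => Subtype.ext (hab a a.2 b b.2)⟩⟩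
  have hbot : H ⊓ Subgroup.centralizer (U : Set L) = ⊥ := by
    rw [← Coprime.inf_centralizer_inf_commutator_eq_bot (V := H) E.U_le_normalizer_H
      E.H_coprime.symm, hD, inf_right_comm, inf_idem]
  refine ⟨hcomm, fun x hx => E.pow_eq_one hD hx, hbot, ?_⟩
  rw [E.card_H, hbot, Subgroup.card_bot, mul_one]

end Cfsg.Agent.OddOrder.PF.Eleven
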