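import Cfsg.Agent.Lib.OddOrder.PF.S11_Chief
import Cfsg.Agent.Lib.Coprime.AbelianMaschke
import Cfsg.Agent.Lib.Frobenius.FixedPointFree
import Mathlib.GroupTheory.SpecificGroups.Cyclic
import Mathlib.Tactic.Linarith

/-!
The two cases at the end of Peterfalvi 11: either `U` is cyclic and acts without fixed points on
`H`, or `U` normalises a line `X` of `H` and a complement `Y`, and then the index `a` of the
centraliser of `X` in `U` satisfies `a ^ 3 ≤ |U : C|` as soon as `p < q`.
-/

set_option autoImplicit false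
set_option linter.style.haveILetI false

namespace Cfsg.Agent.OddOrder.PF

open Cfsg.Agent
open scoped commutatorElement

universe u

/-- In an abelian group all of whose subgroups of `d`-th powers have order `1` modulo the prime `q`,
an element of order a multiple of `a` forces `a ^ 3` elements, if the primes of `a` are small. -/
theorem cube_le {q : ℕ} (hq : q.Prime) : ∀ (a : ℕ), (∀ r : ℕ, r.Prime → r ∣ a → r + 1 < q) →
    ∀ {A : Type u} [CommGroup A] [Finite A],
      (∀ d : ℕ, Nat.card ↥(powMonoidHom d : A →* A).range ≡ 1 [MOD q]) →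
      (∃ g : A, a ∣ orderOf g) → a ^ 3 ≤ Nat.card A := by
  intro a
  induction a using Nat.strong_induction_on with
  | _ a ih =>
    intro hsmall A _ _ hP ⟨g, hg⟩
    rcases Nat.lt_or_ge 1 a with ha | ha
    swap
    · interval_cases a
      · simp
      · simpa using Nat.one_le_iff_ne_zero.2 Nat.card_pos.ne'
    have hr : a.minFac.Prime := Nat.minFac_prime (by omega)
    obtain ⟨b, hb⟩ : a.minFac ∣ a := Nat.minFac_dvd a
    set r := a.minFac with hrdef
    haveI : Fact r.Prime := ⟨hr⟩
    have hb0 : 0 < b := Nat.pos_of_ne_zero fun e => by rw [e, mul_zero] at hb; omega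
    have hba : b < a := by
      rw [hb]
      exact lt_mul_of_one_lt_left hb0 hr.one_lt
    let f : A →* A := powMonoidHom r
    have hro : r ∣ orderOf g := (Dvd.intro b hb.symm).trans hg
    -- the powers
    have hstep : b ^ 3 ≤ Nat.card f.range := by
      refine ih b hba (fun s hs hsb => hsmall s hs (hsb.trans (Dvd.intro_left r hb.symm))) (fun d => ?_)
        ⟨⟨g ^ r, g, rfl⟩, ?_⟩
      · have e : ((powMonoidHom d : f.range →* f.range).range).map f.range.subtype =
            (powMonoidHom (r * d) : A →* A).range := by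
          ext x
          constructor
          · rintro ⟨_, ⟨⟨_, y, rfl⟩, rfl⟩, rfl⟩
            exact ⟨y, pow_mul y r d⟩
          · rintro ⟨y, rfl⟩
            exact ⟨_, ⟨⟨f y, y, rfl⟩, rfl⟩, (pow_mul y r d).symm⟩
        have hcard : Nat.card (powMonoidHom d : f.range →* f.range).range =
            Nat.card (powMonoidHom (r * d) : A →* A).range := by
          rw [← e, Subgroup.card_map_of_injective f.range.subtype_injective]
        rw [hcard]
        exact hP (r * d)
      · rw [show orderOf (⟨g ^ r, g, rfl⟩ : f.range) = orderOf (g ^ r) from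
          (orderOf_injective f.range.subtype f.range.subtype_injective _).symm,
          orderOf_pow_of_dvd hr.ne_zero hro]
        exact Nat.dvd_div_of_mul_dvd (hb ▸ hg)
    -- the kernel
    have hker : Nat.card f.ker * Nat.card f.range = Nat.card A := by
      rw [← Subgroup.card_mul_index f.ker, Subgroup.index_ker]
    obtain ⟨k, hk⟩ := IsPGroup.iff_card.1 (show IsPGroup r f.ker from fun x => ⟨1, Subtype.ext (by
      have := x.2
      rw [MonoidHom.mem_ker] at this
      simpa [f] using this)⟩)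
    have hk0 : k ≠ 0 := by
      rintro rfl
      rw [pow_zero, Subgroup.card_eq_one] at hk
      have h1 : g ^ (orderOf g / r) ∈ f.ker := by
        show (g ^ (orderOf g / r)) ^ r = 1
        rw [← pow_mul, Nat.div_mul_cancel hro, pow_orderOf_eq_one]
      rw [hk, Subgroup.mem_bot] at h1
      have h2 := Nat.le_of_dvd (Nat.div_pos (Nat.le_of_dvd (orderOf_pos g) hro) hr.pos)
        (orderOf_dvd_of_pow_eq_one h1)
      exact absurd h2 (Nat.div_lt_self (orderOf_pos g) hr.one_lt).not_ge
    have hmod : r ^ k ≡ 1 [MOD q] := by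
      have h1 : Nat.card A ≡ 1 [MOD q] := by
        have e : (powMonoidHom 1 : A →* A).range = ⊤ := by
          ext x; exact ⟨fun _ => trivial, fun _ => ⟨x, pow_one x⟩⟩
        have h := hP 1
        rwa [e, Subgroup.card_top] at h
      rw [← hker, hk] at h1
      calc r ^ k = r ^ k * 1 := (mul_one _).symm
        _ ≡ r ^ k * Nat.card f.range [MOD q] := ((hP r).symm.mul_left _)
        _ ≡ 1 [MOD q] := h1
    have hrq := hsmall r hr (Dvd.intro b hb.symm)
    have hk3 : 3 ≤ k := by
      by_contra h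
      have hd := (Nat.modEq_iff_dvd' (Nat.one_le_pow _ _ hr.pos)).1 hmod.symm
      have h2 := hr.two_le
      interval_cases k
      · exact hk0 rfl
      · rw [pow_one] at hd
        have := Nat.le_of_dvd (by omega) hd
        omega
      · rw [show r ^ 2 - 1 = (r + 1) * (r - 1) by
          simpa using Nat.sq_sub_sq r 1] at hd
        rcases hq.dvd_mul.1 hd with h' | h' <;> have := Nat.le_of_dvd (by omega) h' <;> omega
    calc a ^ 3 = r ^ 3 * b ^ 3 := by rw [hb, mul_pow]
      _ ≤ r ^ k * Nat.card f.range := Nat.mul_le_mul (Nat.pow_le_pow_right hr.pos hk3) hstep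
      _ = Nat.card A := by rw [← hk, hker]

/-- In a nilpotent group with cyclic quotient by the commutator subgroup, the commutator is
trivial. -/
theorem commutator_eq_bot_of_gen {X : Type u} [Group X] [Finite X] (hnil : Group.IsNilpotent X)
    (g : X) (hg : ∀ x, ∃ i : ℤ, x * (g ^ i)⁻¹ ∈ commutator X) : commutator X = ⊥ := by
  set Z : Subgroup X := ⁅commutator X, (⊤ : Subgroup X)⁆ with hZ
  haveI : Z.Normal := inferInstance
  let π := QuotientGroup.mk' Z
  have hcen : ∀ c ∈ commutator X, ∀ y, Commute (π c) (π y) := fun c hc y =>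
    commutatorElement_eq_one_iff_commute.1 (by
      rw [← map_commutatorElement]
      exact (QuotientGroup.eq_one_iff _).2
        (Subgroup.commutator_mem_commutator hc (Subgroup.mem_top y)))
  have hcomm : ∀ x y, Commute (π x) (π y) := by
    intro x y
    obtain ⟨i, hi⟩ := hg x
    obtain ⟨j, hj⟩ := hg y
    rw [show x = x * (g ^ i)⁻¹ * g ^ i by group, show y = y * (g ^ j)⁻¹ * g ^ j by group,
      map_mul π (x * (g ^ i)⁻¹), map_mul π (y * (g ^ j)⁻¹), map_zpow π g i, map_zpow π g j]
    refine (Commute.mul_left ((hcen _ hi _).mul_right ?_) ?_)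
    · rw [← map_zpow]; exact hcen _ hi _
    · refine Commute.mul_right ?_ (Commute.zpow_zpow (Commute.refl _) i j)
      rw [← map_zpow]; exact (hcen _ hj _).symm
  have hle : commutator X ≤ Z := by
    rw [commutator_def, Subgroup.commutator_le]
    intro x _ y _
    rw [← QuotientGroup.eq_one_iff (N := Z), ← QuotientGroup.mk'_apply, map_commutatorElement,
      commutatorElement_eq_one_iff_commute]
    exact hcomm x y
  haveI := hnil
  exact le_bot_iff.1 (le_of_le_commutator_sup (H := ⊤) (M := ⊥) inferInstance le_top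
    (hle.trans le_sup_left))

namespace Eleven

variable {L : Type u} [Group L] [Finite L] {K H U W W₂ : Subgroup L} {p q : ℕ}

/-- The data of the reducible case: a line `X` of `H`, an invariant complement `Y` and the index `a`
of the centraliser of `X` in `U`. -/
structure Line (H U X Y : Subgroup L) (p a : ℕ) : Prop where
  X_le : X ≤ H
  Y_le : Y ≤ H
  inf_eq : X ⊓ Y = ⊥
  sup_eq : X ⊔ Y = H
  card_X : Nat.card X = p
  U_X : U ≤ Subgroup.normalizer (X : Set L)
  U_Y : U ≤ Subgroup.normalizer (Y : Set L)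
  index : (U ⊓ Subgroup.centralizer (X : Set L)).relIndex U = a
  dvd : a ∣ p - 1
  gen : ∃ g ∈ U, ∀ m : ℕ, g ^ m ∈ U ⊓ Subgroup.centralizer (X : Set L) → a ∣ m

variable (E : Eleven K H U W W₂ p q)
include E

/-- The two cases for the action of `U` on `H`. -/
theorem semiregular_or_line [IsMulCommutative H] (hpow : ∀ x ∈ H, x ^ p = 1)
    (hbot : H ⊓ Subgroup.centralizer (U : Set L) = ⊥)
    (hC : U ⊓ Subgroup.centralizer (H : Set L) = ⁅U, U⁆) :
    (IsCyclic U ∧ U ⊓ Subgroup.centralizer (H : Set L) = ⊥ ∧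
      ∀ x ∈ U, x ≠ 1 → H ⊓ Subgroup.centralizer ({x} : Set L) = ⊥) ∨
    ∃ (X Y : Subgroup L) (a : ℕ), Line H U X Y p a := by
  haveI := E.H_normal
  haveI := E.C_normal
  haveI : Fact p.Prime := ⟨E.p_prime⟩
  set C := U ⊓ Subgroup.centralizer (H : Set L) with hCdef
  by_cases hcase : ∀ x ∈ U, x ∉ C → H ⊓ Subgroup.centralizer ({x} : Set L) = ⊥
  · -- fixed point free
    left
    open scoped IsMulCommutative in
    let φ₀ : U →* MulAut H := Frobenius.Fpf.conjHom U H E.U_le_normalizer_H
    have hker : C.subgroupOf U ≤ φ₀.ker := fun x hx => by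
      refine MonoidHom.mem_ker.2 (MulEquiv.ext fun h => Subtype.ext ?_)
      show (x : L) * h * (x : L)⁻¹ = h
      have h1 : (h : L) * x = x * h := Subgroup.mem_centralizer_iff.1 hx.2 h h.2
      rw [← h1, mul_inv_cancel_right]
    let φ := QuotientGroup.lift (C.subgroupOf U) φ₀ hker
    open scoped IsMulCommutative in
    have hfpf : Frobenius.Fpf.IsFpf φ := by
      intro a ha v hv
      obtain ⟨x, rfl⟩ := QuotientGroup.mk'_surjective (C.subgroupOf U) a
      have hx : (x : L) ∉ C := fun h => ha ((QuotientGroup.eq_one_iff x).2 h)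
      have h1 : (x : L) * v * (x : L)⁻¹ = v := congrArg Subtype.val hv
      have h2 : (v : L) ∈ H ⊓ Subgroup.centralizer ({(x : L)} : Set L) :=
        ⟨v.2, Subgroup.mem_centralizer_singleton_iff.2 (mul_inv_eq_iff_eq_mul.1 h1).symm⟩
      rw [hcase x x.2 hx, Subgroup.mem_bot] at h2
      exact Subtype.ext h2
    haveI : Nontrivial H := (Subgroup.nontrivial_iff_ne_bot H).2 fun h =>
      E.W₂_ne_bot (le_bot_iff.1 (h ▸ E.W₂_le))
    open scoped IsMulCommutative in
    have hcyc := Frobenius.Fpf.isCyclic_of_comm hfpf fun a b => by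
      obtain ⟨x, rfl⟩ := QuotientGroup.mk'_surjective (C.subgroupOf U) a
      obtain ⟨y, rfl⟩ := QuotientGroup.mk'_surjective (C.subgroupOf U) b
      refine commutatorElement_eq_one_iff_commute.1 ?_
      rw [← map_commutatorElement]
      refine (QuotientGroup.eq_one_iff _).2 ?_
      show ⁅(x : L), (y : L)⁆ ∈ C
      exact E.commutator_U_le (Subgroup.commutator_mem_commutator x.2 y.2)
    obtain ⟨g₀, hg₀⟩ := hcyc.exists_generator
    obtain ⟨g, rfl⟩ := QuotientGroup.mk'_surjective (C.subgroupOf U) g₀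
    have hCsub : C.subgroupOf U = commutator U := by
      rw [hC, ← Subgroup.map_subtype_commutator U, Subgroup.subgroupOf,
        Subgroup.comap_map_eq_self_of_injective U.subtype_injective]
    have hgen : ∀ x : U, ∃ i : ℤ, x * (g ^ i)⁻¹ ∈ C.subgroupOf U := fun x => by
      obtain ⟨i, hi⟩ := Subgroup.mem_zpowers_iff.1 (hg₀ (QuotientGroup.mk' _ x))
      exact ⟨i, (QuotientGroup.eq_one_iff _).1 (by
        rw [← QuotientGroup.mk'_apply, map_mul, map_inv, map_zpow, hi, mul_inv_cancel])⟩
    have hU' : commutator U = ⊥ :=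
      commutator_eq_bot_of_gen E.U_nilpotent g (hCsub ▸ hgen)
    have hCbot : C = ⊥ := by
      rw [hC, ← Subgroup.map_subtype_commutator U, hU', Subgroup.map_bot]
    refine ⟨⟨⟨g, fun x => ?_⟩⟩, hCbot, fun x hx h1 => hcase x hx (by simpa [hCbot] using h1)⟩
    obtain ⟨i, hi⟩ := hgen x
    rw [hCsub, hU', Subgroup.mem_bot, mul_inv_eq_one] at hi
    exact ⟨i, hi.symm⟩
  · -- a line
    right
    push Not at hcase
    obtain ⟨x, hxU, hxC, hX0⟩ := hcase
    set X₀ := H ⊓ Subgroup.centralizer ({x} : Set L) with hX₀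
    have hUX₀ : U ≤ Subgroup.normalizer (X₀ : Set L) := by
      have key : ∀ v ∈ U, ∀ h ∈ X₀, v * h * v⁻¹ ∈ X₀ := by
        intro v hv h hh
        refine ⟨E.H_normal.conj_mem h hh.1 v, Subgroup.mem_centralizer_singleton_iff.2 ?_⟩
        have hcm : x⁻¹ * v⁻¹ * x * v ∈ C := by
          have := E.commutator_U_le (Subgroup.commutator_mem_commutator (U.inv_mem hxU) (U.inv_mem hv))
          rwa [commutatorElement_def, inv_inv, inv_inv] at this
        set c := x⁻¹ * v⁻¹ * x * v with hc
        have h1 : c * h = h * c := (Subgroup.mem_centralizer_iff.1 hcm.2 h hh.1).symm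
        have h2 : h * x = x * h := Subgroup.mem_centralizer_singleton_iff.1 hh.2
        calc v * h * v⁻¹ * x = v * (h * (v⁻¹ * x * v)) * v⁻¹ := by group
          _ = v * (h * (x * c)) * v⁻¹ := by rw [hc]; group
          _ = v * ((x * c) * h) * v⁻¹ := by
            rw [show h * (x * c) = x * c * h by rw [← mul_assoc, h2, mul_assoc, ← h1, ← mul_assoc]]
          _ = x * (v * h * v⁻¹) := by rw [hc]; group
      exact fun v hv => Subgroup.mem_normalizer_iff.2 fun h => ⟨key v hv h, fun hh => by
        simpa [mul_assoc] using key v⁻¹ (U.inv_mem hv) _ hh⟩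
    have hlt : X₀ < H := lt_of_le_of_ne inf_le_left fun h => hxC ⟨hxU,
      Subgroup.mem_centralizer_iff.2 fun y hy =>
        Subgroup.mem_centralizer_singleton_iff.1 (inf_eq_left.1 h hy)⟩
    obtain ⟨X, -, hXH, hXU, hc⟩ := E.exists_line (X₀ := X₀) (hbot ▸ bot_lt_iff_ne_bot.2 hX0) hlt hUX₀
    rw [hbot, Subgroup.relIndex_bot_left] at hc
    -- the complement
    open scoped IsMulCommutative in
    let φ : U →* MulAut H := Frobenius.Fpf.conjHom U H E.U_le_normalizer_H
    have hcop : (Nat.card φ.range).Coprime p :=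
      (E.H_coprime.symm.coprime_dvd_left (Subgroup.card_range_dvd φ)).coprime_dvd_right E.p_dvd_card_H
    open scoped IsMulCommutative in
    obtain ⟨D, -, hDi, hDinf, hDsup⟩ := Coprime.exists_invariant_compl_elementary φ.range hcop
      (C := ⊥) (S := X.subgroupOf H) (T := ⊤) bot_le le_top
      (fun t _ => Subgroup.mem_bot.2 (Subtype.ext (hpow t t.2)))
      (fun y _ a ha => by rw [Subgroup.mem_bot.1 ha, map_one]; exact Subgroup.one_mem _)
      (by
        rintro _ ⟨v, rfl⟩ a ha
        exact (Subgroup.mem_normalizer_iff.1 (hXU v.2) (a : L)).1 ha)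
      (fun y _ a _ => Subgroup.mem_top _)
    set Y := D.map H.subtype with hY
    have hXe : (X.subgroupOf H).map H.subtype = X := Subgroup.map_subgroupOf_eq_of_le hXH
    -- the index
    haveI : IsCyclic X := isCyclic_of_prime_card hc
    haveI : IsMulCommutative X := ⟨⟨fun a b => (IsCyclic.commGroup (α := X)).mul_comm a b⟩⟩
    open scoped IsMulCommutative in
    let ψ : U →* MulAut X := Frobenius.Fpf.conjHom U X hXU
    have hψker : ψ.ker = (U ⊓ Subgroup.centralizer (X : Set L)).subgroupOf U := by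
      ext v
      rw [MonoidHom.mem_ker, Subgroup.mem_subgroupOf]
      refine ⟨fun h => ⟨v.2, Subgroup.mem_centralizer_iff.2 fun y hy => ?_⟩, fun h => ?_⟩
      · have h1 : (v : L) * y * (v : L)⁻¹ = y :=
          congrArg (fun e : MulAut X => ((e ⟨y, hy⟩ : X) : L)) h
        exact (mul_inv_eq_iff_eq_mul.1 h1).symm
      · refine MulEquiv.ext fun y => Subtype.ext ?_
        show (v : L) * y * (v : L)⁻¹ = y
        rw [← Subgroup.mem_centralizer_iff.1 h.2 y y.2, mul_inv_cancel_right]
    set a := (U ⊓ Subgroup.centralizer (X : Set L)).relIndex U with ha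
    have hra : Nat.card ψ.range = a := by
      rw [← Subgroup.index_ker, hψker, ha, Subgroup.relIndex]
    haveI : IsCyclic (ZMod (Nat.card X))ˣ := by rw [hc]; infer_instance
    haveI : IsCyclic (MulAut X) :=
      isCyclic_of_surjective (IsCyclic.mulAutMulEquiv X).symm.toMonoidHom
        (IsCyclic.mulAutMulEquiv X).symm.surjective
    obtain ⟨⟨y, v, rfl⟩, hy⟩ := IsCyclic.exists_ofOrder_eq_natCard (α := ψ.range)
    refine ⟨X, Y, a, ⟨hXH, Subgroup.map_subtype_le _, ?_, ?_, hc, hXU, ?_, rfl, ?_, v, v.2, fun m hm => ?_⟩⟩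
    · conv_lhs => rw [← hXe]
      rw [hY, ← Subgroup.map_inf _ _ _ H.subtype_injective, inf_comm, hDinf, Subgroup.map_bot]
    · conv_lhs => rw [← hXe]
      rw [hY, ← Subgroup.map_sup, sup_comm, hDsup, ← MonoidHom.range_eq_map, Subgroup.range_subtype]
    · have key : ∀ v ∈ U, ∀ z ∈ Y, v * z * v⁻¹ ∈ Y := by
        rintro v hv _ ⟨z, hz, rfl⟩
        exact ⟨_, hDi (φ ⟨v, hv⟩) ⟨_, rfl⟩ z hz, rfl⟩
      exact fun v hv => Subgroup.mem_normalizer_iff.2 fun h => ⟨key v hv h, fun hh => by
        simpa [mul_assoc] using key v⁻¹ (U.inv_mem hv) _ hh⟩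
    · rw [← hra]
      refine (Subgroup.card_subgroup_dvd_card ψ.range).trans ?_
      rw [IsCyclic.card_mulAut, hc, Nat.totient_prime E.p_prime]
    · rw [← hra, ← hy]
      refine orderOf_dvd_of_pow_eq_one (Subtype.ext ?_)
      rw [SubmonoidClass.coe_pow, ← map_pow]
      exact MonoidHom.mem_ker.1 (hψker ▸ (show v ^ m ∈ _ from hm))

/-- The bounds used in the reducible case. -/
theorem Line.bounds {X Y : Subgroup L} {a n : ℕ} (hl : Line H U X Y p a) (hpq : p < q)
    (hn : n * q + 1 = (U ⊓ Subgroup.centralizer (H : Set L)).relIndex U) :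
    Odd a ∧ 3 * (n + 1) * a ^ 2 ≤ (p - 1) * (U ⊓ Subgroup.centralizer (H : Set L)).relIndex U ∧
      3 * p * a ^ 2 ≤ 2 * (p - 1) * (n * q) := by
  haveI := E.C_normal
  set C := U ⊓ Subgroup.centralizer (H : Set L) with hC
  set u := C.relIndex U with hu
  obtain ⟨j, hj⟩ := E.p_prime.odd_of_ne_two (by have := E.three_le_p; omega)
  have haodd : Odd a :=
    (E.odd.of_dvd_nat U.card_subgroup_dvd_card).of_dvd_nat
      (hl.index ▸ Subgroup.relIndex_dvd_card _ _)
  have h2a : 2 * a ≤ p - 1 := by
    obtain ⟨c, hc⟩ := hl.dvd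
    have hc0 : c ≠ 0 := fun e => by rw [e, mul_zero] at hc; have := E.three_le_p; omega
    have hc1 : c ≠ 1 := fun e => by
      rw [e, mul_one] at hc
      obtain ⟨i, hi⟩ := haodd
      omega
    calc 2 * a = a * 2 := mul_comm _ _
      _ ≤ a * c := Nat.mul_le_mul_left a (by omega)
      _ = p - 1 := hc.symm
  -- the quotient `U / C`
  haveI hcommA : IsMulCommutative (U ⧸ C.subgroupOf U) := ⟨⟨fun b c => by
    obtain ⟨x, rfl⟩ := QuotientGroup.mk'_surjective (C.subgroupOf U) b
    obtain ⟨y, rfl⟩ := QuotientGroup.mk'_surjective (C.subgroupOf U) c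
    refine commutatorElement_eq_one_iff_mul_comm.1 ?_
    rw [← map_commutatorElement]
    exact (QuotientGroup.eq_one_iff _).2
      (E.commutator_U_le (Subgroup.commutator_mem_commutator x.2 y.2))⟩⟩
  letI : CommGroup (U ⧸ C.subgroupOf U) :=
    { (inferInstance : Group (U ⧸ C.subgroupOf U)) with mul_comm := mul_comm' }
  set π := QuotientGroup.mk' (C.subgroupOf U) with hπ
  have hP : ∀ d : ℕ,
      Nat.card ↥(powMonoidHom d : (U ⧸ C.subgroupOf U) →* _).range ≡ 1 [MOD q] := by
    intro d
    set R := (powMonoidHom d : (U ⧸ C.subgroupOf U) →* _).range with hR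
    have hcR : Nat.card (R.comap π) = Nat.card C * Nat.card R := by
      refine Nat.eq_of_mul_eq_mul_right
        (Nat.pos_of_ne_zero (Subgroup.index_ne_zero_of_finite (H := R))) ?_
      conv_lhs => rw [← Subgroup.index_comap_of_surjective _ (QuotientGroup.mk'_surjective _)]
      rw [Subgroup.card_mul_index, mul_assoc, Subgroup.card_mul_index, ← Subgroup.index_eq_card,
        ← Nat.card_congr (Subgroup.subgroupOfEquivOfLe (inf_le_left : C ≤ U)).toEquiv,
        Subgroup.card_mul_index]
    set Z := (R.comap π).map U.subtype with hZ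
    have hZW : W ≤ Subgroup.normalizer (Z : Set L) := by
      have key : ∀ w ∈ W, ∀ z ∈ Z, w * z * w⁻¹ ∈ Z := by
        rintro w hw _ ⟨z, ⟨b, hb⟩, rfl⟩
        obtain ⟨y, rfl⟩ := QuotientGroup.mk'_surjective (C.subgroupOf U) b
        let cw : U → U := fun t =>
          ⟨w * t * w⁻¹, (Subgroup.mem_normalizer_iff.1 (E.W_normalizes hw) _).1 t.2⟩
        refine ⟨cw z, ⟨π (cw y), ?_⟩, rfl⟩
        show π (cw y) ^ d = π (cw z)
        have h1 : π (y ^ d * z⁻¹) = 1 := by
          rw [map_mul, map_pow, map_inv, mul_inv_eq_one]; exact hb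
        rw [← mul_inv_eq_one, ← map_pow, ← map_inv, ← map_mul]
        refine (QuotientGroup.eq_one_iff _).2 ?_
        show (w * y * w⁻¹) ^ d * (w * z * w⁻¹)⁻¹ ∈ C
        rw [conj_pow, show w * (y : L) ^ d * w⁻¹ * (w * z * w⁻¹)⁻¹ =
          w * ((y : L) ^ d * (z : L)⁻¹) * w⁻¹ by group]
        exact E.C_normal.conj_mem _ ((QuotientGroup.eq_one_iff (N := C.subgroupOf U) (y ^ d * z⁻¹)).1 h1 :) w
      exact fun w hw => Subgroup.mem_normalizer_iff.2 fun h => ⟨key w hw h, fun hh => by
        simpa [mul_assoc] using key w⁻¹ (W.inv_mem hw) _ hh⟩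
    have h1 := E.card_modEq_one (X := Z) (Subgroup.map_subtype_le _) hZW
    rw [hZ, Subgroup.card_map_of_injective U.subtype_injective, hcR] at h1
    have h2 := E.card_modEq_one (X := C) inf_le_left Subgroup.le_normalizer_of_normal
    calc Nat.card R = 1 * Nat.card R := (one_mul _).symm
      _ ≡ Nat.card C * Nat.card R [MOD q] := h2.symm.mul_right _
      _ ≡ 1 [MOD q] := h1
  obtain ⟨g, hgU, hg⟩ := hl.gen
  have hcube : a ^ 3 ≤ u := by
    have h := cube_le E.q_prime a (fun r hr hra => by
        have := Nat.le_of_dvd haodd.pos hra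
        omega) hP ⟨π ⟨g, hgU⟩, hg _ ?_⟩
    · rwa [← Subgroup.index_eq_card] at h
    · have h1 : π ((⟨g, hgU⟩ : U) ^ orderOf (π ⟨g, hgU⟩)) = 1 := by
        rw [map_pow, pow_orderOf_eq_one]
      exact (le_inf inf_le_left (inf_le_right.trans (Subgroup.centralizer_le hl.X_le)) :
        C ≤ U ⊓ Subgroup.centralizer (X : Set L))
        ((QuotientGroup.eq_one_iff (N := C.subgroupOf U) ((⟨g, hgU⟩ : U) ^ orderOf (π ⟨g, hgU⟩))).1 h1 :)
  have hu2 : 2 * q + 1 ≤ u := E.two_q_lt_index
  have hq := E.three_le_q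
  change n * q + 1 = u at hn
  have hn2 : 2 ≤ n := by
    by_contra h
    interval_cases n <;> simp at hn <;> omega
  have ha1 := haodd.pos
  have hkey : 3 * (n + 1) * a ≤ 2 * u ∧ 9 * a ^ 2 ≤ 4 * (n * q) := by
    have h2 : n * (2 * a + 1) ≤ n * q := Nat.mul_le_mul_left n (by omega)
    rcases Nat.lt_or_ge a 3 with h | h
    · obtain rfl : a = 1 := by obtain ⟨i, hi⟩ := haodd; omega
      constructor <;> nlinarith
    · have h9 : 9 * a ≤ a ^ 3 := by nlinarith [Nat.mul_le_mul h h]
      constructor <;> nlinarith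
  refine ⟨haodd, ?_, ?_⟩
  · calc 3 * (n + 1) * a ^ 2 = (3 * (n + 1) * a) * a := by ring
      _ ≤ 2 * u * a := Nat.mul_le_mul_right a hkey.1
      _ = 2 * a * u := by ring
      _ ≤ (p - 1) * u := Nat.mul_le_mul_right u h2a
  · have h3 : 2 * p ≤ 3 * (p - 1) := by omega
    nlinarith [Nat.mul_le_mul_left (3 * a ^ 2) h3, Nat.mul_le_mul_left (p - 1) hkey.2]

end Eleven

end Cfsg.Agent.OddOrder.PF
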