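import Cfsg.Agent.Lib.OddOrder.PF.S11_Bridge
import Cfsg.Agent.Lib.OddOrder.PF.S11_Chars
import Cfsg.Agent.Lib.OddOrder.PF.PrimeDadeImage
import Cfsg.Agent.Lib.OddOrder.PF.SubCoherent
import Cfsg.Agent.Lib.OddOrder.PF.TypeOneCoherence

/-!
Peterfalvi (11.8), (11.9) for a subgroup in the configuration of section 11: the characters trivial
on `C` and the grid `η` satisfy the hypotheses of the abstract computation, so `p < q` and `U` is
cyclic and acts without fixed points on `H`.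
-/

set_option autoImplicit false
set_option linter.style.haveILetI false
set_option linter.unusedSectionVars false

namespace Cfsg.Agent.OddOrder.PF

open Cfsg Cfsg.Agent Cfsg.Agent.OddOrder
open scoped ComplexConjugate

universe u
variable {G : Type u} [Group G] [Fintype G]

/-- The Dade map as a linear map. -/
noncomputable def dadeLin (A : Set G) (L : Subgroup G) (R : G → Subgroup G) :
    (L → ℂ) →ₗ[ℂ] (G → ℂ) where
  toFun := dadeIsometry A L R
  map_add' := dadeIsometry_add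
  map_smul' c α := by
    funext g
    simp only [dadeIsometry, Pi.smul_apply, RingHom.id_apply]
    split_ifs <;> simp

theorem dadeLin_apply (A : Set G) (L : Subgroup G) (R : G → Subgroup G) (α : L → ℂ) :
    dadeLin A L R α = dadeIsometry A L R α := rfl

/-- The class functions supported on `A`. -/
def suppSpace (A : Set G) (L : Subgroup G) : Submodule ℂ (L → ℂ) where
  carrier := {f | IsClassFunction L f ∧ ∀ y : L, (y : G) ∉ A → f y = 0}
  zero_mem' := ⟨fun _ _ => rfl, fun _ _ => rfl⟩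
  add_mem' {f g} hf hg := ⟨fun x h => by rw [Pi.add_apply, Pi.add_apply, hf.1, hg.1],
    fun y hy => by rw [Pi.add_apply, hf.2 y hy, hg.2 y hy, add_zero]⟩
  smul_mem' c f hf := ⟨fun x h => by rw [Pi.smul_apply, Pi.smul_apply, hf.1],
    fun y hy => by rw [Pi.smul_apply, hf.2 y hy, smul_zero]⟩

/-- A subgroup of `G` in the configuration of Peterfalvi 11. -/
structure ElevenCtx (A : Set G) (L K H : Subgroup G) (U : Subgroup L) (W₁ W₂ : Subgroup G)
    (R : G → Subgroup G) [Fintype L] (μ : (↥(W₁ ⊔ W₂) →* ℂˣ) → (L → ℂ))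
    (δ : (↥(W₁ ⊔ W₂) →* ℂˣ) → ℤ) (η : (↥(W₁ ⊔ W₂) →* ℂˣ) → (G → ℂ)) (p q n : ℕ) : Prop where
  prime : PrimeDade A L K H W₁ W₂ R
  cover : ∀ y : L, (y : G) ∈ K → y ≠ 1 → (y : G) ∈ A
  eleven : Eleven (K.subgroupOf L) (H.subgroupOf L) U (W₁.subgroupOf L) (W₂.subgroupOf L) p q
  mu : MuFamily L W₁ W₂ μ δ
  eta : IsCyclicTIFamily W₁ W₂ η
  odd : Odd (Nat.card G)
  comm : IsMulCommutative (H.subgroupOf L)
  bot : H.subgroupOf L ⊓ Subgroup.centralizer (U : Set L) = ⊥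
  num : n * q + 1 = (U ⊓ Subgroup.centralizer (H.subgroupOf L : Set L)).relIndex U

/-- The inverse of a member of `Ann`. -/
def annNeg {W₁ W₂ V : Subgroup G} (φ : Ann W₁ W₂ V) : Ann W₁ W₂ V :=
  ⟨φ.1⁻¹, fun w hw => by simp [φ.2 w hw]⟩

/-- The second index of the grid. -/
abbrev ColIdx (W₁ W₂ : Subgroup G) : Type _ := {ψ : Ann W₁ W₂ W₁ // ψ.1 ≠ 1}

/-- The character of `W` indexed by a row and a column. -/
def gridIdx {W₁ W₂ : Subgroup G} (i : Ann W₁ W₂ W₂) (j : Option (ColIdx W₁ W₂)) :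
    ↥(W₁ ⊔ W₂) →* ℂˣ :=
  i.1 * j.elim 1 (fun ψ => ψ.1.1)

theorem gridIdx_none {W₁ W₂ : Subgroup G} (i : Ann W₁ W₂ W₂) :
    gridIdx (W₁ := W₁) (W₂ := W₂) i none = i.1 :=
  MonoidHom.ext fun w => mul_one (i.1 w)

theorem gridIdx_inj {W₁ W₂ : Subgroup G} (hW : IsSelfNormalizingCyclic W₁ W₂)
    {i i' : Ann W₁ W₂ W₂} {j j' : Option (ColIdx W₁ W₂)} :
    gridIdx i j = gridIdx i' j' ↔ i = i' ∧ j = j' := by
  refine ⟨fun h => ?_, fun h => by rw [h.1, h.2]⟩
  let col : Option (ColIdx W₁ W₂) → Ann W₁ W₂ W₁ := fun j =>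
    ⟨j.elim 1 (fun ψ => ψ.1.1), fun w hw => by
      cases j with
      | none => rfl
      | some ψ => exact ψ.1.2 w hw⟩
  obtain ⟨h1, h2⟩ := mul_inj hW (a := i) (a' := i') (b := col j) (b' := col j') h
  refine ⟨h1, ?_⟩
  have h3 : j.elim 1 (fun ψ => ψ.1.1) = j'.elim 1 (fun ψ => ψ.1.1) := congrArg Subtype.val h2
  rcases j with _ | ψ <;> rcases j' with _ | ψ'
  · rfl
  · exact absurd h3.symm ψ'.2
  · exact absurd h3 ψ.2
  · exact congrArg some (Subtype.ext (Subtype.ext h3))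

namespace ElevenCtx

variable {A : Set G} {L K H : Subgroup G} {U : Subgroup L} {W₁ W₂ : Subgroup G}
  {R : G → Subgroup G} [Fintype L] {μ : (↥(W₁ ⊔ W₂) →* ℂˣ) → (L → ℂ)}
  {δ : (↥(W₁ ⊔ W₂) →* ℂˣ) → ℤ} {η : (↥(W₁ ⊔ W₂) →* ℂˣ) → (G → ℂ)} {p q n : ℕ}
  (X : ElevenCtx A L K H U W₁ W₂ R μ δ η p q n)
include X

theorem card_W₁ : Nat.card W₁ = q := by
  rw [← X.eleven.card_W, Nat.card_congr (Subgroup.subgroupOfEquivOfLe X.prime.compl.2.1).toEquiv]

theorem card_W₂ : Nat.card W₂ = p := by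
  rw [← X.eleven.card_W₂, Nat.card_congr (Subgroup.subgroupOfEquivOfLe
    (le_sup_right.trans X.prime.W_le : W₂ ≤ L)).toEquiv]

/-- A generic element of `W₁`. -/
theorem exists_w : ∃ w : L, (w : G) ∈ W₁ ∧ (w : G) ∈ W₁ ⊔ W₂ ∧ (w : G) ∉ W₂ ∧
    w ∈ W₁.subgroupOf L ∧ w ≠ 1 ∧ w ∉ K.subgroupOf L := by
  obtain ⟨x, hx, hx1, -⟩ := X.prime.exists_generic
  refine ⟨⟨x, X.prime.compl.2.1 hx⟩, hx, Subgroup.mem_sup_left hx,
    X.prime.notMem_W₂_of_mem_W₁ hx hx1, hx, fun e => hx1 (congrArg Subtype.val e), fun hk => hx1 ?_⟩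
  have : x ∈ K ⊓ W₁ := ⟨hk, hx⟩
  rwa [X.prime.compl.2.2.1, Subgroup.mem_bot] at this

theorem delta_one : δ 1 = 1 := by
  obtain ⟨w, -, hw, hw2, -⟩ := X.exists_w
  have h := X.mu.apply 1 w hw hw2
  rw [X.mu.map_one X.prime] at h
  simp only [MonoidHom.one_apply, Units.val_one, mul_one] at h
  exact_mod_cast h.symm

/-- All `μ ω` are trivial on `C`. -/
theorem trivOn_C (ω : ↥(W₁ ⊔ W₂) →* ℂˣ) :
    Char.TrivOn (U ⊓ Subgroup.centralizer (H.subgroupOf L : Set L)) (μ ω) := by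
  classical
  haveI := X.eleven.C_normal
  haveI := (ann_facts X.prime.selfNorm).1
  haveI : Fintype (↥(W₁ ⊔ W₂) →* ℂˣ) := Fintype.ofFinite _
  obtain ⟨w, hw1', hw, hw2, hwW, hw1, hwK⟩ := X.exists_w
  refine trivOn_of_count _ w (fun c hc e => X.eleven.fpf w hwW hw1 c (Subgroup.mem_inf.1 hc).1 e)
    (fun ω => (⟨μ ω, X.mu.irr ω⟩ : IrrCharacter L))
    (fun a b h => X.mu.inj (congrArg Subtype.val h)) (fun ω => ?_)
    (fun χ hne => X.mu.other χ.1 χ.2 (fun ω e => hne ω (Subtype.ext e)) w hw hw2) ?_ ω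
  · show μ ω w * conj (μ ω w) = 1
    rw [X.mu.apply ω w hw hw2, map_mul, map_intCast, mul_mul_mul_comm, conj_apply_unit,
      MonoidHom.inv_apply, Units.mul_inv, mul_one]
    rcases X.mu.sign ω with h | h <;> simp [h]
  · have hW₁L : W₁ ≤ L := X.prime.compl.2.1
    have hW₂L : W₂ ≤ L := le_sup_right.trans X.prime.W_le
    haveI := X.eleven.K_normal
    haveI := X.prime.W₁_cyclic
    have hc : Subgroup.centralizer ({w} : Set L) = W₁.subgroupOf L ⊔ W₂.subgroupOf L := by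
      refine le_antisymm (fun z hz => ?_) ?_
      · rw [Subgroup.mem_centralizer_singleton_iff] at hz
        have hzt : z ∈ K.subgroupOf L ⊔ W₁.subgroupOf L := by
          rw [X.eleven.K_sup_W]; exact Subgroup.mem_top z
        obtain ⟨k, hk, v, hv, rfl⟩ := Subgroup.mem_sup_of_normal_left.1 hzt
        have hvw : v * w = w * v := Subtype.ext (congrArg Subtype.val
          (IsCyclic.commGroup.mul_comm (⟨(v : G), hv⟩ : W₁) ⟨(w : G), hw1'⟩) :)
        have hkw : k * w = w * k := by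
          rw [mul_assoc, hvw, ← mul_assoc, ← mul_assoc] at hz
          exact mul_right_cancel hz
        refine Subgroup.mul_mem _ (Subgroup.mem_sup_right ?_) (Subgroup.mem_sup_left hv)
        rw [← X.eleven.fixed w hwW hw1]
        exact ⟨hk, Subgroup.mem_centralizer_singleton_iff.2 hkw⟩
      · refine sup_le (fun v hv => ?_) fun v hv => ?_ <;> rw [Subgroup.mem_centralizer_singleton_iff]
        · exact Subtype.ext (congrArg Subtype.val
            (IsCyclic.commGroup.mul_comm (⟨(v : G), hv⟩ : W₁) ⟨(w : G), hw1'⟩) :)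
        · exact Subtype.ext (X.prime.selfNorm.2.2.2.1 _ hw1' _ hv).symm
    have hn : W₁.subgroupOf L ≤ Subgroup.normalizer ((W₂.subgroupOf L : Subgroup L) : Set L) :=
      fun a ha => Subgroup.centralizer_le_normalizer _ (Subgroup.mem_centralizer_iff.2 fun b hb =>
        Subtype.ext (X.prime.selfNorm.2.2.2.1 _ ha _ hb).symm)
    obtain ⟨-, h1, h2, hbij⟩ := ann_facts X.prime.selfNorm
    rw [hc, Coprime.card_sup_of_le_normalizer hn, X.eleven.card_W, X.eleven.card_W₂,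
      ← Nat.card_eq_fintype_card, ← Nat.card_congr (Equiv.ofBijective _ hbij), Nat.card_prod, h1, h2,
      X.card_W₁, X.card_W₂]
    refine le_bot_iff.1 fun z hz => Subgroup.mem_bot.2 (Subtype.ext ?_)
    have : (z : G) ∈ W₁ ⊓ W₂ := ⟨hz.1, hz.2⟩
    rwa [X.prime.selfNorm.2.2.1, Subgroup.mem_bot] at this

/-- The `μ ω` with `ω` trivial on `W₂` are trivial on `K`. -/
theorem mu_lin (i : Ann W₁ W₂ W₂) :
    (∀ y : L, (y : G) ∈ K → μ i.1 y = 1) ∧ δ i.1 = 1 := by
  obtain ⟨lam, hl1, hl2⟩ := X.prime.exists_extension i.1 i.2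
  obtain ⟨h1, h2⟩ := X.mu.mul_twist X.prime 1 i.1 hl2
  have e1 : (1 : ↥(W₁ ⊔ W₂) →* ℂˣ) * i.1 = i.1 := MonoidHom.ext fun w => one_mul (i.1 w)
  rw [e1] at h1 h2
  exact ⟨fun y hy => by rw [h1, Pi.mul_apply, hl1 y hy, X.mu.map_one X.prime, mul_one],
    h2.trans X.delta_one⟩

/-- The `μ ω` with `ω` nontrivial on `W₂` have degree `u` and sign one. -/
theorem mu_big {ω : ↥(W₁ ⊔ W₂) →* ℂˣ}
    (hω : ¬ ∀ w : ↥(W₁ ⊔ W₂), (w : G) ∈ W₂ → ω w = 1) :
    μ ω 1 = ((n * q + 1 : ℕ) : ℂ) ∧ δ ω = 1 := by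
  classical
  haveI := X.comm
  haveI := X.eleven.H_normal
  haveI : Fintype ↥(K.subgroupOf L) := Fintype.ofFinite _
  set H' := H.subgroupOf L with hH'
  obtain ⟨N, hN⟩ := exists_kernel_in (⟨μ ω, X.mu.irr ω⟩ : IrrCharacter L) H'
  haveI : N.Normal := ⟨fun x hx g => (hN _).2 ⟨X.eleven.H_normal.conj_mem x ((hN x).1 hx).1 g,
    (Char.IsCharacter.isClassFunction (Char.IsIrrCharacter.isCharacter (X.mu.irr ω)) x g).trans
      ((hN x).1 hx).2⟩⟩
  have hNH : N ≤ H' := fun x hx => ((hN x).1 hx).1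
  have hNbot : N = ⊥ := by
    have h := X.eleven.eq_or_eq N (by rw [X.bot]; exact bot_le) hNH
    rw [X.bot] at h
    refine h.resolve_right fun e => X.mu.not_trivOn X.prime hω fun z hz => ?_
    exact ((hN z).1 (e.symm ▸ hz)).2
  have hdeg := X.eleven.degree_eq_u (⟨_, X.mu.irr_res X.prime ω⟩ : IrrCharacter ↥(K.subgroupOf L))
    (fun a ha => X.trivOn_C ω _ ha) fun a ha h => by
      have h1 : (a : L) ∈ N := (hN _).2 ⟨ha, h⟩
      rw [hNbot, Subgroup.mem_bot] at h1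
      exact Subtype.ext h1
  rw [← X.num] at hdeg
  have hval : μ ω 1 = ((n * q + 1 : ℕ) : ℂ) := by
    rw [← hdeg, Char.charDegree_cast]; rfl
  refine ⟨hval, ?_⟩
  obtain ⟨k, hk⟩ := X.mu.degree ω
  rw [hval, X.card_W₁] at hk
  have he : ((n : ℤ) * q + 1) - δ ω = k * (q : ℤ) := by
    have : ((((n : ℤ) * q + 1) - δ ω : ℤ) : ℂ) = ((k * (q : ℤ) : ℤ) : ℂ) := by
      push_cast at hk ⊢; exact hk
    exact_mod_cast this
  refine (X.mu.sign ω).resolve_right fun h => ?_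
  rw [h] at he
  have h2 : (q : ℤ) ∣ 2 := ⟨k - n, by linear_combination he⟩
  have := Int.le_of_dvd (by norm_num) h2
  have := X.eleven.three_le_q
  omega

theorem delta_eq_one (ω : ↥(W₁ ⊔ W₂) →* ℂˣ) : δ ω = 1 := by
  by_cases h : ∀ w : ↥(W₁ ⊔ W₂), (w : G) ∈ W₂ → ω w = 1
  · exact (X.mu_lin ⟨ω, h⟩).2
  · exact (X.mu_big h).2

theorem col_not_triv (i : Ann W₁ W₂ W₂) (ψ : ColIdx W₁ W₂) :
    ¬ ∀ w : ↥(W₁ ⊔ W₂), (w : G) ∈ W₂ → gridIdx i (some ψ) w = 1 := fun h => ψ.2 <| by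
  have h1 := mul_inj X.prime.selfNorm (a := ⟨ψ.1.1, fun w hw => by
    have := h w hw
    rwa [gridIdx, MonoidHom.mul_apply, i.2 w hw, one_mul] at this⟩) (a' := ⟨1, fun _ _ => rfl⟩)
    (b := ⟨1, fun _ _ => rfl⟩) (b' := ψ.1) (MonoidHom.ext fun w => by simp)
  exact (congrArg Subtype.val h1.2).symm

/-- Outside `K` and the conjugates of `V`, `μ ω` depends only on the restriction of `ω` to `W₁`. -/
theorem apply_off {ω₁ ω₂ : ↥(W₁ ⊔ W₂) →* ℂˣ}
    (hag : ∀ w : ↥(W₁ ⊔ W₂), (w : G) ∈ W₁ → ω₁ w = ω₂ w)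
    {y : L} (hyK : (y : G) ∉ K) (hy : (y : G) ∉ classV L W₁ W₂) : μ ω₁ y = μ ω₂ y := by
  have P := X.prime
  obtain ⟨k, hk, w, hw, hkw⟩ := P.compl.2.2.2 y y.2
  have hw1 : w ≠ 1 := fun h => hyK (by rw [hkw, h, mul_one]; exact hk)
  have hwL : w ∈ L := P.compl.2.1 hw
  haveI := P.K_subgroupOf_normal
  have hcop : (orderOf (⟨w, hwL⟩ : L)).Coprime (Nat.card ↥(K.subgroupOf L)) := by
    rw [← Subgroup.orderOf_coe, Nat.card_congr (Subgroup.subgroupOfEquivOfLe P.K_le).toEquiv]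
    exact P.hall.coprime_dvd_left (Subgroup.orderOf_dvd_natCard W₁ hw)
  obtain ⟨x, hx, c, hc, hcw, e⟩ := S1496.result (K.subgroupOf L) (⟨w, hwL⟩ : L)
    (by rw [Subgroup.normalizer_eq_top]; trivial) hcop ⟨k, P.K_le hk⟩ hk
  have hy' : x * y * x⁻¹ = c * ⟨w, hwL⟩ := by
    rw [← e]; congr 2; exact Subtype.ext hkw
  have hcW : (c : G) ∈ W₂ := by
    rw [← P.cent w hw hw1]
    exact ⟨hc, Subgroup.mem_centralizer_singleton_iff.2 (congrArg Subtype.val hcw :)⟩
  have hmem : ((c * ⟨w, hwL⟩ : L) : G) ∈ W₁ ⊔ W₂ :=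
    (W₁ ⊔ W₂).mul_mem (Subgroup.mem_sup_right hcW) (Subgroup.mem_sup_left hw)
  have hn2 : ((c * ⟨w, hwL⟩ : L) : G) ∉ W₂ := fun h =>
    P.notMem_W₂_of_mem_W₁ hw hw1 ((W₂.mul_mem_cancel_left hcW).1 h)
  have hn1 : ((c * ⟨w, hwL⟩ : L) : G) ∈ W₁ := by
    by_contra hn1
    refine hy ⟨(x : G)⁻¹, L.inv_mem x.2, _, hmem, hn1, hn2, ?_⟩
    rw [← hy']
    simp only [Subgroup.coe_mul, Subgroup.coe_inv]
    group
  have hconst : ∀ ω, μ ω y = μ ω (c * ⟨w, hwL⟩) := fun ω => by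
    rw [← hy', Char.IsCharacter.isClassFunction (Char.IsIrrCharacter.isCharacter (X.mu.irr ω))]
  rw [hconst, hconst, X.mu.apply _ _ hmem hn2, X.mu.apply _ _ hmem hn2, X.delta_eq_one,
    X.delta_eq_one, hag ⟨_, hmem⟩ hn1]

/-- A member of `inducedIrrAbove` vanishes off `K`. -/
theorem vanish {B : Subgroup L} {φ : L → ℂ} (hφ : φ ∈ inducedIrrAbove (K.subgroupOf L) B) {y : L}
    (hy : y ∉ K.subgroupOf L) : φ y = 0 := by
  haveI := X.eleven.K_normal
  obtain ⟨θ, -, -, -, rfl⟩ := hφ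
  exact Char.indFun_of_notMem_normal _ _ hy

theorem orth_mu {B : Subgroup L} {φ : L → ℂ} (hφ : φ ∈ inducedIrrAbove (K.subgroupOf L) B)
    (hirr : IsIrrCharacter L φ) (ω : ↥(W₁ ⊔ W₂) →* ℂˣ) : classInner φ (μ ω) = 0 := by
  refine Char.classInner_irr_of_ne hirr (X.mu.irr ω) fun e => ?_
  obtain ⟨w, -, hw, hw2, -, -, hwK⟩ := X.exists_w
  have h := X.vanish hφ hwK
  rw [e, X.mu.apply ω w hw hw2, X.delta_eq_one, Int.cast_one, one_mul] at h
  exact Units.ne_zero _ h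

/-- A class function vanishing at one and outside `K` is supported on `A`. -/
theorem mem_supp {f : L → ℂ} (hcl : IsClassFunction L f) (h1 : f 1 = 0)
    (hoff : ∀ y : L, (y : G) ∉ K → (y : G) ∉ classV L W₁ W₂ → f y = 0) :
    f ∈ suppSpace (A ∪ classV L W₁ W₂) L := by
  refine ⟨hcl, fun y hy => ?_⟩
  by_cases hy1 : y = 1
  · rw [hy1, h1]
  exact hoff y (fun h => hy (Or.inl (X.cover y h hy1))) fun h => hy (Or.inr h)

theorem isClassFunction_mem {B : Subgroup L} {φ : L → ℂ}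
    (hφ : φ ∈ inducedIrrAbove (K.subgroupOf L) B) : IsClassFunction L φ := by
  obtain ⟨θ, -, -, -, rfl⟩ := hφ
  exact Char.isClassFunction_indFun _ _

/-- The difference of a member and a multiple of another is supported on `A`. -/
theorem sub_smul_supp {B B' : Subgroup L} {φ ζ : L → ℂ}
    (hφ : φ ∈ inducedIrrAbove (K.subgroupOf L) B) (hζ : ζ ∈ inducedIrrAbove (K.subgroupOf L) B')
    (a : ℂ) (h : φ 1 = a * ζ 1) : φ - a • ζ ∈ suppSpace (A ∪ classV L W₁ W₂) L := by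
  refine X.mem_supp (fun x g => ?_) (by rw [Pi.sub_apply, Pi.smul_apply, h, smul_eq_mul, sub_self])
    fun y hy _ => by
      rw [Pi.sub_apply, Pi.smul_apply, X.vanish hφ (show y ∉ K.subgroupOf L from hy),
        X.vanish hζ (show y ∉ K.subgroupOf L from hy), smul_zero, sub_zero]
  rw [Pi.sub_apply, Pi.smul_apply, Pi.sub_apply, Pi.smul_apply, X.isClassFunction_mem hφ,
    X.isClassFunction_mem hζ]

variable {Rs : (L → ℂ) → Finset (G → ℂ)}
  (hS : IsCoherenceSystem (inducedIrrAbove (K.subgroupOf L) ⊥)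
    (dadeLin (A ∪ classV L W₁ W₂) L R) Rs)
include hS

open Classical in
/-- The data of (11.8). -/
theorem exists_bridge [Fintype (Ann W₁ W₂ W₂)] [Fintype (ColIdx W₁ W₂)] :
    ∃ (S₁ : Finset (L → ℂ)) (E : (L → ℂ) → G → ℂ),
      (∀ φ, φ ∈ S₁ ↔ φ ∈ inducedIrrAbove (K.subgroupOf L)
        (H.subgroupOf L ⊔ (U ⊓ Subgroup.centralizer (H.subgroupOf L : Set L)))) ∧
      Bridge (dadeLin (A ∪ classV L W₁ W₂) L R) (suppSpace (A ∪ classV L W₁ W₂) L) S₁
        (fun i j => μ (gridIdx i j)) (fun i j => η (gridIdx i j)) ⟨1, fun _ _ => rfl⟩ E q n := by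
  haveI := X.comm
  haveI := X.eleven.HC_normal
  haveI := X.eleven.K_normal
  haveI := X.eleven.H_normal
  haveI : Fintype ↥(K.subgroupOf L) := Fintype.ofFinite _
  haveI : Group.IsSolvable L := X.eleven.solvable
  have P := X.prime
  have E11 := X.eleven
  set B := H.subgroupOf L ⊔ (U ⊓ Subgroup.centralizer (H.subgroupOf L : Set L)) with hB
  set τ := dadeLin (A ∪ classV L W₁ W₂) L R with hτ
  obtain ⟨hlin, hcard⟩ := E11.lin_card X.num
  set S₁ := (aboveChars (K.subgroupOf L) B).image fun θ => indFun (K.subgroupOf L) θ.1 with hS₁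
  have hmem : ∀ φ, φ ∈ S₁ ↔ φ ∈ inducedIrrAbove (K.subgroupOf L) B := fun φ => by
    rw [mem_inducedIrrAbove_iff, hS₁, Finset.mem_image]
    exact exists_congr fun θ => and_congr_right fun _ => eq_comm
  have hBK : B < K.subgroupOf L := E11.sup_lt le_rfl E11.C_lt Subgroup.le_normalizer_of_normal
  obtain ⟨-, τ₁, hiso, hext⟩ := isCoherent_abelian_section (K.subgroupOf L) inferInstance hS B hBK
    E11.commutator_K_le_HC
  have hspan : ∀ {φ}, φ ∈ S₁ → φ ∈ Submodule.span ℤ (inducedIrrAbove (K.subgroupOf L) B) :=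
    fun h => Submodule.subset_span ((hmem _).1 h)
  have hEgen : ∀ ζ ∈ S₁, IsGeneralizedCharacter G (τ₁ ζ) := fun ζ h => hiso.2.2.2 ζ (hspan h)
  have hirr : ∀ ζ ∈ S₁, IsIrrCharacter L ζ := fun ζ h => (hlin ζ ((hmem ζ).1 h)).1
  have hS₁orth : ∀ ζ ∈ S₁, ∀ ζ' ∈ S₁, classInner ζ ζ' = if ζ = ζ' then 1 else 0 := by
    intro ζ h ζ' h'
    by_cases e : ζ = ζ'
    · rw [if_pos e, ← e]; exact Char.classInner_irr_self (hirr ζ h)
    · rw [if_neg e]; exact Char.classInner_irr_of_ne (hirr ζ h) (hirr ζ' h') e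
  have hEorth : ∀ ζ ∈ S₁, ∀ ζ' ∈ S₁, classInner (τ₁ ζ) (τ₁ ζ') = if ζ = ζ' then 1 else 0 :=
    fun ζ h ζ' h' => (hiso.2.2.1 ζ (hspan h) ζ' (hspan h')).trans (hS₁orth ζ h ζ' h')
  have hEsub : ∀ ζ ∈ S₁, ∀ ζ' ∈ S₁, τ (ζ - ζ') = τ₁ ζ - τ₁ ζ' := by
    intro ζ h ζ' h'
    rw [← hext (ζ - ζ') (Char.mem_zspanOn_compl_one.2 ⟨Submodule.sub_mem _ (hspan h) (hspan h'),
      by rw [Pi.sub_apply, (hlin ζ ((hmem ζ).1 h)).2, (hlin ζ' ((hmem ζ').1 h')).2, sub_self]⟩),
      eq_sub_iff_add_eq, ← hiso.1 (ζ - ζ') (Submodule.sub_mem _ (hspan h) (hspan h')) ζ' (hspan h'),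
      sub_add_cancel]
  have hconj : ∀ ζ ∈ S₁, conjFun ζ ∈ S₁ ∧ conjFun ζ ≠ ζ := fun ζ h =>
    ⟨(hmem _).2 (conj_mem_inducedIrrAbove _ ((hmem ζ).1 h)),
      hS.conj_ne ζ (inducedIrrAbove_subset_bot _ _ ((hmem ζ).1 h))⟩
  have hsupp : ∀ ζ ∈ S₁, ∀ ζ' ∈ S₁, ζ - ζ' ∈ suppSpace (A ∪ classV L W₁ W₂) L := fun ζ h ζ' h' => by
    have := X.sub_smul_supp ((hmem ζ).1 h) ((hmem ζ').1 h') 1
      (by rw [(hlin ζ ((hmem ζ).1 h)).2, (hlin ζ' ((hmem ζ').1 h')).2, one_mul])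
    rwa [one_smul] at this
  have hsigned : ∀ ζ ∈ S₁, ∃ (ψ : IrrCharacter G) (e : ℤ), (e = 1 ∨ e = -1) ∧
      τ₁ ζ = (e : ℂ) • ψ.1 := fun ζ h => by
    have h1 : classInner (τ₁ ζ) (τ₁ ζ) = 1 := by rw [hEorth ζ h ζ h, if_pos rfl]
    obtain ⟨ψ, hψ | hψ⟩ := Char.IsGeneralizedCharacter.irr_or_neg_of_norm_one (hEgen ζ h) h1
    · exact ⟨ψ, 1, Or.inl rfl, by rw [hψ]; simp⟩
    · exact ⟨ψ, -1, Or.inr rfl, by rw [hψ]; simp⟩
  have hEconj : ∀ ζ ∈ S₁, conjFun (τ₁ ζ) = τ₁ (conjFun ζ) := by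
    intro ζ h
    obtain ⟨hc, hne⟩ := hconj ζ h
    set a := τ₁ ζ with ha
    set b := τ₁ (conjFun ζ) with hb
    have haa : classInner a a = 1 := by rw [ha, hEorth ζ h ζ h, if_pos rfl]
    have hbb : classInner b b = 1 := by rw [hb, hEorth _ hc _ hc, if_pos rfl]
    have hab : classInner a b = 0 := by rw [ha, hb, hEorth ζ h _ hc, if_neg hne.symm]
    have hd : conjFun a - conjFun b = b - a := by
      have h1 : conjFun (τ (ζ - conjFun ζ)) = τ (conjFun (ζ - conjFun ζ)) := by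
        rw [hτ, dadeLin_apply, dadeLin_apply, conjFun_dadeIsometry]
      rw [hEsub ζ h _ hc, show conjFun (ζ - conjFun ζ) = conjFun ζ - ζ from funext fun x => by
        simp [conjFun], hEsub _ hc ζ h] at h1
      rw [← h1]; funext g; simp [conjFun, ha, hb]
    obtain ⟨ψ, e, he, hbe⟩ := hsigned _ hc
    have hcb : conjFun b = (e : ℂ) • conjFun ψ.1 := by
      rw [hb, hbe]; funext g; simp [conjFun]
    have hee : (e : ℂ) * e = 1 := by rcases he with rfl | rfl <;> norm_num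
    have hbe' : b = (e : ℂ) • ψ.1 := hbe
    have h2 := congrArg (fun f => classInner f b) hd
    simp only [Char.classInner_sub_left, hbb, hab, sub_zero] at h2
    have hψ : conjFun ψ.1 ≠ ψ.1 := by
      intro hreal
      have hrb : conjFun b = b := by rw [hcb, hreal, ← hbe']
      have h3 : classInner (conjFun a) b = 0 := by
        conv_lhs => rw [← hrb]
        rw [classInner_conjFun, hab, map_zero]
      rw [h3, hrb, hbb] at h2
      norm_num at h2
    have h4 : classInner (conjFun b) b = 0 := by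
      have hi : IsIrrCharacter G (conjFun ψ.1) := Char.IsIrrCharacter.conj_fun ψ.2
      rw [hcb, hbe', Char.classInner_smul_left, Char.classInner_smul_right,
        Char.classInner_irr_of_ne hi ψ.2 hψ, mul_zero, mul_zero]
    rw [h4, sub_zero] at h2
    have h5 : classInner (conjFun a - b) (conjFun a - b) = 0 := by
      have hba : classInner b (conjFun a) = 1 := by rw [← Char.conj_classInner, h2, map_one]
      have hcc : classInner (conjFun a) (conjFun a) = 1 := by rw [classInner_conjFun, haa, map_one]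
      simp only [Char.classInner_sub_left, Char.classInner_sub_right, h2, hba, hcc, hbb]
      ring
    exact sub_eq_zero.1 (Char.classInner_self_eq_zero h5)
  have hEη : ∀ ζ ∈ S₁, ∀ ω, classInner (τ₁ ζ) (η ω) = 0 := by
    intro ζ h ω
    obtain ⟨hc, hne⟩ := hconj ζ h
    have hA : ∀ y : L, (y : G) ∉ A → (ζ - conjFun ζ) y = 0 := fun y hy => by
      by_cases hy1 : y = 1
      · rw [hy1, Pi.sub_apply, (hlin ζ ((hmem ζ).1 h)).2, (hlin _ ((hmem _).1 hc)).2, sub_self]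
      · have hyK : y ∉ K.subgroupOf L := fun hk => hy (X.cover y hk hy1)
        rw [Pi.sub_apply, X.vanish ((hmem ζ).1 h) hyK, X.vanish ((hmem _).1 hc) hyK, sub_zero]
    have hgen : IsGeneralizedCharacter L (ζ - conjFun ζ) := Char.IsGeneralizedCharacter.sub
      (Char.irr_isGeneralized ⟨ζ, hirr ζ h⟩) (Char.irr_isGeneralized ⟨_, hirr _ hc⟩)
    have hnorm : classInner (ζ - conjFun ζ) (ζ - conjFun ζ) = ((2 : ℤ) : ℂ) := by
      simp only [Char.classInner_sub_left, Char.classInner_sub_right, hS₁orth _ h _ h,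
        hS₁orth _ hc _ hc, hS₁orth _ h _ hc, hS₁orth _ hc _ h, if_pos, if_neg hne, if_neg hne.symm]
      norm_num
    have h0 := P.eta_orth_tau X.eta hgen hA hnorm le_rfl ω
    rw [← dadeLin_apply, ← hτ, hEsub ζ h _ hc, Char.classInner_sub_left, sub_eq_zero] at h0
    by_contra hne0
    have hsi : ∀ ζ ∈ S₁, IsIrrCharacter G (τ₁ ζ) ∨ IsIrrCharacter G (-τ₁ ζ) := fun ζ h => by
      have h1 : classInner (τ₁ ζ) (τ₁ ζ) = 1 := by rw [hEorth ζ h ζ h, if_pos rfl]
      obtain ⟨ψ, hψ | hψ⟩ := Char.IsGeneralizedCharacter.irr_or_neg_of_norm_one (hEgen ζ h) h1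
      · exact Or.inl (hψ ▸ ψ.2)
      · exact Or.inr (by rw [hψ, neg_neg]; exact ψ.2)
    obtain ⟨e, he, hae⟩ := (signed_eq_or_orth (hsi ζ h) (X.eta.irr_or_neg ω)).resolve_right hne0
    obtain ⟨e', he', hbe⟩ := (signed_eq_or_orth (hsi _ hc) (X.eta.irr_or_neg ω)).resolve_right
      (h0 ▸ hne0)
    have h1 := hEorth ζ h _ hc
    rw [if_neg hne.symm, hae, hbe, Char.classInner_smul_left, Char.classInner_smul_right,
      X.eta.orthonormal, if_pos rfl, mul_one] at h1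
    rcases mul_eq_zero.1 h1 with h1 | h1
    · exact he h1
    · exact he' (by simpa using h1)
  have hι : Fintype.card (Ann W₁ W₂ W₂) = q := by
    rw [← Nat.card_eq_fintype_card, (ann_facts P.selfNorm).2.1, X.card_W₁]
  have hκ : Fintype.card (ColIdx W₁ W₂) + 1 = p := by
    haveI : Finite (Ann W₁ W₂ W₁) := by
      haveI := (ann_facts P.selfNorm).1
      infer_instance
    haveI : Fintype (Ann W₁ W₂ W₁) := Fintype.ofFinite _
    have e : Fintype.card (ColIdx W₁ W₂) + 1 = Fintype.card (Ann W₁ W₂ W₁) := by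
      have h1 : Fintype.card {ψ : Ann W₁ W₂ W₁ // ψ.1 ≠ 1} =
          Fintype.card {ψ : Ann W₁ W₂ W₁ // ψ ≠ ⟨1, fun _ _ => rfl⟩} :=
        Fintype.card_congr (Equiv.subtypeEquivRight fun ψ => by rw [Ne, Ne, Subtype.ext_iff])
      rw [h1, Fintype.card_subtype_compl, Fintype.card_subtype_eq]
      exact Nat.sub_add_cancel (Fintype.card_pos_iff.2 ⟨⟨1, fun _ _ => rfl⟩⟩)
    rw [e, ← Nat.card_eq_fintype_card, (ann_facts P.selfNorm).2.2.1, X.card_W₂]
  have hu : 2 * q + 1 ≤ n * q + 1 := X.num ▸ E11.two_q_lt_index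
  have hqodd : Odd q := E11.q_prime.odd_of_ne_two (by have := E11.three_le_q; omega)
  have hn2 : 2 ≤ n := Nat.le_of_mul_le_mul_right (by omega : 2 * q ≤ n * q) E11.q_prime.pos
  have hneven : Even n := by
    have h1 : Odd (n * q + 1) := by
      rw [X.num]
      exact (E11.odd.of_dvd_nat U.card_subgroup_dvd_card).of_dvd_nat
        (Subgroup.relIndex_dvd_card _ _)
    rcases Nat.even_or_odd n with h2 | h2
    · exact h2
    · exact absurd (h2.mul hqodd).add_one (Nat.not_even_iff_odd.2 h1)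
  have hμirr : ∀ ω, IsGeneralizedCharacter L (μ ω) := fun ω => Char.irr_isGeneralized ⟨_, X.mu.irr ω⟩
  have hcl : ∀ ω, IsClassFunction L (μ ω) := fun ω =>
    Char.IsGeneralizedCharacter.isClassFunction (hμirr ω)
  have hidx : ∀ ω : ↥(W₁ ⊔ W₂) →* ℂˣ, ω * 1 = ω := fun ω => MonoidHom.ext fun w => mul_one (ω w)
  have hclV : ∀ f ∈ suppSpace (A ∪ classV L W₁ W₂) L, IsClassFunction L f ∧
      ∀ y : L, (y : G) ∉ A ∪ classV L W₁ W₂ → f y = 0 := fun f h => h
  refine ⟨S₁, τ₁, hmem, ?_⟩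
  refine {
    odd := X.odd
    card_ι := hι
    three_le := E11.three_le_q
    two_le_κ := by have := E11.three_le_p; omega
    card_S₁ := hcard
    n_even := hneven
    two_le_n := hn2
    iso := fun α ha β hb => classInner_dade_dade P.dade ha.1 ha.2 hb.1
    inner_one := fun α ha => classInner_dade_one P.dade ha.1 ha.2
    map_conj := fun α _ => (conjFun_dadeIsometry α).symm
    conj_supp := fun α ha => ⟨fun x g => by rw [conjFun, conjFun, ha.1],
      fun y hy => by rw [conjFun, ha.2 y hy, map_zero]⟩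
    virtual := fun α ha hg => isGeneralizedCharacter_dadeIsometry P.dade hg ha.2
    μ_gen := fun i j => hμirr _
    μ_orth := fun i j i' j' => ?_
    μ_one := by rw [gridIdx_none, X.mu.map_one P]
    μ_col_real := ?_
    η_gen := fun i j => eta_isGeneralized X.eta _
    η_orth := fun i j i' j' => by
      rw [X.eta.orthonormal]
      by_cases e : i = i' ∧ j = j'
      · rw [if_pos e, if_pos ((gridIdx_inj P.selfNorm).2 e)]
      · rw [if_neg e, if_neg fun h => e ((gridIdx_inj P.selfNorm).1 h)]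
    η_one := by rw [gridIdx_none, X.eta.map_one]
    row_conj := fun j => ?_
    S₁_gen := fun ζ h => Char.irr_isGeneralized ⟨ζ, hirr ζ h⟩
    S₁_orth := hS₁orth
    S₁_conj := fun ζ h => (hconj ζ h).1
    S₁_conj_ne := fun ζ h => (hconj ζ h).2
    S₁_μ := fun ζ h i j => X.orth_mu ((hmem ζ).1 h) (hirr ζ h) _
    E_gen := hEgen
    E_orth := hEorth
    E_η := fun ζ h i j => hEη ζ h _
    E_conj := hEconj
    E_sub := hEsub
    supp_alpha := fun ζ h i j => ?_
    supp_beta := fun ζ h => ?_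
    supp_sub := hsupp
    tau_diff := fun i j i' j' => ?_ }
  · by_cases e : i = i' ∧ j = j'
    · rw [if_pos e, e.1, e.2]; exact Char.classInner_irr_self (X.mu.irr _)
    · rw [if_neg e]
      exact Char.classInner_irr_of_ne (X.mu.irr _) (X.mu.irr _) fun h =>
        e ((gridIdx_inj P.selfNorm).1 (X.mu.inj h))
  · let inv : Ann W₁ W₂ W₂ ≃ Ann W₁ W₂ W₂ :=
      Function.Involutive.toPerm annNeg fun φ => Subtype.ext (MonoidHom.ext fun w => inv_inv (φ.1 w))
    rw [show conjFun (∑ i, μ (gridIdx i none)) = ∑ i, conjFun (μ (gridIdx i none)) from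
      funext fun g => by simp [conjFun, Finset.sum_apply]]
    refine Fintype.sum_equiv inv _ _ fun i => ?_
    rw [gridIdx_none, gridIdx_none, (X.mu.conj_eq P i.1).1]
    rfl
  · refine ⟨⟨annNeg j.1, fun e => j.2 (MonoidHom.ext fun w => inv_eq_one.1 (DFunLike.congr_fun e w :))⟩, ?_, ?_⟩
    · rw [(X.mu.conj_eq P _).1]
      exact congrArg μ (MonoidHom.ext fun w => by simp [gridIdx, annNeg])
    · rw [eta_conj P.selfNorm P.oddW X.eta]
      exact congrArg η (MonoidHom.ext fun w => by simp [gridIdx, annNeg])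
  · have hz := (hmem ζ).1 h
    refine X.mem_supp (fun x g => ?_) ?_ fun y hy hyV => ?_
    · simp only [Pi.sub_apply, Pi.smul_apply, hcl _ x g, X.isClassFunction_mem hz x g]
    · show μ (gridIdx i (some j)) 1 - μ (gridIdx i none) 1 - (n : ℂ) • ζ 1 = 0
      rw [(X.mu_big (X.col_not_triv i j)).1, gridIdx_none, (X.mu_lin i).1 1 K.one_mem, (hlin ζ hz).2]
      push_cast
      simp
    · show μ (gridIdx i (some j)) y - μ (gridIdx i none) y - (n : ℂ) • ζ y = 0
      rw [X.apply_off (ω₂ := gridIdx i none) (fun w hw => by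
        simp [gridIdx, j.1.2 w hw]) hy hyV, X.vanish hz (show y ∉ K.subgroupOf L from hy)]
      simp
  · have hz := (hmem ζ).1 h
    have hcol : (∑ i, μ (gridIdx i none)) = indFun (K.subgroupOf L) fun y => μ 1 y := by
      rw [X.mu.indFun_res P 1]
      exact Finset.sum_congr rfl fun i _ => congrArg μ
        ((gridIdx_none i).trans (MonoidHom.ext fun w => (one_mul (i.1 w)).symm))
    show (∑ i, μ (gridIdx i none)) - ζ ∈ _
    rw [hcol]
    refine X.mem_supp (fun x g => ?_) ?_ fun y hy _ => ?_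
    · simp only [Pi.sub_apply, Char.isClassFunction_indFun _ _ x g, X.isClassFunction_mem hz x g]
    · rw [Pi.sub_apply, Char.indFun_apply_one, (hlin ζ hz).2, E11.K_index, X.mu.map_one P]
      simp
    · rw [Pi.sub_apply, Char.indFun_of_notMem_normal _ _ (show y ∉ K.subgroupOf L from hy),
        X.vanish hz (show y ∉ K.subgroupOf L from hy), sub_zero]
  · show τ ((μ (gridIdx i (some j)) - μ (gridIdx i none)) -
      (μ (gridIdx i' (some j')) - μ (gridIdx i' none))) = _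
    set φ : ↥(W₁ ⊔ W₂) →* ℂˣ := i.1⁻¹ * i'.1
    have hφ : ∀ w : ↥(W₁ ⊔ W₂), (w : G) ∈ W₂ → φ w = 1 := fun w hw => by
      simp [φ, i.2 w hw, i'.2 w hw]
    have h4 := X.mu.tau_four P X.eta i.1 φ j.1.1 hφ j.1.2
    have e1 : i.1 * φ = gridIdx i' none := by
      rw [gridIdx_none]; exact MonoidHom.ext fun w => by simp [φ]
    have e2 : i.1 * j.1.1 = gridIdx i (some j) := rfl
    have e3 : i.1 * φ * j.1.1 = gridIdx i' (some j) := by rw [e1, gridIdx_none]; rfl
    rw [e3, e2, e1, X.delta_eq_one, X.delta_eq_one, ← gridIdx_none i] at h4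
    have h5 := X.mu.tau_sub P X.eta (X.col_not_triv i' j) (X.col_not_triv i' j')
      (fun w hw => by simp [gridIdx, j.1.2 w hw, j'.1.2 w hw])
      ((X.mu_big (X.col_not_triv i' j)).1.trans (X.mu_big (X.col_not_triv i' j')).1.symm)
    rw [X.delta_eq_one] at h5
    simp only [Int.cast_one, one_smul, ← dadeLin_apply, ← hτ] at h4 h5
    rw [show (μ (gridIdx i (some j)) - μ (gridIdx i none)) -
        (μ (gridIdx i' (some j')) - μ (gridIdx i' none)) =
      (μ (gridIdx i' (some j)) - μ (gridIdx i' (some j'))) -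
        ((μ (gridIdx i none) - μ (gridIdx i' none)) -
          (μ (gridIdx i (some j)) - μ (gridIdx i' (some j)))) by abel, map_sub τ, h4, h5]
    abel

/-- The end of Peterfalvi 11. -/
theorem main (hncoh : ¬ IsCoherent (inducedIrrAbove (K.subgroupOf L) ⊥) {1}ᶜ
    (dadeLin (A ∪ classV L W₁ W₂) L R)) :
    p < q ∧ IsCyclic U ∧ U ⊓ Subgroup.centralizer (H.subgroupOf L : Set L) = ⊥ ∧
      ∀ x ∈ U, x ≠ 1 → H.subgroupOf L ⊓ Subgroup.centralizer ({x} : Set L) = ⊥ := by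
  classical
  haveI := X.comm
  haveI := X.eleven.K_normal
  haveI := X.eleven.H_normal
  haveI := X.eleven.C_normal
  haveI := (ann_facts X.prime.selfNorm).1
  haveI : Fintype (Ann W₁ W₂ W₂) := Fintype.ofFinite _
  haveI : Fintype (Ann W₁ W₂ W₁) := Fintype.ofFinite _
  haveI : Fintype ↥(K.subgroupOf L) := Fintype.ofFinite _
  set H' := H.subgroupOf L with hH'
  set C := U ⊓ Subgroup.centralizer (H' : Set L) with hC
  set τ := dadeLin (A ∪ classV L W₁ W₂) L R with hτ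
  obtain ⟨-, hpow, -, -, hCU, hSC⟩ := X.eleven.summary hS hncoh
  obtain ⟨hlin, -⟩ := X.eleven.lin_card X.num
  obtain ⟨S₁, E, hmem, hB⟩ := X.exists_bridge hS
  obtain ⟨ζ, hζ⟩ : S₁.Nonempty := Finset.card_pos.1 (by rw [hB.card_S₁]; have := hB.two_le_n; omega)
  have hζ1 : ζ 1 = q := (hlin ζ ((hmem ζ).1 hζ)).2
  have hq0 : (q : ℂ) ≠ 0 := Nat.cast_ne_zero.2 X.eleven.q_prime.ne_zero
  have hsub : inducedIrrAbove (K.subgroupOf L) (H' ⊔ C) ⊆ inducedIrrAbove (K.subgroupOf L) C :=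
    inducedIrrAbove_mono _ le_sup_right
  -- if `y ≠ 1` the characters trivial on `C` are coherent
  have hstd : ∀ E', Bridge τ (suppSpace (A ∪ classV L W₁ W₂) L) S₁ (fun i j => μ (gridIdx i j))
      (fun i j => η (gridIdx i j)) ⟨1, fun _ _ => rfl⟩ E' q n →
      Bridge.HasY τ S₁ (fun i j => μ (gridIdx i j)) E' n ζ 0 → False := by
    intro E' hB' hY
    have hex : ∀ χ, ∃ d : ℕ, χ ∈ inducedIrrAbove (K.subgroupOf L) C → χ 1 = (d : ℂ) * ζ 1 ∧
        classInner (τ (χ - (d : ℂ) • ζ)) (E' ζ) = classInner χ ζ - (d : ℂ) := by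
      intro χ
      by_cases hχ : χ ∈ inducedIrrAbove (K.subgroupOf L) C
      swap
      · exact ⟨0, fun h => absurd h hχ⟩
      by_cases hχS : χ ∈ S₁
      · refine ⟨1, fun _ => ?_⟩
        rw [(hlin χ ((hmem χ).1 hχS)).2, hζ1, Nat.cast_one, one_mul, one_smul, hB'.E_sub χ hχS ζ hζ,
          Char.classInner_sub_left, hB'.E_orth χ hχS ζ hζ, hB'.E_orth ζ hζ ζ hζ,
          hB'.S₁_orth χ hχS ζ hζ, if_pos rfl]
        exact ⟨rfl, rfl⟩
      obtain ⟨θ, hθ, rfl⟩ := (mem_inducedIrrAbove_iff _).1 hχ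
      obtain ⟨hne, htriv⟩ := (mem_aboveChars _).1 hθ
      rcases X.mu.fixed_eq_res X.prime θ.2 with hirr | ⟨ψ, hψ⟩
      · -- irreducible
        refine ⟨charDegree θ.1, fun _ => ?_⟩
        have h1 : indFun (K.subgroupOf L) θ.1 1 = (charDegree θ.1 : ℂ) * ζ 1 := by
          rw [Char.indFun_apply_one, X.eleven.K_index, Char.charDegree_cast, hζ1, mul_comm]
        have hne' : ∀ ζ' ∈ S₁, classInner (indFun (K.subgroupOf L) θ.1) ζ' = 0 := fun ζ' h' =>
          Char.classInner_irr_of_ne hirr (hlin ζ' ((hmem ζ').1 h')).1 fun e => hχS (e ▸ h')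
        refine ⟨h1, ?_⟩
        rw [hB'.pivot_irr hζ hY hirr (fun i j => X.orth_mu hχ hirr _) hne' ?_
          (X.sub_smul_supp hχ ((hmem ζ).1 hζ) _ h1), hne' ζ hζ, zero_sub]
        have := X.eleven.degree_le θ htriv
        rw [← X.num] at this
        rwa [mul_comm q n]
      · -- a column
        have hψ1 : ψ.1 ≠ 1 := fun e => hne (Subtype.ext (by
          rw [hψ]; funext y
          show μ ψ.1 y = 1
          rw [e, X.mu.map_one X.prime]))
        let j : ColIdx W₁ W₂ := ⟨ψ, hψ1⟩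
        have hcol : indFun (K.subgroupOf L) θ.1 = ∑ i, μ (gridIdx i (some j)) := by
          rw [hψ, X.mu.indFun_res X.prime ψ.1]
          exact Finset.sum_congr rfl fun i _ => congrArg μ
            (MonoidHom.ext fun w => by simp [gridIdx, j, mul_comm])
        refine ⟨q * n + 1, fun _ => ⟨?_, ?_⟩⟩
        · rw [hcol, Finset.sum_apply, Finset.sum_congr rfl
            fun i _ => (X.mu_big (X.col_not_triv i j)).1, Finset.sum_const, Finset.card_univ,
            hB'.card_ι, hζ1, nsmul_eq_mul, mul_comm (q : ℂ), mul_comm n q]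
        · rw [hcol, hB'.pivot_col hζ hY j, Char.classInner_sum_left,
            Finset.sum_eq_zero fun i _ => by
              rw [← Char.conj_classInner, hB'.S₁_μ ζ hζ i (some j), map_zero], zero_sub]
    choose d hd using hex
    refine hSC (isCoherent_of_pivot (system_subset hS (inducedIrrAbove_subset_bot _ C)
      ⟨ζ, hsub ((hmem ζ).1 hζ)⟩ fun χ h => conj_mem_inducedIrrAbove _ h)
      (hsub ((hmem ζ).1 hζ)) (by rw [hB'.S₁_orth ζ hζ ζ hζ, if_pos rfl]) (hζ1 ▸ hq0)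
      (hB'.E_gen ζ hζ) (by rw [hB'.E_orth ζ hζ ζ hζ, if_pos rfl]) d
      (fun χ h => (hd χ h).1) fun χ h => (hd χ h).2)
  obtain ⟨y, hY, hy⟩ := hB.exists_hasY hζ
  have hy1 : Bridge.HasY τ S₁ (fun i j => μ (gridIdx i j)) E n ζ 1 := by
    by_cases h1 : y = 1
    · rwa [h1] at hY
    obtain ⟨E', hB', hY'⟩ := hB.exists_standard hζ hY (by tauto)
    exact (hstd E' hB' hY').elim
  have hκ : Fintype.card (ColIdx W₁ W₂) + 1 = p := by
    have h1 : Fintype.card {ψ : Ann W₁ W₂ W₁ // ψ.1 ≠ 1} =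
        Fintype.card {ψ : Ann W₁ W₂ W₁ // ψ ≠ ⟨1, fun _ _ => rfl⟩} :=
      Fintype.card_congr (Equiv.subtypeEquivRight fun ψ => by rw [Ne, Ne, Subtype.ext_iff])
    rw [show Fintype.card (ColIdx W₁ W₂) + 1 = Fintype.card (Ann W₁ W₂ W₁) by
      rw [h1, Fintype.card_subtype_compl, Fintype.card_subtype_eq]
      exact Nat.sub_add_cancel (Fintype.card_pos_iff.2 ⟨⟨1, fun _ _ => rfl⟩⟩),
      ← Nat.card_eq_fintype_card, (ann_facts X.prime.selfNorm).2.2.1, X.card_W₂]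
  have hpq : p < q := by
    have h := hB.card_lt_of_one hζ hy1
    rw [hκ] at h
    exact lt_of_le_of_ne h X.eleven.p_ne_q
  refine ⟨hpq, ?_⟩
  rcases X.eleven.semiregular_or_line hpow X.bot hCU with h | ⟨Xl, Y, a, hl⟩
  · exact h
  exfalso
  obtain ⟨haodd, hb1, hb2⟩ := Eleven.Line.bounds X.eleven hl hpq X.num
  obtain ⟨F, hF, hFcard⟩ := X.eleven.exists_family hl X.bot
  refine hB.false_of_family hζ hy1 F haodd (fun χ h => (hF χ h).1)
    (fun χ h => hS.conj_ne χ (inducedIrrAbove_subset_bot _ _ (hF χ h).2.2.1))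
    (fun χ h i j => X.orth_mu (hF χ h).2.2.1 (hF χ h).1 _)
    (fun χ h ζ' h' => Char.classInner_irr_of_ne (hF χ h).1 (hlin ζ' ((hmem ζ').1 h')).1
      fun e => (hF χ h).2.2.2 (e ▸ (hmem ζ').1 h'))
    (fun χ h => X.sub_smul_supp (hF χ h).2.2.1 ((hmem ζ).1 hζ) _ (by
      rw [(hF χ h).2.1, hζ1, Nat.cast_mul]))
    ?_ ?_
  · rw [← hFcard, mul_comm (3 * (n + 1))] at hb1
    exact Nat.le_of_mul_le_mul_left hb1 (pow_pos haodd.pos 2)
  · rw [hκ]
    rw [show Fintype.card (ColIdx W₁ W₂) = p - 1 by omega]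
    exact hb2

end ElevenCtx

end Cfsg.Agent.OddOrder.PF
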