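import Cfsg.Agent.S1545
import Cfsg.Agent.Lib.Coprime.Basic
import Cfsg.Agent.Lib.Coprime.Commutator
import Cfsg.Agent.Lib.Coprime.ThreeSubgroup
import Mathlib.GroupTheory.Nilpotent
import Mathlib.GroupTheory.PGroup

/-!
The group theory of Peterfalvi 11, inside one abstract group `L = (H ⋊ U) ⋊ W`.

With `H₀ = C_H(U)` and `D = [H, U]`: `H₀` is normal, `H = D H₀`, `[D, H₀] = 1`, `H' ≤ H₀`,
`H / H₀` is a chief factor of exponent `p` and order `p ^ q`; the centraliser of this factor in `U`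
is `C = C_U(H)`, it contains `U'`, and `|U : C| ≡ 1 (mod q)`.
-/

set_option autoImplicit false
set_option linter.style.haveILetI false

namespace Cfsg.Agent.OddOrder.PF

open Cfsg.Agent
open scoped commutatorElement

universe u

variable {L : Type u} [Group L] [Finite L]

omit [Finite L] in
/-- In a nilpotent `H`, a subgroup contained in its commutator with `H` modulo a normal `M` lies in
`M`. -/
theorem le_of_le_commutator_sup {N M H : Subgroup L} [M.Normal] (hnil : Group.IsNilpotent H)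
    (hN : N ≤ H) (h : N ≤ ⁅N, H⁆ ⊔ M) : N ≤ M := by
  obtain ⟨k, hk⟩ := (Subgroup.isNilpotent_iff_lowerCentralSeries H).1 hnil
  suffices ∀ i, N ≤ H.lowerCentralSeries i ⊔ M by simpa [hk] using this k
  intro i
  induction i with
  | zero => exact hN.trans le_sup_left
  | succ i ih =>
    refine h.trans (sup_le (Subgroup.commutator_le.2 fun x hx y hy => ?_) le_sup_right)
    obtain ⟨g, hg, m, hm, rfl⟩ := Subgroup.mem_sup_of_normal_right.1 (ih hx)
    rw [commutatorElement_mul_left_eq_conj_mul]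
    refine Subgroup.mul_mem _ (Subgroup.mem_sup_right ?_)
      (Subgroup.mem_sup_left (by rw [Subgroup.lowerCentralSeries_succ];
                                 exact Subgroup.commutator_mem_commutator hg hy))
    refine ‹M.Normal›.conj_mem _ ?_ g
    rw [commutatorElement_def, mul_assoc, mul_assoc]
    exact M.mul_mem hm (by simpa [mul_assoc] using ‹M.Normal›.conj_mem _ (M.inv_mem hm) y)

omit [Finite L] in
theorem le_normalizer_centralizer {A X : Subgroup L} (h : A ≤ Subgroup.normalizer (X : Set L)) :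
    A ≤ Subgroup.normalizer ((Subgroup.centralizer (X : Set L) : Subgroup L) : Set L) := by
  intro a ha
  refine Coprime.mem_normalizer_of_conj_smul_eq ?_
  show Subgroup.map (MulAut.conj a).toMonoidHom _ = _
  have key : ∀ b ∈ A, ∀ c ∈ Subgroup.centralizer (X : Set L), b * c * b⁻¹ ∈ Subgroup.centralizer (X : Set L) := by
    intro b hb c hc
    refine Subgroup.mem_centralizer_iff.2 fun x hx => ?_
    have h1 := (Subgroup.mem_normalizer_iff.1 (h (A.inv_mem hb)) x).1 hx
    rw [inv_inv] at h1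
    calc x * (b * c * b⁻¹) = b * ((b⁻¹ * x * b) * c) * b⁻¹ := by group
      _ = b * (c * (b⁻¹ * x * b)) * b⁻¹ := by rw [Subgroup.mem_centralizer_iff.1 hc _ h1]
      _ = b * c * b⁻¹ * x := by group
  refine le_antisymm ?_ fun c hc => ?_
  · rintro _ ⟨c, hc, rfl⟩
    exact key a ha c hc
  · refine ⟨a⁻¹ * c * a, ?_, by simp [mul_assoc]⟩
    simpa using key a⁻¹ (A.inv_mem ha) c hc

/-- The configuration of Peterfalvi 11 in a group `L`: `K = L' = H ⋊ U`, `W` of prime order `q`
complements `K` and has fixed points `W₂` of prime order `p` in `H`. -/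
structure Eleven (K H U W W₂ : Subgroup L) (p q : ℕ) : Prop where
  p_prime : p.Prime
  q_prime : q.Prime
  odd : Odd (Nat.card L)
  solvable : Group.IsSolvable L
  K_eq : K = commutator L
  K_inf_W : K ⊓ W = ⊥
  K_sup_W : K ⊔ W = ⊤
  card_W : Nat.card W = q
  K_coprime : (Nat.card K).Coprime q
  H_normal : H.Normal
  H_nilpotent : Group.IsNilpotent H
  H_coprime : (Nat.card H).Coprime (Nat.card U)
  H_inf_U : H ⊓ U = ⊥
  H_sup_U : H ⊔ U = K
  U_nilpotent : Group.IsNilpotent U
  W_normalizes : W ≤ Subgroup.normalizer (U : Set L)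
  U_not_centralizes : ¬ U ≤ Subgroup.centralizer (H : Set L)
  W₂_le : W₂ ≤ H
  card_W₂ : Nat.card W₂ = p
  fixed : ∀ w ∈ W, w ≠ 1 → K ⊓ Subgroup.centralizer ({w} : Set L) = W₂
  derived_two_le : ⁅K, K⁆ ≤ H ⊔ Subgroup.centralizer (H : Set L)

namespace Eleven

variable {K H U W W₂ : Subgroup L} {p q : ℕ} (E : Eleven K H U W W₂ p q)
include E

theorem K_normal : K.Normal := by rw [E.K_eq]; infer_instance

theorem H_le : H ≤ K := E.H_sup_U ▸ le_sup_left

theorem U_le : U ≤ K := E.H_sup_U ▸ le_sup_right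

theorem W₂_le_K : W₂ ≤ K := E.W₂_le.trans E.H_le

theorem U_le_normalizer_H : U ≤ Subgroup.normalizer (H : Set L) :=
  haveI := E.H_normal
  Subgroup.le_normalizer_of_normal

theorem W₂_ne_bot : W₂ ≠ ⊥ := fun h => E.p_prime.ne_one (by rw [← E.card_W₂, h, Subgroup.card_bot])

theorem U_ne_bot : U ≠ ⊥ := fun h => E.U_not_centralizes (h ▸ bot_le)

theorem W_ne_bot : W ≠ ⊥ := fun h => E.q_prime.ne_one (by rw [← E.card_W, h, Subgroup.card_bot])

theorem three_le_q : 3 ≤ q := by
  have h2 : Odd q := E.odd.of_dvd_nat (E.card_W ▸ W.card_subgroup_dvd_card)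
  have := E.q_prime.two_le
  obtain ⟨k, hk⟩ := h2
  omega

theorem three_le_p : 3 ≤ p := by
  have h2 : Odd p := E.odd.of_dvd_nat (E.card_W₂ ▸ W₂.card_subgroup_dvd_card)
  have := E.p_prime.two_le
  obtain ⟨k, hk⟩ := h2
  omega

theorem p_ne_q : p ≠ q := by
  intro h
  have hd : p ∣ Nat.card K := E.card_W₂ ▸ Subgroup.card_dvd_of_le E.W₂_le_K
  exact E.q_prime.ne_one (Nat.dvd_one.1 (E.K_coprime ▸ Nat.dvd_gcd (h ▸ hd) dvd_rfl))

theorem p_dvd_card_H : p ∣ Nat.card H := E.card_W₂ ▸ Subgroup.card_dvd_of_le E.W₂_le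

/-- A subgroup normalised by `H`, `U` and `W` is normal. -/
theorem normal_of (X : Subgroup L) (h1 : H ≤ Subgroup.normalizer (X : Set L))
    (h2 : U ≤ Subgroup.normalizer (X : Set L)) (h3 : W ≤ Subgroup.normalizer (X : Set L)) :
    X.Normal := by
  rw [← Subgroup.normalizer_eq_top_iff, ← top_le_iff, ← E.K_sup_W, ← E.H_sup_U]
  exact sup_le (sup_le h1 h2) h3

theorem map_conj_U {w : L} (hw : w ∈ W) : U.map (MulAut.conj w).toMonoidHom = U :=
  Coprime.conj_smul_eq_self_of_mem (E.W_normalizes hw)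

theorem map_conj_H (x : L) : H.map (MulAut.conj x).toMonoidHom = H :=
  Coprime.conj_smul_eq_self_of_mem
    (haveI := E.H_normal; Subgroup.le_normalizer_of_normal (Subgroup.mem_top x))

theorem W_eq_zpowers {w : L} (hw : w ∈ W) (h1 : w ≠ 1) : Subgroup.zpowers w = W := by
  have : Fact q.Prime := ⟨E.q_prime⟩
  refine Subgroup.eq_of_le_of_card_ge (Subgroup.zpowers_le.2 hw) (le_of_eq ?_)
  rw [E.card_W, Nat.card_zpowers]
  refine (orderOf_eq_prime ?_ h1).symm
  have h2 := pow_card_eq_one' (x := (⟨w, hw⟩ : W))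
  rw [E.card_W] at h2
  exact congrArg Subtype.val h2

theorem exists_ne_one_W : ∃ w ∈ W, w ≠ 1 := by
  obtain ⟨⟨w, hw⟩, h1⟩ := (W.ne_bot_iff_exists_ne_one).1 E.W_ne_bot
  exact ⟨w, hw, fun e => h1 (Subtype.ext e)⟩

theorem fixed_W : K ⊓ Subgroup.centralizer (W : Set L) = W₂ := by
  obtain ⟨w, hw, h1⟩ := E.exists_ne_one_W
  refine le_antisymm ?_ (le_inf E.W₂_le_K fun z hz => ?_)
  · rw [← E.fixed w hw h1]
    exact inf_le_inf_left _ (Subgroup.centralizer_le (by simpa using hw))
  · refine Subgroup.mem_centralizer_iff.2 fun x hx => ?_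
    by_cases hx1 : x = 1
    · simp [hx1]
    · have : z ∈ K ⊓ Subgroup.centralizer ({x} : Set L) := by rw [E.fixed x hx hx1]; exact hz
      exact (Subgroup.mem_centralizer_singleton_iff.1 this.2).symm

theorem inf_centralizer_W {X : Subgroup L} (hX : X ≤ K) :
    X ⊓ Subgroup.centralizer (W : Set L) = X ⊓ W₂ := by
  rw [← E.fixed_W, ← inf_assoc, inf_eq_left.2 hX]

theorem U_inf_W₂ : U ⊓ W₂ = ⊥ :=
  le_bot_iff.1 (E.H_inf_U ▸ (le_inf (inf_le_right.trans E.W₂_le) inf_le_left : U ⊓ W₂ ≤ H ⊓ U))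

theorem fpf : ∀ w ∈ W, w ≠ 1 → ∀ u ∈ U, w * u = u * w → u = 1 := by
  intro w hw h1 u hu hc
  have h2 : u ∈ U ⊓ W₂ := by
    refine ⟨hu, ?_⟩
    rw [← E.fixed w hw h1]
    exact ⟨E.U_le hu, Subgroup.mem_centralizer_singleton_iff.2 hc.symm⟩
  rwa [E.U_inf_W₂, Subgroup.mem_bot] at h2

/-- A `W`-invariant subgroup of `K` has as many elements modulo `q` as fixed points. -/
theorem card_modEq {X : Subgroup L} (hX : X ≤ K) (hW : W ≤ Subgroup.normalizer (X : Set L)) :
    Nat.card X ≡ Nat.card ↥(X ⊓ W₂) [MOD q] := by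
  have : Fact q.Prime := ⟨E.q_prime⟩
  have hWp : IsPGroup q W := IsPGroup.of_card (n := 1) (by rw [pow_one, E.card_W])
  letI : MulAction W X :=
    { smul := fun w x => ⟨(w : L) * x * (w : L)⁻¹, (Subgroup.mem_normalizer_iff.1 (hW w.2) _).1 x.2⟩
      one_smul := fun x => Subtype.ext (by show ((1 : W) : L) * x * ((1 : W) : L)⁻¹ = x; simp)
      mul_smul := fun v w x => Subtype.ext (by
        show ((v * w : W) : L) * x * ((v * w : W) : L)⁻¹ = v * (w * x * (w : L)⁻¹) * (v : L)⁻¹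
        simp [mul_assoc]) }
  have h := hWp.card_modEq_card_fixedPoints X
  rw [← E.inf_centralizer_W hX]
  convert h using 1
  refine Nat.card_congr
    { toFun := fun x => ⟨⟨x.1, x.2.1⟩, fun w => Subtype.ext ?_⟩
      invFun := fun x => ⟨x.1.1, x.1.2, Subgroup.mem_centralizer_iff.2 fun w hw => ?_⟩
      left_inv := fun x => rfl
      right_inv := fun x => rfl }
  · show (w : L) * x.1 * (w : L)⁻¹ = x.1
    rw [(Subgroup.mem_centralizer_iff.1 x.2.2 _ w.2), mul_inv_cancel_right]
  · have h := congrArg Subtype.val (x.2 ⟨w, hw⟩)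
    change w * (x.1 : L) * w⁻¹ = x.1 at h
    exact mul_inv_eq_iff_eq_mul.1 h

theorem card_modEq_one {X : Subgroup L} (hX : X ≤ U) (hW : W ≤ Subgroup.normalizer (X : Set L)) :
    Nat.card X ≡ 1 [MOD q] := by
  have h : X ⊓ W₂ = ⊥ := le_bot_iff.1 (E.U_inf_W₂ ▸ inf_le_inf_right _ hX)
  simpa [h] using E.card_modEq (hX.trans E.U_le) hW

theorem card_modEq_p {X : Subgroup L} (hX : X ≤ K) (hW₂ : W₂ ≤ X)
    (hW : W ≤ Subgroup.normalizer (X : Set L)) : Nat.card X ≡ p [MOD q] := by
  simpa [inf_eq_right.2 hW₂, E.card_W₂] using E.card_modEq hX hW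

/-- The order formula for the Frobenius group `U W` acting on a subgroup of `H`. -/
theorem card_formula {X : Subgroup L} (hX : X ≤ H) (hU : U ≤ Subgroup.normalizer (X : Set L))
    (hW : W ≤ Subgroup.normalizer (X : Set L)) :
    Nat.card ↥(X ⊓ W₂ ⊓ Subgroup.centralizer (U : Set L)) ^ q * Nat.card X =
      Nat.card ↥(X ⊓ W₂) ^ q * Nat.card ↥(X ⊓ Subgroup.centralizer (U : Set L)) := by
  have hd : W ⊓ U = ⊥ := le_bot_iff.1 (E.K_inf_W ▸ (le_inf (inf_le_right.trans E.U_le) inf_le_left))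
  have hdisj : X ⊓ (U ⊔ W) = ⊥ := by
    refine (Subgroup.eq_bot_iff_forall _).2 fun x hx => ?_
    obtain ⟨hx1, hx2⟩ := hx
    rw [sup_comm] at hx2
    obtain ⟨w, hw, u, hu, rfl⟩ := (Coprime.mem_sup_iff_of_le_normalizer E.W_normalizes).1 hx2
    have hwK : w ∈ K ⊓ W :=
      ⟨(K.mul_mem_cancel_right (E.U_le hu)).1 (E.H_le (hX hx1)), hw⟩
    rw [E.K_inf_W, Subgroup.mem_bot] at hwK
    subst hwK
    rw [one_mul] at hx1 ⊢
    have : u ∈ H ⊓ U := ⟨hX hx1, hu⟩
    rwa [E.H_inf_U, Subgroup.mem_bot] at this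
  have hcop : Nat.Coprime (Nat.card X) (Nat.card ↥(U ⊔ W)) := by
    rw [sup_comm, Coprime.card_sup_of_le_normalizer E.W_normalizes hd, E.card_W]
    exact (Nat.Coprime.coprime_dvd_left (Subgroup.card_dvd_of_le (hX.trans E.H_le)) E.K_coprime).mul_right
      (E.H_coprime.coprime_dvd_left (Subgroup.card_dvd_of_le hX))
  haveI := E.solvable
  have hcent : Subgroup.centralizer ((U ⊔ W : Subgroup L) : Set L) =
      Subgroup.centralizer (W : Set L) ⊓ Subgroup.centralizer (U : Set L) := by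
    refine le_antisymm (le_inf (Subgroup.centralizer_le (SetLike.coe_subset_coe.2 le_sup_right))
      (Subgroup.centralizer_le (SetLike.coe_subset_coe.2 le_sup_left))) fun x hx => ?_
    rw [Subgroup.mem_inf] at hx
    exact Subgroup.le_centralizer_iff.1
      (sup_le (Subgroup.le_centralizer_iff.1 (Subgroup.zpowers_le.2 hx.2))
        (Subgroup.le_centralizer_iff.1 (Subgroup.zpowers_le.2 hx.1))) (Subgroup.mem_zpowers x)
  have h := Cfsg.Agent.S1545.result U W X E.U_ne_bot E.W_ne_bot ((inf_comm U W).trans hd)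
    (fun e he u hu => (Subgroup.mem_normalizer_iff.1 (E.W_normalizes he) u).1 hu) E.fpf
    (fun x hx y hy => (Subgroup.mem_normalizer_iff.1 (sup_le hU hW hx) y).1 hy) hdisj
    (Coprime.isSolvable_of_le le_top (solvable_of_solvable_injective
      (f := (⊤ : Subgroup L).subtype) (Subgroup.subtype_injective _)))
    hcop
  rwa [E.card_W, hcent, ← inf_assoc, E.inf_centralizer_W (hX.trans E.H_le)] at h

theorem eq_bot_or_le (X : Subgroup L) : X ⊓ W₂ = ⊥ ∨ W₂ ≤ X := by
  by_cases h : X ⊓ W₂ = ⊥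
  · exact Or.inl h
  refine Or.inr ?_
  have : Fact (Nat.card W₂).Prime := ⟨by rw [E.card_W₂]; exact E.p_prime⟩
  rcases Subgroup.eq_bot_or_eq_top_of_prime_card ((X ⊓ W₂).subgroupOf W₂) with h' | h'
  · rw [Subgroup.subgroupOf_eq_bot, disjoint_iff, inf_assoc, inf_idem] at h'
    exact absurd h' h
  · exact (Subgroup.subgroupOf_eq_top.1 h').trans inf_le_left

/-- `U` centralises the invariant subgroups of `H` without fixed points of `W`. -/
theorem centralizes_of_disjoint {X : Subgroup L} (hX : X ≤ H)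
    (hU : U ≤ Subgroup.normalizer (X : Set L)) (hW : W ≤ Subgroup.normalizer (X : Set L))
    (h0 : X ⊓ W₂ = ⊥) : U ≤ Subgroup.centralizer (X : Set L) := by
  have h := E.card_formula hX hU hW
  rw [h0, bot_inf_eq, Subgroup.card_bot, one_pow, one_mul, one_mul] at h
  rw [Subgroup.le_centralizer_iff]
  exact (Subgroup.eq_of_le_of_card_ge inf_le_left h.le).ge.trans inf_le_right

theorem W_le_normalizer_H : W ≤ Subgroup.normalizer (H : Set L) :=
  haveI := E.H_normal
  Subgroup.le_normalizer_of_normal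

theorem W₂_inf_centralizer_U : W₂ ⊓ Subgroup.centralizer (U : Set L) = ⊥ := by
  rcases E.eq_bot_or_le (Subgroup.centralizer (U : Set L)) with h | h
  · rwa [inf_comm]
  exfalso
  have e := E.card_formula le_rfl E.U_le_normalizer_H E.W_le_normalizer_H
  rw [inf_eq_right.2 E.W₂_le, inf_eq_left.2 h, E.card_W₂] at e
  refine E.U_not_centralizes (Subgroup.le_centralizer_iff.1 ?_)
  exact (Subgroup.eq_of_le_of_card_ge inf_le_left
    (Nat.eq_of_mul_eq_mul_left (pow_pos E.p_prime.pos q) e).le).ge.trans inf_le_right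

/-- For an invariant subgroup of `H` containing `W₂`: `|X| = p ^ q |C_X(U)|`. -/
theorem card_eq {X : Subgroup L} (hX : X ≤ H) (hW₂ : W₂ ≤ X)
    (hU : U ≤ Subgroup.normalizer (X : Set L)) (hW : W ≤ Subgroup.normalizer (X : Set L)) :
    Nat.card X = p ^ q * Nat.card ↥(X ⊓ Subgroup.centralizer (U : Set L)) := by
  have h := E.card_formula hX hU hW
  rw [inf_eq_right.2 hW₂, E.W₂_inf_centralizer_U, Subgroup.card_bot, one_pow, one_mul,
    E.card_W₂] at h
  exact h

theorem card_H : Nat.card H = p ^ q * Nat.card ↥(H ⊓ Subgroup.centralizer (U : Set L)) :=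
  E.card_eq le_rfl E.W₂_le E.U_le_normalizer_H E.W_le_normalizer_H

theorem commutator_le_H : ⁅H, U⁆ ≤ H :=
  Coprime.commutator_le_left_of_le_normalizer E.U_le_normalizer_H

theorem commutator_HU_normal : (⁅H, U⁆ : Subgroup L).Normal := by
  refine E.normal_of _ (Subgroup.normalizer_commutator_ge_left H U)
    (Subgroup.normalizer_commutator_ge_right H U) fun w hw => Coprime.mem_normalizer_of_conj_smul_eq ?_
  show Subgroup.map (MulAut.conj w).toMonoidHom ⁅H, U⁆ = _
  rw [Subgroup.map_commutator, E.map_conj_H, E.map_conj_U hw]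

theorem sup_centralizer : ⁅H, U⁆ ⊔ (H ⊓ Subgroup.centralizer (U : Set L)) = H :=
  haveI := E.solvable
  Coprime.commutator_sup_centralizer E.U_le_normalizer_H E.H_coprime.symm
    (Or.inr inferInstance)

theorem W₂_le_commutator : W₂ ≤ ⁅H, U⁆ := by
  haveI := E.solvable
  haveI := E.commutator_HU_normal
  refine (E.eq_bot_or_le _).resolve_left fun h => E.U_not_centralizes ?_
  refine Coprime.le_centralizer_of_commutator_le_centralizer E.U_le_normalizer_H E.H_coprime.symm
    (Or.inr inferInstance) ?_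
  exact E.centralizes_of_disjoint E.commutator_le_H Subgroup.le_normalizer_of_normal
    Subgroup.le_normalizer_of_normal h

/-- A normal subgroup in `H` containing `W₂` contains `[H, U]`. -/
theorem commutator_le_of (N : Subgroup L) [N.Normal] (hN : N ≤ H) (hW₂ : W₂ ≤ N) :
    ⁅H, U⁆ ≤ N := by
  set C₀ := H ⊓ Subgroup.centralizer (U : Set L) with hC₀
  have hinf : N ⊓ C₀ = N ⊓ Subgroup.centralizer (U : Set L) := by
    rw [hC₀, ← inf_assoc, inf_eq_left.2 hN]
  have hcard := E.card_eq hN hW₂ Subgroup.le_normalizer_of_normal Subgroup.le_normalizer_of_normal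
  rw [← hinf] at hcard
  have hsup : N ⊔ C₀ = H := by
    refine Subgroup.eq_of_le_of_card_ge (sup_le hN inf_le_left) ?_
    have h1 := Subgroup.card_mul_index (N.subgroupOf (N ⊔ C₀))
    rw [Nat.card_congr (Subgroup.subgroupOfEquivOfLe le_sup_left).toEquiv] at h1
    change Nat.card N * N.relIndex (N ⊔ C₀) = _ at h1
    rw [sup_comm N C₀, Coprime.relIndex_sup_right_of_le_normalizer Subgroup.le_normalizer_of_normal,
      ← Subgroup.inf_relIndex_right] at h1
    have h2 : Nat.card ↥(N ⊓ C₀) * (N ⊓ C₀).relIndex C₀ = Nat.card C₀ := by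
      rw [← Nat.card_congr (Subgroup.subgroupOfEquivOfLe (inf_le_right : N ⊓ C₀ ≤ C₀)).toEquiv]
      exact Subgroup.card_mul_index _
    rw [sup_comm N C₀, ← h1, E.card_H, ← hC₀, hcard, mul_assoc, h2]
  rw [Subgroup.commutator_le]
  intro h hh u hu
  rw [← hsup] at hh
  obtain ⟨n, hn, c, hc, rfl⟩ := Subgroup.mem_sup_of_normal_left.1 hh
  have hcu : ⁅c, u⁆ = 1 :=
    commutatorElement_eq_one_iff_mul_comm.2 (Subgroup.mem_centralizer_iff.1 hc.2 u hu).symm
  rw [commutatorElement_mul_left_eq_conj_mul, hcu, mul_one, mul_inv_cancel, one_mul,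
    commutatorElement_def, mul_assoc, mul_assoc]
  exact N.mul_mem hn (by simpa [mul_assoc] using ‹N.Normal›.conj_mem _ (N.inv_mem hn) u)

/-- `C_H(U)` is normal in `L`, and `[H, H] ≤ C_H(U)` and `[[H, U], C_H(U)] = 1`. -/
theorem cent_facts :
    (H ⊓ Subgroup.centralizer (U : Set L)).Normal ∧
      ⁅H, H⁆ ≤ H ⊓ Subgroup.centralizer (U : Set L) ∧
      ⁅⁅H, U⁆, H ⊓ Subgroup.centralizer (U : Set L)⁆ = ⊥ := by
  haveI := E.H_normal
  haveI hDn := E.commutator_HU_normal
  set C₀ := H ⊓ Subgroup.centralizer (U : Set L) with hC₀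
  set D : Subgroup L := ⁅H, U⁆ with hD
  obtain ⟨M, ⟨hMn, hMH, hM0⟩, hmax⟩ :=
    (Set.toFinite {N : Subgroup L | N.Normal ∧ N ≤ H ∧ N ⊓ W₂ = ⊥}).exists_maximal
      ⟨⊥, inferInstance, bot_le, bot_inf_eq _⟩
  haveI := hMn
  have hMU : U ≤ Subgroup.centralizer (M : Set L) := E.centralizes_of_disjoint hMH
    Subgroup.le_normalizer_of_normal Subgroup.le_normalizer_of_normal hM0
  have hMC : M ≤ C₀ := le_inf hMH (Subgroup.le_centralizer_iff.1 hMU)
  have hDM : ⁅D, M⁆ = ⊥ := by
    have h1 : ⁅U, M⁆ = ⊥ := Subgroup.commutator_eq_bot_iff_le_centralizer.2 hMU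
    refine Subgroup.commutator_commutator_eq_bot_of_rotate (by rw [h1, Subgroup.commutator_bot_left]) ?_
    rw [Subgroup.commutator_eq_bot_iff_le_centralizer]
    exact (Subgroup.commutator_le_left M H).trans (Subgroup.le_centralizer_iff.1 hMU)
  set N₁ := D ⊔ M with hN₁
  have hN₁H : N₁ ≤ H := sup_le E.commutator_le_H hMH
  have hN2H : ⁅N₁, H⁆ ⊔ M ≤ H := sup_le (Subgroup.commutator_le_right N₁ H) hMH
  have hcomm : ⁅N₁, H⁆ ≤ M := by
    rcases E.eq_bot_or_le (⁅N₁, H⁆ ⊔ M) with h | h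
    · exact le_sup_left.trans (hmax ⟨inferInstance, hN2H, h⟩ le_sup_right)
    · exfalso
      have h1 : N₁ ≤ ⁅N₁, H⁆ ⊔ M :=
        sup_le (E.commutator_le_of _ hN2H h) le_sup_right
      have h2 := le_of_le_commutator_sup E.H_nilpotent hN₁H h1
      refine E.W₂_ne_bot (le_bot_iff.1 (hM0 ▸ le_inf ?_ le_rfl))
      exact E.W₂_le_commutator.trans (le_sup_left.trans h2)
  have hgen : ∀ h ∈ H, ∃ n ∈ N₁, ∃ c ∈ C₀, h = n * c := by
    intro h hh
    rw [← E.sup_centralizer] at hh
    obtain ⟨d, hd, c, hc, rfl⟩ := Subgroup.mem_sup_of_normal_left.1 hh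
    exact ⟨d, Subgroup.mem_sup_left hd, c, hc, rfl⟩
  have hHC : H ≤ Subgroup.normalizer (C₀ : Set L) := by
    intro h hh
    obtain ⟨n, hn, c, hc, rfl⟩ := hgen h hh
    refine Subgroup.mul_mem _ ?_ (Subgroup.le_normalizer hc)
    have key : ∀ n ∈ N₁, ∀ x ∈ C₀, n * x * n⁻¹ ∈ C₀ := fun n hn x hx => by
      have h1 : ⁅n, x⁆ ∈ M := hcomm (Subgroup.commutator_mem_commutator hn hx.1)
      rw [show n * x * n⁻¹ = ⁅n, x⁆ * x by rw [commutatorElement_def]; group]
      exact C₀.mul_mem (hMC h1) hx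
    exact Subgroup.mem_normalizer_iff.2 fun x => ⟨key n hn x, fun hx => by
      simpa [mul_assoc] using key n⁻¹ (N₁.inv_mem hn) _ hx⟩
  have hC₀n : C₀.Normal := by
    refine E.normal_of _ hHC ?_ ?_
    · exact (le_inf E.U_le_normalizer_H (le_normalizer_centralizer Subgroup.le_normalizer)).trans
        Subgroup.inf_normalizer_le_normalizer_inf
    · exact (le_inf E.W_le_normalizer_H (le_normalizer_centralizer E.W_normalizes)).trans
        Subgroup.inf_normalizer_le_normalizer_inf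
  have hCM : C₀ = M := by
    refine le_antisymm (hmax ⟨hC₀n, inf_le_left, ?_⟩ hMC) hMC
    rw [inf_assoc, inf_comm (Subgroup.centralizer _), E.W₂_inf_centralizer_U, inf_bot_eq]
  refine ⟨hC₀n, ?_, by rw [hCM]; exact hDM⟩
  rw [Subgroup.commutator_le]
  intro x hx y hy
  obtain ⟨n, hn, c, hc, rfl⟩ := hgen x hx
  rw [commutatorElement_mul_left_eq_conj_mul]
  refine C₀.mul_mem (hC₀n.conj_mem _ ?_ n) (hMC (hcomm (Subgroup.commutator_mem_commutator hn hy)))
  rw [commutatorElement_def, mul_assoc, mul_assoc]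
  exact C₀.mul_mem hc (by simpa [mul_assoc] using hC₀n.conj_mem _ (C₀.inv_mem hc) y)

theorem centralizer_U_normal : (H ⊓ Subgroup.centralizer (U : Set L)).Normal := E.cent_facts.1

theorem commutator_H_le : ⁅H, H⁆ ≤ H ⊓ Subgroup.centralizer (U : Set L) := E.cent_facts.2.1

theorem commutator_D_cent :
    ⁅⁅H, U⁆, H ⊓ Subgroup.centralizer (U : Set L)⁆ = ⊥ := E.cent_facts.2.2

theorem relIndex_H₀ : (H ⊓ Subgroup.centralizer (U : Set L)).relIndex H = p ^ q := by
  have h1 : Nat.card ↥(H ⊓ Subgroup.centralizer (U : Set L)) *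
      (H ⊓ Subgroup.centralizer (U : Set L)).relIndex H = Nat.card H := by
    rw [← Nat.card_congr (Subgroup.subgroupOfEquivOfLe
      (inf_le_left : H ⊓ Subgroup.centralizer (U : Set L) ≤ H)).toEquiv]
    exact Subgroup.card_mul_index _
  rw [E.card_H, mul_comm (p ^ q)] at h1
  exact Nat.eq_of_mul_eq_mul_left Nat.card_pos h1

/-- `H / C_H(U)` is a chief factor. -/
theorem eq_or_eq (N : Subgroup L) [N.Normal]
    (h1 : H ⊓ Subgroup.centralizer (U : Set L) ≤ N) (h2 : N ≤ H) :
    N = H ⊓ Subgroup.centralizer (U : Set L) ∨ N = H := by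
  rcases E.eq_bot_or_le N with h | h
  · refine Or.inl (le_antisymm (le_inf h2 (Subgroup.le_centralizer_iff.1 ?_)) h1)
    exact E.centralizes_of_disjoint h2 Subgroup.le_normalizer_of_normal
      Subgroup.le_normalizer_of_normal h
  · exact Or.inr (le_antisymm h2 (E.sup_centralizer ▸ sup_le (E.commutator_le_of N h2 h) h1))

theorem pow_mem {x : L} (hx : x ∈ H) : x ^ p ∈ H ⊓ Subgroup.centralizer (U : Set L) := by
  haveI := E.centralizer_U_normal
  haveI := E.H_normal
  set H₀ := H ⊓ Subgroup.centralizer (U : Set L) with hH₀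
  let π := QuotientGroup.mk' H₀
  have hcomm : ∀ a ∈ H, ∀ b ∈ H, Commute (π a) (π b) := fun a ha b hb => by
    refine commutatorElement_eq_one_iff_commute.1 ?_
    rw [← map_commutatorElement]
    exact (QuotientGroup.eq_one_iff _).2 (E.commutator_H_le (Subgroup.commutator_mem_commutator ha hb))
  let N : Subgroup L :=
    { carrier := {y | y ∈ H ∧ π y ^ p = 1}
      one_mem' := ⟨H.one_mem, by simp⟩
      mul_mem' := fun {a b} ha hb => ⟨H.mul_mem ha.1 hb.1, by
        rw [map_mul, (hcomm a ha.1 b hb.1).mul_pow, ha.2, hb.2, one_mul]⟩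
      inv_mem' := fun {a} ha => ⟨H.inv_mem ha.1, by rw [map_inv, inv_pow, ha.2, inv_one]⟩ }
  have hN : N.Normal := ⟨fun y hy g => ⟨E.H_normal.conj_mem y hy.1 g, by
    rw [map_mul, map_mul, map_inv, conj_pow, hy.2, mul_one, mul_inv_cancel]⟩⟩
  have h1 : H₀ ≤ N := fun y hy => ⟨hy.1, by
    rw [show π y = 1 from (QuotientGroup.eq_one_iff y).2 hy, one_pow]⟩
  have hW₂ : W₂ ≤ N := fun y hy => ⟨E.W₂_le hy, by
    have : y ^ p = 1 := by
      have := pow_card_eq_one' (x := (⟨y, hy⟩ : W₂))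
      rw [E.card_W₂] at this
      exact congrArg Subtype.val this
    rw [← map_pow, this, map_one]⟩
  rcases E.eq_or_eq N h1 (fun y hy => hy.1) with h | h
  · exfalso
    refine E.W₂_ne_bot (le_bot_iff.1 (E.W₂_inf_centralizer_U ▸ le_inf le_rfl ?_))
    exact (h ▸ hW₂).trans inf_le_right
  · have hxN : x ∈ N := h ▸ hx
    have := hxN.2
    rw [← map_pow] at this
    exact (QuotientGroup.eq_one_iff _).1 this

/-! ### The centraliser `C = C_U(H)` -/

theorem C_normal : (U ⊓ Subgroup.centralizer (H : Set L)).Normal := by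
  haveI := E.H_normal
  refine E.normal_of _ (fun h hh => ?_) ?_ ?_
  · refine Subgroup.centralizer_le_normalizer _ (Subgroup.mem_centralizer_iff.2 fun x hx => ?_)
    exact (Subgroup.mem_centralizer_iff.1 hx.2 h hh).symm
  · exact (le_inf Subgroup.le_normalizer (le_normalizer_centralizer E.U_le_normalizer_H)).trans
      Subgroup.inf_normalizer_le_normalizer_inf
  · exact (le_inf E.W_normalizes (le_normalizer_centralizer E.W_le_normalizer_H)).trans
      Subgroup.inf_normalizer_le_normalizer_inf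

/-- An element of `U` centralising `H / C_H(U)` centralises `H`. -/
theorem mem_centralizer_of_commutator_mem {u : L} (hu : u ∈ U)
    (h : ∀ x ∈ H, ⁅u, x⁆ ∈ H ⊓ Subgroup.centralizer (U : Set L)) :
    u ∈ Subgroup.centralizer (H : Set L) := by
  refine Subgroup.mem_centralizer_iff.2 fun x hx => ?_
  set z := ⁅u, x⁆ with hz
  obtain ⟨hzH, hzU⟩ := h x hx
  have hzu : Commute u z := Subgroup.mem_centralizer_iff.1 hzU u hu
  have hk : ∀ k : ℕ, u ^ k * x = z ^ k * x * u ^ k := by
    intro k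
    induction k with
    | zero => simp
    | succ k ih =>
      rw [pow_succ', mul_assoc, ih, ← mul_assoc, ← mul_assoc, (hzu.pow_right k).eq, mul_assoc _ u x,
        show u * x = z * x * u by rw [hz, commutatorElement_def]; group, pow_succ z k]
      group
  have h1 := hk (orderOf u)
  rw [pow_orderOf_eq_one, one_mul, mul_one, eq_comm, mul_eq_right] at h1
  have hz1 : z = 1 := orderOf_eq_one_iff.1 (Nat.eq_one_of_dvd_coprimes E.H_coprime
    (Subgroup.orderOf_dvd_natCard _ hzH)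
    ((orderOf_dvd_of_pow_eq_one h1).trans (Subgroup.orderOf_dvd_natCard _ hu)))
  exact (commutatorElement_eq_one_iff_mul_comm.1 hz1).symm

theorem commutator_U_le : ⁅U, U⁆ ≤ U ⊓ Subgroup.centralizer (H : Set L) := by
  haveI := E.H_normal
  haveI := E.centralizer_U_normal
  refine Subgroup.commutator_le.2 fun a ha b hb => ⟨?_, ?_⟩
  · exact U.mul_mem (U.mul_mem (U.mul_mem ha hb) (U.inv_mem ha)) (U.inv_mem hb)
  refine E.mem_centralizer_of_commutator_mem
    (U.mul_mem (U.mul_mem (U.mul_mem ha hb) (U.inv_mem ha)) (U.inv_mem hb)) fun x hx => ?_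
  obtain ⟨h, hh, c, hc, e⟩ := Subgroup.mem_sup_of_normal_left.1
    (E.derived_two_le (Subgroup.commutator_mem_commutator (E.U_le ha) (E.U_le hb)))
  rw [← e, commutatorElement_mul_left_eq_conj_mul, commutatorElement_eq_one_iff_mul_comm.2
    (Subgroup.mem_centralizer_iff.1 hc x hx).symm, mul_one, mul_inv_cancel, one_mul]
  exact E.commutator_H_le (Subgroup.commutator_mem_commutator hh hx)

theorem C_lt : U ⊓ Subgroup.centralizer (H : Set L) < U :=
  lt_of_le_of_ne inf_le_left fun h => E.U_not_centralizes (inf_eq_left.1 h)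

theorem two_q_lt_index : 2 * q + 1 ≤ (U ⊓ Subgroup.centralizer (H : Set L)).relIndex U := by
  haveI := E.C_normal
  set C := U ⊓ Subgroup.centralizer (H : Set L) with hC
  set r := C.relIndex U with hr
  have hmul : Nat.card C * r = Nat.card U := by
    rw [← Nat.card_congr (Subgroup.subgroupOfEquivOfLe (inf_le_left : C ≤ U)).toEquiv]
    exact Subgroup.card_mul_index _
  have h1 : r ≡ 1 [MOD q] := by
    have hU := E.card_modEq_one le_rfl E.W_normalizes
    have hC' := E.card_modEq_one (X := C) inf_le_left Subgroup.le_normalizer_of_normal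
    rw [← hmul] at hU
    calc r = 1 * r := (one_mul r).symm
      _ ≡ Nat.card C * r [MOD q] := (hC'.symm.mul_right r)
      _ ≡ 1 [MOD q] := hU
  have hne : r ≠ 1 := fun e => (E.C_lt).not_ge (Subgroup.relIndex_eq_one.1 e)
  have hodd : Odd r := (E.odd.of_dvd_nat U.card_subgroup_dvd_card).of_dvd_nat
    (hmul ▸ dvd_mul_left r _)
  have hpos : 0 < r := hodd.pos
  obtain ⟨t, ht⟩ := (Nat.modEq_iff_dvd' hpos).1 h1.symm
  have hq := E.three_le_q
  rcases t with _ | _ | t
  · omega
  · obtain ⟨k, hk⟩ := hodd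
    obtain ⟨j, hj⟩ := E.q_prime.odd_of_ne_two (by omega)
    omega
  · nlinarith [Nat.sub_add_cancel hpos]

theorem index_modEq_one : (U ⊓ Subgroup.centralizer (H : Set L)).relIndex U ≡ 1 [MOD q] := by
  haveI := E.C_normal
  set C := U ⊓ Subgroup.centralizer (H : Set L) with hC
  have hmul : Nat.card C * C.relIndex U = Nat.card U := by
    rw [← Nat.card_congr (Subgroup.subgroupOfEquivOfLe (inf_le_left : C ≤ U)).toEquiv]
    exact Subgroup.card_mul_index _
  have hU := E.card_modEq_one le_rfl E.W_normalizes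
  have hC' := E.card_modEq_one (X := C) inf_le_left Subgroup.le_normalizer_of_normal
  rw [← hmul] at hU
  calc C.relIndex U = 1 * C.relIndex U := (one_mul _).symm
    _ ≡ Nat.card C * C.relIndex U [MOD q] := hC'.symm.mul_right _
    _ ≡ 1 [MOD q] := hU

/-! ### Subgroups `X Y` with `X ≤ H`, `Y ≤ U` -/

/-- `K' ≤ A` as soon as `A` is normal and contains `H'`, `[H, U]` and `U'`. -/
theorem commutator_K_le (A : Subgroup L) [A.Normal] (h1 : ⁅H, H⁆ ≤ A) (h2 : ⁅H, U⁆ ≤ A)
    (h3 : ⁅U, U⁆ ≤ A) : ⁅K, K⁆ ≤ A := by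
  have key : ∀ {X Y : Subgroup L}, ⁅X, Y⁆ ≤ A →
      X.map (QuotientGroup.mk' A) ≤ Subgroup.centralizer (Y.map (QuotientGroup.mk' A) : Set (L ⧸ A)) := by
    intro X Y h
    rw [← Subgroup.commutator_eq_bot_iff_le_centralizer, ← Subgroup.map_commutator,
      Subgroup.map_eq_bot_iff, QuotientGroup.ker_mk']
    exact h
  rw [← QuotientGroup.ker_mk' A, ← Subgroup.map_eq_bot_iff, Subgroup.map_commutator,
    Subgroup.commutator_eq_bot_iff_le_centralizer, ← E.H_sup_U, Subgroup.map_sup]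
  have hHU := key h2
  refine sup_le ?_ ?_ <;> rw [Subgroup.le_centralizer_iff] <;> refine sup_le ?_ ?_
  · exact key h1
  · exact Subgroup.le_centralizer_iff.1 hHU
  · exact hHU
  · exact key h3

theorem card_sup {X Y : Subgroup L} (hX : X ≤ H) (hY : Y ≤ U)
    (hn : Y ≤ Subgroup.normalizer (X : Set L)) :
    Nat.card ↥(X ⊔ Y) = Nat.card X * Nat.card Y := by
  rw [sup_comm, Coprime.card_sup_of_le_normalizer hn, mul_comm]
  exact le_bot_iff.1 (E.H_inf_U ▸ (le_inf (inf_le_right.trans hX) (inf_le_left.trans hY)))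

theorem relIndex_sup {X Y : Subgroup L} (hX : X ≤ H) (hY : Y ≤ U)
    (hn : Y ≤ Subgroup.normalizer (X : Set L)) :
    (X ⊔ Y).relIndex K = X.relIndex H * Y.relIndex U := by
  have key : ∀ {A B : Subgroup L}, A ≤ B → Nat.card A * A.relIndex B = Nat.card B := fun {A B} h => by
    rw [← Nat.card_congr (Subgroup.subgroupOfEquivOfLe h).toEquiv]
    exact Subgroup.card_mul_index _
  have h1 := key (sup_le (hX.trans E.H_le) (hY.trans E.U_le))
  have h2 : Nat.card K = Nat.card H * Nat.card U := by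
    rw [← E.H_sup_U]; exact E.card_sup le_rfl le_rfl E.U_le_normalizer_H
  rw [E.card_sup hX hY hn, h2, ← key hX, ← key hY, mul_mul_mul_comm] at h1
  exact Nat.eq_of_mul_eq_mul_left (Nat.mul_pos Nat.card_pos Nat.card_pos) h1

end Eleven

end Cfsg.Agent.OddOrder.PF
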