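import Cfsg.Agent.Lib.OddOrder.PF.Setting
import Cfsg.Agent.Lib.OddOrder.PF.S10_PairPrimes
import Cfsg.Agent.Lib.OddOrder.PF.TypePDade
import Cfsg.Agent.Lib.OddOrder.FittingHall
import Cfsg.Agent.Lib.OddOrder.FittingLocal
import Cfsg.Agent.Lib.Coprime.Basic
import Cfsg.Agent.Lib.OddOrder.PF.Conjugates
import Cfsg.Agent.S1545

/-!
The group theory of Peterfalvi 13 for one member `S` of a pair of type P, with `P = S_F`,
`C = C_U(P)` and `p = |W₂|`, `q = |W₁|` primes.

* `PairSide`: `U` abelian, `F(S)` a TI subgroup with normalizer `S`, `C_P(U) = 1`;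
* `irred`: no proper non-trivial subgroup of `P` is invariant under `U` and `W₁`, whence
  `P` is elementary abelian of order `p ^ q` and `F(S) = P × C` is abelian;
* `mem_C_of_conj_mem`: only `C` moves an element of `W₂` inside `W₂`, whence
  `|U : C| (p - 1) ≤ p ^ q - 1`.
-/

set_option autoImplicit false
set_option linter.style.haveILetI false
set_option linter.unusedSectionVars false

namespace Cfsg.Agent.OddOrder.PF

open Cfsg Cfsg.Agent Cfsg.Agent.OddOrder
open scoped commutatorElement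

universe u
variable {G : Type u} [Group G] [Finite G]

/-- In Type III, `U` acts without fixed points on `S_F` (the consequence of Peterfalvi 11 used in
13). -/
def TypeIIIKernel (G : Type u) [Group G] : Prop :=
  ∀ S T W₁ W₂ U V : Subgroup G, TypePair S T W₁ W₂ U V → IsOfTypeIII S →
    ∀ u ∈ U, u ≠ 1 → ∀ x ∈ fittingHallOf S, u * x = x * u → x = 1

/-- `C = C_U(S_F)`. -/
abbrev pairC (S U : Subgroup G) : Subgroup G :=
  U ⊓ Subgroup.centralizer (fittingHallOf S : Set G)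

/-- One member of a pair of type P, as Peterfalvi 13 uses it. -/
structure PairSide (S W₁ U W₂ : Subgroup G) : Prop where
  oddG : Odd (Nat.card G)
  hS : IsCoatom S
  solvable : Group.IsSolvable S
  hP : IsTypePWith S W₁ U W₂
  q_prime : (Nat.card W₁).Prime
  p_prime : (Nat.card W₂).Prime
  U_comm : ∀ a ∈ U, ∀ b ∈ U, a * b = b * a
  ti : ∀ g : G, ∀ x ∈ fittingOf S, x ≠ 1 → g * x * g⁻¹ ∈ fittingOf S → g ∈ S
  free : fittingHallOf S ⊓ Subgroup.centralizer (U : Set G) = ⊥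

namespace PairSide

variable {S W₁ U W₂ : Subgroup G} (D : PairSide S W₁ U W₂)
include D

theorem H_le : fittingHallOf S ≤ ⁅S, S⁆ := D.hP.U_compl.1

theorem H_le_S : fittingHallOf S ≤ S := fittingHallOf_le S

theorem U_le : U ≤ ⁅S, S⁆ := D.hP.U_compl.2.1

theorem U_le_S : U ≤ S := D.U_le.trans S.commutator_le_self

theorem W₁_le : W₁ ≤ S := D.hP.W₁_compl.2.1

theorem W₂_le : W₂ ≤ fittingHallOf S := D.hP.W₂_le.trans inf_le_left

theorem W₂_le_S : W₂ ≤ S := D.W₂_le.trans D.H_le_S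

theorem S_le_normalizer : S ≤ Subgroup.normalizer (fittingHallOf S : Set G) :=
  le_normalizer_map_subtype _

theorem conj_mem_H {g x : G} (hg : g ∈ S) (hx : x ∈ fittingHallOf S) :
    g * x * g⁻¹ ∈ fittingHallOf S :=
  (Subgroup.mem_normalizer_iff.1 (D.S_le_normalizer hg) x).1 hx

theorem conj_mem_U {w x : G} (hw : w ∈ W₁) (hx : x ∈ U) : w * x * w⁻¹ ∈ U :=
  (Subgroup.mem_normalizer_iff.1 (D.hP.U_normal hw) x).1 hx

theorem coprime_q : (Nat.card W₁).Coprime (Nat.card (⁅S, S⁆ : Subgroup G)) :=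
  typeP_card_W₁_coprime D.hP

theorem coprime_H_U : (Nat.card (fittingHallOf S)).Coprime (Nat.card U) :=
  coprime_fittingHallOf_of_inf_eq_bot D.U_le_S D.hP.U_compl.2.2.1

theorem p_dvd_H : Nat.card W₂ ∣ Nat.card (fittingHallOf S) := Subgroup.card_dvd_of_le D.W₂_le

theorem H_ne_bot : fittingHallOf S ≠ ⊥ := fun h =>
  D.p_prime.ne_one (by rw [le_bot_iff.1 (D.W₂_le.trans h.le), Subgroup.card_bot])

theorem U_ne_bot : U ≠ ⊥ := fun h => D.H_ne_bot <| by
  have hle : fittingHallOf S ≤ fittingHallOf S ⊓ Subgroup.centralizer (U : Set G) := by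
    refine le_inf le_rfl fun x _ => Subgroup.mem_centralizer_iff.2 fun y hy => ?_
    rw [SetLike.mem_coe, h, Subgroup.mem_bot] at hy
    rw [hy, one_mul, mul_one]
  rw [D.free] at hle
  exact le_bot_iff.1 hle

theorem p_ne_q : Nat.card W₂ ≠ Nat.card W₁ := fun h => by
  have h1 : Nat.card W₁ ∣ Nat.card (⁅S, S⁆ : Subgroup G) :=
    h ▸ Subgroup.card_dvd_of_le (D.W₂_le.trans D.H_le)
  exact D.q_prime.ne_one (Nat.Coprime.eq_one_of_dvd D.coprime_q h1)

theorem q_odd : Odd (Nat.card W₁) := D.oddG.of_dvd_nat W₁.card_subgroup_dvd_card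

theorem p_odd : Odd (Nat.card W₂) := D.oddG.of_dvd_nat W₂.card_subgroup_dvd_card

theorem mem_W₂_of_commute {w x : G} (hw : w ∈ W₁) (hw1 : w ≠ 1) (hx : x ∈ ⁅S, S⁆)
    (h : w * x = x * w) : x ∈ W₂ := by
  rw [← D.hP.W₂_centralizer w hw hw1]
  exact ⟨hx, Subgroup.mem_centralizer_singleton_iff.2 h.symm⟩

theorem commute_W₂ {w x : G} (hw : w ∈ W₁) (hx : x ∈ W₂) : w * x = x * w :=
  D.hP.selfNormalizing.2.2.2.1 w hw x hx

theorem eq_one_of_commute {w u : G} (hw : w ∈ W₁) (hw1 : w ≠ 1) (hu : u ∈ U)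
    (h : w * u = u * w) : u = 1 := by
  have h1 : u ∈ fittingHallOf S ⊓ U := ⟨D.W₂_le (D.mem_W₂_of_commute hw hw1 (D.U_le hu) h), hu⟩
  rwa [D.hP.U_compl.2.2.1, Subgroup.mem_bot] at h1

theorem exists_gen : ∃ w ∈ W₁, w ≠ 1 := by
  obtain ⟨w, hw, hw1⟩ := (Subgroup.bot_or_exists_ne_one W₁).resolve_left D.hP.W₁_ne
  exact ⟨w, hw, hw1⟩

theorem UW_coprime : (Nat.card (fittingHallOf S)).Coprime (Nat.card ↥(U ⊔ W₁)) := by
  have hd : W₁ ⊓ U = ⊥ := by
    rw [← le_bot_iff, ← D.hP.W₁_compl.2.2.1, inf_comm (⁅S, S⁆)]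
    exact inf_le_inf_left _ D.U_le
  rw [sup_comm, Coprime.card_sup_of_le_normalizer D.hP.U_normal hd]
  exact Nat.Coprime.mul_right ((D.coprime_q.coprime_dvd_right (Subgroup.card_dvd_of_le D.H_le)).symm)
    D.coprime_H_U

/-- The order formula of (9.1) for an invariant subgroup of `P`. -/
theorem card_formula {X : Subgroup G} (hX : X ≤ fittingHallOf S)
    (hU : U ≤ Subgroup.normalizer (X : Set G)) (hW : W₁ ≤ Subgroup.normalizer (X : Set G)) :
    Nat.card X = Nat.card ↥(X ⊓ W₂) ^ Nat.card W₁ := by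
  have hsub : X ⊓ (U ⊔ W₁) = ⊥ := Coprime.disjoint_of_coprime_card
    (D.UW_coprime.coprime_dvd_left (Subgroup.card_dvd_of_le hX))
  have hUW : U ⊓ W₁ = ⊥ := by
    rw [← le_bot_iff, ← D.hP.W₁_compl.2.2.1]
    exact inf_le_inf_right _ D.U_le
  have hcU : X ⊓ Subgroup.centralizer (U : Set G) = ⊥ :=
    le_bot_iff.1 (D.free ▸ inf_le_inf_right _ hX)
  have hcW : X ⊓ Subgroup.centralizer (W₁ : Set G) = X ⊓ W₂ := by
    refine le_antisymm (fun x hx => ⟨hx.1, ?_⟩) fun x hx =>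
      ⟨hx.1, Subgroup.mem_centralizer_iff.2 fun w hw => D.commute_W₂ hw hx.2⟩
    obtain ⟨w, hw, hw1⟩ := D.exists_gen
    exact D.mem_W₂_of_commute hw hw1 (D.H_le (hX hx.1)) (Subgroup.mem_centralizer_iff.1 hx.2 w hw)
  haveI := D.solvable
  have hsolv : Group.IsSolvable X := Coprime.isSolvable_of_le (hX.trans D.H_le_S) inferInstance
  have h := Cfsg.Agent.S1545.result U W₁ X D.U_ne_bot D.hP.W₁_ne hUW
    (fun w hw u hu => D.conj_mem_U hw hu) (fun w hw hw1 u hu => D.eq_one_of_commute hw hw1 hu)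
    (fun x hx y hy => (Subgroup.mem_normalizer_iff.1 (sup_le hU hW hx) y).1 hy) hsub hsolv
    (D.UW_coprime.coprime_dvd_left (Subgroup.card_dvd_of_le hX))
  have hbot : X ⊓ Subgroup.centralizer ((U ⊔ W₁ : Subgroup G) : Set G) = ⊥ :=
    le_bot_iff.1 (hcU ▸ inf_le_inf_left _
      (Subgroup.centralizer_le (SetLike.coe_subset_coe.2 le_sup_left)))
  rwa [hbot, hcU, hcW, Subgroup.card_bot, one_pow, one_mul, mul_one] at h

/-- `U W₁` acts irreducibly on `P`. -/
theorem irred {X : Subgroup G} (hX : X ≤ fittingHallOf S)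
    (hU : U ≤ Subgroup.normalizer (X : Set G)) (hW : W₁ ≤ Subgroup.normalizer (X : Set G)) :
    X = ⊥ ∨ X = fittingHallOf S := by
  have h := D.card_formula hX hU hW
  rcases D.p_prime.eq_one_or_self_of_dvd _
    (Subgroup.card_dvd_of_le (inf_le_right : X ⊓ W₂ ≤ W₂)) with h' | h'
  · rw [h', one_pow] at h; exact Or.inl (Subgroup.card_eq_one.1 h)
  · refine Or.inr (Subgroup.eq_of_le_of_card_ge hX (le_of_eq ?_))
    rw [h, h', D.card_formula le_rfl (D.U_le_S.trans D.S_le_normalizer)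
      (D.W₁_le.trans D.S_le_normalizer), inf_eq_right.2 D.W₂_le]

theorem card_H : Nat.card (fittingHallOf S) = Nat.card W₂ ^ Nat.card W₁ := by
  rw [D.card_formula le_rfl (D.U_le_S.trans D.S_le_normalizer)
      (D.W₁_le.trans D.S_le_normalizer), inf_eq_right.2 D.W₂_le]

/-- A subgroup invariant under `S` and contained in `P`. -/
theorem eq_bot_or_eq {X : Subgroup G} (hX : X ≤ fittingHallOf S)
    (hn : ∀ g ∈ S, ∀ x ∈ X, g * x * g⁻¹ ∈ X) : X = ⊥ ∨ X = fittingHallOf S := by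
  refine D.irred hX (fun g hg => ?_) fun g hg => ?_ <;>
  · rw [Subgroup.mem_normalizer_iff]
    refine fun x => ⟨fun hx => hn g (by first | exact D.U_le_S hg | exact D.W₁_le hg) x hx, fun hx => ?_⟩
    have := hn g⁻¹ (S.inv_mem (by first | exact D.U_le_S hg | exact D.W₁_le hg)) _ hx
    simpa [mul_assoc] using this

theorem isPGroup_H : IsPGroup (Nat.card W₂) (fittingHallOf S) := IsPGroup.of_card D.card_H

theorem H_comm : ∀ a ∈ fittingHallOf S, ∀ b ∈ fittingHallOf S, a * b = b * a := by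
  haveI : Fact (Nat.card W₂).Prime := ⟨D.p_prime⟩
  haveI : Nontrivial (fittingHallOf S) := (Subgroup.nontrivial_iff_ne_bot _).2 D.H_ne_bot
  haveI := D.isPGroup_H.center_nontrivial
  let Z : Subgroup G := (Subgroup.center (fittingHallOf S)).map (fittingHallOf S).subtype
  have hn : ∀ g ∈ S, ∀ x ∈ Z, g * x * g⁻¹ ∈ Z := by
    intro g hg x hx
    obtain ⟨z, hz, rfl⟩ := hx
    refine ⟨⟨_, D.conj_mem_H hg z.2⟩, Subgroup.mem_center_iff.2 fun y => Subtype.ext ?_, rfl⟩
    have hy := D.conj_mem_H (S.inv_mem hg) y.2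
    have e := congrArg Subtype.val (Subgroup.mem_center_iff.1 hz ⟨_, hy⟩)
    simp only [Subgroup.coe_mul, inv_inv] at e ⊢
    calc (y : G) * (g * z * g⁻¹) = g * ((g⁻¹ * y * g) * z) * g⁻¹ := by group
      _ = g * (z * (g⁻¹ * y * g)) * g⁻¹ := by rw [e]
      _ = g * z * g⁻¹ * y := by group
  rcases D.eq_bot_or_eq (X := Z) (Subgroup.map_subtype_le _) hn with h | h
  · exact absurd h (by
      rw [Subgroup.map_eq_bot_iff_of_injective _ (fittingHallOf S).subtype_injective]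
      exact Subgroup.nontrivial_iff_ne_bot _ |>.1 inferInstance)
  · intro a ha b hb
    obtain ⟨a', ha', rfl⟩ : a ∈ Z := h.symm ▸ ha
    exact congrArg Subtype.val (Subgroup.mem_center_iff.1 ha' ⟨b, hb⟩).symm

theorem H_pow : ∀ x ∈ fittingHallOf S, x ^ Nat.card W₂ = 1 := by
  haveI : Fact (Nat.card W₂).Prime := ⟨D.p_prime⟩
  let Z : Subgroup G :=
    { carrier := {x | x ∈ fittingHallOf S ∧ x ^ Nat.card W₂ = 1}
      one_mem' := ⟨one_mem _, one_pow _⟩
      mul_mem' := fun {a b} ha hb => ⟨mul_mem ha.1 hb.1, by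
        rw [(show Commute a b from D.H_comm a ha.1 b hb.1).mul_pow, ha.2, hb.2, one_mul]⟩
      inv_mem' := fun {a} ha => ⟨inv_mem ha.1, by rw [inv_pow, ha.2, inv_one]⟩ }
  have hW : W₂ ≤ Z := fun x hx =>
    ⟨D.W₂_le hx, congrArg Subtype.val (pow_card_eq_one' (x := (⟨x, hx⟩ : W₂)))⟩
  rcases D.eq_bot_or_eq (X := Z) (fun x hx => hx.1) (fun g hg x hx => ⟨D.conj_mem_H hg hx.1, by
    rw [conj_pow, hx.2, mul_one, mul_inv_cancel]⟩) with h | h
  · exact fun _ _ => absurd (le_bot_iff.1 (h ▸ hW)) D.hP.selfNormalizing.2.1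
  · intro x hx
    exact ((show x ∈ Z from h.symm ▸ hx) :).2

theorem isElementaryAbelian : IsElementaryAbelian (Nat.card W₂) (fittingHallOf S) :=
  ⟨⟨⟨fun a b => Subtype.ext (D.H_comm a a.2 b b.2)⟩⟩,
    fun x hx => D.H_pow x hx⟩

/-! ### `C` and `F(S)` -/

theorem C_le : pairC S U ≤ U := inf_le_left

theorem C_comm_H {c x : G} (hc : c ∈ pairC S U) (hx : x ∈ fittingHallOf S) : c * x = x * c :=
  (Subgroup.mem_centralizer_iff.1 hc.2 x hx).symm

theorem conj_mem_C {w c : G} (hw : w ∈ W₁) (hc : c ∈ pairC S U) : w * c * w⁻¹ ∈ pairC S U := by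
  refine ⟨D.conj_mem_U hw hc.1, Subgroup.mem_centralizer_iff.2 fun x hx => ?_⟩
  have h := Subgroup.mem_centralizer_iff.1 hc.2 _ (D.conj_mem_H (S.inv_mem (D.W₁_le hw)) hx)
  rw [inv_inv] at h
  calc x * (w * c * w⁻¹) = w * ((w⁻¹ * x * w) * c) * w⁻¹ := by group
    _ = w * (c * (w⁻¹ * x * w)) * w⁻¹ := by rw [h]
    _ = w * c * w⁻¹ * x := by group

theorem mem_fittingOf {f : G} :
    f ∈ fittingOf S ↔ ∃ x ∈ fittingHallOf S, ∃ c ∈ pairC S U, f = x * c := by
  rw [typeP_fitting_eq D.hP, sup_comm,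
    Coprime.mem_sup_iff_of_le_normalizer' ((D.C_le.trans D.U_le_S).trans D.S_le_normalizer)]
  exact ⟨fun ⟨x, hx, c, hc, e⟩ => ⟨x, hx, c, hc, e.symm⟩,
    fun ⟨x, hx, c, hc, e⟩ => ⟨x, hx, c, hc, e.symm⟩⟩

theorem F_le : fittingOf S ≤ ⁅S, S⁆ := D.hP.fitting_le

theorem F_le_S : fittingOf S ≤ S := fittingOf_le S

theorem H_le_F : fittingHallOf S ≤ fittingOf S := fun x hx =>
  D.mem_fittingOf.2 ⟨x, hx, 1, one_mem _, (mul_one x).symm⟩

theorem C_le_F : pairC S U ≤ fittingOf S := fun c hc =>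
  D.mem_fittingOf.2 ⟨1, one_mem _, c, hc, (one_mul c).symm⟩

theorem W₂_le_F : W₂ ≤ fittingOf S := D.W₂_le.trans D.H_le_F

theorem conj_mem_F {g x : G} (hg : g ∈ S) (hx : x ∈ fittingOf S) : g * x * g⁻¹ ∈ fittingOf S :=
  (Subgroup.mem_normalizer_iff.1 (le_normalizer_fittingOf S hg) x).1 hx

theorem F_comm : ∀ a ∈ fittingOf S, ∀ b ∈ fittingOf S, a * b = b * a := by
  intro a ha b hb
  obtain ⟨x, hx, c, hc, rfl⟩ := D.mem_fittingOf.1 ha
  obtain ⟨y, hy, d, hd, rfl⟩ := D.mem_fittingOf.1 hb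
  have h1 : Commute x y := D.H_comm x hx y hy
  have h2 : Commute c d := D.U_comm c hc.1 d hd.1
  have h3 : Commute c y := D.C_comm_H hc hy
  have h4 : Commute x d := (D.C_comm_H hd hx).symm
  exact ((h1.mul_right h4).mul_left (h3.mul_right h2)).eq

theorem H_inf_C : fittingHallOf S ⊓ pairC S U = ⊥ :=
  le_bot_iff.1 (D.hP.U_compl.2.2.1 ▸ inf_le_inf_left _ D.C_le)

theorem card_F : Nat.card (fittingOf S) =
    Nat.card W₂ ^ Nat.card W₁ * Nat.card (pairC S U) := by
  rw [typeP_fitting_eq D.hP, sup_comm, Coprime.card_sup_of_le_normalizer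
    ((D.C_le.trans D.U_le_S).trans D.S_le_normalizer) ((inf_comm _ _).trans D.H_inf_C), D.card_H,
    mul_comm]

/-- A non-identity element of `F(S)` has its centralizer in `S`. -/
theorem centralizer_le {x : G} (hx : x ∈ fittingOf S) (hx1 : x ≠ 1) :
    Subgroup.centralizer ({x} : Set G) ≤ S := fun g hg => D.ti g x hx hx1 <| by
  rw [Subgroup.mem_centralizer_singleton_iff.1 hg, mul_inv_cancel_right]; exact hx

/-- A `W₁`-invariant subgroup of `U` centralising a non-identity element of `P` lies in `C`. -/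
theorem le_C {E : Subgroup G} (hE : E ≤ U) (hW : W₁ ≤ Subgroup.normalizer (E : Set G)) {x : G}
    (hx : x ∈ fittingHallOf S) (hx1 : x ≠ 1) (hc : ∀ e ∈ E, e * x = x * e) : E ≤ pairC S U := by
  set Y : Subgroup G := fittingHallOf S ⊓ Subgroup.centralizer (E : Set G) with hY
  have hUn : U ≤ Subgroup.normalizer (Y : Set G) := fun u hu => by
    rw [Subgroup.mem_normalizer_iff]
    intro y
    have hce : u ∈ Subgroup.centralizer (E : Set G) :=
      Subgroup.mem_centralizer_iff.2 fun e he => D.U_comm e (hE he) u hu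
    refine ⟨fun hy => ⟨D.conj_mem_H (D.U_le_S hu) hy.1,
      Subgroup.mul_mem _ (Subgroup.mul_mem _ hce hy.2) (Subgroup.inv_mem _ hce)⟩,
      fun hy => ⟨?_, ?_⟩⟩
    · simpa [mul_assoc] using D.conj_mem_H (S.inv_mem (D.U_le_S hu)) hy.1
    · simpa [mul_assoc] using
        Subgroup.mul_mem _ (Subgroup.mul_mem _ (Subgroup.inv_mem _ hce) hy.2) hce
  have key : ∀ v ∈ W₁, ∀ y ∈ Y, v * y * v⁻¹ ∈ Y := by
    refine fun v hv y hy => ⟨D.conj_mem_H (D.W₁_le hv) hy.1, Subgroup.mem_centralizer_iff.2 fun e he => ?_⟩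
    have he' : v⁻¹ * e * v ∈ E := by
      simpa using (Subgroup.mem_normalizer_iff.1 (hW (inv_mem hv)) e).1 he
    have h := Subgroup.mem_centralizer_iff.1 hy.2 _ he'
    calc e * (v * y * v⁻¹) = v * ((v⁻¹ * e * v) * y) * v⁻¹ := by group
      _ = v * (y * (v⁻¹ * e * v)) * v⁻¹ := by rw [h]
      _ = v * y * v⁻¹ * e := by group
  have hWn : W₁ ≤ Subgroup.normalizer (Y : Set G) := fun w hw => Subgroup.mem_normalizer_iff.2 fun y =>
    ⟨key w hw y, fun hy => by simpa [mul_assoc] using key w⁻¹ (inv_mem hw) _ hy⟩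
  rcases D.irred inf_le_left hUn hWn with h | h
  · refine absurd (Subgroup.mem_bot.1 (h ▸ ?_ : x ∈ (⊥ : Subgroup G))) hx1
    exact ⟨hx, Subgroup.mem_centralizer_iff.2 fun e he => hc e he⟩
  · refine fun e he => ⟨hE he, Subgroup.mem_centralizer_iff.2 fun y hy => ?_⟩
    have hy' : y ∈ Y := by show y ∈ fittingHallOf S ⊓ _; rw [h]; exact hy
    exact (Subgroup.mem_centralizer_iff.1 hy'.2 e he).symm

/-- The elements of `U` fixing a non-identity `W₁`-fixed element of `P` lie in `C`. -/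
theorem mem_C_of_commute {u x : G} (hu : u ∈ U) (hx : x ∈ W₂) (hx1 : x ≠ 1) (h : u * x = x * u) :
    u ∈ pairC S U := by
  refine D.le_C (E := U ⊓ Subgroup.centralizer ({x} : Set G)) inf_le_left ?_ (D.W₂_le hx) hx1
    (fun e he => Subgroup.mem_centralizer_singleton_iff.1 he.2)
    ⟨hu, Subgroup.mem_centralizer_singleton_iff.2 h⟩
  have key : ∀ v ∈ W₁, ∀ e ∈ U ⊓ Subgroup.centralizer ({x} : Set G),
      v * e * v⁻¹ ∈ U ⊓ Subgroup.centralizer ({x} : Set G) := fun v hv e he => by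
    refine ⟨D.conj_mem_U hv he.1, Subgroup.mem_centralizer_singleton_iff.2 ?_⟩
    have h1 : Commute v x := D.commute_W₂ hv hx
    have h2 : Commute e x := Subgroup.mem_centralizer_singleton_iff.1 he.2
    exact ((h1.mul_left h2).mul_left h1.inv_left).eq
  exact fun w hw => Subgroup.mem_normalizer_iff.2 fun e =>
    ⟨key w hw e, fun he => by simpa [mul_assoc] using key w⁻¹ (inv_mem hw) _ he⟩

/-- An element of `U` whose commutator with some non-identity element of `W₁` lies in `C` is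
itself in `C`. -/
theorem mem_C_of_commutator {w u : G} (hw : w ∈ W₁) (hw1 : w ≠ 1) (hu : u ∈ U)
    (h : u⁻¹ * (w * u * w⁻¹) ∈ pairC S U) : u ∈ pairC S U := by
  let f : ↥(pairC S U) → ↥(pairC S U) := fun c =>
    ⟨(c : G)⁻¹ * (w * c * w⁻¹), mul_mem (inv_mem c.2) (D.conj_mem_C hw c.2)⟩
  have hcomm : ∀ a ∈ U, ∀ b ∈ U, a * b = b * a := D.U_comm
  have hinj : Function.Injective f := by
    intro a b e
    have e' : (a : G)⁻¹ * (w * a * w⁻¹) = (b : G)⁻¹ * (w * b * w⁻¹) := congrArg Subtype.val e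
    refine Subtype.ext (inv_mul_eq_one.1 (D.eq_one_of_commute hw hw1
      (mul_mem (inv_mem b.2.1) a.2.1) ?_)).symm
    have h1 : w * ((b : G)⁻¹ * a) * w⁻¹ = (b : G)⁻¹ * a := by
      calc w * ((b : G)⁻¹ * a) * w⁻¹ = (w * b * w⁻¹)⁻¹ * (w * a * w⁻¹) := by group
        _ = (w * b * w⁻¹)⁻¹ * ((a : G) * ((b : G)⁻¹ * (w * b * w⁻¹))) := by rw [← e']; group
        _ = (w * b * w⁻¹)⁻¹ * (((b : G)⁻¹ * (w * b * w⁻¹)) * a) := by
            rw [hcomm (a : G) a.2.1 _ (mul_mem (inv_mem b.2.1) (D.conj_mem_U hw b.2.1))]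
        _ = (w * b * w⁻¹)⁻¹ * ((w * b * w⁻¹) * (b : G)⁻¹ * a) := by
            rw [hcomm (b : G)⁻¹ (inv_mem b.2.1) _ (D.conj_mem_U hw b.2.1)]
        _ = (b : G)⁻¹ * a := by group
    exact mul_inv_eq_iff_eq_mul.1 h1
  obtain ⟨c, hc⟩ := Finite.surjective_of_injective hinj ⟨_, h⟩
  have e : (c : G)⁻¹ * (w * c * w⁻¹) = u⁻¹ * (w * u * w⁻¹) := congrArg Subtype.val hc
  suffices u = c by rw [this]; exact c.2
  refine (inv_mul_eq_one.1 (D.eq_one_of_commute hw hw1 (mul_mem (inv_mem c.2.1) hu) ?_)).symm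
  have h1 : w * ((c : G)⁻¹ * u) * w⁻¹ = (c : G)⁻¹ * u := by
    calc w * ((c : G)⁻¹ * u) * w⁻¹ = (w * c * w⁻¹)⁻¹ * (w * u * w⁻¹) := by group
      _ = (w * c * w⁻¹)⁻¹ * (u * ((c : G)⁻¹ * (w * c * w⁻¹))) := by rw [e]; group
      _ = (w * c * w⁻¹)⁻¹ * (((c : G)⁻¹ * (w * c * w⁻¹)) * u) := by
          rw [hcomm u hu _ (mul_mem (inv_mem c.2.1) (D.conj_mem_U hw c.2.1))]
      _ = (w * c * w⁻¹)⁻¹ * ((w * c * w⁻¹) * (c : G)⁻¹ * u) := by
          rw [hcomm (c : G)⁻¹ (inv_mem c.2.1) _ (D.conj_mem_U hw c.2.1)]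
      _ = (c : G)⁻¹ * u := by group
  exact mul_inv_eq_iff_eq_mul.1 h1

/-- Only `C` moves a non-identity element of `W₂` inside `W₂`. -/
theorem mem_C_of_conj_mem {u x : G} (hu : u ∈ U) (hx : x ∈ W₂) (hx1 : x ≠ 1)
    (h : u * x * u⁻¹ ∈ W₂) : u ∈ pairC S U := by
  obtain ⟨w, hw, hw1⟩ := D.exists_gen
  refine D.mem_C_of_commutator hw hw1 hu (D.mem_C_of_commute
    (mul_mem (inv_mem hu) (D.conj_mem_U hw hu)) hx hx1 ?_)
  have h1 : Commute w x := D.commute_W₂ hw hx
  have h2 : Commute w (u * x * u⁻¹) := D.commute_W₂ hw h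
  have h3 : (w * u * w⁻¹) * x * (w * u * w⁻¹)⁻¹ = u * x * u⁻¹ := by
    calc (w * u * w⁻¹) * x * (w * u * w⁻¹)⁻¹ = w * u * (w⁻¹ * x * w) * u⁻¹ * w⁻¹ := by group
      _ = w * (u * x * u⁻¹) * w⁻¹ := by rw [h1.inv_left.eq, inv_mul_cancel_right]; group
      _ = u * x * u⁻¹ := by rw [h2.eq, mul_inv_cancel_right]
  calc u⁻¹ * (w * u * w⁻¹) * x
      = u⁻¹ * ((w * u * w⁻¹) * x * (w * u * w⁻¹)⁻¹) * (w * u * w⁻¹) := by group
    _ = x * (u⁻¹ * (w * u * w⁻¹)) := by rw [h3]; group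

theorem card_U :
    Nat.card (pairC S U) * (pairC S U).relIndex U = Nat.card U := by
  have h := Subgroup.relIndex_mul_relIndex ⊥ (pairC S U) U bot_le D.C_le
  rwa [Subgroup.relIndex_bot_left, Subgroup.relIndex_bot_left] at h

theorem card_S : Nat.card S =
    Nat.card W₂ ^ Nat.card W₁ * Nat.card U * Nat.card W₁ := by
  rw [← card_eq_of_isComplIn D.hP.W₁_compl, ← card_eq_of_isComplIn D.hP.U_compl, D.card_H]

theorem index_ne_one : (pairC S U).relIndex U ≠ 1 := fun h => by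
  have hle : U ≤ pairC S U := Subgroup.relIndex_eq_one.1 h
  refine D.H_ne_bot (le_bot_iff.1 (D.free ▸ le_inf le_rfl fun x hx => ?_))
  exact Subgroup.mem_centralizer_iff.2 fun u hu => D.C_comm_H (hle hu) hx

/-- A `W₁`-invariant subgroup of `U` has order `≡ 1 (mod q)`. -/
theorem card_modEq_one {X : Subgroup G} (hX : X ≤ U) (hW : W₁ ≤ Subgroup.normalizer (X : Set G)) :
    Nat.card X ≡ 1 [MOD Nat.card W₁] := by
  haveI : Fact (Nat.card W₁).Prime := ⟨D.q_prime⟩
  have hWp : IsPGroup (Nat.card W₁) W₁ := IsPGroup.of_card (n := 1) (pow_one _).symm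
  letI : MulAction W₁ X :=
    { smul := fun w x => ⟨(w : G) * x * (w : G)⁻¹, (Subgroup.mem_normalizer_iff.1 (hW w.2) _).1 x.2⟩
      one_smul := fun x => Subtype.ext (by show ((1 : W₁) : G) * x * ((1 : W₁) : G)⁻¹ = x; simp)
      mul_smul := fun v w x => Subtype.ext (by
        show ((v * w : W₁) : G) * x * ((v * w : W₁) : G)⁻¹ = v * (w * x * (w : G)⁻¹) * (v : G)⁻¹
        simp [mul_assoc]) }
  have h := hWp.card_modEq_card_fixedPoints X
  suffices hone : Nat.card (MulAction.fixedPoints W₁ X) = 1 by rwa [hone] at h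
  rw [Nat.card_eq_one_iff_unique]
  refine ⟨⟨fun a b => ?_⟩, ⟨⟨1, fun w => Subtype.ext (by
    show (w : G) * ((1 : X) : G) * (w : G)⁻¹ = _; simp)⟩⟩⟩
  obtain ⟨w, hw, hw1⟩ := D.exists_gen
  have hfix : ∀ a : MulAction.fixedPoints W₁ X, ((a.1 : X) : G) = 1 := fun a => by
    have h1 : w * ((a.1 : X) : G) * w⁻¹ = ((a.1 : X) : G) := congrArg Subtype.val (a.2 ⟨w, hw⟩)
    exact D.eq_one_of_commute hw hw1 (hX a.1.2) (mul_inv_eq_iff_eq_mul.1 h1)
  exact Subtype.ext (Subtype.ext ((hfix a).trans (hfix b).symm))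

theorem card_C_modEq : Nat.card (pairC S U) ≡ 1 [MOD Nat.card W₁] := by
  refine D.card_modEq_one D.C_le fun w hw => Subgroup.mem_normalizer_iff.2 fun c =>
    ⟨D.conj_mem_C hw, fun hc => ?_⟩
  simpa [mul_assoc] using D.conj_mem_C (inv_mem hw) hc

theorem index_modEq : (pairC S U).relIndex U ≡ 1 [MOD Nat.card W₁] := by
  have h := D.card_modEq_one le_rfl D.hP.U_normal
  rw [← D.card_U] at h
  have h2 := D.card_C_modEq.mul_right ((pairC S U).relIndex U)
  rw [one_mul] at h2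
  exact h2.symm.trans h

/-- (13.2c): `|U : C| (p - 1) ≤ p ^ q - 1`. -/
theorem index_mul_le :
    (pairC S U).relIndex U * (Nat.card W₂ - 1) ≤ Nat.card W₂ ^ Nat.card W₁ - 1 := by
  classical
  let f : (U ⧸ (pairC S U).subgroupOf U) × {x : W₂ // x ≠ 1} →
      {y : fittingHallOf S // y ≠ 1} := fun z =>
    ⟨⟨((z.1.out : U) : G) * ((z.2.1 : W₂) : G) * ((z.1.out : U) : G)⁻¹,
      D.conj_mem_H (D.U_le_S z.1.out.2) (D.W₂_le z.2.1.2)⟩, fun h => z.2.2 (Subtype.ext <| by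
        have h' := congrArg Subtype.val h
        simpa using h')⟩
  have hinj : Function.Injective f := by
    rintro ⟨a, x⟩ ⟨b, y⟩ h
    have h' : (a.out : G) * (x.1 : G) * (a.out : G)⁻¹ = (b.out : G) * (y.1 : G) * (b.out : G)⁻¹ :=
      congrArg (fun z : {y : fittingHallOf S // y ≠ 1} => ((z.1 : fittingHallOf S) : G)) h
    have h2 : ((b.out : G)⁻¹ * a.out) * (x.1 : G) * ((b.out : G)⁻¹ * a.out)⁻¹ = y.1 := by
      calc _ = (b.out : G)⁻¹ * ((a.out : G) * (x.1 : G) * (a.out : G)⁻¹) * b.out := by group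
        _ = y.1 := by rw [h']; group
    have hC : (b.out : G)⁻¹ * a.out ∈ pairC S U := D.mem_C_of_conj_mem
      (mul_mem (inv_mem b.out.2) a.out.2) x.1.2 (fun e => x.2 (Subtype.ext e)) (h2.symm ▸ y.1.2)
    have hab : a = b := by
      rw [← QuotientGroup.out_eq' a, ← QuotientGroup.out_eq' b]
      exact (QuotientGroup.eq.2
        (show b.out⁻¹ * a.out ∈ (pairC S U).subgroupOf U from hC)).symm
    subst hab
    refine Prod.ext rfl (Subtype.ext (Subtype.ext ?_))
    exact mul_left_cancel (mul_right_cancel h')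
  have hcard : ∀ H : Subgroup G, Nat.card {x : H // x ≠ 1} = Nat.card H - 1 := fun H => by
    haveI : Fintype H := Fintype.ofFinite H
    rw [Nat.card_eq_fintype_card, Nat.card_eq_fintype_card, Fintype.card_subtype_compl,
      Fintype.card_subtype_eq]
  have h := Nat.card_le_card_of_injective f hinj
  rw [Nat.card_prod, hcard, hcard, D.card_H] at h
  exact h

/-- For a member not normalising `U`, `|C|` divides `|U : C|`. -/
theorem card_C_dvd_index (hN : ¬ Subgroup.normalizer (U : Set G) ≤ S) :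
    Nat.card (pairC S U) ∣ (pairC S U).relIndex U := by
  obtain ⟨g, hg, hgS⟩ := SetLike.not_le_iff_exists.1 hN
  set C' : Subgroup G := (pairC S U).map (MulAut.conj g).toMonoidHom with hC'
  have hle : C' ≤ U := by
    rintro _ ⟨c, hc, rfl⟩
    exact (Subgroup.mem_normalizer_iff.1 hg c).1 hc.1
  have hd : C' ⊓ pairC S U = ⊥ := by
    refine (Subgroup.eq_bot_iff_forall _).2 ?_
    rintro _ ⟨⟨c, hc, rfl⟩, h2⟩
    by_cases hc1 : c = 1
    · simp [hc1]
    · exact absurd (D.ti g c (D.C_le_F hc) hc1 (D.C_le_F h2)) hgS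
  have hn : C' ≤ Subgroup.normalizer (pairC S U : Set G) := by
    refine le_trans ?_ (Subgroup.centralizer_le_normalizer _)
    exact fun x hx => Subgroup.mem_centralizer_iff.2 fun c hc => D.U_comm c hc.1 x (hle hx)
  have h := Subgroup.card_dvd_of_le (sup_le hle D.C_le)
  rw [Coprime.card_sup_of_le_normalizer hn hd, ← D.card_U,
    show Nat.card C' = Nat.card (pairC S U) from
      Subgroup.card_map_of_injective (MulAut.conj g).injective] at h
  exact Nat.dvd_of_mul_dvd_mul_left Nat.card_pos h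

end PairSide

end Cfsg.Agent.OddOrder.PF

namespace Cfsg.Agent.OddOrder.PF

open Cfsg Cfsg.Agent Cfsg.Agent.OddOrder

universe u
variable {G : Type u} [Group G] [Finite G] {S T W₁ W₂ U V : Subgroup G}

/-- Two complements `U`, `U'` of `S_F` in `S'` are conjugate in `S`. -/
theorem exists_conj_U (hM : Group.IsSolvable S) {W₁' U' W₂' : Subgroup G}
    (hP : IsTypePWith S W₁ U W₂) (hP' : IsTypePWith S W₁' U' W₂') :
    ∃ s ∈ S, U' = U.map (MulAut.conj s).toMonoidHom := by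
  have hUS : U ≤ S := hP.U_compl.2.1.trans S.commutator_le_self
  have hN : U ≤ Subgroup.normalizer (fittingHallOf S : Set G) :=
    hUS.trans (le_normalizer_map_subtype _)
  have hle : U' ≤ U ⊔ fittingHallOf S := fun u hu => by
    obtain ⟨x, hx, v, hv, rfl⟩ := hP.U_compl.2.2.2 u (hP'.U_compl.2.1 hu)
    exact Subgroup.mul_mem _ (Subgroup.mem_sup_right hx) (Subgroup.mem_sup_left hv)
  have hcard : Nat.card U' = Nat.card U := Nat.eq_of_mul_eq_mul_left Nat.card_pos
    ((card_eq_of_isComplIn hP'.U_compl).trans (card_eq_of_isComplIn hP.U_compl).symm)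
  obtain ⟨s, hs, e⟩ := Coprime.exists_conj_eq_of_le_sup hN hle hcard
    (coprime_fittingHallOf_of_inf_eq_bot hUS hP.U_compl.2.2.1).symm
    (Or.inl (Coprime.isSolvable_of_le (fittingHallOf_le S) hM))
  exact ⟨s, fittingHallOf_le S hs, e.symm⟩

/-- For Type II the given complement `U` is not normalised inside `S`. -/
theorem not_normalizer_le_of_typeII (hM : Group.IsSolvable S) (hP : IsTypePWith S W₁ U W₂)
    (hII : IsOfTypeII S) : ¬ Subgroup.normalizer (U : Set G) ≤ S := by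
  obtain ⟨W₁', U', W₂', hP', -, -, -, -, hN, -⟩ := hII
  obtain ⟨s, hs, rfl⟩ := exists_conj_U hM hP hP'
  intro hle
  refine hN fun g hg => ?_
  have h : s⁻¹ * g * s ∈ Subgroup.normalizer (U : Set G) := by
    rw [Subgroup.mem_normalizer_iff] at hg ⊢
    intro x
    have := hg (s * x * s⁻¹)
    simp only [Subgroup.mem_map_equiv] at this ⊢
    rw [MulAut.conj_symm_apply, MulAut.conj_symm_apply] at this
    simpa [mul_assoc] using this
  have := S.mul_mem (S.mul_mem hs (hle h)) (S.inv_mem hs)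
  simpa [mul_assoc] using this

/-- For Type II, `C_{S_F}(U) = 1`. -/
theorem free_of_typeII (hG : IsMinSimpleOddOrder G) (B : BGFacts G) (hS : IsCoatom S)
    (hM : Group.IsSolvable S) (hP : IsTypePWith S W₁ U W₂) (hII : IsOfTypeII S) (hU : U ≠ ⊥) :
    fittingHallOf S ⊓ Subgroup.centralizer (U : Set G) = ⊥ := by
  by_contra hne
  have hX : ((U : Set G) \ {1}).Nonempty := by
    obtain ⟨u, hu, hu1⟩ := (Subgroup.bot_or_exists_ne_one U).resolve_left hU
    exact ⟨u, hu, hu1⟩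
  have hc : Subgroup.centralizer ((U : Set G) \ {1}) = Subgroup.centralizer (U : Set G) := by
    refine le_antisymm (fun g hg => Subgroup.mem_centralizer_iff.2 fun x hx => ?_)
      (Subgroup.centralizer_le Set.sdiff_subset)
    by_cases h1 : x = 1
    · rw [h1, one_mul, mul_one]
    · exact Subgroup.mem_centralizer_iff.1 hg x ⟨hx, h1⟩
  obtain ⟨h1, h2⟩ := (B.s1390 S hS U (Or.inr ⟨hII, hP.U_compl⟩)).2.1 _ subset_rfl hX
    (by rwa [hc])
  rw [hc] at h1 h2
  refine not_normalizer_le_of_typeII hM hP hII fun g hg => ?_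
  have hcg : Subgroup.centralizer (U : Set G) ≤ S.map (MulAut.conj g).toMonoidHom := fun x hx => by
    refine ⟨g⁻¹ * x * g, h1 (Subgroup.mem_centralizer_iff.2 fun u hu => ?_), by simp [mul_assoc]⟩
    have hu' : g * u * g⁻¹ ∈ (U : Set G) := (Subgroup.mem_normalizer_iff.1 hg u).1 hu
    have e := Subgroup.mem_centralizer_iff.1 hx _ hu'
    calc u * (g⁻¹ * x * g) = g⁻¹ * ((g * u * g⁻¹) * x) * g := by group
      _ = g⁻¹ * (x * (g * u * g⁻¹)) * g := by rw [e]
      _ = g⁻¹ * x * g * u := by group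
  have heq := h2 _ (isCoatom_map (MulAut.conj g) hS) hcg
  rw [← normalizer_eq_of_normal hG hS le_rfl Subgroup.le_normalizer
    (fun h => hU (le_bot_iff.1 (h ▸ hP.U_compl.2.1.trans S.commutator_le_self)))]
  exact Subgroup.mem_normalizer_iff_map_conj_eq.2 heq

/-- The data of Peterfalvi 13 for the first member of a pair. -/
theorem pairSide (hG : IsMinSimpleOddOrder G) (B : BGFacts G) (hV : NoTypeV G) (hPP : PairPrimes G)
    (h3 : TypeIIIOnly G) (hK : TypeIIIKernel G) (P : TypePair S T W₁ W₂ U V) :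
    PairSide S W₁ U W₂ := by
  have hS := P.hS
  have hsol : Group.IsSolvable S := hG.2.2.2 S hS.1
  have h23 : IsOfTypeII S ∨ IsOfTypeIII S := by
    rcases P.hS25 with h | h | h | h
    · exact Or.inl h
    · exact Or.inr h
    · exact Or.inr (h3 S T W₁ W₂ U V P (Or.inr h)).1
    · exact absurd h (hV S hS)
  obtain ⟨W₁', U', W₂', hP', hU1, -, hTI, hcomm, -⟩ : ∃ W₁' U' W₂' : Subgroup G,
      IsTypePWith S W₁' U' W₂' ∧ U' ≠ ⊥ ∧ (Nat.card W₁').Prime ∧
        IsTISubset (fittingOf S : Set G) ∧ IsMulCommutative U' ∧ True := by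
    rcases h23 with h | h <;> obtain ⟨a, b, c, h1, h2, h3, h4, h5, -⟩ := h <;>
      exact ⟨a, b, c, h1, h2, h3, h4, h5, trivial⟩
  obtain ⟨s, hs, rfl⟩ := exists_conj_U hsol P.hSP hP'
  have hU : U ≠ ⊥ := fun h => hU1 (by rw [h, Subgroup.map_bot])
  have hne : fittingOf S ≠ ⊥ := fun h => (B.s1355 S hS).1 <| le_bot_iff.1 <| h ▸ by
    rw [(B.s1356 S hS).2.1]; exact le_sup_right
  refine
    { oddG := hG.1
      hS := hS
      solvable := hsol
      hP := P.hSP
      q_prime := (hPP S T W₁ W₂ U V P).1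
      p_prime := (hPP S T W₁ W₂ U V P).2
      U_comm := fun a ha b hb => ?_
      ti := fun g x hx hx1 hgx => ?_
      free := ?_ }
  · have h := congrArg Subtype.val (hcomm.is_comm.comm
      (⟨_, Subgroup.mem_map_of_mem (MulAut.conj s).toMonoidHom ha⟩ : ↥(U.map _))
      ⟨_, Subgroup.mem_map_of_mem (MulAut.conj s).toMonoidHom hb⟩)
    simp only [Subgroup.coe_mul, ← map_mul] at h
    exact (MulAut.conj s).injective h
  · by_contra hg
    refine hx1 (hTI g ?_ x hx hgx)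
    rwa [normalizer_eq_of_normal hG hS (fittingOf_le S) (le_normalizer_fittingOf S) hne]
  · rcases h23 with h | h
    · exact free_of_typeII hG B hS hsol P.hSP h hU
    · refine (Subgroup.eq_bot_iff_forall _).2 fun x hx => ?_
      obtain ⟨u, hu, hu1⟩ := (Subgroup.bot_or_exists_ne_one U).resolve_left hU
      exact hK S T W₁ W₂ U V P h u hu hu1 x hx.1 (Subgroup.mem_centralizer_iff.1 hx.2 u hu)

end Cfsg.Agent.OddOrder.PF
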