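import Cfsg.Agent.Lib.OddOrder.PF.S11_Final
import Cfsg.Agent.Lib.OddOrder.PF.S10_Basic
import Cfsg.Agent.Lib.OddOrder.PF.S10_PairPrimes
import Cfsg.Agent.Lib.OddOrder.HallFusion
import Cfsg.Agent.Lib.OddOrder.PF.S13_Setup

/-!
Peterfalvi (11.9) for the maximal subgroups of Type III or IV: the Type is III, `p < q`, `U` is
cyclic and acts without fixed points on `M_F`, which is elementary abelian of order `p ^ q`.
-/

set_option autoImplicit false
set_option linter.style.haveILetI false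

namespace Cfsg.Agent.OddOrder.PF

open Cfsg Cfsg.Agent Cfsg.Agent.OddOrder

universe u
variable {G : Type u} [Group G]

/-- A subgroup of Type III or IV has `U ≠ 1`, and indeed `U` does not centralise `M_F`. -/
theorem not_le_centralizer_of_34 [Finite G] (B : BGFacts G) {M W₁ U W₂ : Subgroup G}
    (hM : IsCoatom M) (hP : IsTypePWith M W₁ U W₂) (h34 : IsOfTypeIII M ∨ IsOfTypeIV M) :
    ¬ U ≤ Subgroup.centralizer (fittingHallOf M : Set G) := by
  intro hc
  haveI := hP.U_nilpotent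
  haveI := HallFusion.isNilpotent_fittingHallOf M
  have hcomm : ∀ (h : fittingHallOf M) (u : U), Commute (h : G) (u : G) := fun h u =>
    (Subgroup.mem_centralizer_iff.1 (hc u.2) h h.2)
  have hUK : U ≤ ⁅M, M⁆ := hP.U_compl.2.1
  have hHK : fittingHallOf M ≤ ⁅M, M⁆ := hP.U_compl.1
  let f : ↥(fittingHallOf M) × ↥U →* ↥(⁅M, M⁆ : Subgroup G) :=
    MonoidHom.noncommCoprod (Subgroup.inclusion hHK) (Subgroup.inclusion hUK)
      fun h u => Subtype.ext (hcomm h u).eq
  haveI hnil : Group.IsNilpotent ↥(⁅M, M⁆ : Subgroup G) := Group.nilpotent_of_surjective f fun x => by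
    obtain ⟨a, ha, b, hb, e⟩ := hP.U_compl.2.2.2 x x.2
    exact ⟨(⟨a, ha⟩, ⟨b, hb⟩), Subtype.ext e.symm⟩
  have hKM : (⁅M, M⁆ : Subgroup G) ≤ M := M.commutator_le_self
  have hle : (⁅M, M⁆ : Subgroup G).subgroupOf M ≤ fittingHall M := by
    refine le_sSup ⟨?_, ?_, ?_⟩
    · rw [← commutator_eq_subgroupOf]; infer_instance
    · exact Group.nilpotent_of_surjective (Subgroup.subgroupOfEquivOfLe hKM).symm.toMonoidHom
        (Subgroup.subgroupOfEquivOfLe hKM).symm.surjective
    · rw [← commutator_eq_subgroupOf, (index_commutator_eq hP).1, (index_commutator_eq hP).2]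
      exact (typeP_card_W₁_coprime hP).symm
  have he : fittingHallOf M = ⁅M, M⁆ := le_antisymm hHK fun x hx => ⟨⟨x, hKM hx⟩, hle hx, rfl⟩
  obtain ⟨K, V, hKV⟩ := exists_decomp B hM
  refine ((B.s1382 M hM K V hKV).1 h34).2.2 ?_
  rw [he, sigmaCore_eq_commutator B hM (by tauto : IsType345 M)]

/-- The configuration of Peterfalvi 11 in a subgroup of Type III or IV. -/
theorem eleven_of_34 [Finite G] (hG : IsMinSimpleOddOrder G) (B : BGFacts G)
    {M W₁ U W₂ : Subgroup G} (hM : IsCoatom M) (hP : IsTypePWith M W₁ U W₂)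
    (h34 : IsOfTypeIII M ∨ IsOfTypeIV M) (hq : (Nat.card W₁).Prime) (hp : (Nat.card W₂).Prime) :
    Eleven ((⁅M, M⁆ : Subgroup G).subgroupOf M) ((fittingHallOf M).subgroupOf M) (U.subgroupOf M)
      (W₁.subgroupOf M) (W₂.subgroupOf M) (Nat.card W₂) (Nat.card W₁) := by
  have P := primeDade_typeP hG B hM hP (not_typeI_of_typeIII_IV B hM h34) (Or.inr rfl)
  have hW₁M : W₁ ≤ M := hP.W₁_compl.2.1
  have hW₂M : W₂ ≤ M := le_sup_right.trans (typeP_W_le hP)
  have hKM : (⁅M, M⁆ : Subgroup G) ≤ M := M.commutator_le_self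
  have hUM : U ≤ M := hP.U_compl.2.1.trans hKM
  have hHM : fittingHallOf M ≤ M := fittingHallOf_le M
  have hcard : ∀ {X : Subgroup G}, X ≤ M → Nat.card (X.subgroupOf M) = Nat.card X := fun h =>
    Nat.card_congr (Subgroup.subgroupOfEquivOfLe h).toEquiv
  refine
    { p_prime := hp
      q_prime := hq
      odd := hG.1.of_dvd_nat (Subgroup.card_subgroup_dvd_card M)
      solvable := hG.2.2.2 M hM.1
      K_eq := (commutator_eq_subgroupOf M).symm
      K_inf_W := ?_
      K_sup_W := ?_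
      card_W := hcard hW₁M
      K_coprime := by rw [hcard hKM]; exact (typeP_card_W₁_coprime hP).symm
      H_normal := P.H_subgroupOf_normal
      H_nilpotent := ?_
      H_coprime := by
        rw [hcard hHM, hcard hUM]
        exact coprime_fittingHallOf_of_inf_eq_bot hUM hP.U_compl.2.2.1
      H_inf_U := ?_
      H_sup_U := ?_
      U_nilpotent := ?_
      W_normalizes := ?_
      U_not_centralizes := ?_
      W₂_le := fun x hx => (hP.W₂_le hx).1
      card_W₂ := hcard hW₂M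
      fixed := ?_
      derived_two_le := ?_ }
  · refine (Subgroup.eq_bot_iff_forall _).2 fun x hx => Subtype.ext ?_
    have h : (x : G) ∈ (⁅M, M⁆ : Subgroup G) ⊓ W₁ := hx
    rwa [hP.W₁_compl.2.2.1, Subgroup.mem_bot] at h
  · refine top_unique fun x _ => ?_
    obtain ⟨k, hk, w, hw, hkw⟩ := hP.W₁_compl.2.2.2 x x.2
    rw [show x = (⟨k, hKM hk⟩ : M) * ⟨w, hW₁M hw⟩ from Subtype.ext hkw]
    exact Subgroup.mul_mem _ (Subgroup.mem_sup_left hk) (Subgroup.mem_sup_right hw)
  · haveI := HallFusion.isNilpotent_fittingHallOf M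
    exact Group.nilpotent_of_surjective (Subgroup.subgroupOfEquivOfLe hHM).symm.toMonoidHom
      (Subgroup.subgroupOfEquivOfLe hHM).symm.surjective
  · refine (Subgroup.eq_bot_iff_forall _).2 fun x hx => Subtype.ext ?_
    have h : (x : G) ∈ fittingHallOf M ⊓ U := hx
    rwa [hP.U_compl.2.2.1, Subgroup.mem_bot] at h
  · refine le_antisymm (sup_le (fun x hx => hP.U_compl.1 hx) fun x hx => hP.U_compl.2.1 hx)
      fun x hx => ?_
    obtain ⟨a, ha, b, hb, e⟩ := hP.U_compl.2.2.2 x hx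
    rw [show x = (⟨a, hHM ha⟩ : M) * ⟨b, hUM hb⟩ from Subtype.ext e]
    exact Subgroup.mul_mem _ (Subgroup.mem_sup_left ha) (Subgroup.mem_sup_right hb)
  · haveI := hP.U_nilpotent
    exact Group.nilpotent_of_surjective (Subgroup.subgroupOfEquivOfLe hUM).symm.toMonoidHom
      (Subgroup.subgroupOfEquivOfLe hUM).symm.surjective
  · intro w hw
    refine Subgroup.mem_normalizer_iff.2 fun x => ?_
    show (x : G) ∈ U ↔ (w : G) * x * (w : G)⁻¹ ∈ U
    exact Subgroup.mem_normalizer_iff.1 (hP.U_normal hw) x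
  · intro h
    refine not_le_centralizer_of_34 B hM hP h34 fun u hu => Subgroup.mem_centralizer_iff.2 fun x hx => ?_
    exact congrArg Subtype.val
      (Subgroup.mem_centralizer_iff.1 (h (show (⟨u, hUM hu⟩ : M) ∈ U.subgroupOf M from hu))
        ⟨x, hHM hx⟩ hx)
  · intro x hx hx1
    ext y
    have h := SetLike.ext_iff.1 (hP.W₂_centralizer (x : G) hx fun h => hx1 (Subtype.ext h)) (y : G)
    simp only [Subgroup.mem_inf, Subgroup.mem_centralizer_singleton_iff, Subgroup.mem_subgroupOf]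
      at h ⊢
    rw [← h, Subtype.ext_iff, Subgroup.coe_mul, Subgroup.coe_mul]
  · intro x hx
    have h1 : (x : G) ∈ ⁅(⁅M, M⁆ : Subgroup G), (⁅M, M⁆ : Subgroup G)⁆ := by
      have := Subgroup.mem_map_of_mem M.subtype hx
      rwa [Subgroup.map_commutator, Subgroup.subgroupOf_map_subtype, inf_eq_left.2 hKM] at this
    have h2 := hP.derived_two_le h1
    have hn : M ⊓ Subgroup.centralizer (fittingHallOf M : Set G) ≤
        Subgroup.normalizer (fittingHallOf M : Set G) :=
      inf_le_right.trans (Subgroup.centralizer_le_normalizer _)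
    rw [sup_comm] at h2
    obtain ⟨c, hc, a, ha, e⟩ := (Coprime.mem_sup_iff_of_le_normalizer hn).1 h2
    rw [show x = (⟨c, hc.1⟩ : M) * ⟨a, hHM ha⟩ from Subtype.ext e.symm]
    refine Subgroup.mul_mem _ (Subgroup.mem_sup_right (Subgroup.mem_centralizer_iff.2 fun y hy => ?_))
      (Subgroup.mem_sup_left ha)
    exact Subtype.ext (Subgroup.mem_centralizer_iff.1 hc.2 (y : G) hy)

variable [Fintype G]

/-- Peterfalvi (11.7), (11.9): the structure of a subgroup of Type III or IV. -/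
theorem typeIII_facts (hG : IsMinSimpleOddOrder G) (B : BGFacts G) (hNC : NoCoherence345 G)
    {M W₁ U W₂ : Subgroup G} (hM : IsCoatom M) (hP : IsTypePWith M W₁ U W₂)
    (h34 : IsOfTypeIII M ∨ IsOfTypeIV M) (hq : (Nat.card W₁).Prime) (hp : (Nat.card W₂).Prime) :
    Nat.card W₂ < Nat.card W₁ ∧ IsCyclic U ∧
      fittingHallOf M ⊓ Subgroup.centralizer (U : Set G) = ⊥ ∧
      (∀ u ∈ U, u ≠ 1 → fittingHallOf M ⊓ Subgroup.centralizer ({u} : Set G) = ⊥) ∧
      IsMulCommutative (fittingHallOf M) ∧ (∀ x ∈ fittingHallOf M, x ^ Nat.card W₂ = 1) ∧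
      Nat.card (fittingHallOf M) = Nat.card W₂ ^ Nat.card W₁ := by
  classical
  letI : Fintype M := Fintype.ofFinite _
  have h345 : IsType345 M := by rcases h34 with h | h <;> [exact Or.inl h; exact Or.inr (Or.inl h)]
  have hI : ¬ IsOfTypeI' M := not_typeI_of_typeIII_IV B hM h34
  have P := primeDade_typeP hG B hM hP hI (Or.inr rfl)
  have hE := eleven_of_34 hG B hM hP h34 hq hp
  have hodd : Odd (Nat.card ↥(W₁ ⊔ W₂)) := P.oddW
  obtain ⟨η, hη⟩ := exists_isCyclicTIFamily hP.selfNormalizing hodd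
  obtain ⟨μ, δ, hμ⟩ := P.exists_muFamily
  haveI := (ann_facts hP.selfNormalizing).1
  letI : Fintype (Ann W₁ W₂ W₂) := Fintype.ofFinite _
  obtain ⟨Rs, hS, -, -⟩ := exists_system_typeP hG B hM hP hI (Or.inl rfl) hμ hη
  have hτ : ftTau M = ⇑(dadeLin (typeA' M ∪ classV M W₁ W₂) M (supportR M)) :=
    funext (ftTau_eq hP hI)
  have hncoh := hNC M hM h345
  rw [calS_eq_inducedIrrAbove B hM h345, hτ] at hS hncoh
  have key : ∀ K' : Subgroup M, K' = commutator ↥M →
      IsCoherenceSystem (inducedIrrAbove K' ⊥) ⇑(dadeLin (typeA' M ∪ classV M W₁ W₂) M (supportR M)) Rs ∧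
      ¬ IsCoherent (inducedIrrAbove K' ⊥) {1}ᶜ ⇑(dadeLin (typeA' M ∪ classV M W₁ W₂) M (supportR M)) :=
    fun K' h => by subst h; exact ⟨hS, hncoh⟩
  obtain ⟨hS', hncoh'⟩ := key _ (commutator_eq_subgroupOf M).symm
  obtain ⟨hab, hpow, hcardH, hbot, -, -⟩ := hE.summary hS' hncoh'
  have hmod := hE.index_modEq_one
  set u := (U.subgroupOf M ⊓ Subgroup.centralizer
    ((fittingHallOf M).subgroupOf M : Set M)).relIndex (U.subgroupOf M) with hu
  have hupos : 1 ≤ u := by have := hE.two_q_lt_index; omega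
  obtain ⟨n, hn⟩ := (Nat.modEq_iff_dvd' hupos).1 hmod.symm
  have X : ElevenCtx (typeA' M) M ⁅M, M⁆ (fittingHallOf M) (U.subgroupOf M) W₁ W₂ (supportR M) μ δ η
      (Nat.card W₂) (Nat.card W₁) n :=
    { prime := P
      cover := fun y hy hy1 => by
        rw [typeA_eq_commutator B hM h345]
        exact ⟨hy, fun e => hy1 (Subtype.ext e)⟩
      eleven := hE
      mu := hμ
      eta := hη
      odd := hG.1
      comm := hab
      bot := hbot
      num := by rw [mul_comm]; omega }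
  obtain ⟨hpq, hcyc, -, hsemi⟩ := X.main hS' hncoh'
  have hUM : U ≤ M := hP.U_compl.2.1.trans M.commutator_le_self
  have hHM : fittingHallOf M ≤ M := fittingHallOf_le M
  refine ⟨hpq, ?_, ?_, fun u hu hu1 => ?_, ?_, fun x hx => ?_, ?_⟩
  · exact isCyclic_of_surjective (Subgroup.subgroupOfEquivOfLe hUM).toMonoidHom
      (Subgroup.subgroupOfEquivOfLe hUM).surjective
  · refine (Subgroup.eq_bot_iff_forall _).2 fun x hx => ?_
    have h : (⟨x, hHM hx.1⟩ : M) ∈
        (fittingHallOf M).subgroupOf M ⊓ Subgroup.centralizer (U.subgroupOf M : Set M) :=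
      ⟨hx.1, Subgroup.mem_centralizer_iff.2 fun v hv =>
        Subtype.ext (Subgroup.mem_centralizer_iff.1 hx.2 (v : G) hv)⟩
    rw [hbot, Subgroup.mem_bot] at h
    exact congrArg Subtype.val h
  · refine (Subgroup.eq_bot_iff_forall _).2 fun x hx => ?_
    have h : (⟨x, hHM hx.1⟩ : M) ∈
        (fittingHallOf M).subgroupOf M ⊓ Subgroup.centralizer ({⟨u, hUM hu⟩} : Set M) :=
      ⟨hx.1, Subgroup.mem_centralizer_singleton_iff.2
        (Subtype.ext (Subgroup.mem_centralizer_singleton_iff.1 hx.2))⟩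
    rw [hsemi ⟨u, hUM hu⟩ hu fun e => hu1 (congrArg Subtype.val e), Subgroup.mem_bot] at h
    exact congrArg Subtype.val h
  · exact ⟨⟨fun a b => Subtype.ext (congrArg (fun z : ↥((fittingHallOf M).subgroupOf M) => ((z : M) : G))
      (hab.is_comm.comm ⟨⟨a, hHM a.2⟩, a.2⟩ ⟨⟨b, hHM b.2⟩, b.2⟩) :)⟩⟩
  · exact congrArg Subtype.val (hpow ⟨x, hHM hx⟩ hx)
  · rw [← Nat.card_congr (Subgroup.subgroupOfEquivOfLe hHM).toEquiv, hcardH]

/-- Peterfalvi (11.9). -/
theorem typeIIIOnly (hG : IsMinSimpleOddOrder G) (B : BGFacts G) (hNC : NoCoherence345 G)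
    (hPP : PairPrimes G) : TypeIIIOnly G := by
  intro S T W₁ W₂ U V P h34
  obtain ⟨hq, hp⟩ := hPP S T W₁ W₂ U V P
  refine ⟨h34.resolve_right fun hIV => ?_, (typeIII_facts hG B hNC P.hS P.hSP h34 hq hp).1⟩
  obtain ⟨W₁', U', W₂', hP', -, -, -, hU', -⟩ := hIV
  obtain ⟨s, -, e1, e2⟩ := typeP_W_conj P.hSP hP'
  have hc1 : Nat.card W₁' = Nat.card W₁ := by
    rw [e1, Subgroup.card_map_of_injective (MulAut.conj s).injective]
  have hc2 : Nat.card W₂' = Nat.card W₂ := by
    rw [e2, Subgroup.card_map_of_injective (MulAut.conj s).injective]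
  haveI := (typeIII_facts hG B hNC P.hS hP' h34 (hc1 ▸ hq) (hc2 ▸ hp)).2.1
  exact hU' ⟨⟨IsCyclic.commGroup.mul_comm⟩⟩

/-- Peterfalvi (11.7) (b): `U` acts without fixed points on the kernel of a member of Type III. -/
theorem typeIIIKernel (hG : IsMinSimpleOddOrder G) (B : BGFacts G) (hNC : NoCoherence345 G)
    (hPP : PairPrimes G) : TypeIIIKernel G := by
  intro S T W₁ W₂ U V P hIII u hu hu1 x hx hux
  obtain ⟨hq, hp⟩ := hPP S T W₁ W₂ U V P
  exact (Subgroup.eq_bot_iff_forall _).1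
    ((typeIII_facts hG B hNC P.hS P.hSP (Or.inl hIII) hq hp).2.2.2.1 u hu hu1) x
    ⟨hx, Subgroup.mem_centralizer_singleton_iff.2 (by first | exact hux | exact hux.symm)⟩

end Cfsg.Agent.OddOrder.PF
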