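import Cfsg.Agent.Lib.OddOrder.PF.S12_Witness
import Cfsg.Agent.Lib.OddOrder.PF.TypeOneCoherence
import Cfsg.Agent.Lib.OddOrder.DadeSeven
import Cfsg.Agent.Lib.OddOrder.CoherenceFrobenius
import Cfsg.Agent.Lib.Char.Linear

/-!
Peterfalvi (12.14): in the configuration of (12.8)-(12.10) the characters induced from the kernel of
the Frobenius group `L` are coherent, at least three of them have the degree `e = [L : H]`, and the
inverse Dade map of the image of such a character is the character itself on `A`.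
-/

set_option autoImplicit false
set_option linter.unusedSectionVars false
set_option linter.style.haveILetI false

namespace Cfsg.Agent.OddOrder.PF

open Cfsg Finset
open scoped ComplexConjugate

universe u

section Counting

/-- A prime dividing the order of a nilpotent group divides the index of the derived subgroup. -/
theorem prime_dvd_index_commutator {P : Type u} [Group P] [Finite P] [Group.IsNilpotent P] {p : ℕ}
    [hp : Fact p.Prime] (h : p ∣ Nat.card P) : p ∣ (commutator P).index := by
  by_contra hn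
  let S : Sylow p P := default
  haveI : (S : Subgroup P).Normal :=
    Sylow.normal_of_normalizerCondition Group.normalizerCondition_of_isNilpotent S
  obtain ⟨U, hU⟩ := Subgroup.exists_right_complement'_of_coprime (N := (S : Subgroup P)) S.card_coprime_index
  have hS : (S : Subgroup P) ≤ commutator P := by
    intro s hs
    rw [← QuotientGroup.eq_one_iff, ← orderOf_eq_one_iff]
    obtain ⟨k, hk⟩ := S.isPGroup' ⟨s, hs⟩
    refine Nat.eq_one_of_dvd_coprimes ((hp.out.coprime_iff_not_dvd.2 hn).pow_left k) ?_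
      (orderOf_dvd_natCard _)
    refine (orderOf_map_dvd (QuotientGroup.mk' (commutator P)) s).trans (orderOf_dvd_of_pow_eq_one ?_)
    exact congrArg Subtype.val hk
  have hUtop : U = ⊤ :=
    eq_top_of_commutator_sup U (top_le_iff.1 (hU.sup_eq_top ▸ sup_le_sup_right hS U))
  subst hUtop
  exact S.ne_bot_of_dvd_card h (Subgroup.isComplement'_top_right.1 hU)

variable {X : Type u} [Group X] [Fintype X] (K : Subgroup X) [K.Normal]

open scoped Classical in
/-- At most `[X : K]` irreducible characters of `K` induce the same irreducible character. -/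
theorem card_filter_indFun_le (S : Finset (IrrCharacter K)) (φ : X → ℂ) (hφ : classInner φ φ = 1) :
    (S.filter fun θ => indFun K θ.1 = φ).card ≤ K.index := by
  set F := S.filter fun θ => indFun K θ.1 = φ
  rcases F.eq_empty_or_nonempty with hF | ⟨θ₀, h₀⟩
  · rw [hF, Finset.card_empty]; exact Nat.zero_le _
  refine le_of_mul_le_mul_left ?_ (Nat.card_pos (α := K))
  rw [K.card_mul_index, mul_comm]
  have hfib : ∀ θ : F, Nat.card {g : X // Char.conjFun K θ₀.1 g = θ.1.1} = Nat.card K := by
    intro θ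
    have h := Char.card_mul_classInner_indFun_normal K θ.1.2 θ₀.2
    rw [(Finset.mem_filter.1 θ.2).2, (Finset.mem_filter.1 h₀).2, hφ, mul_one] at h
    exact_mod_cast h.symm
  calc F.card * Nat.card K = ∑ θ : F, Nat.card {g : X // Char.conjFun K θ₀.1 g = θ.1.1} := by
        rw [Finset.sum_congr rfl (fun θ _ => hfib θ), Finset.sum_const, Finset.card_univ,
          Fintype.card_coe, smul_eq_mul]
    _ = Nat.card (Σ θ : F, {g : X // Char.conjFun K θ₀.1 g = θ.1.1}) := by rw [Nat.card_sigma]
    _ ≤ Nat.card X := Nat.card_le_card_of_injective (fun z => z.2.1) fun z w h => by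
        obtain ⟨θ, g, hg⟩ := z
        obtain ⟨θ', g', hg'⟩ := w
        obtain rfl : g = g' := h
        obtain rfl : θ = θ' := Subtype.ext (Subtype.ext (hg.symm.trans hg'))
        rfl

open scoped Classical in
/-- There are many induced characters of degree `[X : K]` when `K` has many linear characters. -/
theorem exists_three_members (hirr : ∀ χ ∈ inducedIrrAbove K ⊥, IsIrrCharacter X χ)
    (hcount : 2 * K.index + 2 ≤ (commutator K).index) :
    ∃ ζ : Fin 3 → X → ℂ, Function.Injective ζ ∧
      ∀ i, ζ i ∈ inducedIrrAbove K ⊥ ∧ ζ i 1 = K.index := by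
  haveI : Fintype K := Fintype.ofFinite _
  set S := (Finset.univ.filter fun θ : IrrCharacter K => θ.1 1 = 1).erase (Char.trivialChar K)
  have hS : S.card + 1 = (commutator K).index := by
    have hmem : Char.trivialChar K ∈ Finset.univ.filter fun θ : IrrCharacter K => θ.1 1 = 1 :=
      Finset.mem_filter.2 ⟨Finset.mem_univ _, rfl⟩
    simp only [S]
    rw [Finset.card_erase_add_one hmem, ← Char.card_linear (G := K), Nat.card_eq_fintype_card,
      Fintype.card_subtype]
  set T := S.image fun θ => indFun K θ.1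
  have hT : ∀ φ ∈ T, φ ∈ inducedIrrAbove K ⊥ ∧ φ 1 = K.index := by
    intro φ hφ
    obtain ⟨θ, hθ, rfl⟩ := Finset.mem_image.1 hφ
    obtain ⟨hne, hlin⟩ := Finset.mem_erase.1 hθ
    refine ⟨⟨θ.1, θ.2, fun h => hne (Subtype.ext h), fun a ha => ?_, rfl⟩, ?_⟩
    · rw [show a = 1 from Subtype.ext (Subgroup.mem_bot.1 ha)]
    · rw [Char.indFun_apply_one, (Finset.mem_filter.1 hlin).2, mul_one]
  have hle : S.card ≤ K.index * T.card := Finset.card_le_mul_card_image S K.index fun φ hφ =>
    card_filter_indFun_le K S φ (Char.classInner_irr_self (hirr φ (hT φ hφ).1))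
  have h3 : 3 ≤ T.card := by
    by_contra h
    have := Nat.mul_le_mul_left K.index (show T.card ≤ 2 by omega)
    omega
  refine ⟨fun i => (T.equivFin.symm (Fin.castLE h3 i)).1, fun i j h => ?_, fun i => hT _ (Finset.coe_mem _)⟩
  exact Fin.castLE_injective h3 (T.equivFin.symm.injective (Subtype.ext h))

end Counting

section Twelve

variable {G : Type u} [Group G]

/-- The numerical facts on `e = [L : H]`, `h = |H|` and `p`. -/
theorem twelve_index_bound [Finite G] (hG : IsMinSimpleOddOrder G) (_B : BGFacts G) {M L : Subgroup G}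
    {x : G} {p : ℕ} (T : TwelveSetup M L x p) :
    5 ≤ p ∧ 3 ≤ (fittingHall L).index ∧ 2 * (fittingHall L).index ≤ p + 1 ∧
      p ^ 2 ≤ Nat.card (fittingHallOf L) ∧
      2 * (fittingHall L).index + 1 ≤ Nat.card (fittingHallOf L) := by
  have hp := T.prime
  obtain ⟨k, hk⟩ : Odd p := by
    refine hG.1.of_dvd_nat ?_
    rw [← T.x_order]
    exact orderOf_dvd_natCard x
  obtain ⟨l, hl⟩ : Odd (fittingHall L).index :=
    (odd_subgroup hG.1 L).of_dvd_nat (fittingHall L).index_dvd_card
  have h1 : (fittingHall L).index ≠ 1 := fun h => T.hLI.1.2.2.2.1 (Subgroup.index_eq_one.1 h)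
  set e := (fittingHall L).index with he
  have hco : Nat.Coprime e 2 := Nat.coprime_two_right.2 ⟨l, hl⟩
  have h2e : 2 * e ≤ p + 1 := by
    rcases T.index_dvd with h | h <;> rw [← he] at h
    · have := Nat.le_of_dvd (by have := hp.two_le; omega)
        (hco.dvd_of_dvd_mul_left (show e ∣ 2 * k by rwa [show p - 1 = 2 * k by omega] at h))
      omega
    · have := Nat.le_of_dvd (by omega)
        (hco.dvd_of_dvd_mul_left (show e ∣ 2 * (k + 1) by rwa [show p + 1 = 2 * (k + 1) by omega] at h))
      omega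
  obtain ⟨A, hA, -, hAc⟩ := T.square
  have hsq : p ^ 2 ≤ Nat.card (fittingHallOf L) :=
    hAc ▸ Nat.le_of_dvd Nat.card_pos (Subgroup.card_dvd_of_le (hA.trans T.inf_le))
  refine ⟨by omega, by omega, h2e, hsq, ?_⟩
  have : p + 2 ≤ p ^ 2 := by nlinarith [hp.two_le, (by omega : 5 ≤ p)]
  omega

variable [Fintype G]

/-- The coefficient of (7.8) vanishes when the kernel is large against its index. -/
theorem cohSetting_invDade_self {A : Set G} {L : Subgroup G} [Fintype L] {H : G → Subgroup G}
    {K : Subgroup L} {τ₁ : (L → ℂ) → G → ℂ} {ζ : L → ℂ} (hS : CohSetting A L H K τ₁ ζ)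
    (hsize : (K.index + 1) ^ 2 < Nat.card K) {y : L} (hy : (y : G) ∈ A) :
    invDade A L H (τ₁ ζ) y = ζ y := by
  obtain ⟨a, ha⟩ := hS.exists_coef
  suffices h0 : a = 0 by rw [hS.invDade_self ha hy, h0, Int.cast_zero, zero_add]
  have hN := hS.norm_invDade_self ha
  have hle := sum_normSq_invDade_le hS.dade
    (Char.IsGeneralizedCharacter.isClassFunction (hS.image_gen hS.mem))
  have hone : (Nat.card G : ℝ)⁻¹ * ∑ g, Complex.normSq (τ₁ ζ g) = 1 := by
    have h := (hS.image_inner hS.mem hS.mem).trans hS.norm_one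
    rw [Char.classInner_self] at h
    exact_mod_cast h
  have hle1 := hle.trans (le_of_le_of_eq (mul_le_mul_of_nonneg_left
    (Finset.sum_le_univ_sum_of_nonneg fun g => Complex.normSq_nonneg _) (inv_nonneg.2 (Nat.cast_nonneg _))) hone)
  rw [hN] at hle1
  by_contra hne
  have he : (0 : ℝ) < K.index := Nat.cast_pos.2 (Nat.pos_of_ne_zero Subgroup.index_ne_zero_of_finite)
  have hh : (0 : ℝ) < Nat.card K := Nat.cast_pos.2 Nat.card_pos
  have hbig : ((K.index : ℝ) + 1) ^ 2 + 1 ≤ Nat.card K := by exact_mod_cast hsize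
  have ha1 : (1 : ℝ) ≤ (a : ℝ) ^ 2 := by
    have h := Int.one_le_abs hne
    have h' : (1 : ℤ) ≤ a ^ 2 := by rw [← sq_abs]; nlinarith
    exact_mod_cast h'
  have ha2 : (a : ℝ) ≤ (a : ℝ) ^ 2 := by exact_mod_cast Int.le_self_sq a
  have hkey : (a : ℝ) ^ 2 * (((Nat.card K : ℝ) - 1) / K.index) - 2 * a ≤ K.index := by
    have h : ((a : ℝ) ^ 2 * (((Nat.card K : ℝ) - 1) / K.index) - 2 * a) / Nat.card K ≤
        (K.index : ℝ) / Nat.card K := by linarith
    exact (div_le_div_iff_of_pos_right hh).1 h
  have hkey' : (a : ℝ) ^ 2 * ((Nat.card K : ℝ) - 1) ≤ (K.index : ℝ) ^ 2 + 2 * a * K.index := by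
    have h := mul_le_mul_of_nonneg_right hkey he.le
    rw [sub_mul, mul_assoc, div_mul_cancel₀ _ he.ne'] at h
    linarith
  nlinarith [mul_le_mul_of_nonneg_left hbig (sq_nonneg (a : ℝ)), mul_le_mul_of_nonneg_right ha2 he.le,
    mul_le_mul_of_nonneg_right ha1 (sq_nonneg (K.index : ℝ))]

/-- Peterfalvi (12.14): coherence, three members of degree `e`, and their inverse Dade images. -/
theorem exists_cohData (hG : IsMinSimpleOddOrder G) (B : BGFacts G) {M L : Subgroup G} {x : G}
    {p : ℕ} [Fintype L] (T : TwelveSetup M L x p) :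
    ∃ (τ₁ : (L → ℂ) → G → ℂ) (ζ : Fin 3 → L → ℂ), Function.Injective ζ ∧
      (∀ i, CohSetting (typeA' L) L (supportR L) (fittingHall L) τ₁ (ζ i)) ∧
      (∀ i, IsGeneralizedCharacter G (τ₁ (ζ i))) ∧
      (∀ i j, classInner (τ₁ (ζ i)) (τ₁ (ζ j)) = if i = j then 1 else 0) ∧
      (∀ i, ∀ y : L, (y : G) ∈ typeA' L →
        invDade (typeA' L) L (supportR L) (τ₁ (ζ i)) y = ζ i y) := by
  classical
  have hD := dadeHypothesis_typeSet B T.hL (A := typeA' L) (Or.inr (Or.inl rfl))
  obtain ⟨hirr, -, τ₁, hiso, hext⟩ := typeI_frobenius_coherent hG L T.hL T.hLI T.frob hD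
  obtain ⟨hp5, he3, h2e, hsq, -⟩ := twelve_index_bound hG B T
  rw [card_fittingHallOf] at hsq
  set K := fittingHall ↥L with hKdef
  have hC : CentIn K := centIn_fittingHall T.frob
  haveI : Group.IsNilpotent K := isNilpotent_of_cent hC T.hLI.1.2.2.1 T.hLI.1.2.2.2.1
  haveI := Fact.mk T.prime
  have hpK : p ∣ Nat.card K := by
    rw [← card_fittingHallOf L, ← T.x_order]
    exact Subgroup.orderOf_dvd_natCard _ T.x_kernel
  have hcount : 2 * K.index + 2 ≤ (commutator K).index := by
    obtain ⟨c, hc⟩ := prime_dvd_index_commutator (p := p) hpK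
    obtain ⟨k, hk⟩ : Odd (p * c) := hc ▸
      ((odd_subgroup hG.1 L).of_dvd_nat K.card_subgroup_dvd_card).of_dvd_nat (commutator K).index_dvd_card
    have hc1 : c ≠ 1 := by
      intro h
      rw [h, mul_one] at hc
      have h0 := commutator_eq_bot_of_index_prime (P := K) (hc ▸ T.prime)
      rw [h0, Subgroup.index_bot] at hc
      rw [hc] at hsq
      nlinarith
    obtain ⟨m, hm⟩ : Odd c := (show Odd (p * c) from ⟨k, hk⟩).of_dvd_nat ⟨p, mul_comm p c⟩
    have h3 : p * 3 ≤ p * c := Nat.mul_le_mul_left p (by omega)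
    omega
  obtain ⟨ζ, hζ, hmem⟩ := exists_three_members K hirr hcount
  have hA : typeA' L = (fittingHallOf L : Set G) \ {1} := typeA_eq_of_frobenius T.hLI T.frob
  have hcoh : ∀ i, CohSetting (typeA' L) L (supportR L) K τ₁ (ζ i) := fun i =>
    { dade := hD
      support := fun y => by
        rw [hA, Set.mem_sdiff, Set.mem_singleton_iff, SetLike.mem_coe, OneMemClass.coe_eq_one,
          ← Subgroup.mem_subgroupOf, subgroupOf_fittingHallOf]
      normal := inferInstance
      isometry := hiso
      extends_dade := hext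
      mem := (hmem i).1
      norm_one := Char.classInner_irr_self (hirr _ (hmem i).1)
      apply_one := (hmem i).2
      exists_other := ⟨ζ (i + 1), (hmem _).1,
        fun h => absurd (hζ h) ((by decide : ∀ i : Fin 3, i + 1 ≠ i) i),
        ((hmem _).2).trans (hmem i).2.symm⟩ }
  refine ⟨τ₁, ζ, hζ, hcoh, fun i => (hcoh i).image_gen (hmem i).1, fun i j => ?_, fun i y hy => ?_⟩
  · rw [(hcoh i).image_inner (hmem i).1 (hmem j).1]
    rcases eq_or_ne i j with rfl | hij
    · rw [if_pos rfl, (hcoh i).norm_one]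
    · rw [if_neg hij, indIrr_inner K (hmem i).1 (hmem j).1 (fun h => hij (hζ h))]
  · refine cohSetting_invDade_self (hcoh i) ?_ hy
    nlinarith

end Twelve

end Cfsg.Agent.OddOrder.PF
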