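import Cfsg.Agent.Lib.OddOrder.PF.S12_Orth

/-!
Peterfalvi (12.15)-(12.16): the configuration of (12.8) is contradictory, given the coherent images
from the Frobenius group `L`.
-/

set_option autoImplicit false
set_option linter.unusedSectionVars false
set_option linter.style.haveILetI false

namespace Cfsg.Agent.OddOrder.PF

open Cfsg Cfsg.Agent Finset
open scoped ComplexConjugate

universe u

/-- A group of prime order without fixed points on `N` makes `|N| ≡ 1`. -/
theorem card_modEq_one_of_free {X : Type u} [Group X] [Finite X] {p : ℕ} [hp : Fact p.Prime]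
    (N : Subgroup X) [N.Normal] {a : X} (ha : orderOf a = p)
    (hfree : ∀ n ∈ N, a * n = n * a → n = 1) : Nat.card N ≡ 1 [MOD p] := by
  classical
  letI : MulAction (Subgroup.zpowers a) N :=
    MulAction.compHom N ((MulAut.conjNormal (H := N)).comp (Subgroup.zpowers a).subtype)
  have hsmul : ∀ (s : Subgroup.zpowers a) (n : N), ((s • n : N) : X) = (s : X) * n * (s : X)⁻¹ :=
    fun s n => MulAut.conjNormal_apply (s : X) n
  have hP : IsPGroup p (Subgroup.zpowers a) :=
    IsPGroup.of_card (n := 1) (by rw [Nat.card_zpowers, ha, pow_one])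
  have h := hP.card_modEq_card_fixedPoints N
  suffices h1 : Nat.card (MulAction.fixedPoints (Subgroup.zpowers a) N) = 1 by rwa [h1] at h
  have key : ∀ n : MulAction.fixedPoints (Subgroup.zpowers a) N, (n : N) = 1 := by
    rintro ⟨n, hn⟩
    have h1 := congrArg Subtype.val (hn ⟨a, Subgroup.mem_zpowers a⟩)
    rw [hsmul] at h1
    exact Subtype.ext (hfree n n.2 (mul_inv_eq_iff_eq_mul.1 h1))
  rw [Nat.card_eq_one_iff_unique]
  exact ⟨⟨fun s t => Subtype.ext ((key s).trans (key t).symm)⟩,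
    ⟨⟨1, fun s => Subtype.ext ((hsmul s 1).trans (by simp))⟩⟩⟩

theorem cosetAvg_bot {X : Type u} [Group X] [Fintype X] (F : X → ℂ) (k : X) :
    cosetAvg F ⊥ k = F k := by
  haveI : Unique (⊥ : Subgroup X) := ⟨⟨1⟩, fun a => Subtype.ext (Subgroup.mem_bot.1 a.2)⟩
  rw [cosetAvg_eq_sum, Fintype.sum_unique,
    show ((default : (⊥ : Subgroup X)) : X) = 1 from Subgroup.mem_bot.1 (SetLike.coe_mem _)]
  simp

/-- The final inequality of (12.16). -/
theorem twelve_numeric {p e N : ℕ} {b : ℤ} (hp : 2 ≤ p) (he : 3 ≤ e) (hep : 2 * e ≤ p + 1)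
    (hN : 2 ≤ N) (hNp : p ∣ N - 1) (hb : (p : ℤ) ∣ b - e)
    (hineq : ((N : ℤ) - 1) * b ^ 2 ≤ e * N) : False := by
  have hN1 : p ≤ N - 1 := Nat.le_of_dvd (by omega) hNp
  have hN1' : (p : ℤ) ≤ (N : ℤ) - 1 := by omega
  have hb2 : b ^ 2 ≤ e := by
    by_contra h
    push Not at h
    have h1 : ((N : ℤ) - 1) * (e + 1) ≤ ((N : ℤ) - 1) * b ^ 2 :=
      mul_le_mul_of_nonneg_left (by omega) (by omega)
    nlinarith
  obtain ⟨c, hc⟩ := hb
  rcases lt_trichotomy c 0 with hc0 | hc0 | hc0
  · have h1 : b ≤ (e : ℤ) - p := by nlinarith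
    have h2 : b ≤ 1 - (e : ℤ) := by omega
    nlinarith
  · subst hc0
    rw [mul_zero, sub_eq_zero] at hc
    subst hc
    nlinarith
  · have h1 : (e : ℤ) + p ≤ b := by nlinarith
    nlinarith

variable {G : Type u} [Group G] [Fintype G] {M L : Subgroup G} {x : G} {p : ℕ}

theorem twelve_not_dvd_kernel (hG : IsMinSimpleOddOrder G) (B : BGFacts G)
    (T : TwelveSetup M L x p) : ¬ p ∣ Nat.card (fittingHall M) := by
  rw [← card_fittingHallOf]
  exact not_dvd_fittingHall_of_not_sigma hG B T.hM T.hMI T.prime T.p_not_sigma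

theorem twelve_x_ne_one (T : TwelveSetup M L x p) : x ≠ 1 := fun h =>
  T.prime.ne_one (by rw [← T.x_order, h, orderOf_one])

theorem twelve_exists_u0 (T : TwelveSetup M L x p) :
    ∃ u₀ : M, u₀ ∈ fittingHall M ∧ u₀ ∉ ⁅fittingHall M, fittingHall M⁆ ∧
      x * (u₀ : G) = (u₀ : G) * x := by
  obtain ⟨g, ⟨hgK, hgx⟩, hg⟩ := SetLike.not_le_iff_exists.1 T.not_le
  obtain ⟨u, hu, rfl⟩ := hgK
  refine ⟨u, hu, fun h => hg ?_, (Subgroup.mem_centralizer_singleton_iff.1 hgx).symm⟩
  rw [fittingHallOf, ← Subgroup.map_commutator]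
  exact Subgroup.mem_map_of_mem _ h

variable [Fintype M] [Fintype L]

theorem twelve_isIntegral (B : BGFacts G) (T : TwelveSetup M L x p) {χ : G → ℂ}
    (hχ : IsGeneralizedCharacter G χ) (a : M) :
    IsIntegral ℤ (invDade (typeA' M) M (supportR M) χ a) := by
  by_cases ha : (a : G) ∈ typeA' M
  · rw [invDade_of_mem ha]
    have hR := (supportR_spec B T.hM (Or.inl rfl) ha).1
    have hz : Subgroup.zpowers (a : G) ≤ Subgroup.normalizer (supportR M (a : G) : Set G) :=
      Subgroup.zpowers_le.2 (hR (Subgroup.mem_centralizer_singleton_iff.2 rfl))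
    exact CharInt.isIntegral_genChar
      (isGeneralizedCharacter_cosetAvg hχ (Subgroup.zpowers (a : G)) (supportR M (a : G))
        fun n hn v hv => (Subgroup.mem_normalizer_iff.1 (hz hn) v).1 hv)
      ⟨(a : G), Subgroup.mem_zpowers _⟩
  · rw [invDade_of_notMem ha]; exact isIntegral_zero

/-- On `x C_K(x)` the inverse image is the function itself. -/
theorem twelve_invDade_mul (hG : IsMinSimpleOddOrder G) (B : BGFacts G) (T : TwelveSetup M L x p)
    (χ : G → ℂ) {v : M} (hv : v ∈ fittingHall M) (hxv : x * (v : G) = (v : G) * x) :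
    invDade (typeA' M) M (supportR M) χ (⟨x, T.x_mem⟩ * v) = χ (x * (v : G)) := by
  have hcop : (orderOf x).Coprime (orderOf (v : G)) := by
    rw [T.x_order]
    refine (T.prime.coprime_iff_not_dvd.2 fun h => twelve_not_dvd_kernel hG B T ?_)
    rw [Subgroup.orderOf_coe] at h
    exact h.trans (Subgroup.orderOf_dvd_natCard _ hv)
  have hC : Subgroup.centralizer ({x * (v : G)} : Set G) ≤ M := fun c hc => T.cent_le
    (Subgroup.mem_centralizer_singleton_iff.2
      (mem_centralizer_of_mul_commute hxv hcop (Subgroup.mem_centralizer_singleton_iff.1 hc)).eq)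
  have hA : ((⟨x, T.x_mem⟩ * v : M) : G) ∈ typeA' M := by
    obtain ⟨u, hu, hu', hxu⟩ := twelve_exists_u0 T
    rw [twelve_typeA_M T]
    refine ⟨Subtype.coe_prop _, fun h => T.x_notMem ?_, ?_⟩
    · rw [show x = (v : G)⁻¹ from eq_inv_of_mul_eq_one_left h]
      exact inv_mem ⟨v, hv, rfl⟩
    · by_cases hv1 : (v : G) = 1
      · refine ⟨(u : G), ⟨u, hu, rfl⟩, fun h => hu' ?_, ?_⟩
        · rw [show u = 1 from Subtype.ext h]; exact one_mem _
        · show x * (v : G) * u = u * (x * (v : G))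
          rw [hv1, mul_one, hxu]
      · refine ⟨(v : G), ⟨v, hv, rfl⟩, hv1, ?_⟩
        show x * (v : G) * v = v * (x * (v : G))
        rw [← mul_assoc, ← hxv]
  rw [invDade_of_mem hA]
  show cosetAvg χ (supportR M (x * (v : G))) (x * (v : G)) = _
  rw [supportR_eq_bot hC, cosetAvg_bot]

/-- The sum over `x u K'` for `u ∈ K`. -/
theorem twelve_sum_outside (hG : IsMinSimpleOddOrder G) (B : BGFacts G) (T : TwelveSetup M L x p)
    [Fintype (fittingHall M)] [Fintype ↥(⁅fittingHall M, fittingHall M⁆)] {χ : G → ℂ}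
    (hχ : IsClassFunction G χ) {u : M} (hu : u ∈ fittingHall M)
    (hconst : ∀ y y' : M, y ∉ fittingHall M → y⁻¹ * y' ∈ fittingHall M →
      cosetSum (fittingHall M) (invDade (typeA' M) M (supportR M) χ) y =
        cosetSum (fittingHall M) (invDade (typeA' M) M (supportR M) χ) y')
    (xL : L) (hxL : (xL : G) = x) :
    cosetSum (fittingHall M) (invDade (typeA' M) M (supportR M) χ) (⟨x, T.x_mem⟩ * u) =
      (Nat.card ↥⁅fittingHall M, fittingHall M⁆ : ℂ) *
        invDade (typeA' L) L (supportR L) χ xL := by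
  classical
  set f := invDade (typeA' M) M (supportR M) χ with hf
  set xM : M := ⟨x, T.x_mem⟩ with hxM
  have hD := dadeHypothesis_typeSet B T.hM (A := typeA' M) (Or.inr (Or.inl rfl))
  have hfc : IsClassFunction M f := isClassFunction_invDade hD hχ
  have hxK : xM ∉ fittingHall M := fun h => T.x_notMem ⟨xM, h, rfl⟩
  have hyK : xM * u ∉ fittingHall M := fun h =>
    hxK (by simpa using (fittingHall M).mul_mem h (inv_mem hu))
  have hle : ∀ c : ↥⁅fittingHall M, fittingHall M⁆, (c : M) ∈ fittingHall M := fun c =>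
    Subgroup.commutator_le_self (fittingHall M) c.2
  have h1 : (Nat.card ↥⁅fittingHall M, fittingHall M⁆ : ℂ) *
      ∑ w : fittingHall M, f (xM * w) =
      (Nat.card (fittingHall M) : ℂ) * cosetSum (fittingHall M) f (xM * u) := by
    have h2 : ∀ w : fittingHall M, cosetSum (fittingHall M) f (xM * w) =
        cosetSum (fittingHall M) f (xM * u) := fun w =>
      (hconst _ _ hyK (by
        rw [mul_inv_rev, mul_assoc, inv_mul_cancel_left]
        exact (fittingHall M).mul_mem (inv_mem hu) w.2)).symm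
    have h3 : ∑ w : fittingHall M, cosetSum (fittingHall M) f (xM * w) =
        (Nat.card (fittingHall M) : ℂ) * cosetSum (fittingHall M) f (xM * u) := by
      rw [Finset.sum_congr rfl fun w _ => h2 w, Finset.sum_const, Finset.card_univ, nsmul_eq_mul,
        Nat.card_eq_fintype_card]
    rw [← h3]
    simp only [cosetSum]
    rw [Finset.sum_comm, Finset.sum_congr rfl (s₁ := (Finset.univ : Finset ↥⁅fittingHall M, fittingHall M⁆))
      (g := fun _ => ∑ w : fittingHall M, f (xM * w)) fun c _ =>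
        Fintype.sum_equiv (Equiv.mulRight (⟨c, hle c⟩ : fittingHall M)) _ _ fun w => ?_,
      Finset.sum_const, Finset.card_univ, nsmul_eq_mul, Nat.card_eq_fintype_card]
    simp [mul_assoc]
  -- the average over `x K`
  have hcop : (Nat.card (fittingHall M)).Coprime (orderOf xM) := by
    rw [← Subgroup.orderOf_coe, show ((xM : M) : G) = x from rfl, T.x_order]
    exact (T.prime.coprime_iff_not_dvd.2 (twelve_not_dvd_kernel hG B T)).symm
  have havg : cosetAvg f (fittingHall M) xM = invDade (typeA' L) L (supportR L) χ xL := by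
    have hxA : (xL : G) ∈ typeA' L := by
      rw [hxL, twelve_typeA_L T]; exact ⟨T.x_kernel, twelve_x_ne_one T⟩
    rw [cosetAvg_centralizer hfc (fittingHall M)
      (fun z hz => (inferInstance : (fittingHall M).Normal).conj_mem z hz xM) hcop,
      invDade_of_mem hxA, hxL, T.R_eq, cosetAvg_eq_sum, cosetAvg_eq_sum]
    have hmem : ∀ a : M, a ∈ fittingHall M ⊓ Subgroup.centralizer ({xM} : Set M) ↔
        (a : G) ∈ fittingHallOf M ⊓ Subgroup.centralizer ({x} : Set G) := fun a => by
      rw [Subgroup.mem_inf, Subgroup.mem_inf, Subgroup.mem_centralizer_singleton_iff,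
        Subgroup.mem_centralizer_singleton_iff, ← subgroupOf_fittingHallOf M,
        Subgroup.mem_subgroupOf, Subtype.ext_iff]
      rfl
    let e : ↥(fittingHall M ⊓ Subgroup.centralizer ({xM} : Set M)) →
        ↥(fittingHallOf M ⊓ Subgroup.centralizer ({x} : Set G)) :=
      fun a => ⟨((a : M) : G), (hmem a.1).1 a.2⟩
    have he : Function.Bijective e :=
      ⟨fun a b h => Subtype.ext (Subtype.ext (congrArg
          (fun t : ↥(fittingHallOf M ⊓ Subgroup.centralizer ({x} : Set G)) => (t : G)) h)),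
        fun b => ⟨⟨⟨b, fittingHallOf_le M b.2.1⟩, (hmem _).2 b.2⟩, rfl⟩⟩
    rw [Nat.card_eq_of_bijective e he]
    congr 1
    refine Fintype.sum_equiv (Equiv.ofBijective e he) _ _ fun a => ?_
    exact twelve_invDade_mul hG B T χ a.2.1
      (Subgroup.mem_centralizer_singleton_iff.1 ((hmem a.1).1 a.2).2).symm
  rw [← havg, cosetAvg_eq_sum, ← mul_assoc, mul_comm (Nat.card ↥⁅fittingHall M, fittingHall M⁆ : ℂ),
    mul_assoc, h1, ← mul_assoc, inv_mul_cancel₀ (Nat.cast_ne_zero.2 Nat.card_pos.ne'), one_mul]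

/-- The congruence between `f (x u)` and `f u` on `C_K(x)`. -/
theorem twelve_congr (hG : IsMinSimpleOddOrder G) (B : BGFacts G) (T : TwelveSetup M L x p)
    {χ : G → ℂ} (hχ : IsGeneralizedCharacter G χ) {u : M} (hu : u ∈ fittingHall M) (hu1 : u ≠ 1)
    (hxu : x * (u : G) = (u : G) * x) {ε : ℂ} (hε : IsPrimitiveRoot ε p) :
    ECong ε (invDade (typeA' M) M (supportR M) χ (⟨x, T.x_mem⟩ * u))
      (invDade (typeA' M) M (supportR M) χ u) := by
  have hu1' : (u : G) ≠ 1 := fun h => hu1 (Subtype.ext h)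
  have huA : (u : G) ∈ typeA' M := by
    rw [twelve_typeA_M T]
    exact ⟨u.2, hu1', (u : G), ⟨u, hu, rfl⟩, hu1', rfl⟩
  rw [twelve_invDade_mul hG B T χ hu hxu, invDade_of_mem huA]
  obtain ⟨hN, hc, hcop⟩ := supportR_spec B T.hM (Or.inl rfl) huA
  set R := supportR M (u : G) with hR
  set N := M ⊓ Subgroup.centralizer ({(u : G)} : Set G) with hNdef
  have hgen := isGeneralizedCharacter_cosetAvg hχ N R fun n hn v hv =>
    (Subgroup.mem_normalizer_iff.1 (hN hn.2) v).1 hv
  set xN : N := ⟨x, T.x_mem, Subgroup.mem_centralizer_singleton_iff.2 hxu⟩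
  set uN : N := ⟨(u : G), u.2, Subgroup.mem_centralizer_singleton_iff.2 rfl⟩
  obtain ⟨ω, hω, he⟩ := CharInt.genChar_mul_sub_eq hgen T.prime.ne_zero hε (x := xN) (y := uN)
    (Subtype.ext (show x ^ p = 1 by rw [← T.x_order]; exact pow_orderOf_eq_one x))
    (Subtype.ext hxu)
  refine ⟨ω, hω, ?_⟩
  have he' : cosetAvg χ R (x * (u : G)) - cosetAvg χ R (u : G) = (1 - ε) * ω := he
  rw [← he']
  congr 1
  have hxuN : x * (u : G) ∈ N := N.mul_mem xN.2 uN.2
  have hxcop : (orderOf x).Coprime (orderOf (u : G)) := by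
    rw [T.x_order]
    refine (T.prime.coprime_iff_not_dvd.2 fun h => twelve_not_dvd_kernel hG B T ?_)
    rw [Subgroup.orderOf_coe] at h
    exact h.trans (Subgroup.orderOf_dvd_natCard _ hu)
  rw [cosetAvg_centralizer (Char.IsGeneralizedCharacter.isClassFunction hχ) R
    (fun v hv => (Subgroup.mem_normalizer_iff.1 (hN hxuN.2) v).1 hv)
    ((hcop _ huA).coprime_dvd_right (Subgroup.orderOf_dvd_natCard _ hxuN))]
  have hbot : R ⊓ Subgroup.centralizer ({x * (u : G)} : Set G) = ⊥ := by
    rw [eq_bot_iff]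
    rintro r ⟨hr, hrc⟩
    have hrM : r ∈ M := T.cent_le (Subgroup.mem_centralizer_singleton_iff.2
      (mem_centralizer_of_mul_commute hxu hxcop (Subgroup.mem_centralizer_singleton_iff.1 hrc)).eq)
    rw [← hc.2.2.1]
    exact ⟨hr, hrM, hc.1 hr⟩
  rw [hbot, cosetAvg_bot]

/-- Peterfalvi (12.15)-(12.16): the contradiction. -/
theorem twelve_false_of_images (hG : IsMinSimpleOddOrder G) (B : BGFacts G)
    (T : TwelveSetup M L x p) {τ₁ : (L → ℂ) → G → ℂ} {ζ : Fin 3 → L → ℂ}
    (hS : ∀ i, CohSetting (typeA' L) L (supportR L) (fittingHall L) τ₁ (ζ i))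
    (hψ : TwelveImages T fun i => τ₁ (ζ i))
    (hinv : ∀ y : L, (y : G) ∈ typeA' L →
      invDade (typeA' L) L (supportR L) (τ₁ (ζ 0)) y = ζ 0 y)
    (he3 : 3 ≤ (fittingHall L).index) (hep : 2 * (fittingHall L).index ≤ p + 1)
    (hsize : 2 * (fittingHall L).index + 1 ≤ Nat.card (fittingHallOf L)) : False := by
  classical
  haveI := Fact.mk T.prime
  set χ := τ₁ (ζ 0) with hχdef
  have hχg : IsGeneralizedCharacter G χ := hψ.gen 0
  have hχc := Char.IsGeneralizedCharacter.isClassFunction hχg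
  set f := invDade (typeA' M) M (supportR M) χ with hf
  set xM : M := ⟨x, T.x_mem⟩ with hxMdef
  set xL : L := ⟨x, fittingHallOf_le L T.x_kernel⟩ with hxLdef
  obtain ⟨hconst, z, hz⟩ := twelve_cosetSum hG B hψ
  obtain ⟨u₀, hu₀, hu₀', hxu₀⟩ := twelve_exists_u0 T
  have hle : ∀ c : ↥⁅fittingHall M, fittingHall M⁆, (c : M) ∈ fittingHall M := fun c =>
    Subgroup.commutator_le_self (fittingHall M) c.2
  set k' := Nat.card ↥⁅fittingHall M, fittingHall M⁆ with hk'
  have hk'dvd : k' ∣ Nat.card (fittingHall M) :=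
    Subgroup.card_dvd_of_le (Subgroup.commutator_le_self _)
  have hpk' : ¬ p ∣ k' := fun h => twelve_not_dvd_kernel hG B T (h.trans hk'dvd)
  have hD := dadeHypothesis_typeSet B T.hM (A := typeA' M) (Or.inr (Or.inl rfl))
  have hfc : IsClassFunction M f := isClassFunction_invDade hD hχc
  obtain ⟨ε, hε⟩ : ∃ ε : ℂ, IsPrimitiveRoot ε p :=
    ⟨_, Complex.isPrimitiveRoot_exp p T.prime.ne_zero⟩
  -- the congruence `b ≡ e`
  have hcongr : (p : ℤ) ∣ -z - ((fittingHall L).index : ℤ) := by
    letI : MulAction (Subgroup.zpowers xM) ↥⁅fittingHall M, fittingHall M⁆ :=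
      MulAction.compHom _ ((MulAut.conjNormal (H := ⁅fittingHall M, fittingHall M⁆)).comp
        (Subgroup.zpowers xM).subtype)
    have hsmul : ∀ (s : Subgroup.zpowers xM) (c : ↥⁅fittingHall M, fittingHall M⁆),
        ((s • c : ↥⁅fittingHall M, fittingHall M⁆) : M) = (s : M) * c * (s : M)⁻¹ :=
      fun s c => MulAut.conjNormal_apply (s : M) c
    have hcomm : ∀ s : Subgroup.zpowers xM, Commute (s : M) u₀ ∧ Commute (s : M) xM := by
      rintro ⟨_, n, rfl⟩
      exact ⟨(show Commute xM u₀ from Subtype.ext hxu₀).zpow_left n, (Commute.refl xM).zpow_left n⟩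
    have hinv₀ : ∀ (w : M), (∀ s : Subgroup.zpowers xM, Commute (s : M) w) →
        ∀ (s : Subgroup.zpowers xM) (c : ↥⁅fittingHall M, fittingHall M⁆),
          f (w * (s • c : ↥⁅fittingHall M, fittingHall M⁆)) = f (w * c) := by
      intro w hw s c
      rw [hsmul, show w * ((s : M) * c * (s : M)⁻¹) = (s : M) * (w * c) * (s : M)⁻¹ by
        rw [← mul_assoc, ← mul_assoc, ← (hw s).eq]; group, hfc]
    have hP : IsPGroup p (Subgroup.zpowers xM) :=
      IsPGroup.of_card (n := 1) (by
        rw [Nat.card_zpowers, ← Subgroup.orderOf_coe, show ((xM : M) : G) = x from rfl, T.x_order,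
          pow_one])
    have hint : ∀ a : M, IsIntegral ℤ (f a) := twelve_isIntegral B T hχg
    have h1 := eCong_of_pCong T.prime hε (Glauberman.pCong_sum_fixedPoints hP
      (fun c : ↥⁅fittingHall M, fittingHall M⁆ => f (xM * u₀ * c))
      (hinv₀ _ fun s => (hcomm s).2.mul_right (hcomm s).1) fun c => hint _)
    have h2 := eCong_of_pCong T.prime hε (Glauberman.pCong_sum_fixedPoints hP
      (fun c : ↥⁅fittingHall M, fittingHall M⁆ => f (u₀ * c))
      (hinv₀ _ fun s => (hcomm s).1) fun c => hint _)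
    have h3 : ECong ε (cosetSum (fittingHall M) f (xM * u₀)) (cosetSum (fittingHall M) f u₀) := by
      refine eCong_trans h1 (eCong_trans (eCong_sum _ fun c hc => ?_) (eCong_symm h2))
      have hfix := (Finset.mem_filter.1 hc).2 ⟨xM, Subgroup.mem_zpowers xM⟩
      have hxc : xM * (c : M) = (c : M) * xM := by
        have h := congrArg (Subtype.val) hfix
        rw [hsmul] at h
        exact mul_inv_eq_iff_eq_mul.1 h
      rw [mul_assoc]
      refine twelve_congr hG B T hχg ((fittingHall M).mul_mem hu₀ (hle c)) (fun h => hu₀' ?_) ?_ hε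
      · rw [eq_inv_of_mul_eq_one_left h]; exact inv_mem c.2
      · exact congrArg Subtype.val
          ((show Commute xM u₀ from Subtype.ext hxu₀).mul_right hxc).eq
    rw [twelve_sum_outside hG B T hχc hu₀ hconst xL rfl, hz u₀ hu₀ hu₀',
      hinv xL (by rw [twelve_typeA_L T]; exact ⟨T.x_kernel, twelve_x_ne_one T⟩)] at h3
    obtain ⟨ω, hω, hωe⟩ := CharInt.genChar_mul_sub_eq
      (Char.IsCharacter.isGeneralized (isCharacter_of_mem_indIrr (fittingHall L) (hS 0).mem))
      T.prime.ne_zero hε (x := xL) (y := (1 : L))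
      (Subtype.ext (show x ^ p = 1 by rw [← T.x_order]; exact pow_orderOf_eq_one x)) (by simp)
    rw [mul_one, (hS 0).apply_one] at hωe
    have h4 : ECong ε ((k' : ℂ) * ((fittingHall L).index : ℂ)) (-(k' : ℂ) * z) :=
      eCong_trans (eCong_symm (eCong_mul_left (by
        simpa using CharInt.isIntegral_intCast (k' : ℤ)) ⟨ω, hω, hωe⟩)) h3
    have h5 : ECong ε ((((k' : ℤ) * (-z - ((fittingHall L).index : ℤ)) : ℤ) : ℂ)) 0 := by
      have := eCong_sub (eCong_symm h4) (eCong_refl ((k' : ℂ) * ((fittingHall L).index : ℂ)))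
      rw [sub_self] at this
      convert this using 1
      push_cast
      ring
    exact ((Nat.prime_iff_prime_int.1 T.prime).dvd_mul.1 (dvd_of_eCong_zero T.prime hε h5)).resolve_left
      fun h => hpk' (Int.natCast_dvd_natCast.1 h)
  -- the index `N` of `K'` in `K`
  obtain ⟨N, hNeq⟩ := hk'dvd
  have hNp : p ∣ N - 1 ∧ 2 ≤ N := by
    obtain ⟨-, -, -, -, U, -, hUc, -, U₀, hU₀, hexp0, hfree⟩ := T.hMI.1
    have hpU : p ∣ Nat.card U := by
      have h1 : p ∣ Nat.card M := T.x_order ▸ Subgroup.orderOf_dvd_natCard M T.x_mem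
      rw [← hUc.card_mul_card] at h1
      exact ((Nat.Prime.dvd_mul T.prime).1 h1).resolve_left (twelve_not_dvd_kernel hG B T)
    obtain ⟨v, hv⟩ := exists_prime_orderOf_dvd_card' (G := U) p hpU
    obtain ⟨a, ha⟩ := exists_prime_orderOf_dvd_card' (G := U₀) p
      (((hv ▸ Monoid.order_dvd_exponent v).trans hexp0.symm.dvd).trans Group.exponent_dvd_nat_card)
    have ha1 : (a : M) ≠ 1 := fun h => T.prime.ne_one (by
      rw [← ha, show a = 1 from Subtype.ext h, orderOf_one])
    have hk := card_modEq_one_of_free (p := p) (fittingHall M) (a := (a : M))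
      (by rw [Subgroup.orderOf_coe, ha]) fun n hn h => hfree a a.2 ha1 n hn h
    have hk1 := card_modEq_one_of_free (p := p) ⁅fittingHall M, fittingHall M⁆ (a := (a : M))
      (by rw [Subgroup.orderOf_coe, ha])
      fun n hn h => hfree a a.2 ha1 n (Subgroup.commutator_le_self _ hn) h
    rw [hNeq] at hk
    have hN1 : N ≡ 1 [MOD p] := ((hk1.mul_right N).trans (by rw [one_mul])).symm.trans hk
    have hN2 : 2 ≤ N := by
      by_contra h
      have : 0 < N := Nat.pos_of_ne_zero fun e => by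
        rw [e, mul_zero] at hNeq; exact Nat.card_pos.ne' hNeq
      have hN' : N = 1 := by omega
      rw [hN', mul_one] at hNeq
      exact hu₀' ((Subgroup.eq_of_le_of_card_ge (Subgroup.commutator_le_self _) hNeq.le).ge hu₀)
    exact ⟨(Nat.modEq_iff_dvd' (by omega : 1 ≤ N)).1 hN1.symm, hN2⟩
  -- the norms
  have hD1 := dadeHypothesis_typeSet B T.hM (A := typeA1 M) (Or.inl rfl)
  have hDL := dadeHypothesis_typeSet B T.hL (A := typeA' L) (Or.inr (Or.inl rfl))
  have hA1 : ∀ a : G, a ∈ typeA1 M ↔ a ∈ fittingHallOf M ∧ a ≠ 1 := fun a => by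
    rw [typeA1, typeCore_eq_fittingHallOf fun h' => not_typeI_of_typeIII_IV B T.hM h' T.hMI]
    rfl
  set U1 := dadeUnion (typeA1 M) (supportR M)
  set U2 := dadeUnion (typeA' L) (supportR L)
  have hdisj : Disjoint U1 U2 := by
    rw [Finset.disjoint_left]
    intro g h1 h2
    obtain ⟨a, ha, r, hr, c, hc⟩ := mem_dadeUnion.1 h1
    obtain ⟨b, hb, s, hs, d, hd⟩ := mem_dadeUnion.1 h2
    rw [twelve_typeA_L T] at hb
    refine twelve_notConj_mem hG B T ((hA1 a).1 ha).1 ((hA1 a).1 ha).2 hr hb.1 hb.2 hs (c * d⁻¹) ?_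
    rw [← hd, ← hc]; group
  have hnorm1 : (Nat.card G : ℝ)⁻¹ * ∑ g, Complex.normSq (χ g) = 1 := by
    have h := hψ.orth 0 0
    rw [if_pos rfl, Char.classInner_self] at h
    exact_mod_cast h
  have hsum : (Nat.card G : ℝ)⁻¹ * ∑ g ∈ U1, Complex.normSq (χ g) +
      (Nat.card G : ℝ)⁻¹ * ∑ g ∈ U2, Complex.normSq (χ g) ≤ 1 := by
    rw [← hnorm1, ← mul_add, ← Finset.sum_union hdisj]
    exact mul_le_mul_of_nonneg_left (Finset.sum_le_sum_of_subset_of_nonneg (Finset.subset_univ _)
      fun g _ _ => Complex.normSq_nonneg _) (inv_nonneg.2 (Nat.cast_nonneg _))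
  have hM1 := sum_normSq_invDade_le hD1 hχc
  have hL1 := ((hS 0).norm_invDade_self_ge (by rw [← card_fittingHallOf]; exact hsize)).trans
    (sum_normSq_invDade_le hDL hχc)
  -- the sum over `K ∖ K'`
  set D : Finset M :=
    Finset.univ.filter fun w => w ∈ fittingHall M ∧ w ∉ ⁅fittingHall M, fittingHall M⁆ with hDdef
  have hDcard : D.card + k' = Nat.card (fittingHall M) := by
    have h1 : D = (Finset.univ.filter fun w => w ∈ fittingHall M) \
        (Finset.univ.filter fun w => w ∈ ⁅fittingHall M, fittingHall M⁆) := by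
      ext w; simp [hDdef]
    rw [h1, hk', Nat.card_eq_fintype_card, Nat.card_eq_fintype_card, Fintype.card_subtype,
      Fintype.card_subtype, Finset.card_sdiff_add_card_eq_card]
    intro w hw
    simp only [Finset.mem_filter, Finset.mem_univ, true_and] at hw ⊢
    exact Subgroup.commutator_le_self _ hw
  have hDsum : ∑ w ∈ D, f w = (D.card : ℂ) * (-(z : ℂ)) := by
    refine mul_left_cancel₀ (Nat.cast_ne_zero.2 (Nat.card_pos
      (α := ↥⁅fittingHall M, fittingHall M⁆)).ne' : (k' : ℂ) ≠ 0) ?_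
    have h1 : ∑ w ∈ D, cosetSum (fittingHall M) f w = (D.card : ℂ) * (-(k' : ℂ) * z) := by
      rw [Finset.sum_congr rfl fun w hw => hz w (Finset.mem_filter.1 hw).2.1
        (Finset.mem_filter.1 hw).2.2, Finset.sum_const, nsmul_eq_mul]
    rw [show (k' : ℂ) * ((D.card : ℂ) * -(z : ℂ)) = (D.card : ℂ) * (-(k' : ℂ) * z) by ring, ← h1]
    simp only [cosetSum]
    rw [Finset.sum_comm, Finset.sum_congr rfl (s₁ := (Finset.univ : Finset ↥⁅fittingHall M, fittingHall M⁆))
      (g := fun _ => ∑ w ∈ D, f w) fun c _ => Finset.sum_equiv (s := D) (t := D)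
        (f := fun w => f (w * (c : M))) (g := f) (Equiv.mulRight (c : M)) (fun w => ?_) fun w _ => rfl, Finset.sum_const, Finset.card_univ, nsmul_eq_mul, hk',
      Nat.card_eq_fintype_card]
    simp only [hDdef, Finset.mem_filter, Finset.mem_univ, true_and, Equiv.coe_mulRight]
    rw [Subgroup.mul_mem_cancel_right _ (hle c), Subgroup.mul_mem_cancel_right _ c.2]
  have hDnorm : (D.card : ℝ) * ((z : ℝ)) ^ 2 ≤ ∑ w ∈ D, Complex.normSq (f w) := by
    have h1 : ∀ w ∈ D, 2 * (-(z : ℝ)) * (f w).re - (z : ℝ) ^ 2 ≤ Complex.normSq (f w) := by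
      intro w _
      rw [Complex.normSq_apply]
      nlinarith [sq_nonneg ((f w).re + z), mul_self_nonneg (f w).im]
    have h2 := Finset.sum_le_sum h1
    rw [Finset.sum_sub_distrib, ← Finset.mul_sum, ← Complex.re_sum, hDsum, Finset.sum_const,
      nsmul_eq_mul] at h2
    simp only [Complex.mul_re, Complex.natCast_re, Complex.natCast_im, Complex.neg_re,
      Complex.neg_im, Complex.intCast_re, Complex.intCast_im, zero_mul, sub_zero, neg_zero,
      mul_zero] at h2
    linarith
  have hMge : (D.card : ℝ) * (z : ℝ) ^ 2 ≤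
      ∑ w : M, Complex.normSq (invDade (typeA1 M) M (supportR M) χ w) := by
    refine hDnorm.trans (le_trans (le_of_eq (Finset.sum_congr rfl fun w hw => ?_))
      (Finset.sum_le_sum_of_subset_of_nonneg (Finset.subset_univ D)
        fun w _ _ => Complex.normSq_nonneg _))
    obtain ⟨-, hwK, hwK'⟩ := Finset.mem_filter.1 hw
    have hw1 : (w : G) ≠ 1 := fun h => hwK' (by rw [show w = 1 from Subtype.ext h]; exact one_mem _)
    have hwA : (w : G) ∈ typeA1 M := (hA1 _).2 ⟨⟨w, hwK, rfl⟩, hw1⟩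
    rw [hf, invDade_of_mem hwA, invDade_of_mem (typeA1_subset_typeA B T.hM hwA)]
  -- combine
  set e := (fittingHall L).index
  set h := Nat.card (fittingHall L) with hhdef
  set u := (fittingHall M).index with hudef
  have huh : u ≤ h := by
    have h1 := card_eq_of_isComplIn T.compl
    rw [card_fittingHallOf, ← Subgroup.card_mul_index (fittingHall M)] at h1
    have h2 := Nat.eq_of_mul_eq_mul_left Nat.card_pos h1
    rw [hudef, ← h2, hhdef, ← card_fittingHallOf]
    exact Subgroup.card_le_of_le T.inf_le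
  have hupos : 0 < u := Nat.pos_of_ne_zero Subgroup.index_ne_zero_of_finite
  have hhpos : 0 < h := Nat.card_pos
  have hk'pos : 0 < k' := Nat.card_pos
  have hineq : ((N : ℤ) - 1) * (-z) ^ 2 ≤ e * N := by
    have hcardM : (Nat.card M : ℝ) = (k' : ℝ) * N * u := by
      have h3 := Subgroup.card_mul_index (fittingHall M)
      rw [← hudef, hNeq] at h3
      exact_mod_cast h3.symm
    have hDc : (D.card : ℝ) = (k' : ℝ) * ((N : ℝ) - 1) := by
      have h3 : (D.card : ℝ) + k' = (k' : ℝ) * N := by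
        rw [hNeq] at hDcard; exact_mod_cast hDcard
      linarith
    have key : (Nat.card M : ℝ)⁻¹ * ((D.card : ℝ) * (z : ℝ) ^ 2) ≤ (e : ℝ) / h := by
      have h3 := mul_le_mul_of_nonneg_left hMge (inv_nonneg.2 (Nat.cast_nonneg (Nat.card M)))
      linarith [h3.trans hM1]
    rw [hcardM, hDc, inv_mul_eq_div, div_le_div_iff₀ (by
      have hNpos : (0 : ℝ) < N := Nat.cast_pos.2 (by omega)
      positivity) (by positivity)] at key
    have hNR : (2 : ℝ) ≤ N := by exact_mod_cast hNp.2
    have hk'R : (0 : ℝ) < k' := Nat.cast_pos.2 hk'pos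
    have hhR : (0 : ℝ) < h := Nat.cast_pos.2 hhpos
    have huhR : (u : ℝ) ≤ h := Nat.cast_le.2 huh
    have h4 : (e : ℝ) * ((k' : ℝ) * N * u) ≤ (e : ℝ) * ((k' : ℝ) * N * h) :=
      mul_le_mul_of_nonneg_left (mul_le_mul_of_nonneg_left huhR (by positivity)) (Nat.cast_nonneg _)
    have h5 : ((k' : ℝ) * (h : ℝ)) * (((N : ℝ) - 1) * (z : ℝ) ^ 2) ≤
        ((k' : ℝ) * (h : ℝ)) * ((e : ℝ) * N) := by nlinarith
    have h6 : ((N : ℝ) - 1) * (-(z : ℝ)) ^ 2 ≤ (e : ℝ) * N := by
      rw [neg_sq]; exact le_of_mul_le_mul_left h5 (by positivity)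
    exact_mod_cast h6
  exact twelve_numeric T.prime.two_le he3 hep hNp.2 hNp.1 hcongr hineq

end Cfsg.Agent.OddOrder.PF
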