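import Cfsg.Agent.Lib.OddOrder.PF.S12_Final
import Cfsg.Agent.Lib.OddOrder.PF.S12_Coherent

/-!
Peterfalvi (12.16): a maximal subgroup of Type I is a Frobenius group with kernel `M_F`, given the
bundle of local facts and (13.2) for the pairs of type P.
-/

set_option autoImplicit false
set_option linter.style.haveILetI false

namespace Cfsg.Agent.OddOrder.PF

open Cfsg

universe u

variable {G : Type u} [Group G]

/-- Peterfalvi (12.16): S1540 from `BGFacts` and `PairKernel`. -/
theorem typeI_frobenius [Finite G] (hG : IsMinSimpleOddOrder G) (B : BGFacts G) (hPK : PairKernel G)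
    (M : Subgroup G) (hM : IsCoatom M) (hI : IsOfTypeI' M) :
    ∀ x ∈ fittingHallOf M, x ≠ 1 → M ⊓ Subgroup.centralizer ({x} : Set G) ≤ fittingHallOf M := by
  classical
  intro z hz hz1 c hc
  by_contra hcK
  haveI : Fintype G := Fintype.ofFinite G
  obtain ⟨r, hW⟩ := exists_witness hM hI hz hz1 hc.1
    (Subgroup.mem_centralizer_singleton_iff.1 hc.2) hcK
  obtain ⟨M₁, L, x, p, T⟩ := exists_twelveSetup hG B hPK ⟨M, r, hW⟩
  haveI : Fintype M₁ := Fintype.ofFinite _
  haveI : Fintype L := Fintype.ofFinite _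
  obtain ⟨τ₁, ζ, -, hS, hg, ho, hinv⟩ := exists_cohData hG B T
  obtain ⟨-, he3, hep, -, hsize⟩ := twelve_index_bound hG B T
  exact twelve_false_of_images hG B T hS (twelveImages_of_cohSetting T hS hg ho) (hinv 0) he3 hep
    hsize

end Cfsg.Agent.OddOrder.PF
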