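import Cfsg.Agent.Lib.Char.CliffordAbelian
import Cfsg.Agent.Lib.Char.KernelSum
import Cfsg.Agent.Lib.ThreePrimes.Chars

/-!
Characters over a normal subgroup `K`, as used in Peterfalvi (12.2), (12.4), (12.5): vanishing
outside the centralizers of `K`, the constituents of the induced linear characters of `K`, and the
sums of a class function over the cosets of `K'`.
-/

set_option autoImplicit false
set_option linter.unusedSectionVars false
set_option linter.style.haveILetI false

namespace Cfsg.Agent.OddOrder.PF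

open Cfsg Cfsg.Agent.Char
open scoped ComplexConjugate

universe u

variable {X : Type u} [Group X] [Fintype X] (K : Subgroup X) [K.Normal]

/-- An element centralising no non-identity element of `K` annihilates the irreducible characters
that are not trivial on `K`. -/
theorem apply_eq_zero_of_centralizer_inf_eq_bot {g : X}
    (hg : Subgroup.centralizer ({g} : Set X) ⊓ K = ⊥) (χ : IrrCharacter X) (hχ : ¬ TrivOn K χ.1) :
    χ.1 g = 0 := by
  classical
  haveI : Fintype K := Fintype.ofFinite _
  set T := Finset.univ.filter (fun φ : IrrCharacter X => TrivOn K φ.1)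
  set c := Nat.card (Subgroup.centralizer ({g} : Set X))
  have hle : Nat.card K ≤ Nat.card {k : K // IsConj (g * k) g} := by
    refine Nat.card_le_card_of_injective (fun n : K => (⟨⟨g⁻¹ * ((n : X) * g * (n : X)⁻¹), ?_⟩,
      isConj_iff.2 ⟨(n : X)⁻¹, by group⟩⟩ : {k : K // IsConj (g * k) g})) ?_
    · rw [show g⁻¹ * ((n : X) * g * (n : X)⁻¹) = g⁻¹ * n * g⁻¹⁻¹ * (n : X)⁻¹ by group]
      exact K.mul_mem (‹K.Normal›.conj_mem _ n.2 g⁻¹) (K.inv_mem n.2)
    · intro m n h
      have h' : (m : X) * g * (m : X)⁻¹ = (n : X) * g * (n : X)⁻¹ :=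
        mul_left_cancel (congrArg (fun z : {k : K // IsConj (g * k) g} => ((z.1 : K) : X)) h)
      have hmem : (n : X)⁻¹ * m ∈ Subgroup.centralizer ({g} : Set X) ⊓ K := by
        refine ⟨Subgroup.mem_centralizer_singleton_iff.2 ?_, K.mul_mem (K.inv_mem n.2) m.2⟩
        calc (n : X)⁻¹ * m * g = (n : X)⁻¹ * ((m : X) * g * (m : X)⁻¹) * m := by group
          _ = (n : X)⁻¹ * ((n : X) * g * (n : X)⁻¹) * m := by rw [h']
          _ = g * ((n : X)⁻¹ * m) := by group
      rw [hg, Subgroup.mem_bot, inv_mul_eq_one] at hmem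
      exact Subtype.ext hmem.symm
  have hT : (Nat.card K : ℝ) * ∑ φ ∈ T, Complex.normSq (φ.1 g) =
      (c : ℝ) * (Nat.card {k : K // IsConj (g * k) g} : ℝ) := by
    have h := congrArg Complex.re (sum_trivOn_mul_conj K g g)
    simp only [Complex.mul_conj, ← Complex.ofReal_sum, ← Complex.ofReal_natCast,
      ← Complex.ofReal_mul, Complex.ofReal_re] at h
    exact h
  have hall : ∑ φ : IrrCharacter X, Complex.normSq (φ.1 g) = (c : ℝ) := by
    have h := sum_irr_mul_conj g g
    rw [if_pos (IsConj.refl g)] at h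
    have h' := congrArg Complex.re h
    simp only [Complex.mul_conj, ← Complex.ofReal_sum, Complex.ofReal_re, Complex.natCast_re] at h'
    exact h'
  rw [← Finset.sum_add_sum_compl T] at hall
  have hKpos : (0 : ℝ) < Nat.card K := Nat.cast_pos.2 Nat.card_pos
  have h1 : (c : ℝ) ≤ ∑ φ ∈ T, Complex.normSq (φ.1 g) := by
    refine le_of_mul_le_mul_left ?_ hKpos
    rw [hT, mul_comm (Nat.card K : ℝ)]
    exact mul_le_mul_of_nonneg_left (Nat.cast_le.2 hle) (Nat.cast_nonneg _)
  have h2 : ∑ φ ∈ Tᶜ, Complex.normSq (φ.1 g) = 0 :=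
    le_antisymm (by linarith) (Finset.sum_nonneg fun φ _ => Complex.normSq_nonneg _)
  rw [Finset.sum_eq_zero_iff_of_nonneg fun φ _ => Complex.normSq_nonneg _] at h2
  exact Complex.normSq_eq_zero.1 (h2 χ (by simp [T, hχ]))

/-- In the coprime case with abelian inertia quotient the induced character is a sum of distinct
irreducible characters of the same degree. -/
theorem exists_fibre [Fintype K] (hco : K.index.Coprime (Nat.card K)) (θ : IrrCharacter K)
    (hab : ∀ a ∈ inertia K θ.1, ∀ b ∈ inertia K θ.1, a * b * a⁻¹ * b⁻¹ ∈ K) :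
    ∃ C : Finset (IrrCharacter X), indFun K θ.1 = ∑ χ ∈ C, χ.1 ∧
      C.card * Nat.card K = Nat.card (inertia K θ.1) ∧
      ∀ χ ∈ C, χ.1 1 = ((inertia K θ.1).index : ℂ) * θ.1 1 := by
  classical
  haveI : Fintype (inertia K θ.1) := Fintype.ofFinite _
  obtain ⟨e, C, he, hcard, hsum, hdeg⟩ :=
    exists_clifford_abelian K θ (inertia K θ.1) (fun g => mem_inertia K) hab
  suffices he1 : e = 1 by
    subst he1
    exact ⟨C, by rw [hsum, Nat.cast_one, one_smul], by simpa using hcard,
      fun χ hχ => by rw [hdeg χ hχ, Nat.cast_one, mul_one]⟩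
  obtain ⟨ψ, hψ⟩ := ThreePrimes.exists_extension_of_coprime K θ hco
  have hI := isCharacter_indFun (inertia K θ.1) (irr_isCharacter ψ)
  obtain ⟨m, hm, hm'⟩ := IsCharacter.exists_decomp hI
  obtain ⟨φ, hφ⟩ : ∃ φ : IrrCharacter X, m φ ≠ 0 := by
    by_contra hcon
    push Not at hcon
    have h1 := congrFun hm 1
    simp only [hcon, Nat.cast_zero, zero_smul, Finset.sum_const_zero, Pi.zero_apply] at h1
    rw [indFun_apply_one] at h1
    exact mul_ne_zero (Nat.cast_ne_zero.2 Subgroup.index_ne_zero_of_finite)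
      (IsIrrCharacter.apply_one_ne_zero ψ.2) h1
  -- `φ` lies over `θ`
  have hover : classInner (indFun K θ.1) φ.1 ≠ 0 := by
    have hres : classInner (indFun (inertia K θ.1) ψ.1) φ.1 =
        classInner ψ.1 (fun t : inertia K θ.1 => φ.1 t) :=
      classInner_indFun _ _ (IsCharacter.isClassFunction (irr_isCharacter φ))
    obtain ⟨n, hn, hn'⟩ :=
      IsCharacter.exists_decomp (IsCharacter.restrict (irr_isCharacter φ) (inertia K θ.1))
    have hnψ : n ψ ≠ 0 := fun h0 => by
      rw [hm', ← conj_classInner, hn' ψ, h0, Nat.cast_zero, map_zero, Nat.cast_eq_zero] at hres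
      exact hφ hres
    choose k hk using exists_nat_classInner_resIncl K (irr_le_inertia K θ) θ
    have hsum' : classInner (fun x : K => φ.1 x) θ.1 = ((∑ ω, n ω * k ω : ℕ) : ℂ) := by
      have hf : (fun x : K => φ.1 x) = ∑ ω : IrrCharacter (inertia K θ.1),
          (n ω : ℂ) • resIncl K (irr_le_inertia K θ) ω.1 := by
        funext x
        have := congrFun hn ⟨x, irr_le_inertia K θ x.2⟩
        simp only [Finset.sum_apply, Pi.smul_apply, smul_eq_mul] at this ⊢
        exact this
      rw [hf, classInner_sum_left, Nat.cast_sum]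
      exact Finset.sum_congr rfl fun ω _ => by rw [classInner_smul_left, hk ω, Nat.cast_mul]
    have hkψ : k ψ = 1 := by
      have h := hk ψ
      rw [show resIncl K (irr_le_inertia K θ) ψ.1 = θ.1 from funext fun x => hψ x,
        classInner_irr_self θ.2] at h
      exact_mod_cast h.symm
    rw [classInner_indFun K θ.1 (IsCharacter.isClassFunction (irr_isCharacter φ)), ← conj_classInner,
      hsum', map_natCast, Nat.cast_ne_zero]
    intro h0
    have := (Finset.sum_eq_zero_iff.1 h0) ψ (Finset.mem_univ _)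
    rw [hkψ, mul_one] at this
    exact hnψ this
  have hφC : φ ∈ C := by
    by_contra hφC
    apply hover
    rw [hsum, classInner_smul_left, classInner_sum_left, Finset.sum_eq_zero, mul_zero]
    exact fun χ hχ => classInner_eq_zero_of_ne fun h => hφC (h ▸ hχ)
  have h1 := congrFun hm 1
  rw [indFun_apply_one, show ψ.1 1 = θ.1 1 from hψ 1] at h1
  simp only [Finset.sum_apply, Pi.smul_apply, smul_eq_mul, apply_one_eq_degree] at h1
  have h2 : (inertia K θ.1).index * degree θ = ∑ x, m x * degree x := by exact_mod_cast h1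
  have h3 : degree φ = (inertia K θ.1).index * e * degree θ := by
    have h := hdeg φ hφC
    simp only [apply_one_eq_degree] at h
    exact_mod_cast h
  have h4 : degree φ ≤ (inertia K θ.1).index * degree θ := by
    rw [h2]
    refine le_trans ?_ (Finset.single_le_sum (fun x _ => Nat.zero_le _) (Finset.mem_univ φ))
    exact Nat.le_mul_of_pos_left _ (Nat.pos_of_ne_zero hφ)
  rw [h3] at h4
  have hpos : 0 < (inertia K θ.1).index * degree θ :=
    Nat.mul_pos (Nat.pos_of_ne_zero Subgroup.index_ne_zero_of_finite) (degree_pos θ)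
  have h5 : e * ((inertia K θ.1).index * degree θ) ≤ 1 * ((inertia K θ.1).index * degree θ) := by
    rw [one_mul, ← mul_assoc, mul_comm e]; exact h4
  have := Nat.le_of_mul_le_mul_right h5 hpos
  omega

/-! ### Linear characters -/

section Linear

variable {Y : Type u} [Group Y] [Fintype Y]

theorem apply_one_of_trivOn_commutator (χ : IrrCharacter Y)
    (h : TrivOn (_root_.commutator Y) χ.1) : χ.1 1 = 1 := by
  classical
  haveI : Finite (Y →* ℂ) := Nat.finite_of_card_ne_zero
    (by rw [card_monoidHom_complex]; exact Subgroup.index_ne_zero_of_finite)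
  haveI := Fintype.ofFinite (Y →* ℂ)
  set T := Finset.univ.filter (fun φ : IrrCharacter Y => TrivOn (_root_.commutator Y) φ.1)
  set Li := (Finset.univ : Finset (Y →* ℂ)).image linIrr
  have hsub : Li ⊆ T := by
    intro φ hφ
    obtain ⟨lam, -, rfl⟩ := Finset.mem_image.1 hφ
    refine Finset.mem_filter.2 ⟨Finset.mem_univ _, fun k hk => ?_⟩
    rw [linIrr_apply, linIrr_apply, map_one]
    exact congrArg Units.val (Abelianization.commutator_subset_ker lam.toHomUnits hk)
  have hcard : Li.card = (_root_.commutator Y).index := by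
    rw [Finset.card_image_of_injective _ linIrr_injective, Finset.card_univ,
      ← Nat.card_eq_fintype_card, card_monoidHom_complex]
  have hsum := sum_trivOn_degree_sq (_root_.commutator Y)
  rw [← Finset.sum_sdiff hsub] at hsum
  have hLi : ∑ φ ∈ Li, charDegree φ.1 ^ 2 = Li.card := by
    rw [Finset.card_eq_sum_ones]
    refine Finset.sum_congr rfl fun φ hφ => ?_
    obtain ⟨lam, -, rfl⟩ := Finset.mem_image.1 hφ
    rw [charDegree, linIrr_apply, map_one, Complex.one_re, Nat.floor_one, one_pow]
  have h0 : ∑ φ ∈ T \ Li, charDegree φ.1 ^ 2 = 0 := by omega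
  have hχ : χ ∈ Li := by
    by_contra hχ
    have := Finset.sum_eq_zero_iff.1 h0 χ
      (Finset.mem_sdiff.2 ⟨Finset.mem_filter.2 ⟨Finset.mem_univ _, h⟩, hχ⟩)
    exact (pow_pos (charDegree_pos χ) 2).ne' this
  obtain ⟨lam, -, rfl⟩ := Finset.mem_image.1 hχ
  exact map_one lam

/-- The sum of all linear characters. -/
theorem sum_linear_apply [Fintype (Y →* ℂ)] (y : Y) [Decidable (y ∈ _root_.commutator Y)] :
    ∑ lam : Y →* ℂ, lam y = if y ∈ _root_.commutator Y then ((_root_.commutator Y).index : ℂ) else 0 := by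
  classical
  split_ifs with hy
  · rw [Finset.sum_congr rfl (g := fun _ => (1 : ℂ)) fun (lam : Y →* ℂ) _ => by
      exact congrArg Units.val (Abelianization.commutator_subset_ker lam.toHomUnits hy), Finset.sum_const,
      Finset.card_univ, ← Nat.card_eq_fintype_card, card_monoidHom_complex, nsmul_eq_mul, mul_one]
  · haveI : Fintype (_root_.commutator Y) := Fintype.ofFinite _
    have h := sum_trivOn_mul_conj (_root_.commutator Y) y 1
    haveI : IsEmpty {k : _root_.commutator Y // IsConj (y * k) 1} :=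
      ⟨fun k => hy (by
        rw [eq_inv_of_mul_eq_one_left (isConj_one_left.1 k.2)]
        exact inv_mem k.1.2)⟩
    rw [Nat.card_of_isEmpty (α := {k : _root_.commutator Y // IsConj (y * k) 1}), Nat.cast_zero,
      mul_zero, mul_eq_zero] at h
    have h' := h.resolve_left (Nat.cast_ne_zero.2 Nat.card_pos.ne')
    refine Eq.trans ?_ h'
    refine Finset.sum_bij (fun lam _ => linIrr lam) (fun lam _ => ?_)
      (fun a _ b _ e => linIrr_injective e) (fun φ hφ => ?_) (fun lam _ => ?_)
    · refine Finset.mem_filter.2 ⟨Finset.mem_univ _, fun k hk => ?_⟩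
      rw [linIrr_apply, linIrr_apply, map_one]
      exact congrArg Units.val (Abelianization.commutator_subset_ker lam.toHomUnits hk)
    · have h1 := apply_one_of_trivOn_commutator φ (Finset.mem_filter.1 hφ).2
      obtain ⟨lam, hl⟩ := IsCharacter.exists_monoidHom (irr_isCharacter φ) h1
      exact ⟨lam, Finset.mem_univ _, Subtype.ext hl⟩
    · rw [linIrr_apply, linIrr_apply, map_one, map_one, mul_one]

end Linear

/-! ### Sums over the cosets of `K'` -/

theorem map_commutator_subtype : (_root_.commutator K).map K.subtype = ⁅K, K⁆ :=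
  Subgroup.map_subtype_commutator K

theorem mem_commutator_iff (k : K) : (k : X) ∈ ⁅K, K⁆ ↔ k ∈ _root_.commutator K := by
  rw [← map_commutator_subtype]
  exact Subgroup.mem_map_iff_mem K.subtype_injective

section Cosets

variable [Fintype K] [Fintype ↥(⁅K, K⁆)]

/-- The sum of a class function over the coset `y K'`. -/
noncomputable def cosetSum (f : X → ℂ) (y : X) : ℂ := ∑ c : ↥⁅K, K⁆, f (y * c)

theorem isClassFunction_cosetSum {f : X → ℂ} (hf : IsClassFunction X f) :
    IsClassFunction X (cosetSum K f) := by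
  intro g h
  simp only [cosetSum]
  refine Fintype.sum_equiv (MulAut.conjNormal (H := ⁅K, K⁆) h⁻¹).toEquiv _ _ fun c => ?_
  rw [show h * g * h⁻¹ * (c : X) = h * (g * (h⁻¹ * c * h)) * h⁻¹ by group, hf]
  simp

theorem classInner_cosetSum {f : X → ℂ} (φ : IrrCharacter X) :
    (TrivOn ⁅K, K⁆ φ.1 → classInner (cosetSum K f) φ.1 = Nat.card ↥⁅K, K⁆ * classInner f φ.1) ∧
      (¬ TrivOn ⁅K, K⁆ φ.1 → classInner (cosetSum K f) φ.1 = 0) := by
  have h : ∑ y : X, cosetSum K f y * conj (φ.1 y) =
      ∑ z : X, f z * conj (∑ c : ↥⁅K, K⁆, φ.1 (z * c)) := by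
    simp only [cosetSum, Finset.sum_mul, map_sum, Finset.mul_sum]
    rw [Finset.sum_comm, Finset.sum_comm (γ := X) (f := fun z c => f z * conj (φ.1 (z * ((c : ↥⁅K, K⁆) : X))))]
    refine Fintype.sum_equiv (Equiv.inv ↥⁅K, K⁆) _ _ fun c => ?_
    refine Fintype.sum_equiv (Equiv.mulRight (c : X)) _ _ fun y => ?_
    simp
  constructor
  · intro ht
    simp only [classInner, h, apply_mul_of_trivOn ht _ (SetLike.coe_mem _), Finset.sum_const,
      Finset.card_univ, nsmul_eq_mul, map_mul, map_natCast, ← Nat.card_eq_fintype_card]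
    rw [Finset.mul_sum, Finset.mul_sum, Finset.mul_sum]
    exact Finset.sum_congr rfl fun z _ => by ring
  · intro ht
    simp only [classInner, h, sum_coset_eq_zero_of_not_trivOn _ φ ht, map_zero, mul_zero,
      Finset.sum_const_zero]

/-- The sum over linear `λ` of the multiplicities in a restriction. -/
theorem sum_linear_mult [Fintype (K →* ℂ)] (φ : IrrCharacter X) :
    (¬ TrivOn ⁅K, K⁆ φ.1 → ∀ lam : K →* ℂ, classInner (indFun K lam) φ.1 = 0) ∧
      (TrivOn K φ.1 → ∀ lam : K →* ℂ, lam ≠ 1 → classInner (indFun K lam) φ.1 = 0) ∧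
      (TrivOn ⁅K, K⁆ φ.1 → ¬ TrivOn K φ.1 →
        ∑ lam ∈ Finset.univ.filter (fun lam : K →* ℂ => lam ≠ 1), classInner (indFun K lam) φ.1 =
          φ.1 1) := by
  classical
  have hc := IsCharacter.isClassFunction (irr_isCharacter φ)
  have hre : ∀ lam : K →* ℂ, classInner (indFun K lam) φ.1 = classInner (⇑lam) (fun k : K => φ.1 k) :=
    fun lam => classInner_indFun K lam hc
  refine ⟨fun hn lam => ?_, fun ht lam hlam => ?_, fun htN htK => ?_⟩
  · rw [hre, classInner]
    have hN : ∀ c : ↥⁅K, K⁆, (c : X) ∈ K := fun c => Subgroup.commutator_le_self K c.2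
    have key : (Nat.card ↥⁅K, K⁆ : ℂ) * ∑ k : K, lam k * conj (φ.1 k) =
        ∑ k : K, lam k * conj (∑ c : ↥⁅K, K⁆, φ.1 ((k : X) * c)) := by
      simp only [map_sum, Finset.mul_sum]
      rw [eq_comm, Finset.sum_comm,
        Finset.sum_congr rfl (s₁ := (Finset.univ : Finset ↥⁅K, K⁆))
          (g := fun _ => ∑ k : K, lam k * conj (φ.1 k)) fun c _ =>
            Fintype.sum_equiv (Equiv.mulRight (⟨c, hN c⟩ : K)) _ _ fun k => ?_,
        Finset.sum_const, Finset.card_univ, nsmul_eq_mul, ← Nat.card_eq_fintype_card, Finset.mul_sum]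
      have h1 : lam (⟨c, hN c⟩ : K) = 1 := congrArg Units.val
        (Abelianization.commutator_subset_ker lam.toHomUnits ((mem_commutator_iff K _).1 c.2))
      simp [h1]
    simp only [sum_coset_eq_zero_of_not_trivOn _ φ hn, map_zero, mul_zero, Finset.sum_const_zero,
      mul_eq_zero] at key
    rw [key.resolve_left (Nat.cast_ne_zero.2 Nat.card_pos.ne'), mul_zero]
  · rw [hre, classInner]
    have hz : ∑ k : K, lam k = 0 := by
      have := sum_apply_eq_zero (χ := linIrr lam) fun e =>
        hlam (MonoidHom.ext fun k => congrFun (congrArg Subtype.val e) k)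
      simpa using this
    rw [Finset.sum_congr rfl (g := fun k => lam k * conj (φ.1 1)) fun k _ => by rw [ht k k.2],
      ← Finset.sum_mul, hz, zero_mul, mul_zero]
  · have hall : ∑ lam : K →* ℂ, classInner (indFun K lam) φ.1 = φ.1 1 := by
      rw [Finset.sum_congr rfl fun lam _ => hre lam]
      simp only [classInner, ← Finset.mul_sum]
      rw [Finset.sum_comm, Finset.sum_congr rfl (s₁ := (Finset.univ : Finset K))
          fun k _ => (Finset.sum_mul _ _ _).symm,
        Finset.sum_congr rfl fun k _ => by rw [sum_linear_apply (k : K)]]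
      simp only [ite_mul, zero_mul, ← Finset.sum_filter]
      rw [Finset.sum_congr rfl (g := fun _ => ((_root_.commutator K).index : ℂ) * φ.1 1) fun k hk => by
        rw [htN k ((mem_commutator_iff K k).2 (Finset.mem_filter.1 hk).2), apply_one_eq_degree,
          map_natCast], Finset.sum_const, nsmul_eq_mul]
      rw [← mul_assoc (_ : ℂ), ← mul_assoc]
      have hcard : (Finset.univ.filter fun k : K => k ∈ _root_.commutator K).card =
          Nat.card (_root_.commutator K) := by
        rw [Nat.card_eq_fintype_card, Fintype.card_subtype]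
      rw [hcard, mul_assoc ((Nat.card K : ℂ)⁻¹), ← Nat.cast_mul, Subgroup.card_mul_index,
        inv_mul_cancel₀ (Nat.cast_ne_zero.2 Nat.card_pos.ne'), one_mul]
    rw [← hall, ← Finset.sum_filter_add_sum_filter_not Finset.univ (fun lam : K →* ℂ => lam ≠ 1)]
    have hone : (Finset.univ.filter fun lam : K →* ℂ => ¬ lam ≠ 1) = {1} := by ext; simp
    rw [hone, Finset.sum_singleton, hre, classInner]
    simp only [MonoidHom.one_apply, one_mul]
    rw [← map_sum, show ∑ k : K, φ.1 (k : X) = 0 by
      simpa using sum_coset_eq_zero_of_not_trivOn K φ htK 1, map_zero, mul_zero, add_zero]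

/-- Peterfalvi (12.4): sums over the cosets of `K'` inside one coset of `K`, outside `K`, agree. -/
theorem cosetSum_eq_of_mem {f : X → ℂ} (hf : IsClassFunction X f)
    (hcoef : ∀ lam : K →* ℂ, lam ≠ 1 → ∀ φ φ' : IrrCharacter X,
      classInner (indFun K lam) φ.1 ≠ 0 → classInner (indFun K lam) φ'.1 ≠ 0 →
      classInner f φ.1 = classInner f φ'.1 ∧ φ.1 1 = φ'.1 1)
    {y y' : X} (hy : y ∉ K) (hyy' : y⁻¹ * y' ∈ K) : cosetSum K f y = cosetSum K f y' := by
  classical
  haveI : Finite (K →* ℂ) := Nat.finite_of_card_ne_zero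
    (by rw [card_monoidHom_complex]; exact Subgroup.index_ne_zero_of_finite)
  haveI := Fintype.ofFinite (K →* ℂ)
  set S := Finset.univ.filter (fun φ : IrrCharacter X => TrivOn ⁅K, K⁆ φ.1 ∧ ¬ TrivOn K φ.1) with hS
  have hzero : ∀ z ∉ K, ∑ φ ∈ S, classInner f φ.1 * φ.1 z = 0 := by
    intro z hz
    have hex : ∀ lam : K →* ℂ, ∃ a : ℂ, lam ≠ 1 → ∀ φ : IrrCharacter X,
        classInner f φ.1 / φ.1 1 * classInner (indFun K lam) φ.1 =
          a * classInner (indFun K lam) φ.1 := by
      intro lam
      by_cases h : ∃ φ : IrrCharacter X, classInner (indFun K lam) φ.1 ≠ 0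
      · obtain ⟨φ₀, hφ₀⟩ := h
        refine ⟨classInner f φ₀.1 / φ₀.1 1, fun hl φ => ?_⟩
        by_cases hφ : classInner (indFun K lam) φ.1 = 0
        · rw [hφ, mul_zero, mul_zero]
        · rw [(hcoef lam hl φ φ₀ hφ hφ₀).1, (hcoef lam hl φ φ₀ hφ hφ₀).2]
      · push Not at h
        exact ⟨0, fun _ φ => by rw [h φ, mul_zero, mul_zero]⟩
    choose a ha using hex
    set P := Finset.univ.filter (fun lam : K →* ℂ => lam ≠ 1)
    have h0 : ∑ lam ∈ P, a lam * indFun K lam z = 0 :=
      Finset.sum_eq_zero fun lam _ => by rw [indFun_of_notMem_normal K _ hz, mul_zero]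
    have hexp : ∀ lam ∈ P, a lam * indFun K lam z =
        ∑ φ ∈ S, classInner f φ.1 / φ.1 1 * classInner (indFun K lam) φ.1 * φ.1 z := by
      intro lam hlam
      have hl := (Finset.mem_filter.1 hlam).2
      rw [congrFun (eq_sum_classInner_smul (isClassFunction_indFun K ⇑lam)) z]
      simp only [Finset.sum_apply, Pi.smul_apply, smul_eq_mul, Finset.mul_sum]
      rw [← Finset.sum_subset (Finset.subset_univ S) fun φ _ hφ => ?_]
      · exact Finset.sum_congr rfl fun φ _ => by rw [ha lam hl φ, mul_assoc]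
      · have : classInner (indFun K lam) φ.1 = 0 := by
          by_cases h : TrivOn ⁅K, K⁆ φ.1
          · refine (sum_linear_mult K φ).2.1 ?_ lam hl
            by_contra h'
            exact hφ (Finset.mem_filter.2 ⟨Finset.mem_univ _, h, h'⟩)
          · exact (sum_linear_mult K φ).1 h lam
        rw [this, zero_mul, mul_zero]
    rw [Finset.sum_congr rfl hexp, Finset.sum_comm] at h0
    refine Eq.trans (Finset.sum_congr rfl fun φ hφ => ?_) h0
    rw [← Finset.sum_mul, ← Finset.mul_sum,
      (sum_linear_mult K φ).2.2 (Finset.mem_filter.1 hφ).2.1 (Finset.mem_filter.1 hφ).2.2,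
      div_mul_cancel₀ _ (IsIrrCharacter.apply_one_ne_zero φ.2)]
  have hy' : y' ∉ K := fun h => hy (by
    simpa using K.mul_mem h (K.inv_mem hyy'))
  have hexp := eq_sum_classInner_smul (isClassFunction_cosetSum K hf)
  rw [hexp]
  simp only [Finset.sum_apply, Pi.smul_apply, smul_eq_mul]
  rw [← sub_eq_zero, ← Finset.sum_sub_distrib,
    ← Finset.sum_subset (Finset.subset_univ S) fun φ _ hφ => ?_]
  · rw [Finset.sum_sub_distrib,
      Finset.sum_congr rfl (s₁ := S) (f := fun φ : IrrCharacter X => classInner (cosetSum K f) φ.1 * φ.1 y)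
        (g := fun φ : IrrCharacter X => (Nat.card ↥⁅K, K⁆ : ℂ) * (classInner f φ.1 * φ.1 y))
        fun φ hφ => by rw [(classInner_cosetSum K (f := f) φ).1 (Finset.mem_filter.1 hφ).2.1, mul_assoc],
      Finset.sum_congr rfl (s₁ := S) (f := fun φ : IrrCharacter X => classInner (cosetSum K f) φ.1 * φ.1 y')
        (g := fun φ : IrrCharacter X => (Nat.card ↥⁅K, K⁆ : ℂ) * (classInner f φ.1 * φ.1 y'))
        fun φ hφ => by rw [(classInner_cosetSum K (f := f) φ).1 (Finset.mem_filter.1 hφ).2.1, mul_assoc],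
      ← Finset.mul_sum, ← Finset.mul_sum, hzero y hy, hzero y' hy', mul_zero, sub_zero]
  · by_cases h : TrivOn ⁅K, K⁆ φ.1
    · have ht : TrivOn K φ.1 := by
        by_contra h'
        exact hφ (Finset.mem_filter.2 ⟨Finset.mem_univ _, h, h'⟩)
      rw [show y' = y * (y⁻¹ * y') by group, apply_mul_of_trivOn ht y hyy', sub_self]
    · rw [(classInner_cosetSum K (f := f) φ).2 h, zero_mul, zero_mul, sub_self]

/-- Peterfalvi (12.5): sums over the cosets of `K'` in `K` other than `K'` are all the same. -/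
theorem cosetSum_eq_of_mem_kernel {f : X → ℂ} (hf : IsClassFunction X f) {z : ℂ}
    (hz : ∀ lam : K →* ℂ, lam ≠ 1 →
      classInner (fun k : K => f k) (⇑lam) - classInner (fun k : K => f k) (fun _ => 1) = z)
    {w : X} (hw : w ∈ K) (hw' : w ∉ ⁅K, K⁆) :
    cosetSum K f w = -(Nat.card ↥⁅K, K⁆ : ℂ) * z := by
  classical
  haveI : Finite (K →* ℂ) := Nat.finite_of_card_ne_zero
    (by rw [card_monoidHom_complex]; exact Subgroup.index_ne_zero_of_finite)
  haveI := Fintype.ofFinite (K →* ℂ)
  set F : K → ℂ := fun k => cosetSum K f k with hF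
  have hFc : IsClassFunction K F := fun a b => isClassFunction_cosetSum K hf a b
  have hN : ∀ c : ↥⁅K, K⁆, (c : X) ∈ K := fun c => Subgroup.commutator_le_self K c.2
  have hlam : ∀ lam : K →* ℂ, classInner F ⇑lam =
      Nat.card ↥⁅K, K⁆ * classInner (fun k : K => f k) ⇑lam := by
    intro lam
    simp only [classInner, hF, cosetSum, Finset.sum_mul]
    rw [Finset.sum_comm, Finset.sum_congr rfl (s₁ := (Finset.univ : Finset ↥⁅K, K⁆))
      (g := fun _ => ∑ k : K, f k * conj (lam k)) fun c _ =>
      Fintype.sum_equiv (Equiv.mulRight (⟨c, hN c⟩ : K)) _ _ fun k => ?_,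
      Finset.sum_const, Finset.card_univ, nsmul_eq_mul, ← Nat.card_eq_fintype_card]
    · ring
    · have h1 : lam (⟨c, hN c⟩ : K) = 1 := congrArg Units.val
        (Abelianization.commutator_subset_ker lam.toHomUnits ((mem_commutator_iff K _).1 c.2))
      simp [h1]
  have hother : ∀ η : IrrCharacter K, ¬ TrivOn (_root_.commutator K) η.1 →
      classInner F η.1 = 0 := by
    intro η hη
    haveI : Fintype (_root_.commutator K) := Fintype.ofFinite _
    have key : ∀ k : K, F k = ∑ c : _root_.commutator K, f ((k * c : K) : X) := by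
      intro k
      refine Fintype.sum_equiv (Equiv.ofBijective
        (fun c : ↥⁅K, K⁆ => (⟨⟨c, hN c⟩, (mem_commutator_iff K _).1 c.2⟩ : _root_.commutator K))
        ⟨fun a b h => Subtype.ext (congrArg (fun t : _root_.commutator K => ((t : K) : X)) h),
          fun t => ⟨⟨_, (mem_commutator_iff K _).2 t.2⟩, rfl⟩⟩) _ _ fun c => rfl
    simp only [classInner, key, Finset.sum_mul]
    rw [Finset.sum_comm, Finset.sum_congr rfl (s₁ := (Finset.univ : Finset (_root_.commutator K)))
      (g := fun c : _root_.commutator K => ∑ k : K, f k * conj (η.1 (k * (c : K)⁻¹))) fun c _ =>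
        Fintype.sum_equiv (Equiv.mulRight (c : K)) _ _ fun k => by simp,
      Finset.sum_comm, Finset.sum_eq_zero, mul_zero]
    intro k _
    rw [← Finset.mul_sum, ← map_sum]
    have h0 := sum_coset_eq_zero_of_not_trivOn (_root_.commutator K) η hη k
    rw [show ∑ c : _root_.commutator K, η.1 (k * (c : K)⁻¹) =
      ∑ c : _root_.commutator K, η.1 (k * c) from
        Fintype.sum_equiv (Equiv.inv _) _ _ fun c => by simp, h0, map_zero, mul_zero]
  have hexp := congrFun (eq_sum_classInner_smul hFc) ⟨w, hw⟩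
  simp only [Finset.sum_apply, Pi.smul_apply, smul_eq_mul] at hexp
  rw [← Finset.sum_subset (Finset.subset_univ ((Finset.univ : Finset (K →* ℂ)).image linIrr))
    fun η _ hη => ?_, Finset.sum_image fun a _ b _ e => linIrr_injective e] at hexp
  swap
  · rw [hother η fun ht => ?_, zero_mul]
    obtain ⟨lam, hl⟩ := IsCharacter.exists_monoidHom (irr_isCharacter η)
      (apply_one_of_trivOn_commutator η ht)
    exact hη (Finset.mem_image.2 ⟨lam, Finset.mem_univ _, Subtype.ext hl⟩)
  have hterm : ∀ lam : K →* ℂ, classInner F (linIrr lam).1 * (linIrr lam).1 ⟨w, hw⟩ =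
      (Nat.card ↥⁅K, K⁆ : ℂ) * (classInner (fun k : K => f k) (fun _ => 1) + z) * lam ⟨w, hw⟩ -
        (if lam = 1 then (Nat.card ↥⁅K, K⁆ : ℂ) * z else 0) := by
    intro lam
    show classInner F ⇑lam * lam ⟨w, hw⟩ = _
    rw [hlam]
    split_ifs with h
    · subst h
      simp only [MonoidHom.one_apply, mul_one]
      rw [show (⇑(1 : K →* ℂ) : K → ℂ) = fun _ => 1 from rfl]
      ring
    · rw [← hz lam h]; ring
  rw [Finset.sum_congr rfl fun lam _ => hterm lam, Finset.sum_sub_distrib, ← Finset.mul_sum,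
    sum_linear_apply, if_neg (fun h => hw' ((mem_commutator_iff K _).2 h)), mul_zero, zero_sub,
    Finset.sum_ite_eq' Finset.univ (1 : K →* ℂ), if_pos (Finset.mem_univ _), ← neg_mul] at hexp
  exact hexp

end Cosets

end Cfsg.Agent.OddOrder.PF
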