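import Cfsg.Agent.Lib.Frobenius.FixedPointFree
import Cfsg.Agent.Lib.PGroup.MetacyclicTwo
import Mathlib.GroupTheory.Solvable
import Mathlib.GroupTheory.GroupAction.Quotient
import Mathlib.GroupTheory.PGroup

/-!
Peterfalvi 12, a step of group theory: a solvable group of odd order acting without fixed points on
an elementary abelian group of order `p ^ 2`, no non-identity element fixing a given line, has order
dividing `p - 1` or `p + 1`.
-/

set_option autoImplicit false
set_option linter.unusedSectionVars false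
set_option linter.style.haveILetI false

namespace Cfsg.Agent.OddOrder.PF

open scoped IsMulCommutative

universe u

variable {X : Type u} [Group X] [Finite X]

/-- The subgroups of order `p` of `A`. -/
abbrev LineOf (A : Subgroup X) (p : ℕ) : Type u := {Y : Subgroup X // Y ≤ A ∧ Nat.card Y = p}

variable {A : Subgroup X} {p : ℕ}

theorem card_lineOf [hp : Fact p.Prime] (hA2 : Nat.card A = p ^ 2)
    (hexp : ∀ a ∈ A, a ^ p = 1) : Nat.card (LineOf A p) = p + 1 := by
  classical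
  haveI : Fintype X := Fintype.ofFinite X
  haveI : Fintype (LineOf A p) := Fintype.ofFinite _
  set N : Finset X := Finset.univ.filter fun a => a ∈ A ∧ a ≠ 1 with hN
  have hNc : N.card + 1 = p ^ 2 := by
    have h1 : N = (Finset.univ.filter fun a => a ∈ A).erase 1 := by
      ext a; simp [hN, and_comm]
    rw [h1, Finset.card_erase_of_mem (by simp [one_mem]), ← hA2, Nat.card_eq_fintype_card,
      Fintype.card_subtype]
    have : 0 < (Finset.univ.filter fun a => a ∈ A).card := Finset.card_pos.2 ⟨1, by simp [one_mem]⟩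
    omega
  have hord : ∀ a ∈ N, orderOf a = p := fun a ha => by
    simp only [hN, Finset.mem_filter] at ha
    exact orderOf_eq_prime (hexp a ha.2.1) ha.2.2
  let f : X → LineOf A p := fun a => if h : a ∈ A ∧ orderOf a = p then
      ⟨Subgroup.zpowers a, Subgroup.zpowers_le.2 h.1, by rw [Nat.card_zpowers, h.2]⟩
    else Classical.choice (by
      obtain ⟨b, hb⟩ := exists_prime_orderOf_dvd_card' (G := A) p (hA2 ▸ dvd_pow_self p two_ne_zero)
      exact ⟨⟨Subgroup.zpowers (b : X), Subgroup.zpowers_le.2 b.2,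
        by rw [Nat.card_zpowers, Subgroup.orderOf_coe, hb]⟩⟩)
  have hfib : ∀ Y : LineOf A p, (N.filter fun a => f a = Y).card + 1 = p := by
    intro Y
    have h1 : (N.filter fun a => f a = Y) = (Finset.univ.filter fun a => a ∈ Y.1).erase 1 := by
      ext a
      simp only [Finset.mem_filter, Finset.mem_erase, Finset.mem_univ, true_and, ne_eq]
      constructor
      · rintro ⟨haN, rfl⟩
        have ho := hord a haN
        simp only [hN, Finset.mem_filter] at haN
        refine ⟨haN.2.2, ?_⟩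
        show a ∈ (dite _ _ _ : LineOf A p).1
        rw [dif_pos ⟨haN.2.1, ho⟩]
        exact Subgroup.mem_zpowers a
      · rintro ⟨ha1, haY⟩
        have haA := Y.2.1 haY
        have haN : a ∈ N := by simp [hN, haA, ha1]
        refine ⟨haN, Subtype.ext ?_⟩
        show (dite _ _ _ : LineOf A p).1 = Y.1
        rw [dif_pos ⟨haA, hord a haN⟩]
        exact Subgroup.eq_of_le_of_card_ge (Subgroup.zpowers_le.2 haY)
          (by rw [Nat.card_zpowers, hord a haN, Y.2.2])
    rw [h1, Finset.card_erase_of_mem (by simp [one_mem]), ← Fintype.card_subtype,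
      ← Nat.card_eq_fintype_card]
    have := hp.out.pos
    rw [show Nat.card { a // a ∈ Y.1 } = p from Y.2.2]
    omega
  have hsum := Finset.card_eq_sum_card_fiberwise (s := N) (t := Finset.univ) (f := f)
    fun _ _ => Finset.mem_coe.2 (Finset.mem_univ _)
  rw [Finset.sum_congr rfl (g := fun _ => p - 1) fun Y _ => by have := hfib Y; omega,
    Finset.sum_const, Finset.card_univ, smul_eq_mul] at hsum
  rw [Nat.card_eq_fintype_card]
  have h2 := hp.out.two_le
  refine Nat.eq_of_mul_eq_mul_right (show 0 < p - 1 by omega) ?_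
  have h3 : (p + 1) * (p - 1) + 1 = p ^ 2 := by
    obtain ⟨k, rfl⟩ := Nat.exists_eq_add_of_le h2
    simp only [show 2 + k - 1 = k + 1 by omega]
    ring
  omega

theorem prime_subgroup_eq_of_mem [hp : Fact p.Prime] {Y Z : Subgroup X} (hY : Nat.card Y = p)
    (hZ : Nat.card Z = p) {a : X} (ha : a ≠ 1) (haY : a ∈ Y) (haZ : a ∈ Z) : Y = Z := by
  have key : ∀ W : Subgroup X, Nat.card W = p → a ∈ W → Subgroup.zpowers a = W := by
    intro W hW haW
    haveI : Fact (Nat.card W).Prime := ⟨hW ▸ hp.out⟩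
    have h := zpowers_eq_top_of_prime_card (G := W) (rfl : Nat.card W = Nat.card W)
      (g := ⟨a, haW⟩) (fun e => ha (congrArg Subtype.val e))
    refine le_antisymm (Subgroup.zpowers_le.2 haW) fun b hb => ?_
    obtain ⟨k, hk⟩ := Subgroup.mem_zpowers_iff.1 (h.ge (Subgroup.mem_top (⟨b, hb⟩ : W)))
    exact ⟨k, congrArg Subtype.val hk⟩
  rw [← key Y hY haY, key Z hZ haZ]

variable {E : Subgroup X}

theorem exists_conj_eq_pow [hp : Fact p.Prime] {Y : Subgroup X} (hY : Nat.card Y = p) {a w : X}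
    (ha : a ∈ Y) (ha1 : a ≠ 1) (hw : w * a * w⁻¹ ∈ Y) : ∃ i : ℕ, w * a * w⁻¹ = a ^ i := by
  haveI : Fact (Nat.card Y).Prime := ⟨hY ▸ hp.out⟩
  have h := mem_zpowers_of_prime_card (G := Y) (p := Nat.card Y) rfl
    (g := ⟨a, ha⟩) (g' := ⟨w * a * w⁻¹, hw⟩) (fun e => ha1 (congrArg Subtype.val e))
  obtain ⟨i, hi⟩ := ((isOfFinOrder_of_finite _).mem_powers_iff_mem_zpowers).2 h
  exact ⟨i, (congrArg Subtype.val hi).symm⟩

theorem pow_eq_of_mem_inf [hp : Fact p.Prime] {Y Z : Subgroup X} (hY : Nat.card Y = p)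
    (hZ : Nat.card Z = p) (hne : Y ≠ Z) {a : X} (hY' : a ∈ Y) (hZ' : a ∈ Z) : a = 1 :=
  by_contra fun h => hne (prime_subgroup_eq_of_mem hY hZ h hY' hZ')

/-- A map fixing three distinct lines of `A` is a power map on `A`. -/
theorem exists_pow_of_three [hp : Fact p.Prime] [IsMulCommutative A] (hA2 : Nat.card A = p ^ 2)
    {w : X} (Y : Fin 3 → LineOf A p) (hY : Function.Injective Y)
    (hfix : ∀ i, ∀ a ∈ (Y i).1, w * a * w⁻¹ ∈ (Y i).1) :
    ∃ i : ℕ, ∀ a ∈ A, w * a * w⁻¹ = a ^ i := by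
  classical
  have hc : ∀ a ∈ A, ∀ b ∈ A, a * b = b * a := fun a ha b hb =>
    congrArg Subtype.val (mul_comm' (⟨a, ha⟩ : A) ⟨b, hb⟩)
  have hne : ∀ i j, i ≠ j → (Y i).1 ≠ (Y j).1 := fun i j h e => h (hY (Subtype.ext e))
  -- every element of `A` is a product from the first two lines
  have hsplit : ∀ c ∈ A, ∃ a ∈ (Y 0).1, ∃ b ∈ (Y 1).1, c = a * b := by
    let m : (Y 0).1 × (Y 1).1 → A := fun q => ⟨q.1 * q.2, mul_mem ((Y 0).2.1 q.1.2) ((Y 1).2.1 q.2.2)⟩
    have hinj : Function.Injective m := by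
      rintro ⟨a, b⟩ ⟨a', b'⟩ h
      have h' : (a : X) * b = a' * b' := congrArg Subtype.val h
      have h2 : (a' : X)⁻¹ * a = b' * (b : X)⁻¹ := by
        rw [eq_mul_inv_iff_mul_eq, mul_assoc, h']; group
      have h3 : (a' : X)⁻¹ * a = 1 := pow_eq_of_mem_inf (Y 0).2.2 (Y 1).2.2 (hne 0 1 (by decide))
        (mul_mem (inv_mem a'.2) a.2) (h2 ▸ mul_mem b'.2 (inv_mem b.2))
      have h4 : (a : X) = a' := (inv_mul_eq_one.1 h3).symm
      rw [h4] at h'
      exact Prod.ext (Subtype.ext h4) (Subtype.ext (mul_left_cancel h'))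
    have hb := (Nat.bijective_iff_injective_and_card m).2
      ⟨hinj, by rw [Nat.card_prod, (Y 0).2.2, (Y 1).2.2, hA2, sq]⟩
    intro c hcA
    obtain ⟨q, hq⟩ := hb.2 ⟨c, hcA⟩
    exact ⟨q.1, q.1.2, q.2, q.2.2, (congrArg Subtype.val hq).symm⟩
  haveI : Nontrivial (Y 2).1 := Finite.one_lt_card_iff_nontrivial.1 ((Y 2).2.2.symm ▸ hp.out.one_lt)
  obtain ⟨⟨c, hcY⟩, hc1⟩ := exists_ne (1 : (Y 2).1)
  replace hc1 : c ≠ 1 := fun e => hc1 (Subtype.ext e)
  obtain ⟨a, ha, b, hb, rfl⟩ := hsplit c ((Y 2).2.1 hcY)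
  have ha1 : a ≠ 1 := fun e => hc1 (by
    subst e; rw [one_mul] at hcY ⊢
    exact pow_eq_of_mem_inf (Y 1).2.2 (Y 2).2.2 (hne 1 2 (by decide)) hb hcY)
  have hb1 : b ≠ 1 := fun e => hc1 (by
    subst e; rw [mul_one] at hcY ⊢
    exact pow_eq_of_mem_inf (Y 0).2.2 (Y 2).2.2 (hne 0 2 (by decide)) ha hcY)
  obtain ⟨i, hi⟩ := exists_conj_eq_pow (Y 0).2.2 ha ha1 (hfix 0 a ha)
  obtain ⟨j, hj⟩ := exists_conj_eq_pow (Y 1).2.2 hb hb1 (hfix 1 b hb)
  obtain ⟨k, hk⟩ := exists_conj_eq_pow (Y 2).2.2 hcY hc1 (hfix 2 _ hcY)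
  have hab : Commute a b := hc a ((Y 0).2.1 ha) b ((Y 1).2.1 hb)
  have h1 : a ^ i * b ^ j = a ^ k * b ^ k := by
    rw [← hab.mul_pow, ← hk, ← hi, ← hj]; group
  have hcomm : (a ^ k)⁻¹ * a ^ i = b ^ k * (b ^ j)⁻¹ := by
    rw [eq_mul_inv_iff_mul_eq, mul_assoc, h1]; group
  have hik : a ^ i = a ^ k := (inv_mul_eq_one.1 (pow_eq_of_mem_inf (Y 0).2.2 (Y 1).2.2
    (hne 0 1 (by decide)) (mul_mem (inv_mem (pow_mem ha k)) (pow_mem ha i))
    (hcomm ▸ mul_mem (pow_mem hb k) (inv_mem (pow_mem hb j))))).symm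
  have hjk : b ^ j = b ^ k := mul_left_cancel (hik ▸ h1)
  refine ⟨k, fun d hd => ?_⟩
  obtain ⟨a', ha', b', hb', rfl⟩ := hsplit d hd
  have gen : ∀ (t : Fin 3) (g g' : X), g ∈ (Y t).1 → g ≠ 1 → w * g * w⁻¹ = g ^ k → g' ∈ (Y t).1 →
      w * g' * w⁻¹ = g' ^ k := by
    intro t g g' hg hg1 hgk hg'
    haveI : Fact (Nat.card (Y t).1).Prime := ⟨(Y t).2.2.symm ▸ hp.out⟩
    have h := mem_zpowers_of_prime_card (G := (Y t).1) (p := Nat.card (Y t).1) rfl
      (g := ⟨g, hg⟩) (g' := ⟨g', hg'⟩) (fun e => hg1 (congrArg Subtype.val e))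
    obtain ⟨n, hn⟩ := Subgroup.mem_zpowers_iff.1 h
    have hn' : g ^ n = g' := congrArg Subtype.val hn
    rw [← hn', ← conj_zpow, hgk, ← zpow_natCast g k, ← zpow_mul, ← zpow_natCast (g ^ n) k,
      ← zpow_mul, mul_comm]
  have g1 := gen 0 a a' ha ha1 (hi.trans hik) ha'
  have g2 := gen 1 b b' hb hb1 (hj.trans hjk) hb'
  have hc' : Commute a' b' := hc a' ((Y 0).2.1 ha') b' ((Y 1).2.1 hb')
  rw [hc'.mul_pow, ← g1, ← g2]; group

theorem exists_normal_prime_order {Q : Type*} [Group Q] [Finite Q] [Nontrivial Q]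
    [Group.IsSolvable Q] (hcyc : ∀ D : Subgroup Q, (∀ a b : D, a * b = b * a) → IsCyclic D) :
    ∃ n : Q, (orderOf n).Prime ∧ ∀ g : Q, g * n * g⁻¹ ∈ Subgroup.zpowers n := by
  classical
  obtain ⟨m, hm⟩ := (inferInstance : Group.IsSolvable Q).solvable
  have hex : ∃ k, derivedSeries Q k = ⊥ := ⟨m, hm⟩
  obtain ⟨k, hk⟩ : ∃ k, Nat.find hex = k + 1 := by
    refine ⟨Nat.find hex - 1, (Nat.succ_pred_eq_of_ne_zero fun h => ?_).symm⟩
    have := Nat.find_spec hex
    rw [h, derivedSeries_zero] at this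
    exact top_ne_bot this
  set D := derivedSeries Q k with hD
  have hD1 : D ≠ ⊥ := Nat.find_min hex (by omega)
  have hD2 : ∀ a b : D, a * b = b * a := by
    intro a b
    have h := Nat.find_spec hex
    rw [hk, derivedSeries_succ] at h
    have hm := Subgroup.commutator_mem_commutator a.2 b.2
    rw [h, Subgroup.mem_bot] at hm
    exact Subtype.ext (commutatorElement_eq_one_iff_mul_comm.1 hm)
  haveI := hcyc D hD2
  haveI : Nontrivial D := (Subgroup.nontrivial_iff_ne_bot D).2 hD1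
  obtain ⟨q, hq, hqd⟩ := Nat.exists_prime_and_dvd (Finite.one_lt_card (α := D)).ne'
  haveI : Fact q.Prime := ⟨hq⟩
  obtain ⟨d, hd⟩ := exists_prime_orderOf_dvd_card' (G := D) q hqd
  refine ⟨d, by rw [Subgroup.orderOf_coe, hd]; exact hq, fun g => ?_⟩
  have hg : g * (d : Q) * g⁻¹ ∈ D := (derivedSeries_normal Q k).conj_mem _ d.2 g
  have hz := Cfsg.Agent.PGroup.MetacyclicTwo.mem_zpowers_of_pow_eq_one (x := (⟨_, hg⟩ : D)) (y := d) (Subtype.ext (by
    rw [SubmonoidClass.coe_pow, conj_pow, ← SubmonoidClass.coe_pow, pow_orderOf_eq_one]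
    simp))
  obtain ⟨i, hi⟩ := Subgroup.mem_zpowers_iff.1 hz
  exact ⟨i, congrArg Subtype.val hi⟩

open Frobenius.Fpf in
/-- The order of `E` divides `p - 1` or `p + 1`. -/
theorem card_dvd_sub_or_add [hp : Fact p.Prime] [IsMulCommutative A] [Group.IsSolvable E]
    (hA2 : Nat.card A = p ^ 2) (hexp : ∀ a ∈ A, a ^ p = 1)
    (hEA : E ≤ Subgroup.normalizer (A : Set X)) (hodd : Odd (Nat.card E))
    (hfree : ∀ w ∈ E, w ≠ 1 → A ⊓ Subgroup.centralizer {w} = ⊥) {x : X} (hx : x ∈ A)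
    (hline : ∀ w ∈ E, w ≠ 1 → w * x * w⁻¹ ∉ Subgroup.zpowers x) :
    Nat.card E ∣ p - 1 ∨ Nat.card E ∣ p + 1 := by
  classical
  rcases subsingleton_or_nontrivial E with hs | hs
  · rw [Nat.card_unique]; exact Or.inl (one_dvd _)
  haveI : Nontrivial A := Finite.one_lt_card_iff_nontrivial.1
    (hA2.symm ▸ one_lt_pow₀ hp.out.one_lt two_ne_zero)
  have hf := isFpf_conjHom E A hEA hfree
  have hconjA : ∀ w ∈ E, ∀ a ∈ A, w * a * w⁻¹ ∈ A := fun w hw a ha =>
    (Subgroup.mem_normalizer_iff.1 (hEA hw) a).1 ha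
  letI : MulAction E (LineOf A p) :=
    { smul := fun w Y => ⟨Y.1.map (MulAut.conj (w : X)).toMonoidHom, by
          rintro _ ⟨a, ha, rfl⟩; exact hconjA _ w.2 a (Y.2.1 ha),
          (Nat.card_congr (Y.1.equivMapOfInjective _ (MulAut.conj (w : X)).injective).toEquiv).symm.trans
            Y.2.2⟩
      one_smul := fun Y => Subtype.ext (by
        ext a
        show a ∈ Y.1.map _ ↔ _
        simp [Subgroup.mem_map])
      mul_smul := fun v w Y => Subtype.ext (by
        show Y.1.map _ = (Y.1.map _).map _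
        rw [Subgroup.map_map]
        congr 1
        ext a
        simp [mul_assoc]) }
  have hmemsmul : ∀ (w : E) (Y : LineOf A p) (a : X), a ∈ Y.1 → (w : X) * a * (w : X)⁻¹ ∈ (w • Y).1 :=
    fun w Y a ha => ⟨a, ha, rfl⟩
  have hfix : ∀ (w : E) (Y : LineOf A p), w • Y = Y → ∀ a ∈ Y.1, (w : X) * a * (w : X)⁻¹ ∈ Y.1 :=
    fun w Y h a ha => by have := hmemsmul w Y a ha; rwa [h] at this
  -- no element has three fixed lines
  have hthree : ∀ w : E, w ≠ 1 → ∀ Y₀ Y₁ Y₂ : LineOf A p, Y₀ ≠ Y₁ → Y₀ ≠ Y₂ → Y₁ ≠ Y₂ →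
      w • Y₀ = Y₀ → w • Y₁ = Y₁ → w • Y₂ = Y₂ → False := by
    intro w hw Y₀ Y₁ Y₂ h01 h02 h12 f0 f1 f2
    obtain ⟨i, hi⟩ := exists_pow_of_three hA2 (w := (w : X)) ![Y₀, Y₁, Y₂]
      (by
        intro a b hab
        fin_cases a <;> fin_cases b <;> first | rfl |
          (simp at hab; first | exact absurd hab h01 | exact absurd hab.symm h01 |
            exact absurd hab h02 | exact absurd hab.symm h02 | exact absurd hab h12 |
            exact absurd hab.symm h12))
      (fun t => by fin_cases t <;> simp <;> first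
        | exact hfix w Y₀ f0 | exact hfix w Y₁ f1 | exact hfix w Y₂ f2)
    exact hline w w.2 (fun h => hw (Subtype.ext h))
      (hi x hx ▸ pow_mem (Subgroup.mem_zpowers x) i)
  -- the action on a fixed line
  have hstab : ∀ Y : LineOf A p, Nat.card (MulAction.stabilizer E Y) ∣ p - 1 := by
    intro Y
    set S := MulAction.stabilizer E Y
    have hn : (S.map E.subtype) ≤ Subgroup.normalizer (Y.1 : Set X) := by
      rintro _ ⟨w, hw, rfl⟩
      refine Subgroup.mem_normalizer_iff.2 fun a => ⟨hfix w Y hw a, fun ha => ?_⟩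
      have := hfix w⁻¹ Y (S.inv_mem hw) _ ha
      simpa [mul_assoc] using this
    haveI : IsCyclic Y.1 := isCyclic_of_prime_card Y.2.2
    set ψ := Y.1.normalizerMonoidHom.comp (Subgroup.inclusion hn)
    have hinj : Function.Injective ψ := by
      rw [injective_iff_map_eq_one]
      rintro ⟨_, w, hw, rfl⟩ h1
      haveI : Nontrivial Y.1 := Finite.one_lt_card_iff_nontrivial.1 (Y.2.2.symm ▸ hp.out.one_lt)
      obtain ⟨⟨a, ha⟩, ha1⟩ := exists_ne (1 : Y.1)
      have h2 : (w : X) * a * (w : X)⁻¹ = a :=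
        congrArg Subtype.val (MulEquiv.congr_fun h1 ⟨a, ha⟩)
      by_contra hne
      have hm : a ∈ A ⊓ Subgroup.centralizer {(w : X)} :=
        ⟨Y.2.1 ha, Subgroup.mem_centralizer_singleton_iff.2 (mul_inv_eq_iff_eq_mul.1 h2).symm⟩
      rw [hfree w w.2 (fun e => hne (Subtype.ext e)), Subgroup.mem_bot] at hm
      exact ha1 (Subtype.ext hm)
    have h := Subgroup.card_dvd_of_injective ψ hinj
    rw [IsCyclic.card_mulAut, Y.2.2, Nat.totient_prime hp.out] at h
    rwa [← Nat.card_congr (S.equivMapOfInjective E.subtype E.subtype_injective).toEquiv] at h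
  have hlines := card_lineOf hA2 hexp
  haveI : Fintype (LineOf A p) := Fintype.ofFinite _
  -- an element of prime order with a fixed line has exactly two, fixed by its normaliser
  have hnorm : ∀ (s : E) (r : ℕ), r.Prime → orderOf s = r → ∀ Y : LineOf A p, s • Y = Y →
      ∀ v : E, v * s * v⁻¹ ∈ Subgroup.zpowers s → v • Y = Y := by
    intro s r hr hsr Y hY v hv
    haveI : Fact r.Prime := ⟨hr⟩
    have hs1 : s ≠ 1 := fun h => hr.ne_one (by rw [← hsr, h, orderOf_one])
    have hrE : r ∣ Nat.card E := hsr ▸ orderOf_dvd_natCard s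
    have hrp : r ∣ p - 1 := by
      refine dvd_trans ?_ (hstab Y)
      rw [← hsr]
      exact Subgroup.orderOf_dvd_natCard _ (MulAction.mem_stabilizer_iff.2 hY)
    have hfixz : ∀ Y' : LineOf A p, s • Y' = Y' → s • (v • Y') = v • Y' := by
      intro Y' h
      have hc : v⁻¹ * s * v ∈ Subgroup.zpowers s := by
        have hone : v * s * v⁻¹ ≠ 1 := fun e => hs1 (conj_eq_one_iff.1 e)
        have hgen : Subgroup.zpowers (v * s * v⁻¹) = Subgroup.zpowers s :=
          Subgroup.eq_of_le_of_card_ge (Subgroup.zpowers_le.2 hv)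
            (by rw [Nat.card_zpowers, Nat.card_zpowers]; exact (MulEquiv.orderOf_eq (MulAut.conj v) s).ge)
        obtain ⟨i, hi⟩ := Subgroup.mem_zpowers_iff.1 (hgen.ge (Subgroup.mem_zpowers s))
        refine ⟨i, ?_⟩
        rw [conj_zpow] at hi
        show s ^ i = v⁻¹ * s * v
        calc s ^ i = v⁻¹ * (v * s ^ i * v⁻¹) * v := by group
          _ = v⁻¹ * s * v := by rw [hi]
      have hmem : v⁻¹ * s * v ∈ MulAction.stabilizer E Y' :=
        Subgroup.zpowers_le.2 (MulAction.mem_stabilizer_iff.2 h) hc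
      rw [MulAction.mem_stabilizer_iff, mul_smul, mul_smul, inv_smul_eq_iff] at hmem
      exact hmem
    have hP : IsPGroup r (Subgroup.zpowers s) :=
      IsPGroup.of_card (n := 1) (by rw [Nat.card_zpowers, hsr, pow_one])
    have hmod := hP.card_modEq_card_fixedPoints (LineOf A p)
    rw [hlines] at hmod
    set F := MulAction.fixedPoints (Subgroup.zpowers s) (LineOf A p)
    have hF : ∀ Y', Y' ∈ F ↔ s • Y' = Y' := fun Y' => by
      refine ⟨fun h => h ⟨s, Subgroup.mem_zpowers s⟩, fun h w => ?_⟩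
      exact (Subgroup.zpowers_le.2 (MulAction.mem_stabilizer_iff.2 h) w.2 :
        (w : E) ∈ MulAction.stabilizer E Y')
    have hne : ∃ Y' : LineOf A p, s • Y' = Y' ∧ Y' ≠ Y := by
      by_contra hh
      push Not at hh
      have h1 : Nat.card F = 1 := by
        rw [Nat.card_eq_one_iff_unique]
        exact ⟨⟨fun a b => Subtype.ext (((hh a ((hF a).1 a.2))).trans (hh b ((hF b).1 b.2)).symm)⟩,
          ⟨⟨Y, (hF Y).2 hY⟩⟩⟩
      rw [h1] at hmod
      obtain ⟨c, hc⟩ := hrp
      have hp2 := hp.out.two_le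
      have hr2 : r ≠ 2 := fun e => Nat.not_even_iff_odd.2 hodd (even_iff_two_dvd.2 (e ▸ hrE))
      have hd : r ∣ p := by
        have := (Nat.modEq_iff_dvd' (by omega : 1 ≤ p + 1)).1 hmod.symm
        simpa using this
      have h1' : r ∣ 1 := by
        have h := Nat.dvd_sub hd (Dvd.intro c hc.symm)
        rwa [show p - (p - 1) = 1 by omega] at h
      exact hr.ne_one (Nat.dvd_one.1 h1')
    obtain ⟨Y', hY', hne⟩ := hne
    have hor : ∀ Z, s • Z = Z → Z = Y ∨ Z = Y' := fun Z hZ => by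
      by_contra hh
      push Not at hh
      exact hthree s hs1 Y Y' Z hne.symm (Ne.symm hh.1) (Ne.symm hh.2) hY hY' hZ
    have hv2 : (v * v) • Y = Y := by
      rw [mul_smul]
      rcases hor _ (hfixz Y hY) with h | h
      · rw [h, h]
      rcases hor _ (hfixz Y' hY') with h' | h'
      · rw [h, h']
      · exact absurd (smul_left_cancel v (h.trans h'.symm)) hne.symm
    have hv : v ∈ Subgroup.zpowers (v * v) := by
      obtain ⟨k, hk⟩ := hodd
      refine ⟨(k + 1 : ℕ), ?_⟩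
      show (v * v) ^ ((k + 1 : ℕ) : ℤ) = v
      rw [zpow_natCast, ← sq, ← pow_mul, show 2 * (k + 1) = Nat.card E + 1 by omega, pow_succ,
        pow_card_eq_one', one_mul]
    exact (Subgroup.zpowers_le.2 (MulAction.mem_stabilizer_iff.2 hv2) hv :
      v ∈ MulAction.stabilizer E Y)
  obtain ⟨n, hn, hnn⟩ := exists_normal_prime_order (Q := E) (fun D hD => by
    refine isCyclic_of_comm (A := D) (V := A) (φ := (conjHom E A hEA).comp D.subtype) ?_ hD
    exact fun a ha v hv => hf (a : E) (fun h => ha (Subtype.ext h)) v hv)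
  by_cases hnf : ∃ Y : LineOf A p, n • Y = Y
  · obtain ⟨Y, hY⟩ := hnf
    left
    have : MulAction.stabilizer E Y = ⊤ := top_le_iff.1 fun v _ =>
      hnorm n _ hn rfl Y hY v (hnn v)
    have h := hstab Y
    rwa [this, Subgroup.card_top] at h
  · right
    rw [← hlines]
    have hfree' : ∀ Y : LineOf A p, MulAction.stabilizer E Y = ⊥ := by
      intro Y
      by_contra hne
      obtain ⟨r, hr, hrd⟩ := Nat.exists_prime_and_dvd (n := Nat.card (MulAction.stabilizer E Y))
        fun h => hne (Subgroup.card_eq_one.1 h)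
      haveI : Fact r.Prime := ⟨hr⟩
      haveI : Fact (orderOf n).Prime := ⟨hn⟩
      obtain ⟨⟨s, hs⟩, hsr⟩ := exists_prime_orderOf_dvd_card'
        (G := MulAction.stabilizer E Y) r hrd
      have hsr' : orderOf s = r := (Subgroup.orderOf_coe (⟨s, hs⟩ : MulAction.stabilizer E Y)).trans hsr
      have hc := commute_of_conj_mem_zpowers hf (p := r) (q := orderOf n) (a := n) (b := s)
        (pow_orderOf_eq_one n) (hsr' ▸ pow_orderOf_eq_one s) (hnn s)
      exact hnf ⟨Y, hnorm s r hr hsr' Y hs n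
        (by rw [hc.eq, mul_inv_cancel_right]; exact Subgroup.mem_zpowers s)⟩
    rw [Nat.card_congr (MulAction.selfEquivSigmaOrbits E (LineOf A p)), Nat.card_sigma]
    refine Finset.dvd_sum fun ω _ => ?_
    have h2 := Nat.card_congr (MulAction.orbitProdStabilizerEquivGroup E ω.out)
    rw [Nat.card_prod, hfree' ω.out, Subgroup.card_bot, mul_one] at h2
    rw [h2]

end Cfsg.Agent.OddOrder.PF
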