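import Cfsg.Agent.Lib.CharInt.Congruence
import Cfsg.Agent.Lib.Glauberman.Congr
import Cfsg.Agent.Lib.OddOrder.PF.TypeOneCoherence
import Cfsg.Agent.S1518

/-!
Peterfalvi 12, general tools: congruences modulo `1 - ε`, and the vanishing of the inner products of
Dade images with a class function that has three orthogonal companions with the same inner products.
-/

set_option autoImplicit false
set_option linter.unusedSectionVars false

namespace Cfsg.Agent.OddOrder.PF

open Cfsg Finset
open scoped ComplexConjugate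

universe u

/-! ### Congruences modulo `1 - ε` -/

/-- `x - y` is `1 - ε` times an algebraic integer. -/
def ECong (ε x y : ℂ) : Prop := ∃ ω : ℂ, IsIntegral ℤ ω ∧ x - y = (1 - ε) * ω

variable {ε x y z x' y' : ℂ}

theorem eCong_refl (x : ℂ) : ECong ε x x := ⟨0, isIntegral_zero, by simp⟩

theorem eCong_symm (h : ECong ε x y) : ECong ε y x := by
  obtain ⟨w, hw, he⟩ := h
  exact ⟨-w, hw.neg, by linear_combination -he⟩

theorem eCong_trans (h : ECong ε x y) (h' : ECong ε y z) : ECong ε x z := by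
  obtain ⟨a, ha, he⟩ := h
  obtain ⟨b, hb, he'⟩ := h'
  exact ⟨a + b, ha.add hb, by linear_combination he + he'⟩

theorem eCong_sub (h : ECong ε x y) (h' : ECong ε x' y') : ECong ε (x - x') (y - y') := by
  obtain ⟨a, ha, he⟩ := h
  obtain ⟨b, hb, he'⟩ := h'
  exact ⟨a - b, ha.sub hb, by linear_combination he - he'⟩

theorem eCong_mul_left {a : ℂ} (ha : IsIntegral ℤ a) (h : ECong ε x y) : ECong ε (a * x) (a * y) := by
  obtain ⟨b, hb, he⟩ := h
  exact ⟨a * b, ha.mul hb, by linear_combination a * he⟩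

theorem eCong_sum {ι : Type*} (s : Finset ι) {f g : ι → ℂ} (h : ∀ i ∈ s, ECong ε (f i) (g i)) :
    ECong ε (∑ i ∈ s, f i) (∑ i ∈ s, g i) := by
  classical
  induction s using Finset.induction_on with
  | empty => simpa using eCong_refl 0
  | insert a s ha ih =>
    obtain ⟨u, hu, hu'⟩ := h a (Finset.mem_insert_self a s)
    obtain ⟨v, hv, hv'⟩ := ih fun i hi => h i (Finset.mem_insert_of_mem hi)
    refine ⟨u + v, hu.add hv, ?_⟩
    rw [Finset.sum_insert ha, Finset.sum_insert ha]
    linear_combination hu' + hv'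

variable {p : ℕ}

theorem prod_one_sub_primitiveRoots (hp : p.Prime) :
    ∏ μ ∈ primitiveRoots p ℂ, (1 - μ) = (p : ℂ) := by
  haveI : Fact p.Prime := ⟨hp⟩
  have h := Polynomial.cyclotomic_eq_prod_X_sub_primitiveRoots (Complex.isPrimitiveRoot_exp p hp.ne_zero)
  have h1 := Polynomial.eval_one_cyclotomic_prime (R := ℂ) (p := p)
  rw [h, Polynomial.eval_prod] at h1
  simpa using h1

theorem eCong_of_pCong (hp : p.Prime) (hε : IsPrimitiveRoot ε p)
    (h : Glauberman.PCong p x y) : ECong ε x y := by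
  classical
  obtain ⟨z, hz, he⟩ := h
  refine ⟨(∏ μ ∈ (primitiveRoots p ℂ).erase ε, (1 - μ)) * z, ?_, ?_⟩
  · refine (IsIntegral.prod _ fun μ hμ => isIntegral_one.sub ?_).mul hz
    exact ((mem_primitiveRoots hp.pos).1 (Finset.mem_of_mem_erase hμ)).isIntegral hp.pos
  · rw [he, ← prod_one_sub_primitiveRoots hp,
      ← Finset.mul_prod_erase _ _ ((mem_primitiveRoots hp.pos).2 hε), mul_assoc]

theorem dvd_of_eCong_zero (hp : p.Prime) (hε : IsPrimitiveRoot ε p) {n : ℤ}
    (h : ECong ε (n : ℂ) 0) : (p : ℤ) ∣ n := by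
  classical
  obtain ⟨ω, hω, he⟩ := h
  rw [sub_zero] at he
  haveI : NeZero p := ⟨hp.ne_zero⟩
  haveI : Fact p.Prime := ⟨hp⟩
  have hfac : ∀ μ ∈ primitiveRoots p ℂ, ∃ c : ℂ, IsIntegral ℤ c ∧ 1 - ε = (1 - μ) * c := by
    intro μ hμ
    have hμ' := (mem_primitiveRoots hp.pos).1 hμ
    obtain ⟨i, -, hi⟩ := hμ'.eq_pow_of_pow_eq_one hε.pow_eq_one
    refine ⟨∑ l ∈ Finset.range i, μ ^ l, IsIntegral.sum _ fun l _ => (hμ'.isIntegral hp.pos).pow _, ?_⟩
    rw [← hi]
    linear_combination geom_sum_mul μ i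
  choose! c hc hc' using hfac
  have hn : ((n ^ (primitiveRoots p ℂ).card : ℤ) : ℂ) =
      (p : ℂ) * ((∏ μ ∈ primitiveRoots p ℂ, c μ) * ω ^ (primitiveRoots p ℂ).card) := by
    rw [← prod_one_sub_primitiveRoots hp, Int.cast_pow, he, mul_pow, ← mul_assoc,
      ← Finset.prod_mul_distrib, ← Finset.prod_const (b := 1 - ε)]
    congr 1
    exact Finset.prod_congr rfl fun μ hμ => hc' μ hμ
  have hd := Glauberman.dvd_of_pCong_zero (p := p)
    ⟨_, (IsIntegral.prod (s := primitiveRoots p ℂ) c fun μ hμ => hc μ hμ).mul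
      (hω.pow (primitiveRoots p ℂ).card), by rw [sub_zero]; exact hn⟩
  exact (Nat.prime_iff_prime_int.1 hp).dvd_of_dvd_pow hd

/-! ### Three companions -/

section Three

variable {G : Type u} [Group G] [Fintype G]

theorem eq_zero_of_three {ι : Type*} (s : Finset ι) (μ ν : ι → IrrCharacter G)
    (hdisj : ∀ i ∈ s, ∀ j ∈ s, μ i ≠ ν j ∧ (i ≠ j → μ i ≠ μ j ∧ ν i ≠ ν j))
    {Φ : G → ℂ} (hΦ : IsGeneralizedCharacter G Φ) (hn : classInner Φ Φ = s.card)
    (hd : ∀ i ∈ s, classInner Φ ((μ i).1 - (ν i).1) ≠ 0)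
    (χ : Fin 3 → IrrCharacter G) (hχ : Function.Injective χ)
    (havoid : ∀ i ∈ s, ∀ j, μ i ≠ χ j ∧ ν i ≠ χ j) {z : ℤ}
    (hz : ∀ j, classInner Φ (χ j).1 = z ∨ classInner Φ (χ j).1 = -z) : z = 0 := by
  classical
  obtain ⟨m, hm, hmi⟩ := Char.IsGeneralizedCharacter.exists_decomp hΦ
  have hsq : ∑ ψ, m ψ ^ 2 = (s.card : ℤ) := by
    have h := Char.IsGeneralizedCharacter.classInner_self_eq_sum hm
    rw [hn] at h
    exact_mod_cast h.symm
  have hz' : ∀ j, m (χ j) ^ 2 = z ^ 2 := fun j => by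
    rcases hz j with h | h <;> rw [hmi] at h
    · rw [show m (χ j) = z by exact_mod_cast h]
    · rw [show m (χ j) = -z by exact_mod_cast h, neg_sq]
  have h1 : ∀ i ∈ s, 1 ≤ m (μ i) ^ 2 + m (ν i) ^ 2 := by
    intro i hi
    have h := hd i hi
    rw [Char.classInner_sub_right, hmi, hmi] at h
    have hne : m (μ i) - m (ν i) ≠ 0 := fun e => h (by exact_mod_cast congrArg (Int.cast : ℤ → ℂ) e)
    by_cases e : m (μ i) = 0
    · have : m (ν i) ≠ 0 := by omega
      nlinarith [sq_pos_of_ne_zero this, sq_nonneg (m (μ i))]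
    · nlinarith [sq_pos_of_ne_zero e, sq_nonneg (m (ν i))]
  set T1 := s.image μ with hT1
  set T2 := s.image ν with hT2
  set T3 := (Finset.univ : Finset (Fin 3)).image χ with hT3
  have hd12 : Disjoint T1 T2 := by
    rw [Finset.disjoint_left]
    intro a ha hb
    obtain ⟨i, hi, rfl⟩ := Finset.mem_image.1 ha
    obtain ⟨j, hj, he⟩ := Finset.mem_image.1 hb
    exact (hdisj i hi j hj).1 he.symm
  have hd3 : Disjoint (T1 ∪ T2) T3 := by
    rw [Finset.disjoint_left]
    intro a ha hb
    obtain ⟨j, -, rfl⟩ := Finset.mem_image.1 hb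
    rcases Finset.mem_union.1 ha with h | h <;> obtain ⟨i, hi, he⟩ := Finset.mem_image.1 h
    · exact (havoid i hi j).1 he
    · exact (havoid i hi j).2 he
  have hle := Finset.sum_le_sum_of_subset_of_nonneg (Finset.subset_univ ((T1 ∪ T2) ∪ T3))
    (f := fun ψ => m ψ ^ 2) fun ψ _ _ => sq_nonneg _
  rw [hsq, Finset.sum_union hd3, Finset.sum_union hd12, hT1, hT2, hT3,
    Finset.sum_image fun i hi j hj e => by_contra fun hij => ((hdisj i hi j hj).2 hij).1 e,
    Finset.sum_image fun i hi j hj e => by_contra fun hij => ((hdisj i hi j hj).2 hij).2 e,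
    Finset.sum_image fun i _ j _ e => hχ e, ← Finset.sum_add_distrib] at hle
  have h2 := Finset.sum_le_sum h1
  simp only [hz', Finset.sum_const, Finset.card_univ, Fintype.card_fin, nsmul_eq_mul, mul_one] at hle h2
  push_cast at hle
  have : z ^ 2 ≤ 0 := by linarith
  exact pow_eq_zero_iff two_ne_zero |>.1 (le_antisymm this (sq_nonneg z))

/-- Three pairwise orthogonal generalized characters of norm one are, up to sign, three distinct
irreducible characters. -/
theorem exists_three_irr (ψ : Fin 3 → G → ℂ) (hg : ∀ j, IsGeneralizedCharacter G (ψ j))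
    (ho : ∀ i j, classInner (ψ i) (ψ j) = if i = j then 1 else 0) :
    ∃ χ : Fin 3 → IrrCharacter G, Function.Injective χ ∧ ∀ j, ψ j = (χ j).1 ∨ ψ j = -(χ j).1 := by
  choose χ hχ using fun j => Char.IsGeneralizedCharacter.irr_or_neg_of_norm_one (hg j)
    (by rw [ho, if_pos rfl])
  refine ⟨χ, fun i j e => by_contra fun hij => ?_, hχ⟩
  have h := ho i j
  rw [if_neg hij] at h
  rcases hχ i with a | a <;> rcases hχ j with b | b <;>
    rw [a, b, e] at h <;>
    simp [Char.classInner_neg_left, Char.classInner_neg_right, Char.classInner_irr_self (χ j).2] at h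

variable {A : Set G} {M : Subgroup G} [Fintype M] {R : G → Subgroup G}

/-- Three companions with equal inner products annihilate the Dade images. -/
theorem classInner_dade_eq_zero_of_three (hD : DadeHypothesis A M R)
    (hodd : Odd (Nat.card G)) (s : Finset (IrrCharacter M)) (e : IrrCharacter M → ℤ)
    (he : ∀ φ ∈ s, e φ = 1 ∨ e φ = -1)
    (hsupp : ∀ φ ∈ s, ∀ x : M, x ≠ 1 → (x : G) ∉ A → φ.1 x = 0)
    (hne : ∀ φ ∈ s, φ.1 ≠ fun _ => (1 : ℂ))
    (hconj : ∀ φ ∈ s, ∀ φ' ∈ s, φ'.1 ≠ conjFun φ.1)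
    {β : M → ℂ} (hβ : β = ∑ φ ∈ s, (e φ : ℂ) • φ.1) (hβA : ∀ x : M, (x : G) ∉ A → β x = 0)
    (ψ : Fin 3 → G → ℂ) (hg : ∀ j, IsGeneralizedCharacter G (ψ j))
    (ho : ∀ i j, classInner (ψ i) (ψ j) = if i = j then 1 else 0)
    (heq1 : ∀ φ ∈ s, ∀ j, classInner (dadeIsometry A M R (φ.1 - conjFun φ.1)) (ψ j) =
      classInner (dadeIsometry A M R (φ.1 - conjFun φ.1)) (ψ 0))
    (heq2 : ∀ j, classInner (dadeIsometry A M R β) (ψ j) = classInner (dadeIsometry A M R β) (ψ 0)) :
    classInner (dadeIsometry A M R β) (ψ 0) = 0 := by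
  classical
  obtain ⟨χ, hχinj, hχ⟩ := exists_three_irr ψ hg ho
  let cj : IrrCharacter M → IrrCharacter M := fun φ => ⟨conjFun φ.1, Char.IsIrrCharacter.conj_fun φ.2⟩
  have hconj' : ∀ φ ∈ s, cj φ ≠ φ := by
    intro φ hφ h
    have h' : conjFun φ.1 = φ.1 := congrArg Subtype.val h
    exact hne φ hφ (Cfsg.Agent.S0161.result (hodd.of_dvd_nat (Subgroup.card_subgroup_dvd_card M)) φ
      fun g => Complex.conj_eq_iff_im.1 (congrFun h' g))
  have hsub : ∀ φ ∈ s, ∀ x : M, (x : G) ∉ A → (φ.1 - conjFun φ.1) x = 0 := by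
    intro φ hφ x hx
    by_cases h1 : x = 1
    · obtain ⟨n, hn⟩ := Char.IsCharacter.apply_one (Char.IsIrrCharacter.isCharacter φ.2)
      subst h1
      simp [conjFun, hn]
    · simp [conjFun, hsupp φ hφ x h1 hx]
  have hsubc : ∀ φ : IrrCharacter M, IsClassFunction M (φ.1 - conjFun φ.1) := fun φ =>
    Char.IsGeneralizedCharacter.isClassFunction
      ⟨φ.1, conjFun φ.1, Char.IsIrrCharacter.isCharacter φ.2,
        Char.IsIrrCharacter.isCharacter (Char.IsIrrCharacter.conj_fun φ.2), rfl⟩
  have hμ : ∀ φ : IrrCharacter M, φ ∈ s → ∃ μ : IrrCharacter G,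
      dadeIsometry A M R (φ.1 - conjFun φ.1) = μ.1 - conjFun μ.1 := fun φ hφ => by
    obtain ⟨μ, hμ, h⟩ := Cfsg.Agent.S1518.result A M R hD φ.1 φ.2 (hsupp φ hφ)
    exact ⟨⟨μ, hμ⟩, h⟩
  choose μ hμ using hμ
  let μ' : IrrCharacter M → IrrCharacter G := fun φ => if h : φ ∈ s then μ φ h else Char.trivialChar G
  let ν : IrrCharacter M → IrrCharacter G := fun φ =>
    ⟨conjFun (μ' φ).1, Char.IsIrrCharacter.conj_fun (μ' φ).2⟩
  have hμ' : ∀ φ ∈ s, dadeIsometry A M R (φ.1 - conjFun φ.1) = (μ' φ).1 - (ν φ).1 := fun φ hφ => by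
    simp only [μ', ν, dif_pos hφ]; exact hμ φ hφ
  have hinner : ∀ i ∈ s, ∀ j ∈ s, classInner ((μ' i).1 - (ν i).1) ((μ' j).1 - (ν j).1) =
      if i = j then 2 else 0 := by
    intro i hi j hj
    rw [← hμ' i hi, ← hμ' j hj, classInner_dade_dade hD (hsubc i) (hsub i hi) (hsubc j)]
    have a1 : ∀ a b : IrrCharacter M, classInner a.1 b.1 = if a = b then (1 : ℂ) else 0 :=
      fun a b => Char.classInner_irr a b
    have e1 : conjFun i.1 = (cj i).1 := rfl
    have e2 : conjFun j.1 = (cj j).1 := rfl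
    rw [e1, e2, Char.classInner_sub_left, Char.classInner_sub_right, Char.classInner_sub_right]
    simp only [a1]
    have n1 : i ≠ cj j := fun h => hconj j hj i hi (congrArg Subtype.val h)
    have n2 : cj i ≠ j := fun h => hconj i hi j hj (congrArg Subtype.val h).symm
    rw [if_neg n1, if_neg n2]
    by_cases hij : i = j
    · subst hij; simp; norm_num
    · have n3 : cj i ≠ cj j := fun h => hij (Subtype.ext (funext fun g => (starRingEnd ℂ).injective
        (congrFun (congrArg Subtype.val h) g)))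
      simp [hij, n3]
  have hννμ : ∀ i ∈ s, μ' i ≠ ν i := by
    intro i hi h
    have := hinner i hi i hi
    rw [h, sub_self, if_pos rfl, Char.classInner_zero_left] at this
    norm_num at this
  have hνinj : ∀ i j, ν i = ν j → μ' i = μ' j := fun i j h => Subtype.ext (funext fun g =>
    (starRingEnd ℂ).injective (congrFun (congrArg Subtype.val h) g))
  have hdisj : ∀ i ∈ s, ∀ j ∈ s, μ' i ≠ ν j ∧ (i ≠ j → μ' i ≠ μ' j ∧ ν i ≠ ν j) := by
    intro i hi j hj
    have key : i ≠ j → μ' i ≠ μ' j := by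
      intro hij h
      have h' : ν i = ν j := by simp only [ν, h]
      have := hinner i hi j hj
      rw [← h, ← h', hinner i hi i hi, if_pos rfl, if_neg hij] at this
      norm_num at this
    refine ⟨fun h => ?_, fun hij => ⟨key hij, fun e => key hij (hνinj i j e)⟩⟩
    by_cases hij : i = j
    · exact hννμ i hi (hij ▸ h)
    have h' : ν i = μ' j := Subtype.ext (by
      show conjFun (μ' i).1 = _
      rw [h]
      funext g
      exact Complex.conj_conj _)
    have := hinner i hi j hj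
    rw [← h, ← h', if_neg hij] at this
    have h2 := hinner i hi i hi
    rw [if_pos rfl] at h2
    rw [show (ν i).1 - (μ' i).1 = -((μ' i).1 - (ν i).1) by simp, Char.classInner_neg_right, h2] at this
    norm_num at this
  have havoid : ∀ i ∈ s, ∀ j, μ' i ≠ χ j ∧ ν i ≠ χ j := by
    intro i hi j
    have hv : ∀ k, classInner ((μ' i).1 - (ν i).1) (χ k).1 =
        (if μ' i = χ k then 1 else 0) - (if ν i = χ k then 1 else 0) := fun k => by
      rw [Char.classInner_sub_left, Char.classInner_irr, Char.classInner_irr]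
    have hk : ∃ k, μ' i ≠ χ k ∧ ν i ≠ χ k := by
      by_contra hh
      push Not at hh
      have h3 : ∀ k, χ k = μ' i ∨ χ k = ν i := fun k => by
        by_cases e : μ' i = χ k
        · exact Or.inl e.symm
        · exact Or.inr (hh k e).symm
      rcases h3 0 with a | a <;> rcases h3 1 with b | b <;> rcases h3 2 with c | c <;>
        first
        | exact absurd (hχinj (a.trans b.symm)) (by decide)
        | exact absurd (hχinj (a.trans c.symm)) (by decide)
        | exact absurd (hχinj (b.trans c.symm)) (by decide)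
    obtain ⟨k, hk1, hk2⟩ := hk
    have h0 : classInner ((μ' i).1 - (ν i).1) (χ k).1 = 0 := by rw [hv, if_neg hk1, if_neg hk2, sub_zero]
    have hj : classInner ((μ' i).1 - (ν i).1) (χ j).1 = 0 := by
      have h1 := heq1 i hi k
      have h2 := heq1 i hi j
      rw [hμ' i hi] at h1 h2
      have h3 : classInner ((μ' i).1 - (ν i).1) (ψ k) = 0 := by
        rcases hχ k with a | a <;> rw [a]
        · exact h0
        · rw [Char.classInner_neg_right, h0, neg_zero]
      rw [← h1, h3] at h2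
      rcases hχ j with a | a <;> rw [a] at h2
      · exact h2
      · rwa [Char.classInner_neg_right, neg_eq_zero] at h2
    rw [hv] at hj
    refine ⟨fun h => ?_, fun h => ?_⟩
    · rw [if_pos h, if_neg (fun h' => hννμ i hi (h.trans h'.symm))] at hj
      norm_num at hj
    · rw [if_pos h, if_neg (fun h' => hννμ i hi (h'.trans h.symm))] at hj
      norm_num at hj
  have hβg : IsGeneralizedCharacter M β := by
    rw [hβ]
    exact Char.IsGeneralizedCharacter.sum _ fun φ _ =>
      Char.IsGeneralizedCharacter.intCast_smul (Char.irr_isGeneralized φ) _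
  have hβc := Char.IsGeneralizedCharacter.isClassFunction hβg
  have hΦ := isGeneralizedCharacter_dadeIsometry hD hβg hβA
  have hβin : ∀ θ : IrrCharacter M, classInner β θ.1 = if θ ∈ s then (e θ : ℂ) else 0 := by
    intro θ
    rw [hβ, Char.classInner_sum_left]
    simp only [Char.classInner_smul_left, Char.classInner_irr]
    simp
  have hn : classInner (dadeIsometry A M R β) (dadeIsometry A M R β) = (s.card : ℂ) := by
    rw [classInner_dade_dade hD hβc hβA hβc]
    conv_lhs => arg 2; rw [hβ]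
    rw [Char.classInner_sum_right]
    simp only [Char.classInner_smul_right, hβin]
    rw [Finset.sum_congr rfl (g := fun _ => (1 : ℂ)) fun φ hφ => by
      rw [if_pos hφ]; rcases he φ hφ with h | h <;> simp [h]]
    simp
  have hd : ∀ i ∈ s, classInner (dadeIsometry A M R β) ((μ' i).1 - (ν i).1) ≠ 0 := by
    intro i hi
    rw [← hμ' i hi, classInner_dade_dade hD hβc hβA (hsubc i), Char.classInner_sub_right,
      show conjFun i.1 = (cj i).1 from rfl, hβin, hβin, if_pos hi,
      if_neg (fun h => hconj i hi (cj i) h rfl), sub_zero]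
    rcases he i hi with h | h <;> simp [h]
  obtain ⟨z, hz⟩ := Char.IsGeneralizedCharacter.exists_int_classInner hΦ (hg 0)
  have hz' : ∀ j, classInner (dadeIsometry A M R β) (χ j).1 = z ∨
      classInner (dadeIsometry A M R β) (χ j).1 = -z := by
    intro j
    have h := heq2 j
    rw [hz] at h
    rcases hχ j with a | a <;> rw [a] at h
    · exact Or.inl h
    · rw [Char.classInner_neg_right] at h
      exact Or.inr (by rw [← h, neg_neg])
  rw [hz, eq_zero_of_three s μ' ν hdisj hΦ hn hd χ hχinj havoid hz']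
  simp

end Three

end Cfsg.Agent.OddOrder.PF
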