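import Cfsg.Agent.Lib.OddOrder.PF.S12_Lines
import Cfsg.Agent.Lib.OddOrder.PF.Pair
import Cfsg.Agent.Lib.OddOrder.PF.TypeOneCover
import Cfsg.Agent.Lib.OddOrder.SigmaEmbed
import Cfsg.Agent.Lib.OddOrder.SigmaPrime
import Cfsg.Agent.Lib.OddOrder.SigmaConj
import Cfsg.Agent.Lib.OddOrder.CNSolvable
import Cfsg.Agent.Lib.OddOrder.Members
import Cfsg.Agent.Lib.OddOrder.PiHallExists
import Cfsg.Agent.Lib.Coprime.Generation
import Cfsg.Agent.S1417

/-!
Peterfalvi (12.8)-(12.10): the configuration of a maximal subgroup of Type I that is not a Frobenius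
group, with the minimal prime of the Frobenius complement, and the Frobenius group that supports it.
-/

set_option autoImplicit false
set_option linter.unusedSectionVars false
set_option linter.style.haveILetI false

namespace Cfsg.Agent.OddOrder.PF

open Cfsg
open scoped Pointwise

universe u

variable {G : Type u} [Group G] [Finite G]

theorem isComplIn_symm {A B M : Subgroup G} (h : IsComplIn A B M) : IsComplIn B A M := by
  obtain ⟨hA, hB, hAB, hmul⟩ := h
  refine ⟨hB, hA, by rw [inf_comm, hAB], fun m hm => ?_⟩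
  obtain ⟨a, ha, b, hb, he⟩ := hmul m⁻¹ (M.inv_mem hm)
  exact ⟨b⁻¹, B.inv_mem hb, a⁻¹, A.inv_mem ha, by rw [← mul_inv_rev, ← he, inv_inv]⟩

/-- In a member of a pair the centralisers of the elements of `A₁` stay inside. -/
theorem typeA1_centralizer_le (B : BGFacts G) (hPK : PairKernel G) {L : Subgroup G} (hL : IsCoatom L)
    (hI : ¬ IsOfTypeI' L) {x : G} (hx : x ∈ typeA1 L) : Subgroup.centralizer ({x} : Set G) ≤ L := by
  classical
  obtain ⟨S, T, W₁, W₂, U, V, P, g, rfl⟩ := exists_typePair_of_not_typeI B hL hI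
  obtain ⟨-, -, hTI, hN⟩ := hPK S T W₁ W₂ U V P
  obtain ⟨hx1, hx2⟩ := hx
  rw [SetLike.mem_coe, typeCore_eq_sigmaCore B hL] at hx1
  have hx2' : x ≠ 1 := hx2
  have hmap : sigmaCore (S.map (MulAut.conj g).toMonoidHom) =
      (sigmaCore S).map (MulAut.conj g).toMonoidHom := sigmaCore_conj g S
  rw [hmap] at hx1
  obtain ⟨x₀, hx₀, rfl⟩ := hx1
  have hx₀1 : x₀ ≠ 1 := fun e => hx2' (by rw [e, map_one])
  have hA : x₀ ∈ typeA0' S := by
    refine typeA_subset_typeA0 (typeA1_subset_typeA B P.hS ⟨?_, hx₀1⟩)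
    rw [SetLike.mem_coe, typeCore_eq_sigmaCore B P.hS]
    exact hx₀
  intro c hc
  have hc' : Commute c (g * x₀ * g⁻¹) := (Subgroup.mem_centralizer_singleton_iff.1 hc :)
  have hmem : g⁻¹ * c * g ∈ Subgroup.normalizer (typeA0' S) := by
    by_contra hn
    refine hx₀1 (hTI _ hn x₀ hA ?_)
    have h2 : g⁻¹ * c * g * x₀ * (g⁻¹ * c * g)⁻¹ = x₀ := by
      have h3 : c * (g * x₀ * g⁻¹) * c⁻¹ = g * x₀ * g⁻¹ := by rw [hc'.eq, mul_inv_cancel_right]
      calc g⁻¹ * c * g * x₀ * (g⁻¹ * c * g)⁻¹ = g⁻¹ * (c * (g * x₀ * g⁻¹) * c⁻¹) * g := by group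
        _ = x₀ := by rw [h3]; group
    rw [h2]; exact hA
  rw [hN] at hmem
  exact ⟨_, hmem, by simp only [MulEquiv.coe_toMonoidHom, MulAut.conj_apply]; group⟩

/-! ### Basic facts on a maximal subgroup of Type I -/

section TypeI

variable (hG : IsMinSimpleOddOrder G) (B : BGFacts G) {M : Subgroup G} (hM : IsCoatom M)
  (hI : IsOfTypeI' M)

include hG B hM hI

theorem fittingHallOf_ne_bot_of_typeI : fittingHallOf M ≠ ⊥ := (B.s1355 M hM).1

theorem not_dvd_fittingHall_of_not_sigma {r : ℕ} (hr : r.Prime) (hs : r ∉ sigma M) :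
    ¬ r ∣ Nat.card (fittingHallOf M) := fun hd => hs <|
  mem_sigma_of_dvd_sigmaCore hr (by rw [sigmaCore_eq_fittingHallOf_of_typeI B hM hI]; exact hd)

theorem mem_sigma_of_dvd_fittingHall {r : ℕ} (hr : r.Prime)
    (hd : r ∣ Nat.card (fittingHallOf M)) : r ∈ sigma M :=
  by_contra fun h => not_dvd_fittingHall_of_not_sigma hG B hM hI hr h hd

theorem le_normalizer_fittingHallOf : M ≤ Subgroup.normalizer (fittingHallOf M : Set G) :=
  le_normalizer_map_subtype (fittingHall M)

/-- An element of `M` of order prime to `|M_F|` lies in a complement, so a fixed point in `M_F` makes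
its centraliser lie in `M` alone. -/
theorem centralizer_le_of_coprime {a : G} (haM : a ∈ M) (ha1 : a ≠ 1)
    (hcop : (orderOf a).Coprime (Nat.card (fittingHallOf M)))
    (hfix : fittingHallOf M ⊓ Subgroup.centralizer ({a} : Set G) ≠ ⊥) :
    Subgroup.centralizer ({a} : Set G) ≤ M ∧
      ∀ L : Subgroup G, IsCoatom L → Subgroup.centralizer ({a} : Set G) ≤ L → L = M := by
  obtain ⟨E, hE, haE⟩ := exists_compl_ge hG hM (Subgroup.zpowers_le.2 haM) fun q hq hd hs => by
    haveI := Fact.mk hq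
    rw [Nat.card_zpowers] at hd
    have h2 : q ∣ Nat.card (fittingHallOf M) := by
      rw [← sigmaCore_eq_fittingHallOf_of_typeI B hM hI]
      obtain ⟨S⟩ : Nonempty (Sylow q M) := inferInstance
      refine dvd_trans ?_ (Subgroup.card_dvd_of_le (sylow_le_sigmaCore hG hM hs S))
      rw [Subgroup.card_map_of_injective M.subtype_injective]
      exact S.dvd_card_of_dvd_card (hs.2.1)
    exact hq.ne_one (Nat.dvd_one.1 (hcop ▸ Nat.dvd_gcd hd h2))
  rw [sigmaCore_eq_fittingHallOf_of_typeI B hM hI] at hE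
  exact (B.s1390 M hM E (Or.inl ⟨hI, isComplIn_symm hE⟩)).2.1 {a}
    (by rw [Set.singleton_subset_iff]; exact ⟨haE (Subgroup.mem_zpowers a), ha1⟩)
    (Set.singleton_nonempty a) hfix

end TypeI

/-- `y` of prime order `r` outside `M_F` fixes a non-identity element of `M_F`. -/
structure Witness (M : Subgroup G) (r : ℕ) : Prop where
  coatom : IsCoatom M
  typeI : IsOfTypeI' M
  prime : r.Prime
  exists_elem : ∃ y ∈ M, y ∉ fittingHallOf M ∧ orderOf y = r ∧
    ∃ z ∈ fittingHallOf M, z ≠ 1 ∧ y * z = z * y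

theorem exists_witness {M : Subgroup G} (hM : IsCoatom M) (hI : IsOfTypeI' M) {x : G}
    (hx : x ∈ fittingHallOf M) (hx1 : x ≠ 1) {c : G} (hcM : c ∈ M) (hc : c * x = x * c)
    (hcK : c ∉ fittingHallOf M) : ∃ r, Witness M r := by
  classical
  set c' : M := ⟨c, hcM⟩
  have hc' : c' ∉ fittingHall M := fun h => hcK ⟨c', h, rfl⟩
  have h1 : orderOf (QuotientGroup.mk c' : M ⧸ fittingHall M) ≠ 1 := fun h =>
    hc' ((QuotientGroup.eq_one_iff _).1 (orderOf_eq_one_iff.1 h))
  obtain ⟨r, hr, hrd⟩ := Nat.exists_prime_and_dvd h1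
  have hrc : r ∣ orderOf c := by
    refine hrd.trans ?_
    rw [show orderOf c = orderOf c' from Subgroup.orderOf_coe c']
    exact orderOf_map_dvd (QuotientGroup.mk' _) c'
  refine ⟨r, hM, hI, hr, c ^ (orderOf c / r), M.pow_mem hcM _, fun h => ?_,
    orderOf_pow_orderOf_div (orderOf_pos c).ne' hrc, x, hx, hx1,
    ((Commute.pow_left (show Commute c x from hc) _)).eq⟩
  have h2 := Subgroup.orderOf_dvd_natCard _ h
  rw [orderOf_pow_orderOf_div (orderOf_pos c).ne' hrc, card_fittingHallOf] at h2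
  have h3 : r ∣ (fittingHall M).index := hrd.trans (orderOf_dvd_natCard _)
  exact hr.ne_one (Nat.dvd_one.1 ((fittingHall_coprime_index M) ▸ Nat.dvd_gcd h2 h3))

section

variable (hG : IsMinSimpleOddOrder G) (B : BGFacts G) {M : Subgroup G} {r : ℕ} (hW : Witness M r)

include hG B hW

theorem witness_not_sigma : r ∉ sigma M := by
  intro hs
  haveI := Fact.mk hW.prime
  obtain ⟨y, hyM, hyK, hyr, -⟩ := hW.exists_elem
  obtain ⟨S, hS⟩ := exists_sylow_map_ge (p := r) (M := M) (X := Subgroup.zpowers y)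
    (IsPGroup.of_card (n := 1) (by rw [Nat.card_zpowers, hyr, pow_one])) (Subgroup.zpowers_le.2 hyM)
  have h := sylow_le_sigmaCore hG hW.coatom hs S (hS (Subgroup.mem_zpowers y))
  rw [sigmaCore_eq_fittingHallOf_of_typeI B hW.coatom hW.typeI] at h
  exact hyK h

theorem witness_tau2 : r ∈ tau2 M := by
  haveI := Fact.mk hW.prime
  refine mem_tau2 hG hW.coatom hW.prime (witness_not_sigma hG B hW) fun h1 => ?_
  obtain ⟨y, hyM, -, hyr, z, hz, hz1, hyz⟩ := hW.exists_elem
  have h := mem_kappa_of_fixed hG h1 (witness_not_sigma hG B hW) (Subgroup.zpowers_le.2 hyM)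
    (by rw [Nat.card_zpowers, hyr]) (fun h => hz1 (Subgroup.mem_bot.1 (h ▸
      ⟨by rw [sigmaCore_eq_fittingHallOf_of_typeI B hW.coatom hW.typeI]; exact hz,
       Subgroup.mem_centralizer_iff.2 fun a ha => by
        obtain ⟨n, rfl⟩ := ha
        exact ((show Commute y z from hyz).zpow_left n).eq⟩)))
  rw [kappa_eq_empty_of_typeI B hW.coatom hW.typeI] at h
  exact h

theorem witness_square : ∃ E A : Subgroup G, IsComplIn (fittingHallOf M) E M ∧ A ≤ E ∧
    IsElementaryAbelian r A ∧ Nat.card A = r ^ 2 ∧ (∃ y ∈ A, y ∉ fittingHallOf M ∧ orderOf y = r) ∧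
    fittingHallOf M ⊓ Subgroup.centralizer (A : Set G) = ⊥ := by
  haveI := Fact.mk hW.prime
  have hτ := witness_tau2 hG B hW
  have hσ := sigmaCore_eq_fittingHallOf_of_typeI B hW.coatom hW.typeI
  obtain ⟨y, hyM, hyK, hyr, -⟩ := hW.exists_elem
  have hyp : IsPGroup r (Subgroup.zpowers y) :=
    IsPGroup.of_card (n := 1) (by rw [Nat.card_zpowers, hyr, pow_one])
  obtain ⟨E, hE, hyE⟩ := exists_compl_ge hG hW.coatom (Subgroup.zpowers_le.2 hyM) fun q hq hd => by
    rw [Nat.card_zpowers, hyr] at hd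
    rw [(Nat.prime_dvd_prime_iff_eq hq hW.prime).1 hd]
    exact witness_not_sigma hG B hW
  obtain ⟨S, A, ⟨P, hP⟩, hSE, hyS, hAS, hA, hAc⟩ := exists_square_compl hG hτ hE hyp hyE
  obtain ⟨-, h2, -, h4, -⟩ := Cfsg.Agent.S1417.result hG M hW.coatom r hτ A
    ⟨hAS.trans (hSE.trans hE.1), hA, hAc⟩
  rw [hσ] at hE h4
  refine ⟨E, A, isComplIn_symm hE, hAS.trans hSE, hA, hAc, ⟨y, ?_, hyK, hyr⟩, h4⟩
  exact (((h2 P).2 (hP ▸ hAS)).1 y (hP ▸ hyS (Subgroup.mem_zpowers y))).1
    (by rw [← hyr]; exact pow_orderOf_eq_one y)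

end

/-! ### Two lemmas on elementary abelian subgroups of order `p ^ 2` -/

theorem mem_of_rankLE {p : ℕ} [hp : Fact p.Prime] {H A : Subgroup G} [IsMulCommutative H]
    (hr : RankLE 2 H) (hAH : A ≤ H) (hA : IsElementaryAbelian p A) (hAc : Nat.card A = p ^ 2)
    {a : G} (haH : a ∈ H) (ha : a ^ p = 1) : a ∈ A := by
  let Ω : Subgroup H :=
    { carrier := {h | h ^ p = 1}
      one_mem' := one_pow p
      mul_mem' := fun {u v} hu hv => by
        show (u * v) ^ p = 1
        rw [(show Commute u v from mul_comm' u v).mul_pow, hu, hv, one_mul]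
      inv_mem' := fun {u} hu => by show u⁻¹ ^ p = 1; rw [inv_pow, hu, inv_one] }
  have hc : IsMulCommutative Ω := ⟨⟨fun u v => Subtype.ext (mul_comm' (u : H) v)⟩⟩
  have hcard := hr p hp.out Ω hc fun u hu => hu
  have hle : A.subgroupOf H ≤ Ω := fun u hu => Subtype.ext (hA.2 u.1 hu)
  have heq := Subgroup.eq_of_le_of_card_ge hle
    (by rw [Nat.card_congr (Subgroup.subgroupOfEquivOfLe hAH).toEquiv, hAc]; exact hcard)
  exact (heq.ge (show (⟨a, haH⟩ : H) ∈ Ω from Subtype.ext ha) : (⟨a, haH⟩ : H) ∈ A.subgroupOf H)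

open scoped IsMulCommutative in
/-- An element of odd prime order `r > p` normalising a subgroup of order `p ^ 2` centralises it. -/
theorem mem_centralizer_of_prime_gt {p r : ℕ} [hp : Fact p.Prime] [hr : Fact r.Prime] (hpr : p < r)
    (hodd : Odd r) (hp2 : p ≠ 2) {A : Subgroup G} (hAc : Nat.card A = p ^ 2) {b : G}
    (hb : b ^ r = 1) (hbA : b ∈ Subgroup.normalizer (A : Set G)) :
    b ∈ Subgroup.centralizer (A : Set G) := by
  classical
  have hle : Subgroup.zpowers b ≤ Subgroup.normalizer (A : Set G) := Subgroup.zpowers_le.2 hbA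
  letI : MulAction (Subgroup.zpowers b) A :=
    MulAction.compHom A ((A.normalizerMonoidHom).comp (Subgroup.inclusion hle))
  have hP : IsPGroup r (Subgroup.zpowers b) := by
    obtain ⟨i, hi, hb'⟩ := (Nat.dvd_prime_pow hr.out).1
      (show orderOf b ∣ r ^ 1 by rw [pow_one]; exact orderOf_dvd_of_pow_eq_one hb)
    exact IsPGroup.of_card (n := i) (by rw [Nat.card_zpowers, hb'])
  have hsmul : ∀ (w : Subgroup.zpowers b) (a : A), ((w • a : A) : G) = (w : G) * a * (w : G)⁻¹ :=
    fun w a => rfl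
  set C := A ⊓ Subgroup.centralizer ({b} : Set G) with hC
  have hfix : Nat.card (MulAction.fixedPoints (Subgroup.zpowers b) A) = Nat.card C := by
    refine Nat.card_congr
      { toFun := fun a => ⟨a.1.1, a.1.2, Subgroup.mem_centralizer_singleton_iff.2 ?_⟩
        invFun := fun a => ⟨⟨a.1, a.2.1⟩, ?_⟩
        left_inv := fun a => rfl
        right_inv := fun a => rfl }
    · have h := congrArg Subtype.val (a.2 ⟨b, Subgroup.mem_zpowers b⟩)
      rw [hsmul] at h
      exact (mul_inv_eq_iff_eq_mul.1 h).symm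
    · rintro ⟨w, n, rfl⟩
      refine Subtype.ext ((hsmul _ _).trans ?_)
      have hc : Commute b a.1 := (Subgroup.mem_centralizer_singleton_iff.1 a.2.2).symm
      show b ^ n * a.1 * (b ^ n)⁻¹ = a.1
      rw [(hc.zpow_left n).eq, mul_inv_cancel_right]
  have hmod := hP.card_modEq_card_fixedPoints A
  rw [hfix, hAc] at hmod
  obtain ⟨i, hi, hi'⟩ := (Nat.dvd_prime_pow hp.out).1
    (hAc ▸ Subgroup.card_dvd_of_le (inf_le_left : C ≤ A) : Nat.card C ∣ p ^ 2)
  have hd := (Nat.modEq_iff_dvd' (hi' ▸ Nat.pow_le_pow_right hp.out.pos hi)).1 hmod.symm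
  rw [hi'] at hd
  have h2 := hp.out.two_le
  interval_cases i
  · rw [pow_zero, show p ^ 2 - 1 = (p + 1) * (p - 1) from by
      simpa using Nat.sq_sub_sq p 1] at hd
    rcases (Nat.Prime.dvd_mul hr.out).1 hd with h | h
    · have h3 := Nat.le_of_dvd (by omega) h
      obtain ⟨k, hk⟩ := hodd
      obtain ⟨l, hl⟩ := hp.out.odd_of_ne_two hp2
      omega
    · have := Nat.le_of_dvd (by omega) h
      omega
  · rw [pow_one, show p ^ 2 - p = p * (p - 1) by rw [Nat.mul_sub, sq, mul_one]] at hd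
    rcases (Nat.Prime.dvd_mul hr.out).1 hd with h | h
    · have := Nat.le_of_dvd (by omega) h
      omega
    · have := Nat.le_of_dvd (by omega) h
      omega
  · have hCA : C = A := Subgroup.eq_of_le_of_card_ge inf_le_left (by rw [hi', hAc])
    exact Subgroup.mem_centralizer_iff.2 fun a ha =>
      Subgroup.mem_centralizer_singleton_iff.1 (hCA.ge ha).2

open Frobenius.Fpf in
open scoped IsMulCommutative in
/-- A solvable fixed-point-free group whose order `p` and `q` divide has an element of order `p q`. -/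
theorem exists_orderOf_mul {U W : Subgroup G} [IsMulCommutative W] [Group.IsSolvable U]
    (hUW : U ≤ Subgroup.normalizer (W : Set G)) (hW : W ≠ ⊥)
    (hfree : ∀ v ∈ U, v ≠ 1 → W ⊓ Subgroup.centralizer {v} = ⊥) {p q : ℕ} [hp : Fact p.Prime]
    [hq : Fact q.Prime] (hne : p ≠ q) (hpU : p ∣ Nat.card U) (hqU : q ∣ Nat.card U) :
    ∃ c ∈ U, orderOf c = p * q := by
  haveI : Nontrivial W := (Subgroup.nontrivial_iff_ne_bot W).2 hW
  have hf := isFpf_conjHom U W hUW hfree
  obtain ⟨V, -, hV⟩ := exists_piHall_ge (H := U) ({p, q} : Set ℕ) (K := ⊥)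
    fun s hs hd => absurd (Nat.dvd_one.1 (Subgroup.card_bot (G := U) ▸ hd)) hs.ne_one
  have hdvd : ∀ s : ℕ, s.Prime → s ∈ ({p, q} : Set ℕ) → s ∣ Nat.card U → s ∣ Nat.card V := by
    intro s hs hmem hd
    rw [← Subgroup.card_mul_index V] at hd
    exact ((Nat.Prime.dvd_mul hs).1 hd).resolve_right (hV.2 s hs hmem)
  have hpV := hdvd p hp.out (Or.inl rfl) hpU
  have hqV := hdvd q hq.out (Or.inr rfl) hqU
  haveI : Nontrivial V := Finite.one_lt_card_iff_nontrivial.1
    (lt_of_lt_of_le hp.out.one_lt (Nat.le_of_dvd Nat.card_pos hpV))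
  set φ := (conjHom U W hUW).comp V.subtype
  have hfV : IsFpf (V := W) φ := fun a ha v hv =>
    hf (a : U) (fun h => ha (Subtype.ext h)) v hv
  obtain ⟨n, hn, hnn⟩ := exists_normal_prime_order (Q := V) fun D hD =>
    isCyclic_of_comm (A := D) (V := W) (φ := φ.comp D.subtype)
      (fun a ha v hv => hfV (a : V) (fun h => ha (Subtype.ext h)) v hv) hD
  have key : ∀ s t : ℕ, s.Prime → t.Prime → s ≠ t → orderOf n = s → t ∣ Nat.card V →
      ∃ c ∈ U, orderOf c = s * t := by
    intro s t hs ht hst hns htV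
    haveI := Fact.mk hs
    haveI := Fact.mk ht
    obtain ⟨b, hb⟩ := exists_prime_orderOf_dvd_card' (G := V) t htV
    have hc := commute_of_conj_mem_zpowers hfV (p := t) (q := s) (a := n) (b := b)
      (hns ▸ pow_orderOf_eq_one n) (hb ▸ pow_orderOf_eq_one b) (hnn b)
    refine ⟨(((n * b : V) : U) : G), ((n * b : V) : U).2, ?_⟩
    rw [Subgroup.orderOf_coe, Subgroup.orderOf_coe, hc.orderOf_mul_eq_mul_orderOf_of_coprime
      (by rw [hns, hb]; exact (Nat.coprime_primes hs ht).2 hst), hns, hb]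
  rcases hV.1 _ hn (orderOf_dvd_natCard n) with h | h
  · exact key p q hp.out hq.out hne h hqV
  · obtain ⟨c, hc, hc'⟩ := key q p hq.out hp.out hne.symm h hpV
    exact ⟨c, hc, by rw [hc', mul_comm]⟩

/-! ### The configuration -/

/-- Peterfalvi (12.8)-(12.10): `M` is of Type I with `x ∈ M` of the minimal prime order `p`,
`C_K(x) ⊄ K'` for `K = M_F`, and the Frobenius group `L` with kernel `H` contains `M ∩ L` in `H`. -/
structure TwelveSetup (M L : Subgroup G) (x : G) (p : ℕ) : Prop where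
  hM : IsCoatom M
  hL : IsCoatom L
  hMI : IsOfTypeI' M
  hLI : IsOfTypeI' L
  prime : p.Prime
  x_mem : x ∈ M
  x_notMem : x ∉ fittingHallOf M
  x_order : orderOf x = p
  x_kernel : x ∈ fittingHallOf L
  cent_le : Subgroup.centralizer ({x} : Set G) ≤ M
  cent_unique : ∀ N : Subgroup G, IsCoatom N → Subgroup.centralizer ({x} : Set G) ≤ N → N = M
  not_le : ¬ fittingHallOf M ⊓ Subgroup.centralizer ({x} : Set G) ≤ ⁅fittingHallOf M, fittingHallOf M⁆
  notConj : ∀ g : G, L ≠ M.map (MulAut.conj g).toMonoidHom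
  frob : ∀ z ∈ fittingHallOf L, z ≠ 1 → L ⊓ Subgroup.centralizer ({z} : Set G) ≤ fittingHallOf L
  compl : IsComplIn (fittingHallOf M) (M ⊓ L) M
  inf_le : M ⊓ L ≤ fittingHallOf L
  R_eq : supportR L x = fittingHallOf M ⊓ Subgroup.centralizer ({x} : Set G)
  p_not_sigma : p ∉ sigma M
  square : ∃ A : Subgroup G, A ≤ M ⊓ L ∧ IsElementaryAbelian p A ∧ Nat.card A = p ^ 2
  index_dvd : (fittingHall L).index ∣ p - 1 ∨ (fittingHall L).index ∣ p + 1

theorem exists_twelveSetup (hG : IsMinSimpleOddOrder G) (B : BGFacts G) (hPK : PairKernel G)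
    (hex : ∃ (M : Subgroup G) (r : ℕ), Witness M r) :
    ∃ (M L : Subgroup G) (x : G) (p : ℕ), TwelveSetup M L x p := by
  classical
  have hex' : ∃ r, ∃ M : Subgroup G, Witness M r := by
    obtain ⟨M, r, h⟩ := hex; exact ⟨r, M, h⟩
  obtain ⟨p, M, hW, hmin⟩ : ∃ (p : ℕ) (M : Subgroup G), Witness M p ∧
      ∀ (N : Subgroup G) (r : ℕ), Witness N r → p ≤ r := by
    obtain ⟨M, hW⟩ := Nat.find_spec hex'
    exact ⟨_, M, hW, fun N r h => Nat.find_min' hex' ⟨N, h⟩⟩
  have hM := hW.coatom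
  have hMI := hW.typeI
  haveI := Fact.mk hW.prime
  have hps := witness_not_sigma hG B hW
  have hσM := sigmaCore_eq_fittingHallOf_of_typeI B hM hMI
  obtain ⟨E, A, hE, hAE, hA, hAc, ⟨y, hyA, hyK, hyr⟩, hAK⟩ := witness_square hG B hW
  haveI := hA.1
  set K := fittingHallOf M with hK
  have hKne : K ≠ ⊥ := (B.s1355 M hM).1
  have hpG : p ∣ Nat.card G := hyr ▸ orderOf_dvd_natCard y
  have hp2 : p ≠ 2 := ne_two_of_odd_of_dvd hG.1 hpG
  have hcop : (Nat.card A).Coprime (Nat.card K) := by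
    rw [hAc]
    exact (hW.prime.coprime_iff_not_dvd.2
      (not_dvd_fittingHall_of_not_sigma hG B hM hMI hW.prime hps)).pow_left 2
  have hAM : A ≤ M := hAE.trans hE.2.1
  have hAncyc : ¬ IsCyclic A := fun h => by
    obtain ⟨a, ha⟩ := h.exists_generator
    have h1 : orderOf a = Nat.card A := orderOf_eq_card_of_forall_mem_zpowers ha
    have h2 : orderOf a ∣ p := orderOf_dvd_of_pow_eq_one (Subtype.ext (hA.2 a a.2))
    rw [h1, hAc] at h2
    exact absurd (Nat.le_of_dvd hW.prime.pos h2) (by nlinarith [hW.prime.two_le])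
  -- the element `x`
  obtain ⟨x, hxA, hx1, hxK'⟩ : ∃ x ∈ A, x ≠ 1 ∧
      ¬ K ⊓ Subgroup.centralizer ({x} : Set G) ≤ ⁅K, K⁆ := by
    by_contra hh
    push Not at hh
    have h := Coprime.eq_of_forall_centralizer_le hAncyc
      (hAM.trans (le_normalizer_fittingHallOf hG B hM hMI)) hcop
      K.commutator_le_self fun a ha ha1 => hh a ha ha1
    haveI : Group.IsSolvable K := hG.2.2.2 K (fun e => hM.1 (top_unique (e ▸ fittingHallOf_le M)))
    haveI : Nontrivial K := (Subgroup.nontrivial_iff_ne_bot K).2 hKne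
    refine (Group.IsSolvable.commutator_lt_top_of_nontrivial K).ne ?_
    apply Subgroup.map_injective K.subtype_injective
    rw [_root_.commutator_def, Subgroup.map_commutator, ← MonoidHom.range_eq_map, Subgroup.range_subtype]
    exact h
  have hxord : orderOf x = p := orderOf_eq_prime (hA.2 x hxA) hx1
  have hxM := hAM hxA
  have hxnK : x ∉ K := fun h => hx1 <| Subgroup.mem_bot.1
    (hE.2.2.1.le (⟨h, hAE hxA⟩ : x ∈ K ⊓ E))
  obtain ⟨hCle, hCu⟩ := centralizer_le_of_coprime hG B hM hMI hxM hx1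
    (by rw [hxord]; exact (hW.prime.coprime_iff_not_dvd.2
      (not_dvd_fittingHall_of_not_sigma hG B hM hMI hW.prime hps)))
    (fun h => hxK' (le_trans (le_of_eq h) bot_le))
  -- the group `L`
  have hAp : IsPGroup p A := IsPGroup.of_card (n := 2) hAc
  obtain ⟨L, hL, hpL, hAL⟩ : ∃ L : Subgroup G, IsCoatom L ∧ p ∈ sigma L ∧ A ≤ L := by
    obtain ⟨L₀, hL₀, hp₀⟩ := exists_sigma hG hpG
    obtain ⟨S⟩ : Nonempty (Sylow p L₀) := inferInstance
    obtain ⟨P, hP⟩ := sigma_sylow_eq hp₀ S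
    obtain ⟨Q, hQ⟩ := hAp.exists_le_sylow
    obtain ⟨g, hg⟩ := MulAction.exists_smul_eq G P Q
    refine ⟨MulAut.conj g • L₀, isCoatom_conj hL₀ g, by rw [sigma_conj]; exact hp₀, fun a ha => ?_⟩
    have h := hQ ha
    rw [← hg, Sylow.coe_subgroup_smul, hP] at h
    exact Subgroup.pointwise_smul_le_pointwise_smul_iff.2 (Subgroup.map_subtype_le _) h
  have hAσ : A ≤ sigmaCore L := by
    obtain ⟨S, hS⟩ := exists_sylow_map_ge hAp hAL
    exact hS.trans (sylow_le_sigmaCore hG hL hpL S)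
  have hnc : ∀ g : G, L ≠ M.map (MulAut.conj g).toMonoidHom := notConj_of_mem_sigma hpL hps
  have hne : L ≠ M := NotConj.ne (notConj_of_mem_sigma hpL hps)
  have hCnL : ¬ Subgroup.centralizer ({x} : Set G) ≤ L := fun h => hne (hCu L hL h)
  have hLI : IsOfTypeI' L := by
    by_contra hI
    exact hCnL (typeA1_centralizer_le B hPK hL hI
      ⟨by rw [SetLike.mem_coe, typeCore_eq_sigmaCore B hL]; exact hAσ hxA, hx1⟩)
  set H := fittingHallOf L with hH
  have hσL : sigmaCore L = H := sigmaCore_eq_fittingHallOf_of_typeI B hL hLI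
  rw [hσL] at hAσ
  have hxH : x ∈ H := hAσ hxA
  have hxA' : x ∈ typeA' L := by
    rw [typeA', if_pos hLI]
    exact ⟨hAL hxA, hx1, x, hxH, hx1, rfl⟩
  obtain ⟨hcompl0, -, -, -, -, -, -⟩ := (B.s1391 L hL _ (Or.inl rfl)).2.2 x hxA' hCnL M hM hCle
  rw [inf_comm L M] at hcompl0
  have hR : supportR L x = K ⊓ Subgroup.centralizer ({x} : Set G) := by
    have hh : ¬ Subgroup.centralizer ({x} : Set G) ≤ L ∧
        ∃! N : Subgroup G, IsCoatom N ∧ Subgroup.centralizer ({x} : Set G) ≤ N :=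
      ⟨hCnL, M, ⟨hM, hCle⟩, fun N hN => hCu N hN.1 hN.2⟩
    rw [supportR, dif_pos hh]
    obtain ⟨h1, h2⟩ := Classical.choose_spec hh.2.exists
    rw [hCu _ h1 h2]
  have hTI : ¬ IsTISubset (H : Set G) := fun h =>
    hCnL (isTISubset_centralizer_le hG hL (N := fittingHall L) h hxH hx1)
  have hcases := hLI.2.resolve_left hTI
  have hpH : p ∣ Nat.card H := (hxord ▸ Subgroup.orderOf_dvd_natCard H hxH :)
  -- `L` is a Frobenius group
  have hfrob : ∀ z ∈ H, z ≠ 1 → L ⊓ Subgroup.centralizer ({z} : Set G) ≤ H := by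
    intro z hz hz1 c hc
    by_contra hcH
    obtain ⟨r, hWr⟩ := exists_witness hL hLI hz hz1 hc.1
      (Subgroup.mem_centralizer_singleton_iff.1 hc.2) hcH
    haveI := Fact.mk hWr.prime
    have hrp : p < r := lt_of_le_of_ne (hmin L r hWr) fun e =>
      witness_not_sigma hG B hWr (e ▸ hpL)
    obtain ⟨E', R, hE', hRE', hR2, hRc, ⟨b, hbR, hbH, hbr⟩, hRH⟩ := witness_square hG B hWr
    rcases hcases with ⟨hab, hrk, -⟩ | ⟨hexp, -⟩
    · haveI := hab
      have hRL : R ≤ L := hRE'.trans hE'.2.1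
      have hrodd : Odd r := by
        refine hWr.prime.odd_of_ne_two (ne_two_of_odd_of_dvd hG.1 ?_)
        exact hbr ▸ orderOf_dvd_natCard b
      have hmem : ∀ w ∈ R, w ∈ Subgroup.centralizer (A : Set G) := by
        intro w hw
        refine mem_centralizer_of_prime_gt hrp hrodd hp2 hAc (hR2.2 w hw) ?_
        have key : ∀ v ∈ L, ∀ a ∈ A, v * a * v⁻¹ ∈ A := fun v hv a ha =>
          mem_of_rankLE hrk hAσ hA hAc
            (conj_mem_map_subtype (fittingHall L) hv (hAσ ha))
            (by rw [conj_pow, hA.2 a ha, mul_one, mul_inv_cancel])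
        refine Subgroup.mem_normalizer_iff.2 fun a => ⟨key w (hRL hw) a, fun h => ?_⟩
        have := key w⁻¹ (L.inv_mem (hRL hw)) _ h
        simpa [mul_assoc] using this
      exact hx1 (Subgroup.mem_bot.1 (hRH ▸ (⟨hxH, Subgroup.mem_centralizer_iff.2 fun w hw =>
        (Subgroup.mem_centralizer_iff.1 (hmem w hw) x hxA).symm⟩ :
          x ∈ H ⊓ Subgroup.centralizer (R : Set G))))
    · have h1 : r ∣ Monoid.exponent (L ⧸ fittingHall L) := by
        set b' : L := ⟨b, hE'.2.1 (hRE' hbR)⟩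
        have h2 : orderOf (QuotientGroup.mk b' : L ⧸ fittingHall L) ∣ r := by
          refine (orderOf_map_dvd (QuotientGroup.mk' _) b').trans ?_
          rw [← Subgroup.orderOf_coe, hbr]
        rcases (Nat.dvd_prime hWr.prime).1 h2 with h | h
        · exact absurd ⟨b', (QuotientGroup.eq_one_iff _).1 (orderOf_eq_one_iff.1 h), rfl⟩ hbH
        · exact h ▸ Monoid.order_dvd_exponent _
      have := Nat.le_of_dvd (by have := hW.prime.two_le; omega) (h1.trans (hexp p hW.prime hpH))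
      omega
  -- `M ⊓ L ≤ H`
  have hinf : M ⊓ L ≤ H := by
    intro w hw
    by_contra hwH
    have hwL : (⟨w, hw.2⟩ : L) ∉ fittingHall L := fun h => hwH ⟨_, h, rfl⟩
    obtain ⟨q, hq, hqd⟩ := Nat.exists_prime_and_dvd (fun h => hwL
      ((QuotientGroup.eq_one_iff _).1 (orderOf_eq_one_iff.1 h)) :
        orderOf (QuotientGroup.mk (⟨w, hw.2⟩ : L) : L ⧸ fittingHall L) ≠ 1)
    haveI := Fact.mk hq
    have hqi : q ∣ (fittingHall L).index := hqd.trans (orderOf_dvd_natCard _)
    have hqH : ¬ q ∣ Nat.card H := fun h => hq.ne_one (Nat.dvd_one.1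
      ((fittingHall_coprime_index L) ▸ Nat.dvd_gcd (card_fittingHallOf L ▸ h) hqi))
    have hpq : p ≠ q := fun h => hqH (h ▸ hpH)
    have hqML : q ∣ Nat.card (M ⊓ L : Subgroup G) := by
      refine (hqd.trans (orderOf_map_dvd (QuotientGroup.mk' _) _)).trans ?_
      rw [← Subgroup.orderOf_coe]
      exact Subgroup.orderOf_dvd_natCard _ hw
    have hpML : p ∣ Nat.card (M ⊓ L : Subgroup G) :=
      hxord ▸ Subgroup.orderOf_dvd_natCard _ ⟨hxM, hAL hxA⟩
    -- a fixed-point-free complement of the same exponent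
    obtain ⟨-, -, -, -, U, -, hUc, -, U₀, hU₀, hexp0, hfree⟩ := hMI.1
    have hUcard : Nat.card U = Nat.card (M ⊓ L : Subgroup G) := by
      have h1 := hUc.card_mul_card
      have h2 := card_eq_of_isComplIn hcompl0
      rw [card_fittingHallOf] at h2
      rw [← h1] at h2
      exact (Nat.eq_of_mul_eq_mul_left Nat.card_pos h2).symm
    have hdiv : ∀ s : ℕ, s.Prime → s ∣ Nat.card (M ⊓ L : Subgroup G) → s ∣ Nat.card U₀ := by
      intro s hs hd
      haveI := Fact.mk hs
      obtain ⟨v, hv⟩ := exists_prime_orderOf_dvd_card' (G := U) s (hUcard ▸ hd)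
      exact ((hv ▸ Monoid.order_dvd_exponent v).trans hexp0.symm.dvd).trans Group.exponent_dvd_nat_card
    set Z := K ⊓ Subgroup.centralizer (K : Set G) with hZ
    haveI : IsMulCommutative Z := ⟨⟨fun a b => Subtype.ext
      (Subgroup.mem_centralizer_iff.1 b.2.2 a a.2.1)⟩⟩
    have hZne : Z ≠ ⊥ := by
      haveI : Nontrivial (fittingHall M) := (Subgroup.nontrivial_iff_ne_bot _).2 fun h =>
        hKne (by rw [hK, fittingHallOf, h, Subgroup.map_bot])
      haveI := CN.isNilpotent_fittingHall (G := M)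
      intro h
      haveI : Nontrivial (Subgroup.center (fittingHall M)) :=
        (Subgroup.nontrivial_iff_ne_bot _).2 (Group.IsNilpotent.center_ne_bot (G := fittingHall M))
      obtain ⟨⟨z, hz⟩, hz1⟩ := exists_ne (1 : Subgroup.center (fittingHall M))
      have : ((z : M) : G) ∈ Z := by
        refine ⟨⟨(z : M), z.2, rfl⟩, Subgroup.mem_centralizer_iff.2 ?_⟩
        rintro _ ⟨k, hk, rfl⟩
        exact congrArg (fun v : fittingHall M => ((v : M) : G))
          (Subgroup.mem_center_iff.1 hz ⟨k, hk⟩)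
      rw [h, Subgroup.mem_bot] at this
      exact hz1 (Subtype.ext (Subtype.ext (Subtype.ext this)))
    set V := U₀.map M.subtype with hV
    have hVM : V ≤ M := Subgroup.map_subtype_le _
    have hVZ : V ≤ Subgroup.normalizer (Z : Set G) := by
      intro v hv
      have hn : M ≤ Subgroup.normalizer (K : Set G) := le_normalizer_fittingHallOf hG B hM hMI
      have key : ∀ u ∈ Subgroup.normalizer (K : Set G), ∀ a ∈ Z, u * a * u⁻¹ ∈ Z := by
        intro u hu a ha
        refine ⟨(Subgroup.mem_normalizer_iff.1 hu a).1 ha.1, Subgroup.mem_centralizer_iff.2 fun k hk => ?_⟩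
        have hk' : u⁻¹ * k * u ∈ K :=
          (Subgroup.mem_normalizer_iff.1 hu _).2 (by simpa [mul_assoc] using hk)
        have h1 := Subgroup.mem_centralizer_iff.1 ha.2 _ hk'
        calc k * (u * a * u⁻¹) = u * ((u⁻¹ * k * u) * a) * u⁻¹ := by group
          _ = u * a * u⁻¹ * k := by rw [h1]; group
      refine Subgroup.mem_normalizer_iff.2 fun a => ⟨key v (hn (hVM hv)) a, fun h => ?_⟩
      have := key v⁻¹ (inv_mem (hn (hVM hv))) _ h
      simpa [mul_assoc] using this
    haveI : Group.IsSolvable V := hG.2.2.2 V fun e => hM.1 (top_unique (e ▸ hVM))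
    have hVcard : Nat.card V = Nat.card U₀ := Subgroup.card_map_of_injective M.subtype_injective
    obtain ⟨c, hc, hcord⟩ := exists_orderOf_mul (p := p) (q := q) hVZ hZne (by
        rintro _ ⟨v, hv, rfl⟩ hv1
        rw [eq_bot_iff]
        rintro a ⟨⟨ha, -⟩, hva⟩
        obtain ⟨a', ha', rfl⟩ := ha
        rw [Subgroup.mem_bot]
        rw [hfree v hv (fun e => hv1 (by rw [e, map_one])) a' ha'
          (Subtype.ext (Subgroup.mem_centralizer_singleton_iff.1 hva).symm), map_one])
      hpq (hVcard ▸ hdiv p hW.prime hpML) (hVcard ▸ hdiv q hq hqML)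
    -- transfer it to `M ⊓ L`
    have hcK : (p * q).Coprime (Nat.card K) := by
      refine Nat.Coprime.mul_left
        (hW.prime.coprime_iff_not_dvd.2 (not_dvd_fittingHall_of_not_sigma hG B hM hMI hW.prime hps))
        (Nat.Coprime.coprime_dvd_left hqML ?_)
      exact (coprime_fittingHallOf_of_inf_eq_bot inf_le_left hcompl0.2.2.1).symm
    obtain ⟨k, hk, d, hd, hkd⟩ := hcompl0.2.2.2 c (hVM hc)
    set k' : M := ⟨k, hcompl0.1 hk⟩
    set d' : M := ⟨d, hd.1⟩
    have hk' : k' ∈ fittingHall M := by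
      rw [← subgroupOf_fittingHallOf M]; exact hk
    have hmk : ∀ n : ℕ, ((⟨c, hVM hc⟩ : M) : M ⧸ fittingHall M) ^ n = (d' : M ⧸ fittingHall M) ^ n := by
      intro n
      congr 1
      rw [show (⟨c, hVM hc⟩ : M) = k' * d' from Subtype.ext hkd, QuotientGroup.mk_mul,
        (QuotientGroup.eq_one_iff k').2 hk', one_mul]
    have hdord : orderOf d = p * q := by
      rw [← hcord, orderOf_eq_orderOf_iff]
      intro n
      constructor
      · intro h
        have h1 : ((⟨c, hVM hc⟩ : M) ^ n) ∈ fittingHall M := by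
          rw [← QuotientGroup.eq_one_iff, QuotientGroup.mk_pow, hmk, ← QuotientGroup.mk_pow,
            show d' ^ n = 1 from Subtype.ext h, QuotientGroup.mk_one]
        refine orderOf_eq_one_iff.1 (Nat.eq_one_of_dvd_coprimes hcK ?_ ?_)
        · rw [← hcord]; exact orderOf_pow_dvd n
        · exact Subgroup.orderOf_dvd_natCard _ ⟨_, h1, rfl⟩
      · intro h
        refine Subgroup.mem_bot.1 (hcompl0.2.2.1 ▸ ⟨?_, (M ⊓ L).pow_mem hd n⟩)
        have h1 : d' ^ n ∈ fittingHall M := by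
          rw [← QuotientGroup.eq_one_iff, QuotientGroup.mk_pow, ← hmk, ← QuotientGroup.mk_pow,
            show (⟨c, hVM hc⟩ : M) ^ n = 1 from Subtype.ext h, QuotientGroup.mk_one]
        exact ⟨_, h1, rfl⟩
    -- contradiction in `L`
    have hq1 : orderOf (d ^ q) = p := by
      rw [orderOf_pow_of_dvd hq.ne_zero (hdord ▸ dvd_mul_left q p), hdord, Nat.mul_div_cancel _ hq.pos]
    have hp1 : orderOf (d ^ p) = q := by
      rw [orderOf_pow_of_dvd hW.prime.ne_zero (hdord ▸ dvd_mul_right p q), hdord,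
        Nat.mul_div_cancel_left _ hW.prime.pos]
    have hdp : d ^ q ∈ H := by
      obtain ⟨S, hS⟩ := exists_sylow_map_ge (p := p) (M := L) (X := Subgroup.zpowers (d ^ q))
        (IsPGroup.of_card (n := 1) (by rw [Nat.card_zpowers, hq1, pow_one]))
        (Subgroup.zpowers_le.2 (L.pow_mem hd.2 q))
      rw [← hσL]
      exact sylow_le_sigmaCore hG hL hpL S (hS (Subgroup.mem_zpowers _))
    have hdq : d ^ p ∈ H := hfrob _ hdp
      (fun e => hW.prime.ne_one (by rw [← hq1, e, orderOf_one]))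
      ⟨L.pow_mem hd.2 p, Subgroup.mem_centralizer_singleton_iff.2 (Commute.pow_pow_self d p q).eq⟩
    exact hqH (hp1 ▸ Subgroup.orderOf_dvd_natCard H hdq)
  -- the index of `H`
  have hidx : (fittingHall L).index ∣ p - 1 ∨ (fittingHall L).index ∣ p + 1 := by
    have hFne : fittingHall L ≠ ⊥ := hLI.1.2.2.1
    rcases hcases with ⟨hab, hrk, -⟩ | ⟨hexp, -⟩
    swap
    · left
      haveI : Fintype L := Fintype.ofFinite L
      rw [← exponent_quotient_eq_index (odd_subgroup hG.1 L) (centIn_fittingHall hfrob) hFne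
        hLI.1.2.2.2.1]
      exact hexp p hW.prime hpH
    haveI := hab
    obtain ⟨E₁, hE₁⟩ := exists_complIn hG hL
    rw [hσL] at hE₁
    haveI : Group.IsSolvable E₁ := hG.2.2.2 E₁ fun e => hL.1 (top_unique (e ▸ hE₁.1))
    have hE₁card : Nat.card E₁ = (fittingHall L).index := by
      have h1 := card_eq_of_isComplIn hE₁
      have h2 := Subgroup.card_mul_index (fittingHall L)
      rw [hH, card_fittingHallOf, mul_comm] at h1
      exact Nat.eq_of_mul_eq_mul_left Nat.card_pos (h1.trans h2.symm)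
    rw [← hE₁card]
    refine card_dvd_sub_or_add hAc hA.2 ?_ (odd_subgroup hG.1 E₁) ?_ hxA ?_
    · have key : ∀ v ∈ L, ∀ a ∈ A, v * a * v⁻¹ ∈ A := fun v hv a ha =>
        mem_of_rankLE hrk hAσ hA hAc (conj_mem_map_subtype (fittingHall L) hv (hAσ ha))
          (by rw [conj_pow, hA.2 a ha, mul_one, mul_inv_cancel])
      intro w hw
      refine Subgroup.mem_normalizer_iff.2 fun a => ⟨key w (hE₁.1 hw) a, fun h => ?_⟩
      have := key w⁻¹ (L.inv_mem (hE₁.1 hw)) _ h
      simpa [mul_assoc] using this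
    · intro w hw hw1
      rw [eq_bot_iff]
      rintro a ⟨ha, haw⟩
      by_contra ha1
      exact hw1 (Subgroup.mem_bot.1 (hE₁.2.2.1 ▸ ⟨hw, hfrob a (hAσ ha) ha1 ⟨hE₁.1 hw,
        Subgroup.mem_centralizer_singleton_iff.2
          (Subgroup.mem_centralizer_singleton_iff.1 haw).symm⟩⟩))
    · intro w hw hw1 hwx
      obtain ⟨i, hi⟩ := hwx
      have hwM : w ∈ M := by
        have hgen : Subgroup.centralizer ({x ^ i} : Set G) ≤ Subgroup.centralizer ({x} : Set G) := by
          have hz : Subgroup.zpowers (x ^ i) = Subgroup.zpowers x :=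
            Subgroup.eq_of_le_of_card_ge (Subgroup.zpowers_le.2 ⟨i, rfl⟩)
              (le_of_eq (by
                rw [Nat.card_zpowers, Nat.card_zpowers, show x ^ i = w * x * w⁻¹ from hi]
                exact (MulEquiv.orderOf_eq (MulAut.conj w) x).symm))
          intro c hc
          obtain ⟨j, hj⟩ := Subgroup.mem_zpowers_iff.1 (hz.ge (Subgroup.mem_zpowers x))
          rw [Subgroup.mem_centralizer_singleton_iff] at hc ⊢
          rw [← hj]
          exact ((show Commute c (x ^ i) from hc).zpow_right j).eq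
        have hle : Subgroup.centralizer ({x} : Set G) ≤ M.map (MulAut.conj w⁻¹).toMonoidHom := by
          intro c hc
          refine ⟨w * c * w⁻¹, hCle (hgen (Subgroup.mem_centralizer_singleton_iff.2 ?_)), ?_⟩
          · rw [show x ^ i = w * x * w⁻¹ from hi]
            have hc' := Subgroup.mem_centralizer_singleton_iff.1 hc
            calc w * c * w⁻¹ * (w * x * w⁻¹) = w * (c * x) * w⁻¹ := by group
              _ = w * x * w⁻¹ * (w * c * w⁻¹) := by rw [hc']; group
          · simp only [MulEquiv.coe_toMonoidHom, MulAut.conj_apply]; group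
        have heq := hCu _ (isCoatom_map (MulAut.conj w⁻¹) hM) hle
        rw [← normalizer_eq_of_normal hG hM le_rfl Subgroup.le_normalizer
          (fun e => hKne (le_bot_iff.1 (e ▸ fittingHallOf_le M)))]
        refine (Subgroup.inv_mem_iff _).1 (Subgroup.mem_normalizer_iff.2 fun a => ⟨fun ha => ?_, fun ha => ?_⟩)
        · rw [← heq]; exact ⟨a, ha, rfl⟩
        · rw [← heq] at ha
          obtain ⟨b, hb, hb'⟩ := ha
          simp only [MulEquiv.coe_toMonoidHom, MulAut.conj_apply, mul_left_inj, mul_right_inj] at hb'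
          exact hb' ▸ hb
      exact hw1 (Subgroup.mem_bot.1 (hE₁.2.2.1 ▸ ⟨hw, hinf ⟨hwM, hE₁.1 hw⟩⟩))
  exact ⟨M, L, x, p, hM, hL, hMI, hLI, hW.prime, hxM, hxnK, hxord, hxH, hCle, hCu, hxK', hnc,
    hfrob, hcompl0, hinf, hR, hps, ⟨A, le_inf hAM hAL, hA, hAc⟩, hidx⟩

end Cfsg.Agent.OddOrder.PF
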