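import Cfsg.Agent.Lib.OddOrder.PF.S12_KernelChars
import Cfsg.Agent.Lib.OddOrder.PF.S12_Tools
import Cfsg.Agent.Lib.OddOrder.PF.S12_Witness
import Cfsg.Agent.Lib.OddOrder.DadeSeven

/-!
Peterfalvi (12.3)-(12.5) in the configuration of (12.8): the Dade images from `L` and from `M` are
orthogonal, and the inverse image on `M` of a coherent image from `L` has constant sums over the
cosets of `K'` inside each coset of `K`, and inside `K`.
-/

set_option autoImplicit false
set_option linter.unusedSectionVars false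
set_option linter.style.haveILetI false

namespace Cfsg.Agent.OddOrder.PF

open Cfsg Cfsg.Agent Finset
open scoped ComplexConjugate

universe u

variable {G : Type u} [Group G]

/-! ### Small lemmas -/

section Pair

variable [Fintype G] {A : Set G} {M : Subgroup G} [Fintype M] {R : G → Subgroup G}

/-- A difference of conjugate irreducible characters has Dade image orthogonal to one of three
companions with equal inner products, hence to all of them. -/
theorem classInner_dade_sub_conj_eq_zero (hD : DadeHypothesis A M R) (φ : IrrCharacter M)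
    (hsupp : ∀ x : M, x ≠ 1 → (x : G) ∉ A → φ.1 x = 0)
    (ψ : Fin 3 → G → ℂ) (hg : ∀ j, IsGeneralizedCharacter G (ψ j))
    (ho : ∀ i j, classInner (ψ i) (ψ j) = if i = j then 1 else 0)
    (heq : ∀ j, classInner (dadeIsometry A M R (φ.1 - Cfsg.conjFun φ.1)) (ψ j) =
      classInner (dadeIsometry A M R (φ.1 - Cfsg.conjFun φ.1)) (ψ 0)) :
    classInner (dadeIsometry A M R (φ.1 - Cfsg.conjFun φ.1)) (ψ 0) = 0 := by
  classical
  obtain ⟨χ, hχinj, hχ⟩ := exists_three_irr ψ hg ho
  obtain ⟨μ, hμ, h⟩ := Cfsg.Agent.S1518.result A M R hD φ.1 φ.2 hsupp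
  let μ' : IrrCharacter G := ⟨μ, hμ⟩
  let ν : IrrCharacter G := ⟨Cfsg.conjFun μ, Char.IsIrrCharacter.conj_fun hμ⟩
  obtain ⟨k, hk1, hk2⟩ : ∃ k, μ' ≠ χ k ∧ ν ≠ χ k := by
    by_contra hh
    push Not at hh
    have h3 : ∀ k, χ k = μ' ∨ χ k = ν := fun k => by
      by_cases e : μ' = χ k
      · exact Or.inl e.symm
      · exact Or.inr (hh k e).symm
    rcases h3 0 with a | a <;> rcases h3 1 with b | b <;> rcases h3 2 with c | c <;>
      first
      | exact absurd (hχinj (a.trans b.symm)) (by decide)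
      | exact absurd (hχinj (a.trans c.symm)) (by decide)
      | exact absurd (hχinj (b.trans c.symm)) (by decide)
  have h0 : classInner (dadeIsometry A M R (φ.1 - Cfsg.conjFun φ.1)) (χ k).1 = 0 := by
    rw [h]
    show classInner (μ'.1 - ν.1) (χ k).1 = 0
    rw [Char.classInner_sub_left, Char.classInner_irr, Char.classInner_irr, if_neg hk1, if_neg hk2,
      sub_zero]
  rw [← heq k]
  rcases hχ k with a | a <;> rw [a]
  · exact h0
  · rw [Char.classInner_neg_right, h0, neg_zero]

end Pair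

theorem conjFun_indFun {X : Type u} [Group X] [Fintype X] (N : Subgroup X) (θ : N → ℂ) :
    Cfsg.conjFun (indFun N θ) = indFun N (fun n => conj (θ n)) := by
  funext g
  simp only [Cfsg.conjFun, indFun, map_mul, map_inv₀, map_natCast, map_sum]
  congr 1
  refine Finset.sum_congr rfl fun x _ => ?_
  by_cases hx : x⁻¹ * g * x ∈ N
  · rw [Char.extendByZero_of_mem _ _ hx, Char.extendByZero_of_mem _ _ hx]
  · rw [Char.extendByZero_of_notMem _ _ hx, Char.extendByZero_of_notMem _ _ hx, map_zero]

theorem mem_centralizer_of_mul_commute [Finite G] {y v c : G} (hyv : Commute y v)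
    (hcop : (orderOf y).Coprime (orderOf v)) (hc : Commute c (y * v)) : Commute c y := by
  obtain ⟨n, h1, h2⟩ := Nat.chineseRemainder hcop 1 0
  have : (y * v) ^ n = y := by
    rw [hyv.mul_pow, show v ^ n = 1 from orderOf_dvd_iff_pow_eq_one.1 (Nat.modEq_zero_iff_dvd.1 h2),
      mul_one]
    conv_rhs => rw [← pow_one y]
    exact pow_eq_pow_iff_modEq.2 h1
  exact this ▸ hc.pow_right n

/-! ### The configuration -/

section Orth

variable [Fintype G] {M L : Subgroup G} {x : G} {p : ℕ}

theorem twelve_notConj_mem (_hG : IsMinSimpleOddOrder G) (B : BGFacts G) (T : TwelveSetup M L x p)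
    {a u b v : G} (ha : a ∈ fittingHallOf M) (ha1 : a ≠ 1) (hu : u ∈ supportR M a)
    (hb : b ∈ fittingHallOf L) (hb1 : b ≠ 1) (hv : v ∈ supportR L b) (c : G) :
    c * (b * v) * c⁻¹ ≠ a * u := by
  intro h
  have hnc : ∀ g : G, L ≠ M.map (MulAut.conj g).toMonoidHom := T.notConj
  have h1 : b * v ∈ tildeOf L ((sigmaCore L : Set G) \ {1}) := by
    rw [sigmaCore_eq_fittingHallOf_of_typeI B T.hL T.hLI]
    exact ⟨b, ⟨hb, hb1⟩, v, hv, 1, by group⟩
  have h2 : b * v ∈ tildeOf M ((sigmaCore M : Set G) \ {1}) := by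
    rw [sigmaCore_eq_fittingHallOf_of_typeI B T.hM T.hMI]
    exact ⟨a, ⟨ha, ha1⟩, u, hu, c⁻¹, by rw [← h]; group⟩
  exact Set.eq_empty_iff_forall_notMem.1 (B.s1379.1 M L T.hM T.hL hnc) _ ⟨h2, h1⟩

theorem twelve_coprime (hG : IsMinSimpleOddOrder G) (B : BGFacts G) (T : TwelveSetup M L x p) :
    (Nat.card (fittingHallOf L)).Coprime (Nat.card (fittingHallOf M)) := by
  refine Nat.coprime_of_dvd fun q hq h1 h2 => ?_
  obtain ⟨g, hg⟩ := B.s1378.2 M L T.hM T.hL ⟨q, mem_sigma_of_dvd_fittingHall hG B T.hM T.hMI hq h2,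
    mem_sigma_of_dvd_fittingHall hG B T.hL T.hLI hq h1⟩
  exact T.notConj g hg

theorem twelve_typeA_M (T : TwelveSetup M L x p) :
    typeA' M = {a | a ∈ M ∧ a ≠ 1 ∧ ∃ z ∈ fittingHallOf M, z ≠ 1 ∧ a * z = z * a} := by
  rw [typeA', if_pos T.hMI]

theorem twelve_typeA_L (T : TwelveSetup M L x p) :
    typeA' L = (fittingHallOf L : Set G) \ {1} :=
  typeA_eq_of_frobenius T.hLI T.frob

/-- An element of `A(M)` outside `M_F` has its centraliser in `M`. -/
theorem twelve_centralizer_le (B : BGFacts G) (T : TwelveSetup M L x p) {z : G} (hz : z ∈ typeA' M)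
    (hzK : z ∉ fittingHallOf M) : Subgroup.centralizer ({z} : Set G) ≤ M := by
  by_contra h
  obtain ⟨⟨h1, -⟩, -⟩ := (B.s1391 M T.hM _ (Or.inl rfl)).2.1 z hz h
  rw [SetLike.mem_coe, typeCore_eq_fittingHallOf fun h' =>
    not_typeI_of_typeIII_IV B T.hM h' T.hMI] at h1
  exact hzK h1

/-- The sum over `C_K(y)` of a class function of `M` whose sums over the cosets of `K` outside `K`
vanish. -/
theorem sum_centralizer_eq_zero [Fintype M] {β : M → ℂ} (hβ : IsClassFunction M β)
    [Fintype (fittingHall M)]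
    (hsum : ∀ z : M, z ∉ fittingHall M → ∑ k : fittingHall M, β (z * k) = 0)
    {y : M} (hy : y ∉ fittingHall M) (hcop : (Nat.card (fittingHall M)).Coprime (orderOf y)) :
    cosetAvg β (fittingHall M ⊓ Subgroup.centralizer ({y} : Set M)) y = 0 := by
  rw [← cosetAvg_centralizer hβ (fittingHall M)
    (fun z hz => (inferInstance : (fittingHall M).Normal).conj_mem z hz y) hcop, cosetAvg_eq_sum,
    hsum y hy, mul_zero]

/-- Peterfalvi (12.3): the inverse image on `L` of a Dade image from `M` vanishes. -/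
theorem invDade_dade_eq_zero [Fintype M] [Fintype L] [Fintype (fittingHall M)]
    (hG : IsMinSimpleOddOrder G) (B : BGFacts G) (T : TwelveSetup M L x p) {β : M → ℂ}
    (hβ : IsClassFunction M β)
    (hsum : ∀ z : M, z ∉ fittingHall M → ∑ k : fittingHall M, β (z * k) = 0)
    {y : L} (hy : (y : G) ∈ typeA' L) :
    invDade (typeA' L) L (supportR L) (dadeIsometry (typeA' M) M (supportR M) β) y = 0 := by
  classical
  set F := dadeIsometry (typeA' M) M (supportR M) β with hF
  have hDM := dadeHypothesis_typeSet B T.hM (A := typeA' M) (Or.inr (Or.inl rfl))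
  have hDL := dadeHypothesis_typeSet B T.hL (A := typeA' L) (Or.inr (Or.inl rfl))
  have hFc : IsClassFunction G F := isClassFunction_dadeIsometry _ _ _ β
  obtain ⟨hyH, hy1⟩ : (y : G) ∈ fittingHallOf L ∧ (y : G) ≠ 1 := by
    rw [twelve_typeA_L T] at hy; exact ⟨hy.1, hy.2⟩
  rw [invDade_of_mem hy, cosetAvg_eq_sum]
  by_cases hall : ∀ v : supportR L y, F ((y : G) * v) = 0
  · rw [Finset.sum_eq_zero fun v _ => hall v, mul_zero]
  push Not at hall
  obtain ⟨v, hv⟩ := hall
  -- the meeting point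
  obtain ⟨z, hz, w, hw, c, hc⟩ := mem_dadeUnion.1
    (not_imp_comm.1 (fun h => dadeIsometry_eq_zero h β) hv :
      (y : G) * v ∈ dadeUnion (typeA' M) (supportR M))
  have hz' := hz
  rw [twelve_typeA_M T] at hz'
  obtain ⟨hzM, hz1, k, hk, hk1, hzk⟩ := hz'
  have hzK : z ∉ fittingHallOf M := fun h =>
    twelve_notConj_mem hG B T h hz1 hw hyH hy1 v.2 c hc
  have hw1 : w = 1 := by
    rwa [supportR_eq_bot (twelve_centralizer_le B T hz hzK), Subgroup.mem_bot] at hw
  rw [hw1, mul_one] at hc
  -- the first factor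
  obtain ⟨-, hRc, hRcop⟩ := supportR_spec B T.hL (Or.inl rfl) hy
  have hvc : (v : G) ∈ Subgroup.centralizer ({(y : G)} : Set G) := hRc.1 v.2
  have hyv : Commute (y : G) v := (Subgroup.mem_centralizer_singleton_iff.1 hvc).symm
  have hov : (orderOf (y : G)).Coprime (orderOf (v : G)) :=
    ((hRcop _ hy).coprime_dvd_left (Subgroup.orderOf_dvd_natCard _ v.2)).symm.coprime_dvd_left
      (Subgroup.orderOf_dvd_natCard (L ⊓ Subgroup.centralizer ({(y : G)} : Set G))
        ⟨y.2, Subgroup.mem_centralizer_singleton_iff.2 rfl⟩)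
  obtain ⟨n, hn1, hn2⟩ := Nat.chineseRemainder hov 1 0
  set y' := c * (y : G) * c⁻¹ with hy'
  have hy'z : y' = z ^ n := by
    rw [← hc, conj_pow, hyv.mul_pow,
      show (v : G) ^ n = 1 from orderOf_dvd_iff_pow_eq_one.1 (Nat.modEq_zero_iff_dvd.1 hn2),
      mul_one, hy']
    congr 2
    conv_lhs => rw [← pow_one (y : G)]
    exact (pow_eq_pow_iff_modEq.2 hn1).symm
  have hy'M : y' ∈ M := hy'z ▸ M.pow_mem hzM n
  have hy'1 : y' ≠ 1 := fun h => hy1 (conj_eq_one_iff.1 h)
  have hy'k : y' * k = k * y' := hy'z ▸ ((show Commute z k from hzk).pow_left n).eq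
  have hy'K : y' ∉ fittingHallOf M := fun h => by
    refine twelve_notConj_mem hG B T h hy'1 (one_mem _) hyH hy1 (one_mem _) c ?_
    rw [hy']; group
  have hy'A : y' ∈ typeA' M := by
    rw [twelve_typeA_M T]; exact ⟨hy'M, hy'1, k, hk, hk1, hy'k⟩
  have hcop : (orderOf y').Coprime (Nat.card (fittingHallOf M)) := by
    refine (twelve_coprime hG B T).coprime_dvd_left ?_
    rw [hy', show c * (y : G) * c⁻¹ = MulAut.conj c (y : G) from rfl,
      MulEquiv.orderOf_eq (MulAut.conj c)]
    exact Subgroup.orderOf_dvd_natCard _ hyH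
  obtain ⟨hCM, hCu⟩ := centralizer_le_of_coprime hG B T.hM T.hMI hy'M hy'1 hcop fun h => hk1
    (Subgroup.mem_bot.1 (h ▸ ⟨hk, Subgroup.mem_centralizer_singleton_iff.2 hy'k.symm⟩))
  -- the supporting subgroup at `y`
  have hconj : ∀ a : G, a ∈ Subgroup.centralizer ({(y : G)} : Set G) ↔
      c * a * c⁻¹ ∈ Subgroup.centralizer ({y'} : Set G) := fun a => by
    rw [Subgroup.mem_centralizer_singleton_iff, Subgroup.mem_centralizer_singleton_iff, hy',
      show c * a * c⁻¹ * (c * (y : G) * c⁻¹) = c * (a * y) * c⁻¹ by group,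
      show c * (y : G) * c⁻¹ * (c * a * c⁻¹) = c * (y * a) * c⁻¹ by group, mul_left_inj,
      mul_right_inj]
  set N := M.map (MulAut.conj c⁻¹).toMonoidHom with hN
  have hNm : ∀ a : G, a ∈ N ↔ c * a * c⁻¹ ∈ M := fun a => by
    rw [hN, Subgroup.mem_map_equiv, MulAut.conj_symm_apply, inv_inv]
  have hCN : Subgroup.centralizer ({(y : G)} : Set G) ≤ N := fun a ha =>
    (hNm a).2 (hCM ((hconj a).1 ha))
  have hNc : IsCoatom N := isCoatom_map _ T.hM
  have hnle : ¬ Subgroup.centralizer ({(y : G)} : Set G) ≤ L := by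
    intro h
    have h' : Subgroup.centralizer ({y'} : Set G) ≤ L.map (MulAut.conj c).toMonoidHom := by
      intro a ha
      refine ⟨c⁻¹ * a * c, h ((hconj _).2 (by simpa [mul_assoc] using ha)), ?_⟩
      simp [mul_assoc]
    have heq := hCu _ (isCoatom_map (MulAut.conj c) T.hL) h'
    refine T.notConj c⁻¹ ?_
    rw [← heq, Subgroup.map_map]
    ext a
    simp [Subgroup.mem_map, mul_assoc]
  have hu2 := ((B.s1391 L T.hL _ (Or.inl rfl)).2.1 _ hy hnle).2
  have hR : supportR L (y : G) = fittingHallOf N ⊓ Subgroup.centralizer ({(y : G)} : Set G) := by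
    rw [supportR, dif_pos ⟨hnle, hu2⟩]
    congr 2
    exact hu2.unique (Classical.choose_spec hu2.exists) ⟨hNc, hCN⟩
  have hmemR : ∀ a : G, a ∈ supportR L (y : G) ↔
      c * a * c⁻¹ ∈ fittingHallOf M ⊓ Subgroup.centralizer ({y'} : Set G) := fun a => by
    rw [hR, hN, ← fittingHallOf_map, Subgroup.mem_inf, Subgroup.mem_inf, Subgroup.mem_map_equiv,
      MulAut.conj_symm_apply, inv_inv, hconj]
  -- transport
  have htr := cosetAvg_map_conj hFc (N := supportR L (y : G))
    (N' := fittingHallOf M ⊓ Subgroup.centralizer ({y'} : Set G)) c (y : G) hmemR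
  rw [← hy', cosetAvg_eq_sum, cosetAvg_eq_sum] at htr
  rw [← htr]
  set yM : M := ⟨y', hy'M⟩
  have hβ0 := sum_centralizer_eq_zero hβ hsum (y := yM)
    (fun h => hy'K ⟨yM, h, rfl⟩)
    (by rw [← card_fittingHallOf, ← Subgroup.orderOf_coe]; exact hcop.symm)
  rw [cosetAvg_eq_sum, mul_eq_zero] at hβ0
  have hβ0' := hβ0.resolve_left (inv_ne_zero (Nat.cast_ne_zero.2 Nat.card_pos.ne'))
  have hmemP : ∀ a : M, a ∈ fittingHall M ⊓ Subgroup.centralizer ({yM} : Set M) ↔
      (a : G) ∈ fittingHallOf M ⊓ Subgroup.centralizer ({y'} : Set G) := fun a => by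
    rw [Subgroup.mem_inf, Subgroup.mem_inf, Subgroup.mem_centralizer_singleton_iff,
      Subgroup.mem_centralizer_singleton_iff, ← subgroupOf_fittingHallOf M, Subgroup.mem_subgroupOf,
      Subtype.ext_iff]
    rfl
  rw [mul_eq_zero]
  right
  rw [← hβ0']
  let e : ↥(fittingHall M ⊓ Subgroup.centralizer ({yM} : Set M)) →
      ↥(fittingHallOf M ⊓ Subgroup.centralizer ({y'} : Set G)) :=
    fun a => ⟨((a : M) : G), (hmemP a.1).1 a.2⟩
  have hebij : Function.Bijective e :=
    ⟨fun a b h => Subtype.ext (Subtype.ext (congrArg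
        (fun t : ↥(fittingHallOf M ⊓ Subgroup.centralizer ({y'} : Set G)) => (t : G)) h)),
      fun b => ⟨⟨⟨b, fittingHallOf_le M b.2.1⟩, (hmemP _).2 b.2⟩, rfl⟩⟩
  refine (Fintype.sum_equiv (Equiv.ofBijective e hebij) _ _ fun a => ?_).symm
  have haA : ((yM * (a : M) : M) : G) ∈ typeA' M := by
    obtain ⟨haK, hay⟩ := (hmemP a.1).1 a.2
    rw [twelve_typeA_M T]
    refine ⟨(yM * (a : M)).2, fun h => hy'K ?_, ?_⟩
    · rw [show y' = (((a : M) : G))⁻¹ from eq_inv_of_mul_eq_one_left h]
      exact inv_mem haK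
    · by_cases ha1 : ((a : M) : G) = 1
      · exact ⟨k, hk, hk1, by show y' * (a : M) * k = k * (y' * (a : M)); rw [ha1, mul_one, hy'k]⟩
      · refine ⟨_, haK, ha1, ?_⟩
        show y' * (a : M) * (a : M) = (a : M) * (y' * (a : M))
        rw [← mul_assoc, ← Subgroup.mem_centralizer_singleton_iff.1 hay]
  refine (dadeIsometry_apply hDM hβ haA (g := y' * ((a : M) : G)) (x := 1) (u := 1)
    (one_mem _) ?_).symm
  show (1 : G) * (y' * (a : M)) * 1⁻¹ = y' * (a : M) * 1
  group

/-- Peterfalvi (12.3). -/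
theorem classInner_dade_dade_eq_zero [Fintype M] [Fintype L] [Fintype (fittingHall M)]
    (hG : IsMinSimpleOddOrder G) (B : BGFacts G) (T : TwelveSetup M L x p) {α : L → ℂ}
    (hα : IsClassFunction L α) (hαA : ∀ y : L, (y : G) ∉ typeA' L → α y = 0) {β : M → ℂ}
    (hβ : IsClassFunction M β)
    (hsum : ∀ z : M, z ∉ fittingHall M → ∑ k : fittingHall M, β (z * k) = 0) :
    classInner (dadeIsometry (typeA' L) L (supportR L) α)
      (dadeIsometry (typeA' M) M (supportR M) β) = 0 := by
  rw [classInner_dade_invDade (dadeHypothesis_typeSet B T.hL (Or.inr (Or.inl rfl))) hα hαA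
    (isClassFunction_dadeIsometry _ _ _ β), classInner, Finset.sum_eq_zero, mul_zero]
  intro y _
  by_cases hy : (y : G) ∈ typeA' L
  · rw [invDade_dade_eq_zero hG B T hβ hsum hy, map_zero, mul_zero]
  · rw [hαA y hy, zero_mul]

variable [Fintype M] [Fintype L]

/-- The hypotheses on the three coherent images used below. -/
structure TwelveImages (T : TwelveSetup M L x p) (ψ : Fin 3 → G → ℂ) : Prop where
  gen : ∀ i, IsGeneralizedCharacter G (ψ i)
  orth : ∀ i j, classInner (ψ i) (ψ j) = if i = j then 1 else 0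
  diff : ∀ i, ∃ α : L → ℂ, IsClassFunction L α ∧ (∀ y : L, (y : G) ∉ typeA' L → α y = 0) ∧
    ψ i - ψ 0 = dadeIsometry (typeA' L) L (supportR L) α

theorem twelveImages_of_cohSetting {τ₁ : (L → ℂ) → G → ℂ} {ζ : Fin 3 → L → ℂ}
    (T : TwelveSetup M L x p)
    (hS : ∀ i, CohSetting (typeA' L) L (supportR L) (fittingHall L) τ₁ (ζ i))
    (hg : ∀ i, IsGeneralizedCharacter G (τ₁ (ζ i)))
    (ho : ∀ i j, classInner (τ₁ (ζ i)) (τ₁ (ζ j)) = if i = j then 1 else 0) :
    TwelveImages T fun i => τ₁ (ζ i) := by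
  refine ⟨hg, ho, fun i => ⟨ζ i - ((1 : ℕ) : ℂ) • ζ 0, ?_, ?_, ?_⟩⟩
  · exact Char.IsGeneralizedCharacter.isClassFunction ((hS 0).sub_gen (hS i).mem 1)
  · exact (hS 0).sub_vanish (hS i).mem (by rw [(hS i).apply_one, Nat.cast_one, one_mul])
  · rw [(hS 0).dade_sub (hS i).mem (by rw [(hS i).apply_one, Nat.cast_one, one_mul]), Nat.cast_one,
      one_smul]

variable {ψ : Fin 3 → G → ℂ}

theorem twelve_inner_eq [Fintype (fittingHall M)] (hG : IsMinSimpleOddOrder G) (B : BGFacts G)
    {T : TwelveSetup M L x p} (hψ : TwelveImages T ψ) {β : M → ℂ} (hβ : IsClassFunction M β)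
    (hsum : ∀ z : M, z ∉ fittingHall M → ∑ k : fittingHall M, β (z * k) = 0) (j : Fin 3) :
    classInner (dadeIsometry (typeA' M) M (supportR M) β) (ψ j) =
      classInner (dadeIsometry (typeA' M) M (supportR M) β) (ψ 0) := by
  obtain ⟨α, hα, hαA, he⟩ := hψ.diff j
  rw [← sub_eq_zero, ← Char.classInner_sub_right, he, ← Char.conj_classInner,
    classInner_dade_dade_eq_zero hG B T hα hαA hβ hsum, map_zero]

omit [Fintype L] in
theorem twelve_irr_supp (T : TwelveSetup M L x p) {φ : IrrCharacter M}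
    (hφ : ¬ Char.TrivOn (fittingHall M) φ.1) {y : M} (hy1 : y ≠ 1) (hy : (y : G) ∉ typeA' M) :
    φ.1 y = 0 := by
  refine apply_eq_zero_of_centralizer_inf_eq_bot (fittingHall M) ?_ φ hφ
  rw [eq_bot_iff]
  rintro k ⟨hky, hkK⟩
  rw [Subgroup.mem_bot]
  by_contra hk1
  refine hy ?_
  rw [twelve_typeA_M T]
  refine ⟨y.2, fun h => hy1 (Subtype.ext h), (k : G), ⟨k, hkK, rfl⟩, fun h => hk1 (Subtype.ext h), ?_⟩
  exact congrArg Subtype.val (Subgroup.mem_centralizer_singleton_iff.1 hky).symm

omit [Fintype L] in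
theorem twelve_inertia_comm (_hG : IsMinSimpleOddOrder G) (T : TwelveSetup M L x p)
    {lam : fittingHall M →* ℂ} (hlam : lam ≠ 1) :
    ∀ a ∈ Char.inertia (fittingHall M) ⇑lam, ∀ b ∈ Char.inertia (fittingHall M) ⇑lam,
      a * b * a⁻¹ * b⁻¹ ∈ fittingHall M := by
  classical
  obtain ⟨-, -, -, -, U, -, hUc, ⟨U₁, -, -, hU₁, hcent⟩, -⟩ := T.hMI.1
  have hclass : IsClassFunction (fittingHall M) (⇑lam) := fun a b => by
    rw [map_mul, map_mul, mul_right_comm, ← map_mul, mul_inv_cancel, map_one, one_mul]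
  have key : ∀ g ∈ Char.inertia (fittingHall M) ⇑lam, ∃ k ∈ (fittingHall M), ∃ u ∈ U₁, g = k * u := by
    intro g hg
    obtain ⟨⟨k, v⟩, hkv⟩ := hUc.2 g
    have hkv' : (k : M) * (v : M) = g := hkv
    have hv : (v : M) ∈ Char.inertia (fittingHall M) ⇑lam := by
      rw [show (v : M) = (k : M)⁻¹ * g by rw [← hkv', inv_mul_cancel_left]]
      exact Subgroup.mul_mem _ (Subgroup.inv_mem _ (Char.le_inertia (fittingHall M) hclass k.2)) hg
    refine ⟨k, k.2, v, ?_, hkv'.symm⟩
    by_contra hv1
    apply hlam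
    -- `v` fixes no non-identity element of `(fittingHall M)`
    have hfree : ∀ n : (fittingHall M), MulAut.conjNormal (v : M) n = n → n = 1 := by
      intro n hn
      by_contra hn1
      refine hv1 (hcent n n.2 (fun h => hn1 (Subtype.ext h))
        ⟨v.2, Subgroup.mem_centralizer_singleton_iff.2 ?_⟩)
      have h := congrArg Subtype.val hn
      rw [MulAut.conjNormal_apply] at h
      exact mul_inv_eq_iff_eq_mul.1 h
    have hinj : Function.Injective fun n : (fittingHall M) => n⁻¹ * MulAut.conjNormal (v : M) n := by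
      intro a b hab
      have hab' : a⁻¹ * MulAut.conjNormal (v : M) a = b⁻¹ * MulAut.conjNormal (v : M) b := hab
      have h : MulAut.conjNormal (v : M) (a * b⁻¹) = a * b⁻¹ := by
        rw [map_mul, map_inv]
        calc MulAut.conjNormal (v : M) a * (MulAut.conjNormal (v : M) b)⁻¹
            = a * (a⁻¹ * MulAut.conjNormal (v : M) a) * (MulAut.conjNormal (v : M) b)⁻¹ := by group
          _ = a * b⁻¹ := by rw [hab']; group
      exact mul_inv_eq_one.1 (hfree _ h)
    ext n
    obtain ⟨m, hm⟩ := Finite.surjective_of_injective hinj n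
    have h1 : lam (MulAut.conjNormal (v : M) m) = lam m := congrFun hv m
    have hm' : m⁻¹ * MulAut.conjNormal (v : M) m = n := hm
    rw [MonoidHom.one_apply, ← hm', map_mul, h1, ← map_mul, inv_mul_cancel, map_one]
  intro a ha b hb
  obtain ⟨k, hk, u, hu, rfl⟩ := key a ha
  obtain ⟨k', hk', u', hu', rfl⟩ := key b hb
  rw [← QuotientGroup.eq_one_iff]
  have hcomm : u * u' = u' * u := congrArg Subtype.val (hU₁.is_comm.comm ⟨u, hu⟩ ⟨u', hu'⟩)
  simp only [QuotientGroup.mk_mul, QuotientGroup.mk_inv, (QuotientGroup.eq_one_iff k).2 hk,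
    (QuotientGroup.eq_one_iff k').2 hk', one_mul]
  simp only [← QuotientGroup.mk_mul, ← QuotientGroup.mk_inv]
  rw [hcomm]
  simp

/-- Peterfalvi (12.4) and (12.5) for the inverse image of `ψ 0`. -/
theorem twelve_cosetSum (hG : IsMinSimpleOddOrder G) (B : BGFacts G) {T : TwelveSetup M L x p}
    (hψ : TwelveImages T ψ) [Fintype (fittingHall M)]
    [Fintype ↥(⁅fittingHall M, fittingHall M⁆)] :
    (∀ y y' : M, y ∉ fittingHall M → y⁻¹ * y' ∈ fittingHall M →
      cosetSum (fittingHall M) (invDade (typeA' M) M (supportR M) (ψ 0)) y =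
        cosetSum (fittingHall M) (invDade (typeA' M) M (supportR M) (ψ 0)) y') ∧
    ∃ z : ℤ, ∀ w ∈ fittingHall M, w ∉ ⁅fittingHall M, fittingHall M⁆ →
      cosetSum (fittingHall M) (invDade (typeA' M) M (supportR M) (ψ 0)) w =
        -(Nat.card ↥⁅fittingHall M, fittingHall M⁆ : ℂ) * z := by
  classical
  set τ := dadeIsometry (typeA' M) M (supportR M) with hτ
  set f := invDade (typeA' M) M (supportR M) (ψ 0) with hfdef
  have hD := dadeHypothesis_typeSet B T.hM (A := typeA' M) (Or.inr (Or.inl rfl))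
  have hψc := Char.IsGeneralizedCharacter.isClassFunction (hψ.gen 0)
  have hf : IsClassFunction M f := isClassFunction_invDade hD hψc
  have hodd : Odd (Nat.card G) := hG.1
  have hoddM : Odd (Nat.card M) := odd_subgroup hodd M
  -- characters not trivial on `(fittingHall M)`
  have hsum : ∀ φ : IrrCharacter M, ¬ Char.TrivOn (fittingHall M) φ.1 →
      ∀ z : M, ∑ k : (fittingHall M), φ.1 (z * k) = 0 := fun φ hφ z =>
    Char.sum_coset_eq_zero_of_not_trivOn (fittingHall M) φ hφ z
  have hconjT : ∀ φ : IrrCharacter M, ¬ Char.TrivOn (fittingHall M) φ.1 →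
      ¬ Char.TrivOn (fittingHall M) (Char.conjIrr φ).1 := by
    intro φ hφ h
    refine hφ fun k hk => ?_
    have := h k hk
    simp only [Char.conjIrr_apply] at this
    exact (starRingEnd ℂ).injective this
  -- pairs of conjugates
  have hpair : ∀ φ : IrrCharacter M, ¬ Char.TrivOn (fittingHall M) φ.1 →
      classInner f φ.1 = classInner f (Cfsg.conjFun φ.1) := by
    intro φ hφ
    set β := φ.1 - Cfsg.conjFun φ.1 with hβ
    have hβc : IsClassFunction M β := Char.IsGeneralizedCharacter.isClassFunction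
      ⟨φ.1, Cfsg.conjFun φ.1, Char.IsIrrCharacter.isCharacter φ.2,
        Char.IsIrrCharacter.isCharacter (Char.IsIrrCharacter.conj_fun φ.2), rfl⟩
    have hβs : ∀ z : M, z ∉ (fittingHall M) → ∑ k : (fittingHall M), β (z * k) = 0 := fun z _ => by
      have h2 := hsum _ (hconjT φ hφ) z
      simp only [Char.conjIrr_apply] at h2
      simp only [hβ, Pi.sub_apply, Cfsg.conjFun, Finset.sum_sub_distrib, hsum φ hφ z, h2, sub_zero]
    have h := classInner_dade_sub_conj_eq_zero hD φ (fun y h1 h2 => twelve_irr_supp T hφ h1 h2) ψ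
      hψ.gen hψ.orth fun j => twelve_inner_eq hG B hψ hβc hβs j
    rw [classInner_dade_invDade hD hβc (fun y hy => ?_) hψc, ← Char.conj_classInner,
      map_eq_zero] at h
    · rwa [← hfdef, Char.classInner_sub_right, sub_eq_zero] at h
    · by_cases h1 : y = 1
      · subst h1
        obtain ⟨n, hn⟩ := Char.IsCharacter.apply_one (Char.IsIrrCharacter.isCharacter φ.2)
        simp [hβ, Cfsg.conjFun, hn]
      · simp [hβ, Cfsg.conjFun, twelve_irr_supp T hφ h1 hy]
  -- combinations
  have hcomb : ∀ (s : Finset (IrrCharacter M)) (e : IrrCharacter M → ℤ),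
      (∀ φ ∈ s, e φ = 1 ∨ e φ = -1) → (∀ φ ∈ s, ¬ Char.TrivOn (fittingHall M) φ.1) →
      (∀ φ ∈ s, ∀ φ' ∈ s, φ'.1 ≠ Cfsg.conjFun φ.1) → (∑ φ ∈ s, (e φ : ℂ) * φ.1 1 = 0) →
      classInner f (∑ φ ∈ s, (e φ : ℂ) • φ.1) = 0 := by
    intro s e he hs hc h1
    set β := ∑ φ ∈ s, (e φ : ℂ) • φ.1 with hβ
    have hβc : IsClassFunction M β := Char.IsGeneralizedCharacter.isClassFunction
      (Char.IsGeneralizedCharacter.sum _ fun φ _ =>
        Char.IsGeneralizedCharacter.intCast_smul (Char.irr_isGeneralized φ) _)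
    have hβA : ∀ y : M, (y : G) ∉ typeA' M → β y = 0 := by
      intro y hy
      simp only [hβ, Finset.sum_apply, Pi.smul_apply, smul_eq_mul]
      by_cases hy1 : y = 1
      · rw [hy1]; exact h1
      · exact Finset.sum_eq_zero fun φ hφ => by rw [twelve_irr_supp T (hs φ hφ) hy1 hy, mul_zero]
    have hβs : ∀ z : M, z ∉ (fittingHall M) → ∑ k : (fittingHall M), β (z * k) = 0 := fun z _ => by
      simp only [hβ, Finset.sum_apply, Pi.smul_apply, smul_eq_mul]
      rw [Finset.sum_comm]
      exact Finset.sum_eq_zero fun φ hφ => by rw [← Finset.mul_sum, hsum φ (hs φ hφ) z, mul_zero]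
    have h := classInner_dade_eq_zero_of_three hD hodd s e he
      (fun φ hφ y hy1 hy => twelve_irr_supp T (hs φ hφ) hy1 hy)
      (fun φ hφ e => hs φ hφ (by rw [e]; exact fun k _ => rfl)) hc hβ hβA ψ hψ.gen hψ.orth
      (fun φ hφ j => ?_) fun j => twelve_inner_eq hG B hψ hβc hβs j
    · rw [classInner_dade_invDade hD hβc hβA hψc, ← Char.conj_classInner, map_eq_zero] at h
      exact h
    · refine twelve_inner_eq hG B hψ (Char.IsGeneralizedCharacter.isClassFunction
        ⟨φ.1, Cfsg.conjFun φ.1, Char.IsIrrCharacter.isCharacter φ.2,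
          Char.IsIrrCharacter.isCharacter (Char.IsIrrCharacter.conj_fun φ.2), rfl⟩) (fun z _ => ?_) j
      have h2 := hsum _ (hconjT φ (hs φ hφ)) z
      simp only [Char.conjIrr_apply] at h2
      simp only [Pi.sub_apply, Cfsg.conjFun, Finset.sum_sub_distrib]
      exact sub_eq_zero.2 ((hsum φ (hs φ hφ) z).trans h2.symm)
  -- fibres
  have hco : (fittingHall M).index.Coprime (Nat.card (fittingHall M)) := (fittingHall_coprime_index M).symm
  have hfib : ∀ lam : (fittingHall M) →* ℂ, lam ≠ 1 → ∃ C : Finset (IrrCharacter M),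
      indFun (fittingHall M) ⇑lam = ∑ χ ∈ C, χ.1 ∧ (∀ χ ∈ C, χ.1 1 =
        ((Char.inertia (fittingHall M) ⇑lam).index : ℂ)) ∧ (∀ χ ∈ C, ¬ Char.TrivOn (fittingHall M) χ.1) ∧
      ∀ χ : IrrCharacter M, classInner (indFun (fittingHall M) ⇑lam) χ.1 = if χ ∈ C then 1 else 0 := by
    intro lam hlam
    obtain ⟨C, hC, -, hdeg⟩ := exists_fibre (fittingHall M) hco (Char.linIrr lam) (twelve_inertia_comm hG T hlam)
    have hin : ∀ χ : IrrCharacter M,
        classInner (indFun (fittingHall M) ⇑lam) χ.1 = if χ ∈ C then 1 else 0 := fun χ => by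
      rw [show indFun (fittingHall M) ⇑lam = ∑ φ ∈ C, φ.1 from hC, Char.classInner_sum_left]
      simp only [Char.classInner_irr]
      simp
    refine ⟨C, hC, fun χ hχ => ?_, fun χ hχ ht => ?_, hin⟩
    · rw [hdeg χ hχ]
      show ((Char.inertia (fittingHall M) ⇑lam).index : ℂ) * lam 1 = _
      rw [map_one, mul_one]
    · haveI : Finite ((fittingHall M) →* ℂ) := Nat.finite_of_card_ne_zero
        (by rw [Char.card_monoidHom_complex]; exact Subgroup.index_ne_zero_of_finite)
      haveI := Fintype.ofFinite ((fittingHall M) →* ℂ)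
      have h0 := (sum_linear_mult (fittingHall M) χ).2.1 ht lam hlam
      rw [hin, if_pos hχ] at h0
      exact one_ne_zero h0
  -- no character of a fibre is conjugate to another
  have hnc : ∀ lam : (fittingHall M) →* ℂ, lam ≠ 1 → ∀ C : Finset (IrrCharacter M),
      indFun (fittingHall M) ⇑lam = ∑ χ ∈ C, χ.1 → indFun (fittingHall M) ⇑lam ≠ Cfsg.conjFun (indFun (fittingHall M) ⇑lam) := by
    intro lam hlam C _ heq
    rw [conjFun_indFun] at heq
    have hbar : IsIrrCharacter (fittingHall M) (fun k => conj (lam k)) :=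
      Char.IsIrrCharacter.conj_fun (Char.linIrr lam).2
    -- some conjugate of `lam` is its conjugate
    have hne : classInner (indFun (fittingHall M) ⇑lam) (indFun (fittingHall M) fun k => conj (lam k)) ≠ 0 := by
      obtain ⟨C', hC', -, -, hin'⟩ := hfib lam hlam
      rw [← heq]
      intro h0
      rw [Char.classInner_self, Complex.ofReal_eq_zero, mul_eq_zero, inv_eq_zero,
        Finset.sum_eq_zero_iff_of_nonneg fun g _ => Complex.normSq_nonneg _] at h0
      have h1 := Complex.normSq_eq_zero.1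
        ((h0.resolve_left (Nat.cast_ne_zero.2 Nat.card_pos.ne')) 1 (Finset.mem_univ _))
      rw [Char.indFun_apply_one, map_one, mul_one] at h1
      exact Nat.cast_ne_zero.2 Subgroup.index_ne_zero_of_finite h1
    obtain ⟨g, hg⟩ : ∃ g : M, Char.conjFun (fittingHall M) (fun k => conj (lam k)) g = ⇑lam := by
      by_contra hcon
      push Not at hcon
      haveI : IsEmpty {g : M // Char.conjFun (fittingHall M) (fun k => conj (lam k)) g = ⇑lam} :=
        ⟨fun g => hcon g.1 g.2⟩
      have h1 := Char.card_mul_classInner_indFun_normal (fittingHall M) (η := ⇑lam) (θ := fun k => conj (lam k))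
        (Char.linIrr lam).2 hbar
      rw [Nat.card_of_isEmpty (α := {g : M // Char.conjFun (fittingHall M) (fun k => conj (lam k)) g = ⇑lam}),
        Nat.cast_zero, mul_eq_zero] at h1
      exact hne (h1.resolve_left (Nat.cast_ne_zero.2 Nat.card_pos.ne'))
    have hg' : ∀ n, conj (lam (MulAut.conjNormal g n)) = lam n := fun n => congrFun hg n
    have hg2 : g * g ∈ Char.inertia (fittingHall M) ⇑lam := by
      show Char.conjFun (fittingHall M) ⇑lam (g * g) = ⇑lam
      funext n
      have h1 := hg' (MulAut.conjNormal g n)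
      have h2 := hg' n
      simp only [Char.conjFun, map_mul, MulAut.mul_apply]
      rw [← h2, ← h1, Complex.conj_conj]
    have hgI : g ∈ Char.inertia (fittingHall M) ⇑lam := by
      have : g ∈ Subgroup.zpowers (g * g) := by
        obtain ⟨k, hk⟩ := hoddM
        refine ⟨(k + 1 : ℕ), ?_⟩
        show (g * g) ^ ((k + 1 : ℕ) : ℤ) = g
        rw [zpow_natCast, ← sq, ← pow_mul, show 2 * (k + 1) = Nat.card M + 1 by omega, pow_succ,
          pow_card_eq_one', one_mul]
      exact Subgroup.zpowers_le.2 hg2 this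
    have hreal : ∀ n, conj (lam n) = lam n := fun n => by
      have h1 : lam (MulAut.conjNormal g n) = lam n := congrFun hgI n
      have h2 := hg' n
      rwa [h1] at h2
    apply hlam
    refine MonoidHom.ext fun n => ?_
    have h1 := Cfsg.Agent.S0161.result (hoddM.of_dvd_nat (Subgroup.card_subgroup_dvd_card (fittingHall M)))
      (Char.linIrr lam) fun n => Complex.conj_eq_iff_im.1 (hreal n)
    exact congrFun h1 n
  have hinC : ∀ lam : (fittingHall M) →* ℂ, ∀ C : Finset (IrrCharacter M), indFun (fittingHall M) ⇑lam = ∑ χ ∈ C, χ.1 →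
      ∀ mu : (fittingHall M) →* ℂ, ∀ C' : Finset (IrrCharacter M), indFun (fittingHall M) ⇑mu = ∑ χ ∈ C', χ.1 →
      (∀ χ ∈ C, χ ∈ C' → indFun (fittingHall M) ⇑lam = indFun (fittingHall M) ⇑mu) ∧
      (∀ χ ∈ C, ∀ χ' ∈ C', χ'.1 = Cfsg.conjFun χ.1 →
        Cfsg.conjFun (indFun (fittingHall M) ⇑lam) = indFun (fittingHall M) ⇑mu) := by
    intro lam C hC mu C' hC'
    have hpos : ∀ (θ θ' : (fittingHall M) → ℂ), IsIrrCharacter (fittingHall M) θ → IsIrrCharacter (fittingHall M) θ' →
        ∀ (D D' : Finset (IrrCharacter M)), indFun (fittingHall M) θ = ∑ χ ∈ D, χ.1 →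
        indFun (fittingHall M) θ' = ∑ χ ∈ D', χ.1 → ∀ χ ∈ D, χ ∈ D' → indFun (fittingHall M) θ = indFun (fittingHall M) θ' := by
      intro θ θ' hθ hθ' D D' hD hD' χ hχ hχ'
      by_contra hne
      have h0 := classInner_indFun_eq_zero (fittingHall M) hθ hθ' hne
      rw [hD, hD', Char.classInner_sum_left] at h0
      simp only [Char.classInner_sum_right, Char.classInner_irr, Finset.sum_ite_eq,
        Finset.sum_boole, Nat.cast_eq_zero, Finset.card_eq_zero, Finset.filter_eq_empty_iff] at h0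
      exact h0 hχ hχ'
    refine ⟨fun χ h h' => hpos _ _ (Char.linIrr lam).2 (Char.linIrr mu).2 C C' hC hC' χ h h',
      fun χ h χ' h' he => ?_⟩
    rw [conjFun_indFun]
    refine hpos (fun n => conj (lam n)) _ (Char.IsIrrCharacter.conj_fun (Char.linIrr lam).2)
      (Char.linIrr mu).2 (C.image Char.conjIrr) C' ?_ hC' χ' ?_ h'
    · rw [← conjFun_indFun, hC, Finset.sum_image fun a _ b _ e => by
        rw [← Char.conjIrr_conjIrr a, e, Char.conjIrr_conjIrr]]
      funext g
      simp [Cfsg.conjFun, Finset.sum_apply]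
    · exact Finset.mem_image.2 ⟨χ, h, Subtype.ext (funext fun g => by
        rw [he]; simp [Cfsg.conjFun])⟩
  -- (12.4)
  refine ⟨fun y y' hy hyy' => cosetSum_eq_of_mem (fittingHall M) hf (fun lam hlam φ φ' hφ hφ' => ?_) hy hyy', ?_⟩
  · obtain ⟨C, hC, hdeg, hnt, hin⟩ := hfib lam hlam
    have hφC : φ ∈ C := by by_contra h; rw [hin, if_neg h] at hφ; exact hφ rfl
    have hφ'C : φ' ∈ C := by by_contra h; rw [hin, if_neg h] at hφ'; exact hφ' rfl
    refine ⟨?_, by rw [hdeg φ hφC, hdeg φ' hφ'C]⟩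
    by_cases hne : φ = φ'
    · rw [hne]
    have hnc' : ∀ a ∈ C, ∀ b ∈ C, b.1 ≠ Cfsg.conjFun a.1 := fun a ha b hb he =>
      hnc lam hlam C hC (((hinC lam C hC lam C hC).2 a ha b hb he).symm)
    have h := hcomb {φ, φ'} (fun a => if a = φ then 1 else -1)
      (fun a _ => by by_cases h : a = φ <;> simp [h])
      (fun a ha => by rcases Finset.mem_insert.1 ha with rfl | ha
                      · exact hnt _ hφC
                      · rw [Finset.mem_singleton] at ha; subst ha; exact hnt _ hφ'C)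
      (fun a ha b hb => by
        simp only [Finset.mem_insert, Finset.mem_singleton] at ha hb
        refine hnc' a ?_ b ?_ <;> rcases ha with rfl | rfl <;> rcases hb with rfl | rfl <;> assumption)
      (by rw [Finset.sum_pair hne, if_pos rfl, if_neg (Ne.symm hne), hdeg φ hφC, hdeg φ' hφ'C]
          push_cast; ring)
    rw [Finset.sum_pair hne, if_pos rfl, if_neg (Ne.symm hne)] at h
    simp only [Int.cast_one, Int.cast_neg, one_smul, neg_smul, ← sub_eq_add_neg,
      Char.classInner_sub_right, sub_eq_zero] at h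
    exact h
  -- (12.5)
  · have hconst : ∀ lam mu : (fittingHall M) →* ℂ, lam ≠ 1 → mu ≠ 1 →
        classInner f (indFun (fittingHall M) ⇑lam) = classInner f (indFun (fittingHall M) ⇑mu) := by
      intro lam mu hlam hmu
      obtain ⟨C, hC, hdeg, hnt, hin⟩ := hfib lam hlam
      obtain ⟨C', hC', hdeg', hnt', hin'⟩ := hfib mu hmu
      by_cases h1 : indFun (fittingHall M) ⇑lam = indFun (fittingHall M) ⇑mu
      · rw [h1]
      by_cases h2 : Cfsg.conjFun (indFun (fittingHall M) ⇑lam) = indFun (fittingHall M) ⇑mu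
      · rw [← h2, hC]
        rw [show Cfsg.conjFun (∑ χ ∈ C, χ.1) = ∑ χ ∈ C, Cfsg.conjFun χ.1 by
          funext g; simp [Cfsg.conjFun, Finset.sum_apply]]
        rw [Char.classInner_sum_right, Char.classInner_sum_right]
        exact Finset.sum_congr rfl fun χ hχ => hpair χ (hnt χ hχ)
      have hdisj : Disjoint C C' := Finset.disjoint_left.2 fun χ h h' =>
        h1 ((hinC lam C hC mu C' hC').1 χ h h')
      have hval : ∀ y, indFun (fittingHall M) ⇑lam y - indFun (fittingHall M) ⇑mu y =
          ∑ a ∈ C ∪ C', ((if a ∈ C then 1 else -1 : ℤ) : ℂ) * a.1 y := by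
        intro y
        rw [Finset.sum_union hdisj, Finset.sum_congr rfl (s₁ := C) (g := fun a => a.1 y)
          fun a ha => by rw [if_pos ha, Int.cast_one, one_mul],
          Finset.sum_congr rfl (s₁ := C') (g := fun a => -a.1 y) fun a ha => by
            rw [if_neg (Finset.disjoint_right.1 hdisj ha), Int.cast_neg, Int.cast_one, neg_one_mul],
          hC, hC', Finset.sum_apply, Finset.sum_apply, Finset.sum_neg_distrib]
        ring
      have h := hcomb (C ∪ C') (fun a => if a ∈ C then 1 else -1)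
        (fun a _ => by by_cases h : a ∈ C <;> simp [h])
        (fun a ha => (Finset.mem_union.1 ha).elim (hnt a) (hnt' a))
        (fun a ha b hb he => by
          rcases Finset.mem_union.1 ha with ha | ha <;> rcases Finset.mem_union.1 hb with hb | hb
          · exact hnc lam hlam C hC (((hinC lam C hC lam C hC).2 a ha b hb he).symm)
          · exact h2 ((hinC lam C hC mu C' hC').2 a ha b hb he)
          · refine h2 ((hinC lam C hC mu C' hC').2 b hb a ha ?_)
            rw [he]; funext g; simp [Cfsg.conjFun]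
          · exact hnc mu hmu C' hC' (((hinC mu C' hC' mu C' hC').2 a ha b hb he).symm))
        (by
          rw [← hval 1, Char.indFun_apply_one, Char.indFun_apply_one, map_one, map_one, sub_self])
      rw [show (∑ a ∈ C ∪ C', ((if a ∈ C then 1 else -1 : ℤ) : ℂ) • a.1) =
          indFun (fittingHall M) ⇑lam - indFun (fittingHall M) ⇑mu from funext fun y => by
            rw [Pi.sub_apply, hval]; simp only [Finset.sum_apply, Pi.smul_apply, smul_eq_mul],
        Char.classInner_sub_right, sub_eq_zero] at h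
      exact h
    by_cases hex : ∃ lam : (fittingHall M) →* ℂ, lam ≠ 1
    swap
    · refine ⟨0, fun w hw hw' => ?_⟩
      rw [cosetSum_eq_of_mem_kernel (fittingHall M) hf (z := 0) (fun lam hlam => absurd ⟨lam, hlam⟩ hex) hw hw']
      simp
    obtain ⟨lam₀, hlam₀⟩ := hex
    set β := indFun (fittingHall M) ⇑lam₀ - indFun (fittingHall M) (⇑(1 : (fittingHall M) →* ℂ)) with hβ
    have hβg : IsGeneralizedCharacter M β :=
      Char.IsGeneralizedCharacter.sub
        (Char.IsCharacter.isGeneralized (Char.isCharacter_indFun (fittingHall M)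
          (Char.IsIrrCharacter.isCharacter (Char.linIrr lam₀).2)))
        (Char.IsCharacter.isGeneralized (Char.isCharacter_indFun (fittingHall M)
          (Char.IsIrrCharacter.isCharacter (Char.linIrr (1 : (fittingHall M) →* ℂ)).2)))
    have hβA : ∀ y : M, (y : G) ∉ typeA' M → β y = 0 := by
      intro y hy
      rw [hβ, Pi.sub_apply]
      by_cases hyK : y ∈ (fittingHall M)
      · by_cases hy1 : y = 1
        · subst hy1
          rw [Char.indFun_apply_one, Char.indFun_apply_one, map_one, map_one, sub_self]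
        · refine absurd ?_ hy
          rw [twelve_typeA_M T]
          exact ⟨y.2, fun h => hy1 (Subtype.ext h), (y : G), ⟨y, hyK, rfl⟩,
            fun h => hy1 (Subtype.ext h), rfl⟩
      · rw [Char.indFun_of_notMem_normal (fittingHall M) _ hyK, Char.indFun_of_notMem_normal (fittingHall M) _ hyK, sub_self]
    obtain ⟨z, hz⟩ := Char.IsGeneralizedCharacter.exists_int_classInner
      (isGeneralizedCharacter_dadeIsometry hD hβg hβA) (hψ.gen 0)
    rw [classInner_dade_invDade hD (Char.IsGeneralizedCharacter.isClassFunction hβg) hβA hψc,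
      ← Char.conj_classInner, ← hfdef] at hz
    have hz' : classInner f β = z := by
      rw [← Complex.conj_conj (classInner f β), hz, map_intCast]
    refine ⟨z, fun w hw hw' => cosetSum_eq_of_mem_kernel (fittingHall M) hf (fun lam hlam => ?_) hw hw'⟩
    rw [← hz', hβ, Char.classInner_sub_right, ← hconst lam lam₀ hlam hlam₀,
      Char.classInner_indFun_right (fittingHall M) _ hf, Char.classInner_indFun_right (fittingHall M) _ hf]
    rfl

end Orth

end Cfsg.Agent.OddOrder.PF
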