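import Cfsg.Agent.Lib.OddOrder.PF.S10_Bridge
import Cfsg.Agent.Lib.OddOrder.Final

/-!
Generic facts on a cyclic TI family `η` used in Peterfalvi 13: exchanging the two factors,
additivity off the conjugates of `V`, nonvanishing of `η φ` somewhere on `W₂ ∖ 1`, and the norm.
-/

set_option autoImplicit false
set_option linter.style.haveILetI false

namespace Cfsg.Agent.OddOrder.PF

open Cfsg Cfsg.Agent.OddOrder Cfsg.Agent
open scoped ComplexConjugate

universe u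
variable {G : Type u} [Group G] [Fintype G] {W₁ W₂ : Subgroup G}
  {η : (↥(W₁ ⊔ W₂) →* ℂˣ) → (G → ℂ)}

/-- A rational number of the form `(q - 1) / q` is no algebraic integer. -/
theorem no_vanish {z : ℂ} (hz : IsIntegral ℤ z) {q : ℕ} (hq : 2 ≤ q)
    (h : (q : ℂ) * z = (q : ℂ) - 1) : False := by
  have hq0 : (q : ℂ) ≠ 0 := Nat.cast_ne_zero.2 (by omega)
  have e : z = algebraMap ℚ ℂ (((q : ℚ) - 1) / q) := by
    rw [eq_ratCast]
    push_cast
    field_simp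
    linear_combination h
  rw [e, isIntegral_algebraMap_iff (algebraMap ℚ ℂ).injective] at hz
  obtain ⟨m, hm⟩ := IsIntegrallyClosed.isIntegral_iff.1 hz
  have h2 : (m : ℚ) = ((q : ℚ) - 1) / q := by simpa using hm
  rw [eq_div_iff (Nat.cast_ne_zero.2 (by omega : q ≠ 0))] at h2
  have h3 : m * (q : ℤ) = (q : ℤ) - 1 := by exact_mod_cast h2
  rcases le_or_gt 1 m with hm1 | hm1 <;> nlinarith [(by exact_mod_cast hq : (2 : ℤ) ≤ q)]

/-- Induction from two equal subgroups. -/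
theorem indFun_subgroupCongr {H K : Subgroup G} (h : H = K) (θ : K → ℂ) :
    indFun H (fun w => θ (MulEquiv.subgroupCongr h w)) = indFun K θ := by
  subst h
  rfl

/-- The composition with the identification `W₁ W₂ = W₂ W₁`. -/
def annSwap (W₁ W₂ U : Subgroup G) : Ann W₂ W₁ U ≃ Ann W₁ W₂ U where
  toFun φ := ⟨φ.1.comp (MulEquiv.subgroupCongr (sup_comm W₁ W₂)).toMonoidHom,
    fun _ hw => φ.2 _ hw⟩
  invFun φ := ⟨φ.1.comp (MulEquiv.subgroupCongr (sup_comm W₂ W₁)).toMonoidHom,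
    fun _ hw => φ.2 _ hw⟩
  left_inv φ := Subtype.ext (MonoidHom.ext fun _ => rfl)
  right_inv φ := Subtype.ext (MonoidHom.ext fun _ => rfl)

omit [Fintype G] in
@[simp] theorem annSwap_coe (U : Subgroup G) (φ : Ann W₂ W₁ U) :
    (annSwap W₁ W₂ U φ).1 = φ.1.comp (MulEquiv.subgroupCongr (sup_comm W₁ W₂)).toMonoidHom := rfl

omit [Fintype G] in
theorem annSwap_coe_eq_one (U : Subgroup G) (φ : Ann W₂ W₁ U) :
    (annSwap W₁ W₂ U φ).1 = 1 ↔ φ.1 = 1 := by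
  refine ⟨fun h => ?_, fun h => by rw [annSwap_coe, h, MonoidHom.one_comp]⟩
  refine MonoidHom.ext fun w => ?_
  exact DFunLike.congr_fun h ((MulEquiv.subgroupCongr (sup_comm W₁ W₂)).symm w)

omit [Fintype G] in
theorem annSwap_annOne (U : Subgroup G) :
    annSwap W₁ W₂ U (annOne W₂ W₁ U) = annOne W₁ W₂ U := Subtype.ext (MonoidHom.ext fun _ => rfl)

omit [Fintype G] in
theorem annSwap_mul {U U' : Subgroup G} (φ : Ann W₂ W₁ U) (ψ : Ann W₂ W₁ U') :
    (φ.1 * ψ.1).comp (MulEquiv.subgroupCongr (sup_comm W₁ W₂)).toMonoidHom =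
      (annSwap W₁ W₂ U φ).1 * (annSwap W₁ W₂ U' ψ).1 := MonoidHom.mul_comp _ _ _

/-- A cyclic TI family for `(W₁, W₂)` is one for `(W₂, W₁)`. -/
theorem isCyclicTIFamily_swap (hη : IsCyclicTIFamily W₁ W₂ η) :
    IsCyclicTIFamily W₂ W₁
      (fun ω => η (ω.comp (MulEquiv.subgroupCongr (sup_comm W₁ W₂)).toMonoidHom)) := by
  classical
  have hinj : Function.Injective fun ω : ↥(W₂ ⊔ W₁) →* ℂˣ =>
      ω.comp (MulEquiv.subgroupCongr (sup_comm W₁ W₂)).toMonoidHom := fun a b h =>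
    MonoidHom.ext fun w =>
      DFunLike.congr_fun h ((MulEquiv.subgroupCongr (sup_comm W₁ W₂)).symm w)
  refine ⟨fun ω => hη.irr_or_neg _, fun ω ω' => ?_, ?_, fun ω w h1 h2 => ?_, ?_⟩
  · rw [hη.orthonormal]
    convert if_congr hinj.eq_iff rfl rfl using 2
  · show η _ = _
    rw [MonoidHom.one_comp, hη.map_one]
  · exact hη.eq_on _ ((MulEquiv.subgroupCongr (sup_comm W₁ W₂)).symm w) h2 h1
  · intro φ ψ hφ hψ hφ' hψ'
    set e := (MulEquiv.subgroupCongr (sup_comm W₁ W₂)).toMonoidHom with he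
    have h := hη.induced_eq (ψ.comp e) (φ.comp e)
      (fun h => hψ (hinj (h.trans (MonoidHom.one_comp e).symm)))
      (fun h => hφ (hinj (h.trans (MonoidHom.one_comp e).symm)))
      (fun w hw => hψ' _ hw) (fun w hw => hφ' _ hw)
    rw [← indFun_subgroupCongr (sup_comm W₁ W₂)]
    refine Eq.trans (congrArg (indFun _) ?_) (h.trans ?_)
    · funext w
      simp only [MonoidHom.comp_apply, he, MulEquiv.coe_toMonoidHom]
      ring
    · funext g
      rw [← MonoidHom.mul_comp, mul_comm ψ φ]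
      ring

/-- Off the conjugates of `V` the family is additive in the two factors. -/
theorem eta_add_of_notMem (hη : IsCyclicTIFamily W₁ W₂ η) {g : G}
    (hg : ∀ x : G, x⁻¹ * g * x ∈ W₁ ⊔ W₂ → x⁻¹ * g * x ∈ W₁ ∨ x⁻¹ * g * x ∈ W₂)
    {φ ψ : ↥(W₁ ⊔ W₂) →* ℂˣ} (hφ : ∀ w : ↥(W₁ ⊔ W₂), (w : G) ∈ W₂ → φ w = 1)
    (hψ : ∀ w : ↥(W₁ ⊔ W₂), (w : G) ∈ W₁ → ψ w = 1) :
    η (φ * ψ) g = η φ g + η ψ g - 1 := by
  by_cases h1 : φ = 1
  · subst h1
    rw [show (1 : ↥(W₁ ⊔ W₂) →* ℂˣ) * ψ = ψ from MonoidHom.ext fun w => one_mul (ψ w),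
      hη.map_one]
    ring
  by_cases h2 : ψ = 1
  · subst h2
    rw [show φ * (1 : ↥(W₁ ⊔ W₂) →* ℂˣ) = φ from MonoidHom.ext fun w => mul_one (φ w), hη.map_one]
    ring
  have h := congrFun (hη.induced_eq φ ψ h1 h2 hφ hψ) g
  rw [indFun, Finset.sum_eq_zero, mul_zero] at h
  · linear_combination -h
  intro x _
  by_cases hx : x⁻¹ * g * x ∈ W₁ ⊔ W₂
  · rw [Char.extendByZero_of_mem _ _ hx]
    rcases hg x hx with hw | hw
    · simp [hψ ⟨_, hx⟩ hw]
    · simp [hφ ⟨_, hx⟩ hw]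
  · rw [Char.extendByZero_of_notMem _ _ hx]

omit [Fintype G] in
theorem card_sup_eq [Finite G] (hW : IsSelfNormalizingCyclic W₁ W₂) :
    Nat.card ↥(W₁ ⊔ W₂) = Nat.card W₁ * Nat.card W₂ := by
  letI := Fintype.ofFinite G
  obtain ⟨hfin, h1, h2, hb⟩ := ann_facts hW
  letI : CommGroup ↥(W₁ ⊔ W₂) :=
    { (inferInstance : Group ↥(W₁ ⊔ W₂)) with mul_comm := isCyclicTI_comm hW }
  rw [← CommGroup.card_monoidHom_of_hasEnoughRootsOfUnity ↥(W₁ ⊔ W₂) ℂ, ← h1, ← h2,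
    ← Nat.card_prod]
  exact (Nat.card_congr (Equiv.ofBijective _ hb)).symm

set_option maxHeartbeats 400000 in
/-- For `φ` nontrivial and trivial on `W₂`, `η φ` does not vanish on all of `W₂ ∖ 1`. -/
theorem eta_ne_zero_on_W2 (hW : IsSelfNormalizingCyclic W₁ W₂) (hη : IsCyclicTIFamily W₁ W₂ η)
    (φ : Ann W₁ W₂ W₂) (hφ : φ.1 ≠ 1) : ∃ x ∈ W₂, x ≠ 1 ∧ η φ.1 x ≠ 0 := by
  classical
  haveI : Fintype ↥(W₁ ⊔ W₂) := Fintype.ofFinite _
  obtain ⟨hfin, hc1, hc2, -⟩ := ann_facts hW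
  haveI := hfin
  have hW2 : 1 < Nat.card W₂ := W₂.one_lt_card_iff_ne_bot.2 hW.2.1
  have hW1 : 2 ≤ Nat.card W₁ := W₁.one_lt_card_iff_ne_bot.2 hW.1
  haveI : Nontrivial (Ann W₁ W₂ W₁) := Finite.one_lt_card_iff_nontrivial.1 (hc2.symm ▸ hW2)
  obtain ⟨b, hb⟩ := exists_ne (annOne W₁ W₂ W₁)
  have hb1 : b.1 ≠ 1 := fun h => hb (Subtype.ext h)
  by_contra hcon
  push Not at hcon
  set lam : (↥(W₁ ⊔ W₂) →* ℂˣ) → (↥(W₁ ⊔ W₂) → ℂ) := fun ω w => (ω w : ℂ) with hlam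
  have hgen : ∀ ω, IsGeneralizedCharacter ↥(W₁ ⊔ W₂) (lam ω) := fun ω =>
    Char.irr_isGeneralized (Char.linIrr ((Units.coeHom ℂ).comp ω))
  have hf : IsGeneralizedCharacter ↥(W₁ ⊔ W₂) (fun w : ↥(W₁ ⊔ W₂) => η φ.1 w) :=
    Char.IsGeneralizedCharacter.restrict (eta_isGeneralized hη _) _
  obtain ⟨z, hz⟩ := Char.IsGeneralizedCharacter.exists_int_classInner hf
    (Char.IsGeneralizedCharacter.sub (hgen φ.1) (hgen (φ.1 * b.1)))
  -- the nontrivial character `b` sums to zero on `W` and on `W₂`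
  have hconjsum : ∀ (P : ↥(W₁ ⊔ W₂) → Prop) [DecidablePred P] (y : ↥(W₁ ⊔ W₂)), b.1 y ≠ 1 →
      (∀ w, P (y * w) ↔ P w) → ∑ w with P w, conj ((b.1 w : ℂ)) = 0 := by
    intro P _ y hy hP
    have h : conj ((b.1 y : ℂ)) * ∑ w with P w, conj ((b.1 w : ℂ)) =
        ∑ w with P w, conj ((b.1 w : ℂ)) := by
      rw [Finset.mul_sum]
      refine Finset.sum_equiv (Equiv.mulLeft y) (fun w => ?_) fun w _ => ?_
      · simp [hP]
      · simp
    rcases mul_left_eq_self₀.1 h with h | h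
    · exact absurd (Units.ext (by simpa using congrArg conj h)) hy
    · exact h
  obtain ⟨y, hy⟩ : ∃ y : ↥(W₁ ⊔ W₂), (y : G) ∈ W₂ ∧ b.1 y ≠ 1 := by
    by_contra hno
    push Not at hno
    refine hb1 (MonoidHom.ext fun w => ?_)
    letI : CommGroup ↥(W₁ ⊔ W₂) :=
      { (inferInstance : Group ↥(W₁ ⊔ W₂)) with mul_comm := isCyclicTI_comm hW }
    obtain ⟨a, ha, c, hc, hw⟩ := Subgroup.mem_sup.1
      (show w ∈ W₁.subgroupOf (W₁ ⊔ W₂) ⊔ W₂.subgroupOf (W₁ ⊔ W₂) by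
        rw [← Subgroup.subgroupOf_sup le_sup_left le_sup_right, Subgroup.subgroupOf_self]
        exact Subgroup.mem_top w)
    rw [← hw, map_mul, b.2 a ha, hno c hc, one_mul, MonoidHom.one_apply]
  have hS1 := hconjsum (fun _ => True) y hy.2 (by simp)
  have hS2 := hconjsum (fun w => (w : G) ∈ W₂) y hy.2 fun w => by
    simpa using W₂.mul_mem_cancel_left hy.1
  have hcard : ((Finset.univ.filter fun w : ↥(W₁ ⊔ W₂) => (w : G) ∈ W₂).card : ℂ) =
      Nat.card W₂ := by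
    rw [← Fintype.card_subtype, ← Nat.card_eq_fintype_card,
      ← Nat.card_congr (Subgroup.subgroupOfEquivOfLe (le_sup_right : W₂ ≤ W₁ ⊔ W₂)).toEquiv]
    exact congrArg Nat.cast (Nat.card_congr (Equiv.subtypeEquivRight fun _ => Iff.rfl))
  have hpt : ∀ w : ↥(W₁ ⊔ W₂), η φ.1 w * conj ((lam φ.1 - lam (φ.1 * b.1)) w) =
      (1 - conj ((b.1 w : ℂ))) -
        (if (w : G) ∈ W₂ then 1 - conj ((b.1 w : ℂ)) else 0) := by
    intro w
    simp only [hlam, Pi.sub_apply, MonoidHom.mul_apply, Units.val_mul, map_sub, map_mul]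
    by_cases h1 : (w : G) ∈ W₁
    · simp [b.2 w h1]
    by_cases h2 : (w : G) ∈ W₂
    · rw [if_pos h2, hcon w h2 (fun e => h1 (e ▸ W₁.one_mem))]
      ring
    · rw [if_neg h2, hη.eq_on _ w h1 h2]
      have hn : (φ.1 w : ℂ) * conj ((φ.1 w : ℂ)) = 1 :=
        Char.normSq_linear ((Units.coeHom ℂ).comp φ.1) w
      linear_combination (1 - conj ((b.1 w : ℂ))) * hn
  rw [classInner, Finset.sum_congr rfl fun w _ => hpt w, Finset.sum_sub_distrib, Finset.sum_sub_distrib,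
    ← Finset.sum_filter, Finset.sum_sub_distrib, hS2, Finset.sum_const, Finset.sum_const,
    Finset.card_univ, ← Nat.card_eq_fintype_card, nsmul_one, nsmul_one, hcard,
    show (∑ w : ↥(W₁ ⊔ W₂), conj ((b.1 w : ℂ))) = 0 by simpa using hS1, card_sup_eq hW] at hz
  refine no_vanish (q := Nat.card W₁) (isIntegral_algebraMap (R := ℤ) (A := ℂ) (x := z)) hW1 ?_
  have h1 : (Nat.card W₁ : ℂ) ≠ 0 := Nat.cast_ne_zero.2 Nat.card_pos.ne'
  have h2 : (Nat.card W₂ : ℂ) ≠ 0 := Nat.cast_ne_zero.2 Nat.card_pos.ne'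
  rw [eq_intCast, ← hz]
  push_cast
  field_simp
  ring

/-- The sum of the squared absolute values of each `η ω` is the group order. -/
theorem sum_normSq_eta (hη : IsCyclicTIFamily W₁ W₂ η) (ω : ↥(W₁ ⊔ W₂) →* ℂˣ) :
    ∑ g : G, Complex.normSq (η ω g) = (Nat.card G : ℝ) := by
  have h := hη.orthonormal ω ω
  rw [if_pos rfl, classInner, inv_mul_eq_iff_eq_mul₀ Char.card_ne_zero, mul_one] at h
  apply Complex.ofReal_injective
  push_cast
  simpa [Complex.mul_conj] using h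

end Cfsg.Agent.OddOrder.PF
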