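import Cfsg.Agent.Lib.OddOrder.PF.TypeFacts
import Cfsg.Agent.Lib.OddOrder.PF.TypePDade
import Cfsg.Agent.Lib.Frobenius.FixedPointFree
import Cfsg.Agent.Lib.Frobenius.Basic
import Cfsg.Agent.Lib.Components.Fitting

/-!
For a maximal subgroup of Type III in which `U` acts fixed-point-freely on `S_F`, the set `A₀(S)`
is a TI-subset: no element of it has its centraliser outside `S`.
-/

set_option autoImplicit false
set_option linter.style.haveILetI false

namespace Cfsg.Agent.OddOrder.PF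

open Cfsg Cfsg.Agent.OddOrder
open scoped IsMulCommutative

/-- If `u` normalises the finite subgroup `K` and fixes only `1` in it, every element of `K u` is
conjugate to `u` under `K`. -/
theorem exists_conj_of_fpf {L : Type*} [Group L] [Finite L] {K : Subgroup L} {u : L}
    (hn : ∀ k ∈ K, u * k * u⁻¹ ∈ K) (hf : ∀ k ∈ K, u * k = k * u → k = 1) {h : L} (hh : h ∈ K) :
    ∃ k ∈ K, h * u = k⁻¹ * u * k := by
  let f : K → K := fun k => ⟨(k : L)⁻¹ * (u * k * u⁻¹), K.mul_mem (K.inv_mem k.2) (hn k k.2)⟩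
  have hinj : Function.Injective f := by
    intro a b e
    have e' : (a : L)⁻¹ * (u * a * u⁻¹) = (b : L)⁻¹ * (u * b * u⁻¹) := congrArg Subtype.val e
    refine Subtype.ext (mul_inv_eq_one.1 (hf _ (K.mul_mem b.2 (K.inv_mem a.2)) ?_)).symm
    calc u * ((b : L) * (a : L)⁻¹)
        = b * ((b : L)⁻¹ * (u * b * u⁻¹)) * u * (a : L)⁻¹ := by group
      _ = b * ((a : L)⁻¹ * (u * a * u⁻¹)) * u * (a : L)⁻¹ := by rw [e']
      _ = b * (a : L)⁻¹ * u := by group
  obtain ⟨k, hk⟩ := Finite.surjective_of_injective hinj ⟨h, hh⟩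
  refine ⟨k, k.2, ?_⟩
  have : (k : L)⁻¹ * (u * k * u⁻¹) = h := congrArg Subtype.val hk
  rw [← this]
  group

theorem le_normalizer_of_forall_conj' {L : Type*} [Group L] {T K : Subgroup L}
    (h : ∀ t ∈ T, ∀ s ∈ K, t * s * t⁻¹ ∈ K) : T ≤ Subgroup.normalizer (K : Set L) := fun t ht =>
  Subgroup.mem_normalizer_iff.2 fun s => ⟨h t ht s, fun hs => by
    have := h t⁻¹ (T.inv_mem ht) _ hs
    rwa [show t⁻¹ * (t * s * t⁻¹) * t⁻¹⁻¹ = s by group] at this⟩

universe u
variable {G : Type u} [Group G] [Finite G] {S W₁ U W₂ : Subgroup G}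

omit [Finite G] in
/-- In type P data of a subgroup of Type III the factor `U` is abelian. -/
theorem typeIII_U_comm (hP : IsTypePWith S W₁ U W₂) (hIII : IsOfTypeIII S) :
    ∀ a ∈ U, ∀ b ∈ U, a * b = b * a := by
  obtain ⟨W, U', W', hP', -, -, -, hab, -⟩ := hIII
  have hU'S : U' ≤ S := hP'.U_compl.2.1.trans S.commutator_le_self
  intro a ha b hb
  have haS : a ∈ S := S.commutator_le_self (hP.U_compl.2.1 ha)
  have hbS : b ∈ S := S.commutator_le_self (hP.U_compl.2.1 hb)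
  let π := QuotientGroup.mk' (fittingHall S)
  have key : ∀ (c : G) (hc : c ∈ S), c ∈ ⁅S, S⁆ →
      ∃ v : S, (v : G) ∈ U' ∧ π ⟨c, hc⟩ = π v := by
    intro c hc hc'
    obtain ⟨h, hh, v, hv, e⟩ := hP'.U_compl.2.2.2 c hc'
    refine ⟨⟨v, hU'S hv⟩, hv, ?_⟩
    have e' : (⟨c, hc⟩ : S) = (⟨h, fittingHallOf_le S hh⟩ : S) * ⟨v, hU'S hv⟩ := Subtype.ext e
    have h1 : π ⟨h, fittingHallOf_le S hh⟩ = 1 := by
      refine (QuotientGroup.eq_one_iff _).2 ?_
      rw [← subgroupOf_fittingHallOf]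
      exact hh
    rw [e', map_mul, h1, one_mul]
  obtain ⟨va, hva, ea⟩ := key a haS (hP.U_compl.2.1 ha)
  obtain ⟨vb, hvb, eb⟩ := key b hbS (hP.U_compl.2.1 hb)
  have hcomm : va * vb = vb * va :=
    Subtype.ext (congrArg (fun t : U' => (t : G)) (hab.is_comm.comm ⟨_, hva⟩ ⟨_, hvb⟩) :)
  have h1 : π (⟨a, haS⟩ * ⟨b, hbS⟩ * (⟨b, hbS⟩ * ⟨a, haS⟩)⁻¹) = 1 := by
    simp only [map_mul, map_inv]
    rw [ea, eb, ← map_mul, ← map_mul, hcomm, mul_inv_cancel]
  have h2 : a * b * (b * a)⁻¹ ∈ fittingHallOf S ⊓ U :=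
    ⟨⟨_, (QuotientGroup.eq_one_iff _).1 h1, rfl⟩,
      U.mul_mem (U.mul_mem ha hb) (U.inv_mem (U.mul_mem hb ha))⟩
  rw [hP.U_compl.2.2.1, Subgroup.mem_bot, mul_inv_eq_one] at h2
  exact h2

/-- No element of `U` has its centraliser outside `S`. -/
theorem typeIII_centralizer_le_of_mem (B : BGFacts G)
    (hS : IsCoatom S) (hP : IsTypePWith S W₁ U W₂) (hIII : IsOfTypeIII S)
    (hfpf : ∀ u ∈ U, u ≠ 1 → ∀ x ∈ fittingHallOf S, u * x = x * u → x = 1)
    {u : G} (hu : u ∈ U) (hu1 : u ≠ 1) (hA : u ∈ typeA0' S) :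
    Subgroup.centralizer ({u} : Set G) ≤ S := by
  classical
  by_contra hle
  obtain ⟨-, h2, h3⟩ := B.s1391 S hS _ (Or.inr rfl)
  obtain ⟨-, L, ⟨hL, hCL⟩, -⟩ := h2 u hA hle
  obtain ⟨hcompl, -, hcC, -, -, hLtype, hfrob⟩ := h3 u hA hle L hL hCL
  have hUS : U ≤ S := hP.U_compl.2.1.trans S.commutator_le_self
  have hHn : S ≤ Subgroup.normalizer (fittingHallOf S : Set G) := le_normalizer_map_subtype _
  rcases hLtype with hI | hII
  swap
  · -- Type II: `S` would be a Frobenius group with kernel `S_F`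
    obtain ⟨E, hE, hker⟩ := hfrob hII
    obtain ⟨w, hw, hw1⟩ := (Subgroup.bot_or_exists_ne_one W₁).resolve_left hP.W₁_ne
    obtain ⟨y, hy, hy1⟩ :=
      (Subgroup.bot_or_exists_ne_one W₂).resolve_left hP.selfNormalizing.2.1
    have hyH : y ∈ fittingHallOf S := (hP.W₂_le hy).1
    set w' : S := ⟨w, hP.W₁_compl.2.1 hw⟩ with hw'
    set y' : S := ⟨y, fittingHallOf_le S hyH⟩ with hy'
    have hw'1 : w' ≠ 1 := fun h => hw1 (congrArg Subtype.val h)
    have hwk : w' ∉ frobeniusKernel E := by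
      rw [hker]
      intro h
      have hwH : w ∈ fittingHallOf S := ⟨w', h, rfl⟩
      have hwb : w ∈ ⁅S, S⁆ ⊓ W₁ := ⟨hP.U_compl.1 hwH, hw⟩
      rw [hP.W₁_compl.2.2.1, Subgroup.mem_bot] at hwb
      exact hw1 hwb
    rw [Frobenius.mem_kernel_iff hw'1, not_forall] at hwk
    obtain ⟨g, hg⟩ := hwk
    rw [not_not] at hg
    have hc : Commute w' y' := Subtype.ext (hP.selfNormalizing.2.2.2.1 w hw y hy)
    have hc' : Commute (g⁻¹ * y' * g) (g⁻¹ * w' * g) := by
      unfold Commute SemiconjBy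
      calc g⁻¹ * y' * g * (g⁻¹ * w' * g) = g⁻¹ * (y' * w') * g := by group
        _ = g⁻¹ * (w' * y') * g := by rw [hc.eq]
        _ = g⁻¹ * w' * g * (g⁻¹ * y' * g) := by group
    have hyE : g⁻¹ * y' * g ∈ E :=
      Frobenius.mem_of_commute hE hg (fun h => hw'1 (by
        simpa [mul_assoc] using congrArg (fun a => g * a * g⁻¹) h)) hc'
    have hyk : y' ∈ frobeniusKernel E := by
      rw [hker, SetLike.mem_coe, ← subgroupOf_fittingHallOf]
      exact hyH
    have hy'1 : y' ≠ 1 := fun h => hy1 (congrArg Subtype.val h)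
    exact (Frobenius.mem_kernel_iff hy'1).1 hyk g hyE
  -- Type I: a power of `u` of prime order would act fixed-point-freely on `L_F`
  have hU : ∀ a ∈ U, ∀ b ∈ U, a * b = b * a := typeIII_U_comm hP hIII
  have hUE : U ≤ S ⊓ L := le_inf hUS fun v hv =>
    hCL (Subgroup.mem_centralizer_singleton_iff.2 (hU v hv u hu))
  obtain ⟨r, hr, hrd⟩ := Nat.exists_prime_and_dvd (n := orderOf u) (by simpa using hu1)
  haveI := Fact.mk hr
  have hz : orderOf (u ^ (orderOf u / r)) = r := by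
    have hd : orderOf u / r ∣ orderOf u := Nat.div_dvd_of_dvd hrd
    rw [orderOf_pow_of_dvd (fun h => (orderOf_pos u).ne'
      (by rw [← Nat.div_mul_cancel hrd, h, zero_mul])) hd, Nat.div_div_self hrd (orderOf_pos u).ne']
  set z := u ^ (orderOf u / r) with hzdef
  have hzU : z ∈ U := U.pow_mem hu _
  -- a nontrivial element of `L_F` centralised by `z`
  obtain ⟨y, hy, hy1⟩ : ∃ y ∈ fittingHallOf L ⊓ Subgroup.centralizer ({u} : Set G), y ≠ 1 := by
    by_contra! hne
    refine hle fun c hc => ?_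
    obtain ⟨a, ha, b, hb, rfl⟩ := hcC.2.2.2 c hc
    rw [hne a ha, one_mul]
    exact hb.1
  have hyz : Commute z y := by
    have : u * y = y * u := (Subgroup.mem_centralizer_singleton_iff.1 hy.2).symm
    exact (show Commute u y from this).pow_left _
  -- an element of order `r` of `S ⊓ L` without fixed points on `L_F`
  obtain ⟨⟨hsol, -, -, -, UL, -, hULc, -, U₀, hU₀, hexp, hU₀f⟩, -⟩ := hI
  haveI := hsol
  set E := (S ⊓ L).subgroupOf L with hEdef
  have hcardE : Nat.card E = Nat.card UL := by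
    have h1 := card_eq_of_isComplIn hcompl
    rw [card_fittingHallOf, ← hULc.card_mul_card] at h1
    rw [hEdef, Nat.card_congr (Subgroup.subgroupOfEquivOfLe inf_le_right).toEquiv]
    exact Nat.eq_of_mul_eq_mul_left Nat.card_pos h1
  have hULcop : (Nat.card UL).Coprime (Nat.card (fittingHall L)) := by
    rw [← hULc.symm.index_eq_card]
    exact (fittingHall_coprime_index L).symm
  have hLn : UL ≤ Subgroup.normalizer ((fittingHall L : Subgroup L) : Set L) := by
    rw [Subgroup.normalizer_eq_top_iff.2 inferInstance]; exact le_top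
  obtain ⟨g, -, hge⟩ := Coprime.exists_conj_eq_of_le_sup hLn
    (le_top.trans (by rw [sup_comm]; exact hULc.sup_eq_top.ge)) hcardE hULcop
    (Or.inl inferInstance)
  have hzE : (⟨z, (hUE hzU).2⟩ : L) ∈ E := hUE hzU
  rw [← hge, Coprime.mem_conj_smul_iff] at hzE
  have hr0 : r ∣ Nat.card U₀ := by
    refine dvd_trans ?_ Group.exponent_dvd_nat_card
    rw [hexp, show r = orderOf (g⁻¹ * (⟨z, (hUE hzU).2⟩ : L) * g) from ?_]
    · rw [← Subgroup.orderOf_mk _ hzE]
      exact Monoid.order_dvd_exponent _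
    · have e : g⁻¹ * (⟨z, (hUE hzU).2⟩ : L) * g = MulAut.conj g⁻¹ (⟨z, (hUE hzU).2⟩ : L) := by
        simp
      rw [e, MulEquiv.orderOf_eq, Subgroup.orderOf_mk, hz]
  obtain ⟨z0, hz0⟩ := exists_prime_orderOf_dvd_card' r hr0
  have hz0' : g * z0 * g⁻¹ ∈ E := by
    rw [← hge, Coprime.mem_conj_smul_iff]
    simpa [mul_assoc] using hU₀ z0.2
  set z3 : L := g * z0 * g⁻¹ with hz3def
  have hz3o : orderOf (z3 : G) = r := by
    rw [Subgroup.orderOf_coe, hz3def, show g * (z0 : L) * g⁻¹ = MulAut.conj g (z0 : L) from rfl,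
      MulEquiv.orderOf_eq, Subgroup.orderOf_coe, hz0]
  have hz3f : ∀ x ∈ fittingHallOf L, (z3 : G) * x = x * z3 → x = 1 := by
    rintro _ ⟨x, hx, rfl⟩ hc
    have hc' : z3 * x = x * z3 := Subtype.ext hc
    have hm := hU₀f z0 z0.2 (fun h => hr.ne_one (by
      rw [← hz0, ← Subgroup.orderOf_coe, h, orderOf_one])) (g⁻¹ * x * g)
      (by simpa using (fittingHall_normal L).conj_mem x hx g⁻¹) (by
      calc (z0 : L) * (g⁻¹ * x * g) = g⁻¹ * (z3 * x) * g := by rw [hz3def]; group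
        _ = g⁻¹ * (x * z3) * g := by rw [hc']
        _ = g⁻¹ * x * g * z0 := by rw [hz3def]; group)
    have : x = 1 := by simpa [mul_assoc] using congrArg (fun a => g * a * g⁻¹) hm
    rw [this]; rfl
  -- `z3` lies in `S'`, so it is conjugate inside `S ⊓ L` to an element of `U`
  have hrU : r ∣ Nat.card U := by
    rw [← hz, ← Subgroup.orderOf_mk _ hzU]; exact orderOf_dvd_natCard _
  have hz3D : (z3 : G) ∈ ⁅S, S⁆ := by
    obtain ⟨d, hd, w, hw, e⟩ := hP.W₁_compl.2.2.2 _ hz0'.1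
    have hcop : r.Coprime (Nat.card W₁) :=
      (typeP_card_W₁_coprime hP).symm.coprime_dvd_left
        (hrU.trans (Subgroup.card_dvd_of_le hP.U_compl.2.1))
    let π := QuotientGroup.mk' (_root_.commutator S)
    have hS' : ∀ (x : G) (hx : x ∈ S), π ⟨x, hx⟩ = 1 ↔ x ∈ ⁅S, S⁆ := fun x hx => by
      rw [QuotientGroup.mk'_apply, QuotientGroup.eq_one_iff, commutator_eq_subgroupOf]
      rfl
    have e' : (⟨z3, hz0'.1⟩ : S) = ⟨d, S.commutator_le_self hd⟩ * ⟨w, hP.W₁_compl.2.1 hw⟩ :=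
      Subtype.ext e
    have h1 : π ⟨z3, hz0'.1⟩ = π ⟨w, hP.W₁_compl.2.1 hw⟩ := by
      rw [e', map_mul, (hS' d _).2 hd, one_mul]
    refine (hS' _ hz0'.1).1 (orderOf_eq_one_iff.1 (Nat.eq_one_of_dvd_coprimes hcop ?_ ?_))
    · refine (orderOf_map_dvd π _).trans ?_
      rw [Subgroup.orderOf_mk]
      exact hz3o.dvd
    · show orderOf (π ⟨(z3 : G), hz0'.1⟩) ∣ Nat.card W₁
      rw [h1]
      refine (orderOf_map_dvd π _).trans ?_
      rw [Subgroup.orderOf_mk, ← Subgroup.orderOf_mk _ hw]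
      exact orderOf_dvd_natCard _
  obtain ⟨h, hh, v, hv, e⟩ := hP.U_compl.2.2.2 _ hz3D
  have hv1 : v ≠ 1 := by
    intro hv1
    rw [hv1, mul_one] at e
    have hd : r ∣ Nat.card (fittingHallOf S) := by
      rw [← hz3o, e, ← Subgroup.orderOf_mk _ hh]; exact orderOf_dvd_natCard _
    exact hr.ne_one (Nat.eq_one_of_dvd_coprimes
      (coprime_fittingHallOf_of_inf_eq_bot hUS hP.U_compl.2.2.1) hd hrU)
  have hhL : h ∈ fittingHallOf S ⊓ L := by
    refine ⟨hh, ?_⟩
    rw [show h = (z3 : G) * v⁻¹ by rw [e]; group]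
    exact L.mul_mem z3.2 (L.inv_mem (hUE hv).2)
  obtain ⟨k, hk, hkv⟩ := exists_conj_of_fpf (K := fittingHallOf S ⊓ L) (u := v)
    (fun k hk => ⟨(Subgroup.mem_normalizer_iff.1 (hHn (hUS hv)) k).1 hk.1,
      L.mul_mem (L.mul_mem (hUE hv).2 hk.2) (L.inv_mem (hUE hv).2)⟩)
    (fun k hk => hfpf v hv hv1 k hk.1) hhL
  have hz3 : (z3 : G) = k⁻¹ * v * k := e.trans hkv
  have hvo : orderOf v = r := by
    rw [← hz3o, hz3, show k⁻¹ * v * k = MulAut.conj k⁻¹ v by simp, MulEquiv.orderOf_eq]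
  -- `U` has only one subgroup of order `r`
  have hvz : v ∈ Subgroup.zpowers z := by
    set V := fittingHallOf S ⊓ Subgroup.centralizer (fittingHallOf S : Set G) with hVdef
    haveI : IsMulCommutative V :=
      ⟨⟨fun a b => Subtype.ext (Subgroup.mem_centralizer_iff.1 b.2.2 a a.2.1)⟩⟩
    haveI : Nontrivial V := by
      haveI := Components.fittingSubgroup_isNilpotent S
      haveI hnil : Group.IsNilpotent (fittingHall S) :=
        Group.nilpotent_of_mulEquiv (Subgroup.subgroupOfEquivOfLe (H := fittingHall S)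
          (K := fittingSubgroup S) (sSup_le fun N hN =>
            haveI := hN.2.1
            Components.le_fittingSubgroup hN.1))
      haveI : Group.IsNilpotent (fittingHallOf S) := Group.nilpotent_of_mulEquiv
        ((fittingHall S).equivMapOfInjective _ S.subtype_injective)
      haveI : Nontrivial (fittingHallOf S) :=
        (Subgroup.nontrivial_iff_ne_bot _).2 (B.s1355 S hS).1
      obtain ⟨c, hc, hc1⟩ := (Subgroup.bot_or_exists_ne_one
        (Subgroup.center (fittingHallOf S))).resolve_left (Group.IsNilpotent.center_ne_bot _)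
      refine (Subgroup.nontrivial_iff_exists_ne_one _).2 ⟨c, ⟨c.2, ?_⟩, fun h => hc1 (Subtype.ext h)⟩
      exact Subgroup.mem_centralizer_iff.2 fun a ha =>
        congrArg Subtype.val (Subgroup.mem_center_iff.1 hc ⟨a, ha⟩)
    have hUV : U ≤ Subgroup.normalizer (V : Set G) :=
      le_normalizer_of_forall_conj' fun a ha x hx => by
        refine ⟨conj_mem_map_subtype _ (hUS ha) hx.1, Subgroup.mem_centralizer_iff.2 fun b hb => ?_⟩
        have e := Subgroup.mem_centralizer_iff.1 hx.2 _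
          (conj_mem_map_subtype (fittingHall S) (S.inv_mem (hUS ha)) hb)
        simpa [mul_assoc] using congrArg (fun t => a * t * a⁻¹) e
    have hφ := Frobenius.Fpf.isFpf_conjHom U V hUV fun a ha ha1 => by
      rw [Subgroup.eq_bot_iff_forall]
      exact fun x hx =>
        hfpf a ha ha1 x hx.1.1 (Subgroup.mem_centralizer_singleton_iff.1 hx.2).symm
    have hm := Frobenius.Fpf.mem_zpowers_of_commute hφ (p := r) (a := ⟨z, hzU⟩) (b := ⟨v, hv⟩)
      (Subtype.ext (show z ^ r = 1 by rw [← hz]; exact pow_orderOf_eq_one z))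
      (fun h' => hr.ne_one (by
        rw [← hz, show z = 1 from congrArg Subtype.val h', orderOf_one]))
      (Subtype.ext (show v ^ r = 1 by rw [← hvo]; exact pow_orderOf_eq_one v))
      (Subtype.ext (hU z hzU v hv))
    obtain ⟨i, hi⟩ := Subgroup.mem_zpowers_iff.1 hm
    exact Subgroup.mem_zpowers_iff.2 ⟨i, by simpa using congrArg Subtype.val hi⟩
  obtain ⟨i, hi⟩ := Subgroup.mem_zpowers_iff.1 hvz
  have hvy : Commute v y := hi ▸ hyz.zpow_left i
  have hyk : k⁻¹ * y * k ∈ fittingHallOf L := by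
    have := conj_mem_map_subtype (fittingHall L) (L.inv_mem hk.2) hy.1
    rwa [inv_inv] at this
  suffices h0 : k⁻¹ * y * k = 1 from
    hy1 (by simpa [mul_assoc] using congrArg (fun t => k * t * k⁻¹) h0)
  refine hz3f _ hyk ?_
  rw [hz3]
  calc k⁻¹ * v * k * (k⁻¹ * y * k) = k⁻¹ * (v * y) * k := by group
    _ = k⁻¹ * (y * v) * k := by rw [hvy.eq]
    _ = k⁻¹ * y * k * (k⁻¹ * v * k) := by group

/-- No element of `A₀(S)` has its centraliser outside `S`. -/
theorem typeIII_centralizer_le (hG : IsMinSimpleOddOrder G) (B : BGFacts G)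
    (hS : IsCoatom S) (hP : IsTypePWith S W₁ U W₂) (hIII : IsOfTypeIII S)
    (hfpf : ∀ u ∈ U, u ≠ 1 → ∀ x ∈ fittingHallOf S, u * x = x * u → x = 1)
    {x : G} (hx : x ∈ typeA0' S) : Subgroup.centralizer ({x} : Set G) ≤ S := by
  by_contra hle
  obtain ⟨⟨hx1, hx2⟩, -⟩ := (B.s1391 S hS _ (Or.inr rfl)).2.1 x hx hle
  have hTI : IsTISubset (fittingOf S : Set G) := by
    obtain ⟨_, _, _, -, -, -, h, -⟩ := hIII
    exact h
  have hx3 : x ∈ ⁅S, S⁆ := typeCore_le_commutator B hS hx1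
  obtain ⟨h, hh, u, hu, rfl⟩ := hP.U_compl.2.2.2 x hx3
  by_cases hu1 : u = 1
  · subst hu1
    refine hle (isTISubset_centralizer_le hG hS hTI ?_ hx2)
    rw [mul_one]
    show h ∈ fittingOf S
    rw [(B.s1356 S hS).2.1]
    exact Subgroup.mem_sup_right hh
  have huS : u ∈ S := S.commutator_le_self (hP.U_compl.2.1 hu)
  obtain ⟨k, hk, hkv⟩ := exists_conj_of_fpf (K := fittingHallOf S) (u := u)
    (fun k hk => conj_mem_map_subtype _ huS hk) (fun k hk => hfpf u hu hu1 k hk) hh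
  have hkS : k ∈ S := fittingHallOf_le S hk
  have he : u = k * (h * u) * k⁻¹ := by rw [hkv]; group
  have hC := typeIII_centralizer_le_of_mem B hS hP hIII hfpf hu hu1
    (he ▸ conj_mem_typeA0 hkS hx)
  refine hle fun c hc => ?_
  have hc' : k * c * k⁻¹ ∈ S := hC (Subgroup.mem_centralizer_singleton_iff.2 (by
    have e : c * (h * u) = h * u * c := Subgroup.mem_centralizer_singleton_iff.1 hc
    calc k * c * k⁻¹ * u = k * c * k⁻¹ * (k * (h * u) * k⁻¹) := by rw [← he]
      _ = k * (c * (h * u)) * k⁻¹ := by group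
      _ = k * (h * u * c) * k⁻¹ := by rw [e]
      _ = k * (h * u) * k⁻¹ * (k * c * k⁻¹) := by group
      _ = u * (k * c * k⁻¹) := by rw [← he]))
  rw [show c = k⁻¹ * (k * c * k⁻¹) * k by group]
  exact S.mul_mem (S.mul_mem (S.inv_mem hkS) hc') hkS

/-- For `S` of Type III with `U` fixed-point-free on `S_F`, the set `A₀(S)` is a TI-subset. -/
theorem typeIII_isTISubset (hG : IsMinSimpleOddOrder G) (B : BGFacts G)
    (hS : IsCoatom S) (hP : IsTypePWith S W₁ U W₂) (hIII : IsOfTypeIII S)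
    (hfpf : ∀ u ∈ U, u ≠ 1 → ∀ x ∈ fittingHallOf S, u * x = x * u → x = 1) :
    IsTISubset (typeA0' S) := by
  intro g hg x hx hgx
  rw [normalizer_typeSet B hG hS (Or.inr (Or.inr rfl))] at hg
  obtain ⟨m, hm, he⟩ := (B.s1391 S hS _ (Or.inr rfl)).1 x hx g hgx
  have hc : m⁻¹ * g ∈ Subgroup.centralizer ({x} : Set G) := by
    rw [Subgroup.mem_centralizer_singleton_iff]
    calc m⁻¹ * g * x = m⁻¹ * (g * x * g⁻¹) * g := by group
      _ = m⁻¹ * (m * x * m⁻¹) * g := by rw [he]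
      _ = x * (m⁻¹ * g) := by group
  exact absurd
    (by simpa using S.mul_mem hm (typeIII_centralizer_le hG B hS hP hIII hfpf hx hc)) hg

end Cfsg.Agent.OddOrder.PF
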