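import Cfsg.Agent.Lib.OddOrder.PF.S13_Setup
import Cfsg.Agent.Lib.OddOrder.PF.S13_TypeThree

/-!
Peterfalvi (13.2), (13.10), (13.11) from `C = 1` for the members of Type II: every member of a pair
has `C = 1`, its kernel is elementary abelian of order `p ^ q` with `A₀` a TI-subset, and
`N(W₁) = C(W₁) = T_F W₂`.
-/

set_option autoImplicit false
set_option linter.unusedVariables false

namespace Cfsg.Agent.OddOrder.PF

open Cfsg Cfsg.Agent Cfsg.Agent.OddOrder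

universe u
variable {G : Type u} [Group G] [Finite G] {S T W₁ W₂ U V : Subgroup G}

omit [Finite G] in
/-- The members of a pair are of Type II or III. -/
theorem pair_type_cases (hV : NoTypeV G) (h3 : TypeIIIOnly G)
    (P : TypePair S T W₁ W₂ U V) :
    IsOfTypeII S ∨ (IsOfTypeIII S ∧ Nat.card W₂ < Nat.card W₁) := by
  rcases P.hS25 with h | h | h | h
  · exact Or.inl h
  · exact Or.inr (h3 S T W₁ W₂ U V P (Or.inl h))
  · exact Or.inr (h3 S T W₁ W₂ U V P (Or.inr h))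
  · exact absurd h (hV S P.hS)

/-- For Type II members, `C = 1`: what the counting of Peterfalvi 13 hands over. -/
def TypeIIKernel (G : Type u) [Group G] : Prop :=
  ∀ S T W₁ W₂ U V : Subgroup G, TypePair S T W₁ W₂ U V → IsOfTypeII S → pairC S U = ⊥

/-- Every member of a pair has `C_U(S_F) = 1`. -/
theorem pairC_eq_bot (B : BGFacts G) (hV : NoTypeV G) (h3 : TypeIIIOnly G)
    (hK : TypeIIIKernel G) (hC : TypeIIKernel G) (P : TypePair S T W₁ W₂ U V) :
    pairC S U = ⊥ := by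
  rcases pair_type_cases hV h3 P with h | ⟨h, -⟩
  · exact hC S T W₁ W₂ U V P h
  obtain ⟨x, hx, hx1⟩ :=
    (Subgroup.bot_or_exists_ne_one (fittingHallOf S)).resolve_left (B.s1355 S P.hS).1
  refine (Subgroup.eq_bot_iff_forall _).2 fun c hc => ?_
  by_contra hc1
  exact hx1 (hK S T W₁ W₂ U V P h c hc.1 hc1 x hx (Subgroup.mem_centralizer_iff.1 hc.2 x hx).symm)

/-- Peterfalvi (13.2): the kernel of a member of a pair and its set `A₀`. -/
theorem pairKernel (hG : IsMinSimpleOddOrder G) (B : BGFacts G) (hV : NoTypeV G)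
    (hPP : PairPrimes G) (h3 : TypeIIIOnly G) (hK : TypeIIIKernel G) : PairKernel G := by
  intro S T W₁ W₂ U V P
  have D := pairSide hG B hV hPP h3 hK P
  refine ⟨D.isElementaryAbelian, D.card_H, ?_,
    normalizer_typeSet B hG P.hS (Or.inr (Or.inr rfl))⟩
  rcases pair_type_cases hV h3 P with h | ⟨h, -⟩
  · exact typeII_isTISubset B hG P.hS h (Or.inr (Or.inr rfl))
  · exact typeIII_isTISubset hG B P.hS P.hSP h (hK S T W₁ W₂ U V P h)

/-- The conclusion of row 1543. -/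
theorem structure_of_pair (hG : IsMinSimpleOddOrder G) (B : BGFacts G) (hV : NoTypeV G)
    (hPP : PairPrimes G) (h3 : TypeIIIOnly G) (hK : TypeIIIKernel G)
    (P : TypePair S T W₁ W₂ U V) :
    (IsOfTypeII S ∨ IsOfTypeIII S) ∧ (Nat.card W₁ < Nat.card W₂ → IsOfTypeII S) ∧
      IsElementaryAbelian (Nat.card W₂) (fittingHallOf S) ∧
      Nat.card (fittingHallOf S) = Nat.card W₂ ^ Nat.card W₁ ∧
      IsTISubset (typeA0' S) ∧ Subgroup.normalizer (typeA0' S) = S := by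
  refine ⟨?_, fun hlt => ?_, pairKernel hG B hV hPP h3 hK S T W₁ W₂ U V P⟩ <;>
    rcases pair_type_cases hV h3 P with h | ⟨h, h'⟩
  exacts [Or.inl h, Or.inr h, h, absurd hlt h'.asymm]

/-- The conclusion of row 1548: `N(W₁) = C(W₁) = T_F W₂`. -/
theorem normalizer_W₁_of_pair (hG : IsMinSimpleOddOrder G) (B : BGFacts G) (hV : NoTypeV G)
    (hPP : PairPrimes G) (h3 : TypeIIIOnly G) (hK : TypeIIIKernel G) (hC : TypeIIKernel G)
    (P : TypePair S T W₁ W₂ U V) :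
    Subgroup.normalizer (W₁ : Set G) = Subgroup.centralizer (W₁ : Set G) ∧
      Subgroup.centralizer (W₁ : Set G) = fittingHallOf T ⊔ W₂ := by
  have D := pairSide hG B hV hPP h3 hK P.swap
  have hC0 := pairC_eq_bot B hV h3 hK hC P.swap
  obtain ⟨x, hx, hx1⟩ := (Subgroup.bot_or_exists_ne_one W₁).resolve_left P.hSP.W₁_ne
  -- `C(W₁)` contains `T_F W₂`
  have h1 : fittingHallOf T ⊔ W₂ ≤ Subgroup.centralizer (W₁ : Set G) :=
    sup_le (fun y hy => Subgroup.mem_centralizer_iff.2 fun a ha => D.H_comm a (D.W₂_le ha) y hy)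
      fun w hw => Subgroup.mem_centralizer_iff.2 fun a ha => (D.commute_W₂ hw ha).symm
  -- `N(W₁)` is contained in `T_F W₂`
  have h2 : Subgroup.normalizer (W₁ : Set G) ≤ fittingHallOf T ⊔ W₂ := by
    intro t ht
    have htx : t * x * t⁻¹ ∈ W₁ := (Subgroup.mem_normalizer_iff.1 ht x).1 hx
    have htT : t ∈ T := D.ti t x (D.W₂_le_F hx) hx1 (D.W₂_le_F htx)
    obtain ⟨d, hd, w, hw, rfl⟩ := D.hP.W₁_compl.2.2.2 t htT
    obtain ⟨y, hy, v, hv, rfl⟩ := D.hP.U_compl.2.2.2 d hd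
    have hwx : Commute w x := D.commute_W₂ hw hx
    have hvx : v * x * v⁻¹ ∈ fittingHallOf T := D.conj_mem_H (D.U_le_S hv) (D.W₂_le hx)
    have hyv : Commute y (v * x * v⁻¹) := D.H_comm y hy _ hvx
    have e : y * v * w * x * (y * v * w)⁻¹ = v * x * v⁻¹ := by
      calc y * v * w * x * (y * v * w)⁻¹ = y * (v * (w * x * w⁻¹) * v⁻¹) * y⁻¹ := by group
        _ = y * (v * x * v⁻¹) * y⁻¹ := by rw [hwx.eq, mul_inv_cancel_right]
        _ = v * x * v⁻¹ := by rw [hyv.eq, mul_inv_cancel_right]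
    rw [e] at htx
    have hv1 : v ∈ pairC T V := D.mem_C_of_conj_mem hv hx hx1 htx
    rw [hC0, Subgroup.mem_bot] at hv1
    rw [hv1, mul_one]
    exact Subgroup.mul_mem _ (Subgroup.mem_sup_left hy) (Subgroup.mem_sup_right hw)
  have h3' := Subgroup.centralizer_le_normalizer (G := G) (W₁ : Set G)
  exact ⟨le_antisymm (h2.trans h1) h3', le_antisymm (h3'.trans h2) h1⟩

/-- Row 1543 from the facts of sections 10 and 11. -/
theorem row1543 (hG : IsMinSimpleOddOrder G) (B : BGFacts G) (hV : NoTypeV G)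
    (hPP : PairPrimes G) (h3 : TypeIIIOnly G) (hK : TypeIIIKernel G)
    (S T W₁ W₂ U V : Subgroup G) (hS : IsCoatom S) (hT : IsCoatom T)
    (hSP : IsTypePWith S W₁ U W₂) (hTP : IsTypePWith T W₂ V W₁) (hST : S ⊓ T = W₁ ⊔ W₂)
    (hII : IsOfTypeII S ∨ IsOfTypeII T)
    (hS25 : IsOfTypeII S ∨ IsOfTypeIII S ∨ IsOfTypeIV S ∨ IsOfTypeV S)
    (hT25 : IsOfTypeII T ∨ IsOfTypeIII T ∨ IsOfTypeIV T ∨ IsOfTypeV T) :
    (IsOfTypeII S ∨ IsOfTypeIII S) ∧ (Nat.card W₁ < Nat.card W₂ → IsOfTypeII S) ∧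
      IsElementaryAbelian (Nat.card W₂) (fittingHallOf S) ∧
      Nat.card (fittingHallOf S) = Nat.card W₂ ^ Nat.card W₁ ∧
      IsTISubset (typeA0' S) ∧ Subgroup.normalizer (typeA0' S) = S :=
  structure_of_pair hG B hV hPP h3 hK ⟨hS, hT, hSP, hTP, hST, hII, hS25, hT25⟩

/-- Row 1547 from the facts of sections 10 and 11 and `C = 1` for Type II. -/
theorem row1547 (hG : IsMinSimpleOddOrder G) (B : BGFacts G) (hV : NoTypeV G)
    (hPP : PairPrimes G) (h3 : TypeIIIOnly G) (hK : TypeIIIKernel G) (hC : TypeIIKernel G)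
    (S T W₁ W₂ U V : Subgroup G) (hS : IsCoatom S) (hT : IsCoatom T)
    (hSP : IsTypePWith S W₁ U W₂) (hTP : IsTypePWith T W₂ V W₁) (hST : S ⊓ T = W₁ ⊔ W₂)
    (hII : IsOfTypeII S ∨ IsOfTypeII T)
    (hS25 : IsOfTypeII S ∨ IsOfTypeIII S ∨ IsOfTypeIV S ∨ IsOfTypeV S)
    (hT25 : IsOfTypeII T ∨ IsOfTypeIII T ∨ IsOfTypeIV T ∨ IsOfTypeV T) :
    U ⊓ Subgroup.centralizer ((fittingHallOf S : Subgroup G) : Set G) = ⊥ :=
  pairC_eq_bot B hV h3 hK hC ⟨hS, hT, hSP, hTP, hST, hII, hS25, hT25⟩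

/-- Row 1548 from the facts of sections 10 and 11 and `C = 1` for Type II. -/
theorem row1548 (hG : IsMinSimpleOddOrder G) (B : BGFacts G) (hV : NoTypeV G)
    (hPP : PairPrimes G) (h3 : TypeIIIOnly G) (hK : TypeIIIKernel G) (hC : TypeIIKernel G)
    (S T W₁ W₂ U V : Subgroup G) (hS : IsCoatom S) (hT : IsCoatom T)
    (hSP : IsTypePWith S W₁ U W₂) (hTP : IsTypePWith T W₂ V W₁) (hST : S ⊓ T = W₁ ⊔ W₂)
    (hII : IsOfTypeII S ∨ IsOfTypeII T)
    (hS25 : IsOfTypeII S ∨ IsOfTypeIII S ∨ IsOfTypeIV S ∨ IsOfTypeV S)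
    (hT25 : IsOfTypeII T ∨ IsOfTypeIII T ∨ IsOfTypeIV T ∨ IsOfTypeV T) :
    Subgroup.normalizer (W₁ : Set G) = Subgroup.centralizer (W₁ : Set G) ∧
      Subgroup.centralizer (W₁ : Set G) = fittingHallOf T ⊔ W₂ :=
  normalizer_W₁_of_pair hG B hV hPP h3 hK hC ⟨hS, hT, hSP, hTP, hST, hII, hS25, hT25⟩

end Cfsg.Agent.OddOrder.PF
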