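import Mathlib

/-!
The counting inequality of Peterfalvi 13 has no solution when the Fitting complements are not
trivial.
-/

set_option autoImplicit false

namespace Cfsg.Agent.OddOrder.PF

theorem two_mul_add_one_le_of_mod {a n : ℕ} (hn : Odd n) (ha : Odd a) (h1 : a % n = 1)
    (h : 1 < a) : 2 * n + 1 ≤ a := by
  have e := Nat.div_add_mod a n
  rw [h1] at e
  rcases Nat.lt_or_ge (a / n) 2 with hk | hk
  · interval_cases a / n
    · omega
    · obtain ⟨i, hi⟩ := hn; obtain ⟨j, hj⟩ := ha; omega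
  · have : n * 2 ≤ n * (a / n) := Nat.mul_le_mul_left _ hk
    omega

theorem six_mul_le_pow {q a b p₀ : ℕ} (hq : 3 ≤ q) (h₀ : (6 * p₀ + 1) * a ≤ b * q ^ p₀)
    (hp₀ : 3 ≤ p₀) : ∀ p, p₀ ≤ p → (6 * p + 1) * a ≤ b * q ^ p := by
  intro p hp
  induction p, hp using Nat.le_induction with
  | base => exact h₀
  | succ p hp ih =>
    calc (6 * (p + 1) + 1) * a ≤ ((6 * p + 1) * a) * q := by
          have : 6 * (p + 1) + 1 ≤ (6 * p + 1) * q := by nlinarith
          calc (6 * (p + 1) + 1) * a ≤ ((6 * p + 1) * q) * a := Nat.mul_le_mul_right _ this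
            _ = _ := by ring
      _ ≤ (b * q ^ p) * q := Nat.mul_le_mul_right _ ih
      _ = _ := by ring

/-- The two ranges of `v`. -/
theorem mass_bound {v P Q A B E r : ℝ} (hA : 0 < A) (hB : 0 < B) (hr : 0 < r) (hQ : 0 < Q)
    (hv : A ≤ v) (hr' : v * r ≤ Q) (hE : P ≤ E * Q) (hP : B ≤ P) :
    1 - 1 / A - E ≤ 1 - 1 / v - v / Q ∨ 1 - 1 / B - 1 / r ≤ 1 - 1 / v - v / Q := by
  rcases le_or_gt v P with h | h
  · left
    have h1 : 1 / v ≤ 1 / A := one_div_le_one_div_of_le hA hv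
    have h2 : v / Q ≤ E := by rw [div_le_iff₀ hQ]; linarith
    linarith
  · right
    have h1 : 1 / v ≤ 1 / B := one_div_le_one_div_of_le hB (by linarith)
    have h2 : v / Q ≤ 1 / r := by rw [div_le_div_iff₀ hQ hr]; linarith
    linarith

set_option maxHeartbeats 1000000 in
theorem count_false {p q u v c d : ℕ} (hp : p.Prime) (hq : q.Prime) (hpo : Odd p) (hqo : Odd q)
    (hpq : p ≠ q) (hc : Odd c) (hcq : c % q = 1) (hc1 : 1 < c) (hcp : ¬ p ∣ c) (hcu : c ∣ u)
    (hu : Odd u) (huq : u % q = 1) (hu2 : u * (p - 1) ≤ p ^ q - 1)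
    (hv : Odd v) (hvp : v % p = 1) (hv1 : 1 < v) (hv2 : v * (q - 1) ≤ q ^ p - 1) (hd : 0 < d)
    (h : 1 - 1 / (v : ℝ) - (v : ℝ) / ((q : ℝ) ^ p * d) ≤
      (u : ℝ) * q * p / ((p : ℝ) ^ q * c)) : False := by
  have hp3 : 3 ≤ p := by have := hp.two_le; obtain ⟨i, rfl⟩ := hpo; omega
  have hq3 : 3 ≤ q := by have := hq.two_le; obtain ⟨i, rfl⟩ := hqo; omega
  have hcl := two_mul_add_one_le_of_mod hqo hc hcq hc1
  have hvl := two_mul_add_one_le_of_mod hpo hv hvp hv1
  have hPq : (0 : ℝ) < (p : ℝ) ^ q := by positivity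
  have hQ : (0 : ℝ) < (q : ℝ) ^ p := by positivity
  have hpR : (3 : ℝ) ≤ p := by exact_mod_cast hp3
  have hqR : (3 : ℝ) ≤ q := by exact_mod_cast hq3
  have hvR : (2 : ℝ) * p + 1 ≤ v := by exact_mod_cast hvl
  have hcR : (2 : ℝ) * q + 1 ≤ c := by exact_mod_cast hcl
  have hv2' : (v : ℝ) * ((q : ℝ) - 1) ≤ (q : ℝ) ^ p := by
    have : v * (q - 1) ≤ q ^ p := by omega
    have h' : ((v * (q - 1) : ℕ) : ℝ) ≤ ((q ^ p : ℕ) : ℝ) := by exact_mod_cast this
    rwa [Nat.cast_mul, Nat.cast_sub (by omega), Nat.cast_pow, Nat.cast_one] at h'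
  have hu2' : (u : ℝ) * ((p : ℝ) - 1) ≤ (p : ℝ) ^ q := by
    have : u * (p - 1) ≤ p ^ q := by omega
    have h' : ((u * (p - 1) : ℕ) : ℝ) ≤ ((p ^ q : ℕ) : ℝ) := by exact_mod_cast this
    rwa [Nat.cast_mul, Nat.cast_sub (by omega), Nat.cast_pow, Nat.cast_one] at h'
  have hL : 1 - 1 / (v : ℝ) - (v : ℝ) / (q : ℝ) ^ p ≤
      (u : ℝ) * q * p / ((p : ℝ) ^ q * c) := by
    refine le_trans ?_ h
    have hd' : (1 : ℝ) ≤ d := by exact_mod_cast hd
    have : (v : ℝ) / ((q : ℝ) ^ p * d) ≤ (v : ℝ) / (q : ℝ) ^ p :=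
      div_le_div_of_nonneg_left (Nat.cast_nonneg v) hQ (by nlinarith)
    linarith
  have hR : (u : ℝ) * q * p / ((p : ℝ) ^ q * c) * (((p : ℝ) - 1) * c) ≤ (p : ℝ) * q := by
    have e : (u : ℝ) * q * p / ((p : ℝ) ^ q * c) * (((p : ℝ) - 1) * c) =
        (u : ℝ) * ((p : ℝ) - 1) / (p : ℝ) ^ q * (p * q) := by
      have : (c : ℝ) ≠ 0 := by linarith
      field_simp
    rw [e]
    exact mul_le_of_le_one_left (by positivity) (by rw [div_le_one hPq]; exact hu2')
  set R := (u : ℝ) * q * p / ((p : ℝ) ^ q * c) with hRdef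
  have hR0 : 0 ≤ R := by positivity
  set L := 1 - 1 / (v : ℝ) - (v : ℝ) / (q : ℝ) ^ p with hLdef
  have hfive : ∀ n : ℕ, n.Prime → n ≠ 3 → 3 ≤ n → 5 ≤ n := fun n hn h3 h3' => by
    rcases (show n = 4 ∨ 5 ≤ n by omega) with rfl | h5
    · norm_num at hn
    · exact h5
  rcases eq_or_ne q 3 with rfl | hq'
  · have hp5 := hfive p hp hpq hp3
    have hp5R : (5 : ℝ) ≤ p := by exact_mod_cast hp5
    have hE : (6 * (p : ℝ) + 1) ≤ 31 / 243 * (3 : ℝ) ^ p := by
      have := six_mul_le_pow (q := 3) (a := 243) (b := 31) (p₀ := 5) le_rfl (by norm_num)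
        (by norm_num) p hp5
      have h' : ((6 * p + 1) * 243 : ℝ) ≤ 31 * (3 : ℝ) ^ p := by exact_mod_cast this
      linarith
    rw [Nat.cast_ofNat] at hLdef hv2' hR hRdef hQ hcR
    have hr : (v : ℝ) * 2 ≤ (3 : ℝ) ^ p := by nlinarith
    have hb : (11 : ℝ) ≤ v := by linarith
    by_cases hc13 : 13 ≤ c
    · have hc' : (13 : ℝ) ≤ c := by exact_mod_cast hc13
      have hRc := mul_le_mul_of_nonneg_left
        (mul_le_mul_of_nonneg_left hc' (show (0 : ℝ) ≤ (p : ℝ) - 1 by linarith)) hR0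
      have hR' : R ≤ 15 / 52 := by
        by_contra hcon
        nlinarith [mul_pos (sub_pos.2 (not_le.1 hcon)) (show (0 : ℝ) < (p : ℝ) - 1 by linarith)]
      rcases mass_bound (A := (11 : ℝ)) (B := 31) (r := 2) (by norm_num) (by norm_num)
        (by norm_num) hQ hb hr hE (by linarith) with h1 | h1 <;>
      · rw [← hLdef] at h1; norm_num at h1; linarith
    have hc7 : c = 7 := by
      obtain ⟨i, hi⟩ := hc
      omega
    subst hc7
    by_cases hp11 : 11 ≤ p
    · have hp' : (11 : ℝ) ≤ p := by exact_mod_cast hp11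
      simp only [Nat.cast_ofNat] at hR
      have hR' : R ≤ 33 / 70 := by
        by_contra hcon
        nlinarith [mul_pos (sub_pos.2 (not_le.1 hcon)) (show (0 : ℝ) < (p : ℝ) - 1 by linarith)]
      rcases mass_bound (A := (23 : ℝ)) (B := 67) (r := 2) (by norm_num) (by norm_num)
        (by norm_num) hQ (by linarith) hr hE (by linarith) with h1 | h1 <;>
      · rw [← hLdef] at h1; norm_num at h1; linarith
    have hp5' : p = 5 := by
      have : p ≠ 7 := fun h => hcp (h ▸ dvd_rfl)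
      have := Nat.odd_iff.1 hpo
      rcases (show p = 5 ∨ p = 9 by omega) with h | rfl
      · exact h
      · norm_num at hp
    subst hp5'
    have hu7 : u = 7 := by
      obtain ⟨k, rfl⟩ := hcu
      obtain ⟨i, hi⟩ := hu
      norm_num at hu2
      omega
    subst hu7
    rcases mass_bound (A := (11 : ℝ)) (B := 31) (r := 2) (by norm_num) (by norm_num)
      (by norm_num) hQ hb hr hE (by norm_num) with h1 | h1 <;>
    · rw [← hLdef] at h1; rw [hRdef] at hL; norm_num at h1 hL; linarith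
  · have hq5 := hfive q hq hq' hq3
    have hq5R : (5 : ℝ) ≤ q := by exact_mod_cast hq5
    rcases eq_or_ne p 3 with rfl | hp'
    · simp only [Nat.cast_ofNat] at hR hvR hcR
      have hvR' : (7 : ℝ) ≤ v := by linarith
      have hRc := mul_le_mul_of_nonneg_left hcR hR0
      by_cases hq7 : 7 ≤ q
      · have hq7R : (7 : ℝ) ≤ q := by exact_mod_cast hq7
        have hr : (v : ℝ) * 6 ≤ (q : ℝ) ^ 3 := by
          have := mul_le_mul_of_nonneg_left (show (6 : ℝ) ≤ (q : ℝ) - 1 by linarith)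
            (Nat.cast_nonneg (α := ℝ) v)
          linarith
        have hE : (19 : ℝ) ≤ 19 / 343 * (q : ℝ) ^ 3 := by
          have := pow_le_pow_left₀ (by norm_num : (0 : ℝ) ≤ 7) hq7R 3
          linarith
        have hR' : R < 3 / 4 := by nlinarith
        rcases mass_bound (A := (7 : ℝ)) (B := 19) (r := 6)
          (by norm_num) (by norm_num) (by norm_num) hQ hvR' hr hE le_rfl with h1 | h1 <;>
        · rw [← hLdef] at h1; norm_num at h1; linarith
      have hq' : q = 5 := by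
        have := Nat.odd_iff.1 hqo
        omega
      subst hq'
      simp only [Nat.cast_ofNat] at hR hcR hQ hv2' hLdef
      have hr : (v : ℝ) * 4 ≤ (5 : ℝ) ^ 3 := by linarith
      have hE : (19 : ℝ) ≤ 19 / 125 * (5 : ℝ) ^ 3 := by norm_num
      have hR' : R ≤ 15 / 22 := by
        have := mul_le_mul_of_nonneg_left hcR hR0
        linarith
      rcases mass_bound (A := (7 : ℝ)) (B := 19) (r := 4) (Q := (5 : ℝ) ^ 3)
        (by norm_num) (by norm_num) (by norm_num) hQ hvR' hr hE le_rfl with h1 | h1 <;>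
      · rw [← hLdef] at h1; norm_num at h1; linarith
    · have hp5 := hfive p hp hp' hp3
      have hp5R : (5 : ℝ) ≤ p := by exact_mod_cast hp5
      have hq1 : (v : ℝ) * 4 ≤ (q : ℝ) ^ p := by nlinarith
      have hb1 : 1 / (v : ℝ) ≤ 1 / 11 := one_div_le_one_div_of_le (by norm_num) (by linarith)
      have hb2 : (v : ℝ) / (q : ℝ) ^ p ≤ 1 / 4 := by
        rw [div_le_div_iff₀ hQ (by norm_num)]; linarith
      have hR' : R ≤ 5 / 8 := by
        have hp1 : (0 : ℝ) < (p : ℝ) - 1 := by linarith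
        have h1 : (R * ((p : ℝ) - 1) * 2) * q ≤ (p : ℝ) * q := by
          have := mul_le_mul_of_nonneg_left (show 2 * (q : ℝ) ≤ c by linarith)
            (mul_nonneg hR0 hp1.le)
          linarith
        have h2 := le_of_mul_le_mul_right h1 (by linarith)
        by_contra hcon
        nlinarith [mul_pos (sub_pos.2 (not_le.1 hcon)) hp1]
      linarith

end Cfsg.Agent.OddOrder.PF
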