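import Cfsg.Agent.Lib.OddOrder.PF.S13_Sets
import Cfsg.Agent.Lib.OddOrder.PF.S13_Eta
import Cfsg.Agent.Lib.OddOrder.PF.S13_Kernel
import Cfsg.Agent.Lib.OddOrder.PF.S13_Numeric
import Cfsg.Agent.Lib.CharInt.Basic

/-!
Peterfalvi 13, the count for `C ≠ 1`.

* `exists_star`: two virtual characters `λ*`, `λ'*` of norm one attached to `λ`, `λ'`;
* `pairC_count`: comparing the masses of the `η_i0` and of `λ*`, `λ'*` over the conjugates of
  `F(S)#`, of `F(T)#`, of `W ∖ (W₁ ∪ W₂)` and the rest.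
-/

set_option autoImplicit false
set_option linter.style.haveILetI false
set_option linter.unusedSectionVars false

namespace Cfsg.Agent.OddOrder.PF

open Cfsg Cfsg.Agent Cfsg.Agent.OddOrder
open scoped ComplexConjugate

universe u
variable {G : Type u} [Group G] [Fintype G]

/-- The total mass of a virtual character of norm one. -/
theorem sum_normSq_of_norm_one {f : G → ℂ} (hf : classInner f f = 1) :
    ∑ g, Complex.normSq (f g) = (Nat.card G : ℝ) := by
  rw [classInner, inv_mul_eq_iff_eq_mul₀ Char.card_ne_zero, mul_one] at hf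
  apply Complex.ofReal_injective
  push_cast
  simpa [Complex.mul_conj] using hf

variable {S T W₁ W₂ U V : Subgroup G}

/-- Sets of conjugates of `F(S)#` are closed under powers generating the same cyclic group. -/
theorem mem_fitConj_of_pow {z : G} {k : ℕ} (hk : k.Coprime (Nat.card G))
    (h : z ^ k ∈ fitConj S) : z ∈ fitConj S := by
  obtain ⟨hne, x, hx⟩ := mem_fitConj.1 h
  obtain ⟨m, hm⟩ := exists_pow_eq_self_of_coprime (x := z)
    (hk.coprime_dvd_right (orderOf_dvd_natCard z))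
  refine mem_fitConj.2 ⟨fun h1 => hne (by rw [h1, one_pow]), x, ?_⟩
  rw [← hm, ← conj_pow]
  exact Subgroup.pow_mem _ hx m

theorem mem_vConj_of_pow {z : G} {k : ℕ} (hk : k.Coprime (Nat.card G))
    (h : z ^ k ∈ vConj W₁ W₂) : z ∈ vConj W₁ W₂ := by
  obtain ⟨x, hx, h1, h2⟩ := mem_vConj.1 h
  obtain ⟨m, hm⟩ := exists_pow_eq_self_of_coprime (x := z)
    (hk.coprime_dvd_right (orderOf_dvd_natCard z))
  rw [← conj_pow] at h1 h2
  refine mem_vConj.2 ⟨x, ?_, fun h => h1 (Subgroup.pow_mem _ h k), fun h => h2 (Subgroup.pow_mem _ h k)⟩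
  rw [← hm, ← conj_pow]
  exact Subgroup.pow_mem _ hx m

section Star

variable [Fintype S] {A : Set G} {H : Subgroup G} {R : G → Subgroup G}
  {η : (↥(W₁ ⊔ W₂) →* ℂˣ) → (G → ℂ)} [Fintype (Ann W₁ W₂ W₂)]
  (D : PairSide S W₁ U W₂) (P : PrimeDade A S ⁅S, S⁆ H W₁ W₂ R)
  (hη : IsCyclicTIFamily W₁ W₂ η)
include D P hη

/-- The characters `λ*`, `λ'*`. -/
theorem exists_star (hC : pairC S U ≠ ⊥)
    (heq : ∀ φ φ' : Ann W₁ W₂ W₂, φ.1 ≠ 1 → φ'.1 ≠ 1 → ∀ g ∈ fitConj S, η φ.1 g = η φ'.1 g) :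
    ∃ (Y Y' : G → ℂ) (O O' : Finset (IrrCharacter (nF S))) (ψ₁ : Ann W₁ W₂ W₁) (s : ℤ),
      IsGeneralizedCharacter G Y ∧ IsGeneralizedCharacter G Y' ∧
      classInner Y Y = 1 ∧ classInner Y' Y' = 1 ∧ (s = 1 ∨ s = -1) ∧
      O.card = Nat.card W₁ * (pairC S U).relIndex U ∧
      O'.card = Nat.card W₁ * (pairC S U).relIndex U ∧ Disjoint O O' ∧
      (∀ y : nF S, Y ((y : S) : G) - Y' ((y : S) : G) =
        (∑ x ∈ O, x.1 y) - ∑ x ∈ O', x.1 y) ∧
      ∀ g, g ∉ fitConj S → Y g = (s : ℂ) * ∑ φ : Ann W₁ W₂ W₂, η (φ.1 * ψ₁.1) g ∧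
        Y' g = (s : ℂ) * ∑ φ : Ann W₁ W₂ W₂, η (φ.1 * ψ₁.1) g := by
  classical
  haveI := (ann_facts P.selfNorm).1
  haveI : Fintype (Ann W₁ W₂ W₁) := Fintype.ofFinite _
  obtain ⟨μ, δ, M⟩ := P.exists_muFamily
  obtain ⟨ψ₀, l, l', O, O', hψ₀, hl, hl', hll', hzero, hform, hO, hO', hdisj, hagree⟩ :=
    exists_lambda D P M hC
  set q := Nat.card W₁ with hq
  have hq3 : 3 ≤ q := (three_le_card P.selfNorm P.oddW).1
  have hcardφ : Fintype.card (Ann W₁ W₂ W₂) = q := by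
    rw [← Nat.card_eq_fintype_card, (ann_facts P.selfNorm).2.1]
  obtain ⟨κ, Oμ, hOμ, -⟩ := exists_mu_orbits D P M
  set A₀ := A ∪ classV S W₁ W₂ with hA₀
  set T := dadeIsometry A₀ S R with hT
  set m : Ann W₁ W₂ W₁ → S → ℂ := fun ψ => muSum ⁅S, S⁆ μ ψ with hm
  have hne : ∀ ψ : Ann W₁ W₂ W₁, ψ.1 ≠ 1 →
      ¬ ∀ w : ↥(W₁ ⊔ W₂), (w : G) ∈ W₂ → ψ.1 w = 1 := fun ψ hψ h => hψ <| by
    have := mul_inj P.selfNorm (a := ⟨ψ.1, h⟩) (a' := ⟨1, fun _ _ => rfl⟩)
      (b := ⟨1, fun _ _ => rfl⟩) (b' := ψ) (MonoidHom.ext fun w => by simp)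
    exact (congrArg Subtype.val this.2).symm
  have hmgen : ∀ ψ, IsGeneralizedCharacter S (m ψ) := fun ψ => by
    show IsGeneralizedCharacter S (muSum ⁅S, S⁆ μ ψ)
    rw [M.muSum_eq P]
    exact Char.IsGeneralizedCharacter.sum _ fun φ _ => Char.irr_isGeneralized ⟨_, M.irr _⟩
  obtain ⟨w, hw, hw1⟩ := D.exists_gen
  have hwF : w ∉ fittingOf S := fun h => hw1 <| by
    have h' : w ∈ ⁅S, S⁆ ⊓ W₁ := ⟨D.F_le h, hw⟩
    rwa [D.hP.W₁_compl.2.2.1, Subgroup.mem_bot] at h'
  have hμw : ∀ ω, μ ω ⟨w, D.W₁_le hw⟩ ≠ 0 := fun ω => by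
    rw [M.apply ω ⟨w, D.W₁_le hw⟩ (Subgroup.mem_sup_left hw) (P.notMem_W₂_of_mem_W₁ hw hw1)]
    exact mul_ne_zero (by rcases M.sign ω with h | h <;> simp [h]) (Units.ne_zero _)
  have hlm : ∀ f : S → ℂ, IsIrrCharacter S f → (∀ g : S, (g : G) ∉ fittingOf S → f g = 0) →
      classInner f (fun _ => (1 : ℂ)) = 0 ∧ ∀ ψ, classInner f (m ψ) = 0 ∧
        classInner (m ψ) f = 0 := by
    intro f hf hz
    have hne : ∀ ω, f ≠ μ ω := fun ω h => hμw ω (by rw [← h]; exact hz _ hwF)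
    have h0 : ∀ ψ, classInner f (m ψ) = 0 := fun ψ => by
      show classInner f (muSum ⁅S, S⁆ μ ψ) = 0
      rw [M.muSum_eq P, Char.classInner_sum_right, Finset.sum_eq_zero]
      exact fun φ _ => Char.classInner_irr_of_ne hf (M.irr _) (hne _)
    refine ⟨?_, fun ψ => ⟨h0 ψ, by rw [← Char.conj_classInner, h0, map_zero]⟩⟩
    rw [← M.map_one P]
    exact Char.classInner_irr_of_ne hf (M.irr 1) (hne 1)
  have hm1 : classInner (m ψ₀) (fun _ => (1 : ℂ)) = 0 := by
    show classInner (muSum ⁅S, S⁆ μ ψ₀) _ = 0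
    rw [← M.map_one P, M.muSum_eq P, Char.classInner_sum_left, Finset.sum_eq_zero]
    intro φ _
    refine Char.classInner_irr_of_ne (M.irr _) (M.irr _) fun h => hψ₀ ?_
    have := mul_inj P.selfNorm (a := φ) (a' := ⟨1, fun _ _ => rfl⟩) (b := ψ₀)
      (b' := ⟨1, fun _ _ => rfl⟩) (MonoidHom.ext fun w => by
        have := DFunLike.congr_fun (M.inj h) w
        simp only [MonoidHom.mul_apply, MonoidHom.one_apply, mul_one] at this ⊢
        rwa [mul_comm])
    exact congrArg Subtype.val this.2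
  have hmm : ∀ ψ ψ', classInner (m ψ) (m ψ') = if ψ = ψ' then (q : ℂ) else 0 :=
    M.classInner_muSum P
  -- functions living on `F(S)#`
  have hsupp : ∀ {β : S → ℂ}, (∀ g : S, (g : G) ∉ fittingOf S → β g = 0) → β 1 = 0 →
      ∀ y : S, (y : G) ∉ A₀ → β y = 0 := by
    intro β hβ hβ1 y hy
    by_cases hy1 : y = 1
    · rw [hy1, hβ1]
    · exact hβ y fun h => hy (Or.inl (fitting_sharp_subset D P h fun e => hy1 (Subtype.ext e)))
  have hone : ((1 : S) : G) ∈ fittingHallOf S := one_mem _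
  set α : S → ℂ := l - m ψ₀ with hα
  set α' : S → ℂ := l' - m ψ₀ with hα'
  have hαg : IsGeneralizedCharacter S α :=
    Char.IsGeneralizedCharacter.sub (Char.irr_isGeneralized ⟨l, hl⟩) (hmgen _)
  have hαg' : IsGeneralizedCharacter S α' :=
    Char.IsGeneralizedCharacter.sub (Char.irr_isGeneralized ⟨l', hl'⟩) (hmgen _)
  have hαz : ∀ g : S, (g : G) ∉ fittingOf S → α g = 0 := fun g hg => by
    simp [α, m, (hzero g hg).1, (hOμ ψ₀ hψ₀).2.2.2.1 g hg]
  have hαz' : ∀ g : S, (g : G) ∉ fittingOf S → α' g = 0 := fun g hg => by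
    simp [α', m, (hzero g hg).2, (hOμ ψ₀ hψ₀).2.2.2.1 g hg]
  have hα1 : α 1 = 0 := by simp [α, m, (hagree 1 hone).1]
  have hα1' : α' 1 = 0 := by simp [α', m, (hagree 1 hone).2]
  have hαc := Char.IsGeneralizedCharacter.isClassFunction hαg
  have hαc' := Char.IsGeneralizedCharacter.isClassFunction hαg'
  have hnorm : ∀ f : S → ℂ, IsIrrCharacter S f → (∀ g : S, (g : G) ∉ fittingOf S → f g = 0) →
      classInner (f - m ψ₀) (f - m ψ₀) = ((q : ℤ) + 1 : ℤ) := by
    intro f hf hz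
    rw [Char.classInner_sub_left, Char.classInner_sub_right, Char.classInner_sub_right,
      Char.classInner_irr_self hf, ((hlm f hf hz).2 ψ₀).1, ((hlm f hf hz).2 ψ₀).2, hmm, if_pos rfl]
    push_cast
    ring
  set X := T α with hX
  set X' := T α' with hX'
  have hXg : IsGeneralizedCharacter G X :=
    isGeneralizedCharacter_dadeIsometry P.dade hαg (hsupp hαz hα1)
  have hXg' : IsGeneralizedCharacter G X' :=
    isGeneralizedCharacter_dadeIsometry P.dade hαg' (hsupp hαz' hα1')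
  have hXX : classInner X X = ((q : ℤ) + 1 : ℤ) := by
    rw [hX, hT, classInner_dade_dade P.dade hαc (hsupp hαz hα1) hαg (hsupp hαz hα1)]
    exact hnorm l hl fun g hg => (hzero g hg).1
  have hXX' : classInner X' X' = ((q : ℤ) + 1 : ℤ) := by
    rw [hX', hT, classInner_dade_dade P.dade hαc' (hsupp hαz' hα1') hαg' (hsupp hαz' hα1')]
    exact hnorm l' hl' fun g hg => (hzero g hg).2
  have hXoff : ∀ g, g ∉ fitConj S → X g = 0 ∧ X' g = 0 := fun g hg =>
    ⟨dade_off D P hαc hαz hα1 hg, dade_off D P hαc' hαz' hα1' hg⟩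
  obtain ⟨Mx, hadd, hMx⟩ := exists_table hη hXg (fun v h1 h2 => (hXoff _ fun h =>
    Finset.disjoint_left.1 D.disjoint_vConj
      (mem_vConj.2 ⟨1, by rw [one_mul, inv_one, mul_one]; exact ⟨v.2, h1, h2⟩⟩) h).1)
  set i₁ : Ann W₁ W₂ W₁ := ⟨1, fun _ _ => rfl⟩
  set j₁ : Ann W₁ W₂ W₂ := ⟨1, fun _ _ => rfl⟩
  have h11 : Mx i₁ j₁ = 0 := by
    have h := hMx i₁ j₁
    rw [show j₁.1 * i₁.1 = 1 from MonoidHom.ext fun w => one_mul _, hη.map_one, hX, hT,
      classInner_dade_one P.dade hαc (hsupp hαz hα1), hα, Char.classInner_sub_left,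
      (hlm l hl fun g hg => (hzero g hg).1).1, hm1, sub_zero] at h
    exact_mod_cast h.symm
  obtain ⟨j₂, hj₂⟩ : ∃ j : Ann W₁ W₂ W₂, j.1 ≠ 1 := by
    obtain ⟨a, b, hab⟩ := Fintype.one_lt_card_iff.1 (show 1 < Fintype.card (Ann W₁ W₂ W₂) by omega)
    by_cases ha : a.1 = 1
    · exact ⟨b, fun hb => hab (Subtype.ext (ha.trans hb.symm))⟩
    · exact ⟨a, ha⟩
  set a : Ann W₁ W₂ W₁ → ℤ := fun i => Mx i j₁ with ha
  set e : ℤ := Mx i₁ j₂ with he
  have hM : ∀ i j, Mx i j = a i + if j = j₁ then 0 else e := by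
    intro i j
    split_ifs with hj
    · rw [hj, add_zero]
    · have h := hadd i i₁ j j₁
      rw [h11, add_zero] at h
      rw [h]
      congr 1
      have hj1 : j.1 ≠ 1 := fun h' => hj (Subtype.ext h')
      have h1 := hMx i₁ j
      have h2 := hMx i₁ j₂
      have hmul : ∀ k : Ann W₁ W₂ W₂, k.1 * i₁.1 = k.1 := fun k => MonoidHom.ext fun w => mul_one _
      rw [hmul] at h1 h2
      have heq' : classInner X (η j.1) = classInner X (η j₂.1) := by
        simp only [classInner]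
        congr 1
        refine Finset.sum_congr rfl fun g _ => ?_
        by_cases hg : g ∈ fitConj S
        · rw [heq j j₂ hj1 hj₂ g hg]
        · rw [(hXoff g hg).1, zero_mul, zero_mul]
      rw [heq', h2] at h1
      exact_mod_cast h1.symm
  have hrow : ∀ i, ∑ j, Mx i j = (q : ℤ) * a i + ((q : ℤ) - 1) * e := fun i => by
    simp only [hM, Finset.sum_add_distrib, Finset.sum_const, Finset.card_univ, hcardφ,
      Finset.sum_ite, zero_add, Finset.filter_ne', Finset.card_erase_of_mem (Finset.mem_univ _),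
      nsmul_eq_mul, mul_zero, Nat.cast_sub (show 1 ≤ q by omega), Nat.cast_one]
  -- `a ψ₀` and `a k` differ by one
  obtain ⟨k, hk, hkψ⟩ : ∃ k : Ann W₁ W₂ W₁, k.1 ≠ 1 ∧ k ≠ ψ₀ := by
    obtain ⟨k, hk⟩ := Finset.card_pos.1 (show 0 <
        (((Finset.univ : Finset (Ann W₁ W₂ W₁)).erase i₁).erase ψ₀).card by
      have := (three_le_card_index P.selfNorm P.oddW).1
      rw [Finset.card_erase_of_mem (Finset.mem_erase.2
        ⟨fun h => hψ₀ (congrArg Subtype.val h), Finset.mem_univ _⟩),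
        Finset.card_erase_of_mem (Finset.mem_univ _), Finset.card_univ]
      change 0 < Fintype.card (Ann W₁ W₂ W₁) - 1 - 1
      omega)
    simp only [Finset.mem_erase, ne_eq, Finset.mem_univ, and_true] at hk
    exact ⟨k, fun h => hk.2 (Subtype.ext h), hk.1⟩
  have hdiff : a ψ₀ - a k = -δ ψ₀.1 := by
    have hd : μ ψ₀.1 1 = μ k.1 1 := (mu_apply_one D P M hψ₀).trans (mu_apply_one D P M hk).symm
    have himg := M.tau_sum_sub P hη (hne ψ₀ hψ₀) (hne k hk)
      (fun w hw => by rw [ψ₀.2 w hw, k.2 w hw]) hd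
    rw [← M.muSum_eq P, ← M.muSum_eq P] at himg
    set β : S → ℂ := m ψ₀ - m k with hβ
    have hβz : ∀ g : S, (g : G) ∉ fittingOf S → β g = 0 := fun g hg => by
      simp [β, m, (hOμ ψ₀ hψ₀).2.2.2.1 g hg, (hOμ k hk).2.2.2.1 g hg]
    have hβ1 : β 1 = 0 := by
      simp only [β, m, Pi.sub_apply, M.muSum_eq P, Finset.sum_apply, sub_eq_zero]
      refine Finset.sum_congr rfl fun φ _ => ?_
      rw [M.apply_twist P ψ₀.1 φ.1 φ.2 (one_mem _ : ((1 : S) : G) ∈ ⁅S, S⁆),
        M.apply_twist P k.1 φ.1 φ.2 (one_mem _ : ((1 : S) : G) ∈ ⁅S, S⁆), hd]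
    have h : classInner X (T β) = -(q : ℂ) := by
      rw [hX, hT, classInner_dade_dade P.dade hαc (hsupp hαz hα1)
        (Char.IsGeneralizedCharacter.sub (hmgen _) (hmgen _)) (hsupp hβz hβ1), hα,
        Char.classInner_sub_left, Char.classInner_sub_right, Char.classInner_sub_right,
        ((hlm l hl fun g hg => (hzero g hg).1).2 ψ₀).1, ((hlm l hl fun g hg => (hzero g hg).1).2 k).1,
        hmm, hmm, if_pos rfl, if_neg (Ne.symm hkψ)]
      ring
    have hcol : ∀ i : Ann W₁ W₂ W₁,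
        classInner X (∑ φ : Ann W₁ W₂ W₂, η (i.1 * φ.1)) = ((∑ j, Mx i j : ℤ) : ℂ) := fun i => by
      rw [Char.classInner_sum_right, Int.cast_sum]
      refine Finset.sum_congr rfl fun j _ => ?_
      rw [← hMx, show i.1 * j.1 = j.1 * i.1 from MonoidHom.ext fun w => mul_comm _ _]
    rw [show T β = (δ ψ₀.1 : ℂ) • (∑ φ : Ann W₁ W₂ W₂, η (ψ₀.1 * φ.1) -
        ∑ φ : Ann W₁ W₂ W₂, η (k.1 * φ.1)) from himg, Char.classInner_smul_right,
      Char.classInner_sub_right, hcol, hcol, hrow, hrow, map_intCast] at h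
    have h' : δ ψ₀.1 * ((q : ℤ) * (a ψ₀ - a k)) = -(q : ℤ) := by
      have : ((δ ψ₀.1 * ((q : ℤ) * (a ψ₀ - a k)) : ℤ) : ℂ) = ((-(q : ℤ) : ℤ) : ℂ) := by
        push_cast at h ⊢
        linear_combination h
      exact_mod_cast this
    have hq' : (q : ℤ) ≠ 0 := by exact_mod_cast (show q ≠ 0 by omega)
    have : δ ψ₀.1 * (a ψ₀ - a k) = -1 := mul_left_cancel₀ hq' (by linear_combination h')
    rcases M.sign ψ₀.1 with h | h <;> rw [h] at this ⊢ <;> linarith
  -- the norm bound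
  have hbound : ∀ B : Finset (Ann W₁ W₂ W₁),
      ∑ i ∈ B, (a i ^ 2 + ((q : ℤ) - 1) * (a i + e) ^ 2) ≤ (q : ℤ) + 1 := by
    intro B
    have hsum := sum_coeff_sq_le P.selfNorm hη hXX (fun s => Mx s.1 s.2) fun s => hMx _ _
    refine le_trans ?_ hsum
    rw [Fintype.sum_prod_type]
    refine le_trans (le_of_eq (Finset.sum_congr rfl fun i _ => ?_))
      (Finset.sum_le_univ_sum_of_nonneg fun i => Finset.sum_nonneg fun j _ => sq_nonneg _)
    show _ = ∑ j, Mx i j ^ 2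
    rw [← Finset.add_sum_erase _ _ (Finset.mem_univ j₁), hM, if_pos rfl, add_zero,
      Finset.sum_congr rfl (fun j hj => by rw [hM, if_neg (Finset.mem_erase.1 hj).1] :
        ∀ j ∈ Finset.univ.erase j₁, Mx i j ^ 2 = (a i + e) ^ 2),
      Finset.sum_const, Finset.card_erase_of_mem (Finset.mem_univ _), Finset.card_univ, hcardφ,
      nsmul_eq_mul, Nat.cast_sub (show 1 ≤ q by omega), Nat.cast_one]
  have hsq : ∀ x y : ℤ, x - y = 1 ∨ x - y = -1 → 1 ≤ x ^ 2 + y ^ 2 := fun x y h => by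
    rcases h with h | h <;> nlinarith [sq_nonneg (x + y)]
  have hd1 : a ψ₀ - a k = 1 ∨ a ψ₀ - a k = -1 := by
    rcases M.sign ψ₀.1 with h | h <;> rw [hdiff, h] <;> norm_num
  have he0 : e = 0 := by
    by_contra hne'
    have hi₁ : i₁ ∉ ({ψ₀, k} : Finset (Ann W₁ W₂ W₁)) := by
      simp only [Finset.mem_insert, Finset.mem_singleton]
      rintro (h | h)
      · exact hψ₀ (congrArg Subtype.val h).symm
      · exact hk (congrArg Subtype.val h).symm
    have h := hbound (insert i₁ {ψ₀, k})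
    rw [Finset.sum_insert hi₁, Finset.sum_pair (Ne.symm hkψ), show a i₁ = 0 from h11] at h
    have h1 : 1 ≤ e ^ 2 := by
      have : 0 < e ^ 2 := by positivity
      omega
    have h2 := hsq (a ψ₀) (a k) hd1
    have h3 := hsq (a ψ₀ + e) (a k + e) (by rwa [add_sub_add_right_eq_sub])
    have hq' : (3 : ℤ) ≤ q := by exact_mod_cast hq3
    nlinarith [mul_le_mul_of_nonneg_left h1 (show (0 : ℤ) ≤ q - 1 by linarith),
      mul_le_mul_of_nonneg_left h3 (show (0 : ℤ) ≤ q - 1 by linarith)]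
  have hsum1 : ∀ B : Finset (Ann W₁ W₂ W₁), ∑ i ∈ B, a i ^ 2 ≤ 1 := fun B => by
    have h := hbound B
    simp only [he0, add_zero] at h
    rw [show ∑ i ∈ B, (a i ^ 2 + ((q : ℤ) - 1) * a i ^ 2) = (q : ℤ) * ∑ i ∈ B, a i ^ 2 by
      rw [Finset.mul_sum]; exact Finset.sum_congr rfl fun i _ => by ring] at h
    by_contra hcon
    have : (2 : ℤ) ≤ ∑ i ∈ B, a i ^ 2 := by omega
    have hq' : (3 : ℤ) ≤ q := by exact_mod_cast hq3
    nlinarith
  obtain ⟨ψ₁, hψ₁⟩ : ∃ i, a i ≠ 0 := by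
    by_contra hcon
    push Not at hcon
    rw [hcon, hcon] at hd1
    omega
  have hs : a ψ₁ = 1 ∨ a ψ₁ = -1 := by
    have h := hsum1 {ψ₁}
    rw [Finset.sum_singleton] at h
    have : -1 ≤ a ψ₁ ∧ a ψ₁ ≤ 1 := by constructor <;> nlinarith
    omega
  set E : G → ℂ := ∑ φ : Ann W₁ W₂ W₂, η (φ.1 * ψ₁.1) with hE
  set s : ℤ := -a ψ₁ with hsdef
  have hs' : s = 1 ∨ s = -1 := by omega
  have hXE : classInner X E = (q : ℂ) * (a ψ₁ : ℂ) := by
    rw [hE, Char.classInner_sum_right, Finset.sum_congr rfl fun φ _ => hMx ψ₁ φ, ← Int.cast_sum,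
      hrow, he0, mul_zero, add_zero]
    push_cast
    ring
  have horth : ∀ ω, classInner X' (η ω) = classInner X (η ω) := fun ω => by
    have hll : classInner (l - l') (l - l') = ((2 : ℤ) : ℂ) := by
      rw [Char.classInner_sub_left, Char.classInner_sub_right, Char.classInner_sub_right,
        Char.classInner_irr_self hl, Char.classInner_irr_self hl',
        Char.classInner_irr_of_ne hl hl' hll', Char.classInner_irr_of_ne hl' hl (Ne.symm hll')]
      norm_num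
    have h := P.eta_orth_tau hη (α := l - l') (Char.IsGeneralizedCharacter.sub
      (Char.irr_isGeneralized ⟨l, hl⟩) (Char.irr_isGeneralized ⟨l', hl'⟩))
      (fun y hy => by
        by_cases hy1 : y = 1
        · simp [hy1, (hagree 1 hone).1, (hagree 1 hone).2]
        · by_cases hyF : (y : G) ∈ fittingOf S
          · exact absurd (fitting_sharp_subset D P hyF fun e => hy1 (Subtype.ext e)) hy
          · simp [(hzero y hyF).1, (hzero y hyF).2]) hll le_rfl ω
    rw [show l - l' = α - α' by simp [α, α'], dadeIsometry_sub, Char.classInner_sub_left,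
      sub_eq_zero] at h
    exact h.symm
  have hXE' : classInner X' E = (q : ℂ) * (a ψ₁ : ℂ) := by
    rw [← hXE, hE, Char.classInner_sum_right, Char.classInner_sum_right]
    exact Finset.sum_congr rfl fun φ _ => horth _
  have hEE : classInner E E = (q : ℂ) := by
    rw [hE, Char.classInner_sum_left, Finset.sum_congr rfl fun φ _ => (show
      classInner (η (φ.1 * ψ₁.1)) (∑ φ' : Ann W₁ W₂ W₂, η (φ'.1 * ψ₁.1)) = 1 by
        rw [Char.classInner_sum_right, Finset.sum_eq_single φ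
          (fun φ' _ hne => by rw [hη.orthonormal, if_neg fun h => hne (mul_inj P.selfNorm h).1.symm])
          (fun h => absurd (Finset.mem_univ _) h), hη.orthonormal, if_pos rfl])]
    simp [hcardφ]
  have hEg : IsGeneralizedCharacter G E :=
    Char.IsGeneralizedCharacter.sum _ fun φ _ => eta_isGeneralized hη _
  have hone' : ∀ Z : G → ℂ, classInner Z Z = ((q : ℤ) + 1 : ℤ) →
      classInner Z E = (q : ℂ) * (a ψ₁ : ℂ) →
      classInner (Z + (s : ℂ) • E) (Z + (s : ℂ) • E) = 1 := by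
    intro Z h1 h2
    have h3 : classInner E Z = (q : ℂ) * (a ψ₁ : ℂ) := by
      rw [← Char.conj_classInner, h2, map_mul, map_natCast, map_intCast]
    have hsC : (a ψ₁ : ℂ) * (a ψ₁ : ℂ) = 1 := by rcases hs with h | h <;> simp [h]
    rw [Char.classInner_add_left, Char.classInner_add_right, Char.classInner_add_right,
      Char.classInner_smul_left, Char.classInner_smul_left, Char.classInner_smul_right,
      Char.classInner_smul_right, h1, h2, h3, hEE]
    simp only [hsdef, map_intCast]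
    push_cast
    linear_combination (-(q : ℂ)) * hsC
  refine ⟨X + (s : ℂ) • E, X' + (s : ℂ) • E, O, O', ψ₁, s,
    Char.IsGeneralizedCharacter.add hXg (Char.IsGeneralizedCharacter.intCast_smul hEg s),
    Char.IsGeneralizedCharacter.add hXg' (Char.IsGeneralizedCharacter.intCast_smul hEg s),
    hone' X hXX hXE, hone' X' hXX' hXE', hs', hO, hO', hdisj, fun y => ?_, fun g hg => ?_⟩
  · simp only [Pi.add_apply, Pi.smul_apply, add_sub_add_right_eq_sub]
    by_cases h1 : (y : S) = 1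
    · rw [h1, OneMemClass.coe_one, (hXoff 1 fun h => (mem_fitConj.1 h).1 rfl).1,
        (hXoff 1 fun h => (mem_fitConj.1 h).1 rfl).2, ← (hform y).1, ← (hform y).2, h1,
        (hagree 1 hone).1, (hagree 1 hone).2]
      simp
    · rw [hX, hX', hT, dade_on D P hαc y.2 h1, dade_on D P hαc' y.2 h1, ← (hform y).1, ← (hform y).2]
      simp [α, α']
  · constructor <;>
    · simp only [Pi.add_apply, Pi.smul_apply, smul_eq_mul, (hXoff g hg).1, (hXoff g hg).2, zero_add,
        hE, Finset.sum_apply]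

end Star

section Count

variable [Fintype S] [Fintype T] {A : Set G} {H : Subgroup G} {R : G → Subgroup G}
  {η : (↥(W₁ ⊔ W₂) →* ℂˣ) → (G → ℂ)} [Fintype (Ann W₁ W₂ W₂)] [Fintype (nF T)]
  [DecidablePred fun y : nF T => y ≠ 1] [DecidablePred fun φ : Ann W₁ W₂ W₂ => φ.1 ≠ 1]
  (D : PairSide S W₁ U W₂) (D' : PairSide T W₂ V W₁) (P : PrimeDade A S ⁅S, S⁆ H W₁ W₂ R)
  (hη : IsCyclicTIFamily W₁ W₂ η)
include D D' P hη

/-- The count: `C ≠ 1` bounds `v` in terms of `u` and `|C|`. -/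
theorem pairC_count (hC : pairC S U ≠ ⊥)
    (hW2 : ∀ φ : Ann W₁ W₂ W₂, φ.1 ≠ 1 → ∃ x ∈ W₂, x ≠ 1 ∧ η φ.1 x ≠ 0)
    (hT : ∀ φ φ' : Ann W₁ W₂ W₂, φ.1 ≠ 1 → φ'.1 ≠ 1 →
      ∀ g, g ∉ vConj W₁ W₂ → g ∉ fitConj T → η φ.1 g = η φ'.1 g)
    (hmassT : ((Nat.card W₁ : ℝ) - 1) *
        ((Nat.card (fittingOf T) : ℝ) * ((pairC T V).relIndex V : ℝ) -
          ((pairC T V).relIndex V : ℝ) ^ 2) ≤
      ∑ φ ∈ Finset.univ.filter (fun φ : Ann W₁ W₂ W₂ => φ.1 ≠ 1),
        ∑ y ∈ Finset.univ.filter (fun y : nF T => y ≠ 1),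
          Complex.normSq (η φ.1 ((y : T) : G))) :
    1 - 1 / ((pairC T V).relIndex V : ℝ) - ((pairC T V).relIndex V : ℝ) /
        ((Nat.card W₁ : ℝ) ^ Nat.card W₂ * Nat.card (pairC T V)) ≤
      ((pairC S U).relIndex U : ℝ) * Nat.card W₁ * Nat.card W₂ /
        ((Nat.card W₂ : ℝ) ^ Nat.card W₁ * Nat.card (pairC S U)) := by
  classical
  haveI := (ann_facts P.selfNorm).1
  haveI : Fintype (nF S) := Fintype.ofFinite _
  have dVS := D.disjoint_vConj
  have dVT : Disjoint (vConj W₁ W₂) (fitConj T) := vConj_swap W₁ W₂ ▸ D'.disjoint_vConj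
  have dST := D.disjoint_fitConj D'
  have heqS : ∀ φ φ' : Ann W₁ W₂ W₂, φ.1 ≠ 1 → φ'.1 ≠ 1 → ∀ g ∈ fitConj S,
      η φ.1 g = η φ'.1 g := fun φ φ' h h' g hg =>
    hT φ φ' h h' g (Finset.disjoint_right.1 dVS hg) (Finset.disjoint_left.1 dST hg)
  obtain ⟨Y, Y', O, O', ψ₁, s, hY, hY', hY1, hY1', hs, hO, hO', hOO, hdiff, hoff⟩ :=
    exists_star D P hη hC heqS
  set q := Nat.card W₁ with hq
  set p := Nat.card W₂ with hp
  set u := (pairC S U).relIndex U with hu
  set v := (pairC T V).relIndex V with hv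
  set Φ := Finset.univ.filter (fun φ : Ann W₁ W₂ W₂ => φ.1 ≠ 1) with hΦ
  have hΦcard : (Φ.card : ℝ) = (q : ℝ) - 1 := by
    have : Φ = Finset.univ.erase ⟨1, fun _ _ => rfl⟩ := by
      ext φ
      simp only [hΦ, Finset.mem_filter, Finset.mem_univ, true_and, Finset.mem_erase, and_true, ne_eq]
      exact not_congr ⟨fun h => Subtype.ext h, fun h => congrArg Subtype.val h⟩
    rw [this, Finset.card_erase_of_mem (Finset.mem_univ _), Finset.card_univ,
      ← Nat.card_eq_fintype_card, (ann_facts P.selfNorm).2.1, Nat.cast_sub D.q_prime.one_le,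
      Nat.cast_one]
  obtain ⟨φ₀, hφ₀⟩ : ∃ φ : Ann W₁ W₂ W₂, φ.1 ≠ 1 := by
    have : (0 : ℝ) < Φ.card := by
      rw [hΦcard]
      have : (2 : ℝ) ≤ q := by exact_mod_cast D.q_prime.two_le
      linarith
    obtain ⟨φ, hφ⟩ := Finset.card_pos.1 (Nat.cast_pos.1 this)
    exact ⟨φ, (Finset.mem_filter.1 hφ).2⟩
  set Z := (vConj W₁ W₂ ∪ fitConj S ∪ fitConj T)ᶜ with hZdef
  have hZmem : ∀ z, z ∈ Z ↔ z ∉ vConj W₁ W₂ ∧ z ∉ fitConj S ∧ z ∉ fitConj T := fun z => by
    simp only [hZdef, Finset.mem_compl, Finset.mem_union, not_or, and_assoc]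
  have dU : Disjoint (vConj W₁ W₂ ∪ fitConj S) (fitConj T) :=
    Finset.disjoint_union_left.2 ⟨dVT, dST⟩
  have hsplit : ∀ f : G → ℝ, ∑ g, f g = ∑ g ∈ Z, f g + (∑ g ∈ vConj W₁ W₂, f g +
      ∑ g ∈ fitConj S, f g + ∑ g ∈ fitConj T, f g) := fun f => by
    rw [← Finset.sum_union dVS, ← Finset.sum_union dU, hZdef, Finset.sum_compl_add_sum]
  have hg0 : (0 : ℝ) < Nat.card G := Nat.cast_pos.2 Nat.card_pos
  -- `Z` is closed under powers prime to the order, and has no common zero there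
  have hclosed : ∀ z ∈ Z, ∀ k : ℕ, k.Coprime (Nat.card G) → z ^ k ∈ Z := fun z hz k hk => by
    rw [hZmem] at hz ⊢
    exact ⟨fun h => hz.1 (mem_vConj_of_pow hk h), fun h => hz.2.1 (mem_fitConj_of_pow hk h),
      fun h => hz.2.2 (mem_fitConj_of_pow hk h)⟩
  have hval : ∀ z ∈ Z, η φ₀.1 z = 0 →
      ∑ φ : Ann W₁ W₂ W₂, η (φ.1 * ψ₁.1) z ≠ 0 := by
    intro z hz hz0 hcon
    obtain ⟨hzV, -, hzT⟩ := (hZmem z).1 hz
    simp only [eta_mul_apply hη hzV, Finset.sum_sub_distrib, Finset.sum_add_distrib,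
      Finset.sum_const, Finset.card_univ, nsmul_eq_mul, mul_one] at hcon
    rw [← Finset.add_sum_erase _ _ (Finset.mem_univ (⟨1, fun _ _ => rfl⟩ : Ann W₁ W₂ W₂)),
      Finset.sum_eq_zero (fun φ hφ => (hT φ φ₀ (fun h => (Finset.mem_erase.1 hφ).1 (Subtype.ext h))
        hφ₀ z hzV hzT).trans hz0), show η (1 : ↥(W₁ ⊔ W₂) →* ℂˣ) z = 1 by rw [hη.map_one],
      ← Nat.card_eq_fintype_card, (ann_facts P.selfNorm).2.1] at hcon
    refine no_vanish (CharInt.isIntegral_genChar (eta_isGeneralized hη ψ₁.1) z) D.q_prime.two_le ?_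
    linear_combination hcon
  have hs0 : (s : ℂ) ≠ 0 := by rcases hs with rfl | rfl <;> norm_num
  have hZY := card_le_sum_normSq_pair (eta_isGeneralized hη φ₀.1) hY Z hclosed fun z hz => by
    rw [(hoff z ((hZmem z).1 hz).2.1).1]
    by_cases h : η φ₀.1 z = 0
    · exact Or.inr (mul_ne_zero hs0 (hval z hz h))
    · exact Or.inl h
  have hZY' := card_le_sum_normSq_pair (eta_isGeneralized hη φ₀.1) hY' Z hclosed fun z hz => by
    rw [(hoff z ((hZmem z).1 hz).2.1).2]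
    by_cases h : η φ₀.1 z = 0
    · exact Or.inr (mul_ne_zero hs0 (hval z hz h))
    · exact Or.inl h
  simp only [Finset.sum_add_distrib] at hZY hZY'
  -- the scale factors
  set kS := (Nat.card G : ℝ) / Nat.card S with hkS
  set kT := (Nat.card G : ℝ) / Nat.card T with hkT
  have hkS0 : 0 ≤ kS := by positivity
  have hkT0 : 0 ≤ kT := by positivity
  have hscaleS : ∀ f : G → ℝ, (∀ g x : G, f (x * g * x⁻¹) = f g) → ∑ g ∈ fitConj S, f g =
      kS * ∑ y ∈ Finset.univ.filter (fun y : nF S => y ≠ 1), f ((y : S) : G) := fun f hf => by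
    have h := D.sum_fitConj f hf
    simp only [nsmul_eq_mul] at h
    rw [hkS, div_mul_eq_mul_div, ← h, mul_div_cancel_left₀ _ (Nat.cast_ne_zero.2 Nat.card_pos.ne')]
  have hscaleT : ∀ f : G → ℝ, (∀ g x : G, f (x * g * x⁻¹) = f g) → ∑ g ∈ fitConj T, f g =
      kT * ∑ y ∈ Finset.univ.filter (fun y : nF T => y ≠ 1), f ((y : T) : G) := fun f hf => by
    have h := D'.sum_fitConj f hf
    simp only [nsmul_eq_mul] at h
    rw [hkT, div_mul_eq_mul_div, ← h, mul_div_cancel_left₀ _ (Nat.cast_ne_zero.2 Nat.card_pos.ne')]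
  have hclass : ∀ {f : G → ℂ}, IsGeneralizedCharacter G f →
      ∀ g x : G, Complex.normSq (f (x * g * x⁻¹)) = Complex.normSq (f g) := fun hf g x => by
    rw [Char.IsGeneralizedCharacter.isClassFunction hf g x]
  have hres : ∀ {f : G → ℂ}, IsGeneralizedCharacter G f →
      IsGeneralizedCharacter (nF S) (fun y : nF S => f ((y : S) : G)) := fun hf =>
    Char.IsGeneralizedCharacter.comp hf (S.subtype.comp (nF S).subtype)
  have hcommS : ∀ a b : nF S, a * b = b * a := fun a b =>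
    Subtype.ext (Subtype.ext (D.F_comm _ a.2 _ b.2))
  -- the `η`
  have hη1 : ∀ φ ∈ Φ, (∑ g ∈ Z, Complex.normSq (η φ₀.1 g)) + (vConj W₁ W₂).card +
      kS * ((Nat.card (fittingOf S) : ℝ) - 1) +
      kT * ∑ y ∈ Finset.univ.filter (fun y : nF T => y ≠ 1), Complex.normSq (η φ.1 ((y : T) : G))
      ≤ (Nat.card G : ℝ) := by
    intro φ hφ
    have hφ1 := (Finset.mem_filter.1 hφ).2
    have hgen := eta_isGeneralized hη φ.1
    have hZ : ∑ g ∈ Z, Complex.normSq (η φ.1 g) = ∑ g ∈ Z, Complex.normSq (η φ₀.1 g) :=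
      Finset.sum_congr rfl fun g hg => by
        rw [hT φ φ₀ hφ1 hφ₀ g ((hZmem g).1 hg).1 ((hZmem g).1 hg).2.2]
    have hVv : ∑ g ∈ vConj W₁ W₂, Complex.normSq (η φ.1 g) = (vConj W₁ W₂).card := by
      rw [Finset.sum_congr rfl (g := fun _ => (1 : ℝ)) fun g hg => ?_, Finset.sum_const, nsmul_eq_mul,
        mul_one]
      obtain ⟨x, hx, h1, h2⟩ := mem_vConj.1 hg
      rw [← Char.IsGeneralizedCharacter.isClassFunction hgen g x, hη.eq_on φ.1 ⟨_, hx⟩ h1 h2,
        Complex.normSq_eq_norm_sq, Complex.norm_eq_one_of_pow_eq_one (n := Nat.card ↥(W₁ ⊔ W₂))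
          (by rw [← Units.val_pow_eq_pow_val, ← map_pow, pow_card_eq_one', map_one, Units.val_one])
          Nat.card_pos.ne', one_pow]
    have hS' : kS * ((Nat.card (fittingOf S) : ℝ) - 1) ≤
        ∑ g ∈ fitConj S, Complex.normSq (η φ.1 g) := by
      rw [hscaleS _ (hclass hgen)]
      refine mul_le_mul_of_nonneg_left ?_ hkS0
      rw [← Coprime.card_subgroupOf D.F_le_S]
      obtain ⟨x, hx, hx1, hne⟩ := hW2 φ hφ1
      exact card_sub_one_le_sum_normSq hcommS (hres hgen)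
        ⟨⟨⟨x, D.W₂_le_S hx⟩, D.W₂_le_F hx⟩,
          fun h => hx1 (congrArg (fun y : nF S => ((y : S) : G)) h), hne⟩
    rw [← sum_normSq_of_norm_one (f := η φ.1) (by rw [hη.orthonormal, if_pos rfl]), hsplit, hZ, hVv,
      ← hscaleT (fun g => Complex.normSq (η φ.1 g)) (hclass hgen)]
    linarith
  have hηsum := Finset.sum_le_sum hη1
  rw [Finset.sum_const, Finset.sum_add_distrib, Finset.sum_const, ← Finset.mul_sum, nsmul_eq_mul,
    nsmul_eq_mul, hΦcard] at hηsum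
  have hq1 : (0 : ℝ) < (q : ℝ) - 1 := by
    have : (2 : ℝ) ≤ q := by exact_mod_cast D.q_prime.two_le
    linarith
  have hηfin : (∑ g ∈ Z, Complex.normSq (η φ₀.1 g)) + (vConj W₁ W₂).card +
      kS * ((Nat.card (fittingOf S) : ℝ) - 1) +
      kT * ((Nat.card (fittingOf T) : ℝ) * v - (v : ℝ) ^ 2) ≤ (Nat.card G : ℝ) := by
    refine le_of_mul_le_mul_left ?_ hq1
    have := mul_le_mul_of_nonneg_left hmassT hkT0
    linarith
  -- the `λ*`
  have hYfin : (∑ g ∈ Z, Complex.normSq (Y g)) + (∑ g ∈ Z, Complex.normSq (Y' g)) +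
      kS * (2 * ((Nat.card (fittingOf S) : ℝ) * ((q * u : ℕ) : ℝ) - ((q * u : ℕ) : ℝ) ^ 2)) ≤
      2 * (Nat.card G : ℝ) := by
    have hpair := sum_normSq_family_ge (F := nF S) hcommS (ι := Bool) (by simp)
      (fun b y => cond b (Y ((y : S) : G)) (Y' ((y : S) : G)))
      (fun b => by cases b; exacts [hres hY', hres hY])
      (fun b => cond b O O') (fun a b hab => by
        cases a <;> cases b
        exacts [absurd rfl hab, hOO.symm, hOO, absurd rfl hab])
      (v := q * u) (fun b => by cases b; exacts [hO', hO]) (e := 1) (Or.inl rfl)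
      (fun a b y => by
        cases a <;> cases b <;> simp only [cond_true, cond_false, Int.cast_one, one_mul, sub_self]
        · linear_combination -(hdiff y)
        · exact hdiff y)
    rw [Fintype.card_bool, Coprime.card_subgroupOf D.F_le_S, Fintype.sum_bool] at hpair
    simp only [cond_true, cond_false] at hpair
    have h1 := sum_normSq_of_norm_one hY1
    have h1' := sum_normSq_of_norm_one hY1'
    rw [hsplit, hscaleS _ (hclass hY)] at h1
    rw [hsplit, hscaleS _ (hclass hY')] at h1'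
    have hn : ∀ (f : G → ℂ) (B : Finset G), 0 ≤ ∑ g ∈ B, Complex.normSq (f g) := fun f B =>
      Finset.sum_nonneg fun g _ => Complex.normSq_nonneg _
    have := mul_le_mul_of_nonneg_left hpair hkS0
    push_cast at this ⊢
    linarith [hn Y (vConj W₁ W₂), hn Y' (vConj W₁ W₂), hn Y (fitConj T), hn Y' (fitConj T)]
  -- all four sets
  have htot : (Z.card : ℝ) + ((vConj W₁ W₂).card + kS * ((Nat.card (fittingOf S) : ℝ) - 1) +
      kT * ((Nat.card (fittingOf T) : ℝ) - 1)) = Nat.card G := by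
    have h := hsplit fun _ => 1
    rw [hscaleS _ fun _ _ => rfl, hscaleT _ fun _ _ => rfl,
      show Finset.univ.filter (fun y : nF T => y ≠ 1) = Finset.univ.erase 1 by ext; simp] at h
    simp only [Finset.sum_const, nsmul_eq_mul, mul_one, Finset.card_univ, ← Nat.card_eq_fintype_card,
      Finset.filter_ne', Finset.card_erase_of_mem (Finset.mem_univ _),
      Coprime.card_subgroupOf D.F_le_S, Coprime.card_subgroupOf D'.F_le_S,
      Nat.cast_sub (Nat.one_le_iff_ne_zero.2 Nat.card_pos.ne'), Nat.cast_one] at h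
    exact h.symm
  -- the arithmetic
  have hSc : (Nat.card S : ℝ) = (Nat.card (fittingOf S) : ℝ) * u * q := by
    rw [D.card_S, D.card_F, ← D.card_U]; push_cast; ring
  have hTc : (Nat.card T : ℝ) = (Nat.card (fittingOf T) : ℝ) * v * p := by
    rw [D'.card_S, D'.card_F, ← D'.card_U]; push_cast; ring
  have hFS : (Nat.card (fittingOf S) : ℝ) = (p : ℝ) ^ q * Nat.card (pairC S U) := by
    rw [D.card_F]; push_cast; rfl
  have hFT : (Nat.card (fittingOf T) : ℝ) = (q : ℝ) ^ p * Nat.card (pairC T V) := by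
    rw [D'.card_F]; push_cast; rfl
  have hv0 : (0 : ℝ) < v := Nat.cast_pos.2 (Nat.pos_of_ne_zero fun h =>
    (Nat.card_pos (α := V)).ne' (by rw [← D'.card_U, ← hv, h, mul_zero]))
  have hu0 : (0 : ℝ) < u := Nat.cast_pos.2 (Nat.pos_of_ne_zero fun h =>
    (Nat.card_pos (α := U)).ne' (by rw [← D.card_U, ← hu, h, mul_zero]))
  have hp0 : (0 : ℝ) < p := Nat.cast_pos.2 D.p_prime.pos
  have hq0 : (0 : ℝ) < q := Nat.cast_pos.2 D.q_prime.pos
  rw [← hFS, ← hFT]
  set FS : ℝ := (Nat.card (fittingOf S) : ℝ) with hFSdef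
  set FT : ℝ := (Nat.card (fittingOf T) : ℝ) with hFTdef
  have hFS0 : 0 < FS := Nat.cast_pos.2 Nat.card_pos
  have hFT0 : 0 < FT := Nat.cast_pos.2 Nat.card_pos
  push_cast at hYfin
  have hgS : (Nat.card G : ℝ) = kS * (FS * u * q) := by
    rw [← hSc, hkS, div_mul_cancel₀ _ (Nat.cast_ne_zero.2 Nat.card_pos.ne')]
  have hmain : kT * (FT * ((v : ℝ) - 1) - (v : ℝ) ^ 2) ≤ kS * ((u : ℝ) * q) ^ 2 := by
    linarith
  rw [hkS, hkT, hSc, hTc] at hmain
  have h2 := mul_le_mul_of_nonneg_left hmain (show (0 : ℝ) ≤ p / Nat.card G by positivity)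
  calc 1 - 1 / (v : ℝ) - (v : ℝ) / FT
      = p / Nat.card G * ((Nat.card G : ℝ) / (FT * v * p) * (FT * ((v : ℝ) - 1) - (v : ℝ) ^ 2)) := by
        field_simp
    _ ≤ p / Nat.card G * ((Nat.card G : ℝ) / (FS * u * q) * ((u : ℝ) * q) ^ 2) := h2
    _ = (u : ℝ) * q * p / FS := by field_simp

end Count

/-- Peterfalvi (13.2b) for a member of Type II: `C_U(S_F) = 1`. -/
theorem typeIIKernel {G : Type u} [Group G] [Finite G] (hG : IsMinSimpleOddOrder G) (B : BGFacts G)
    (hV : NoTypeV G) (hPP : PairPrimes G) (h3 : TypeIIIOnly G) (hK : TypeIIIKernel G) :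
    TypeIIKernel G := by
  classical
  letI := Fintype.ofFinite G
  intro S T W₁ W₂ U V P hII
  by_contra hC
  letI : Fintype S := Fintype.ofFinite _
  letI : Fintype T := Fintype.ofFinite _
  letI : Fintype (nF T) := Fintype.ofFinite _
  have D := pairSide hG B hV hPP h3 hK P
  have D' := pairSide hG B hV hPP h3 hK P.swap
  have hW := P.hSP.selfNormalizing
  haveI := (ann_facts hW).1
  haveI := (ann_facts P.hTP.selfNormalizing).1
  letI : Fintype (Ann W₁ W₂ W₂) := Fintype.ofFinite _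
  letI : Fintype (Ann W₂ W₁ W₂) := Fintype.ofFinite _
  have hnI : ∀ M : Subgroup G, IsCoatom M →
      (IsOfTypeII M ∨ IsOfTypeIII M ∨ IsOfTypeIV M ∨ IsOfTypeV M) → ¬ IsOfTypeI' M := by
    rintro M hM (h | h | h | h)
    exacts [not_typeI_of_typeII B hM h, not_typeI_of_typeIII_IV B hM (Or.inl h),
      not_typeI_of_typeIII_IV B hM (Or.inr h), not_typeI_of_typeV B hM h]
  have PS := primeDade_typeP hG B P.hS P.hSP (hnI S P.hS P.hS25) (Or.inr rfl)
  have PT := primeDade_typeP hG B P.hT P.hTP (hnI T P.hT P.hT25) (Or.inr rfl)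
  obtain ⟨η, hη⟩ := exists_isCyclicTIFamily hW PS.oddW
  have hη' := isCyclicTIFamily_swap hη
  set σ := annSwap W₁ W₂ W₂ with hσ
  have hne : ∀ φ : Ann W₁ W₂ W₂, φ.1 ≠ 1 → (σ.symm φ).1 ≠ 1 := fun φ h h' =>
    h (by rw [← σ.apply_symm_apply φ]; exact (annSwap_coe_eq_one W₂ _).2 h')
  have hval : ∀ φ : Ann W₁ W₂ W₂,
      η ((σ.symm φ).1.comp (MulEquiv.subgroupCongr (sup_comm W₁ W₂)).toMonoidHom) = η φ.1 :=
    fun φ => by rw [← annSwap_coe, ← hσ, Equiv.apply_symm_apply]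
  obtain ⟨O, e, -, hO⟩ := exists_eta_sub D' PT hη'
  have key := pairC_count D D' PS hη hC (eta_ne_zero_on_W2 hW hη) (fun φ φ' h h' g hgV hgT => by
    have := (hO _ _ (hne φ h) (hne φ' h')).2.2.1 g (by rwa [vConj_swap]) hgT
    simpa only [hval] using this) (by
    refine (sum_normSq_eta_fit_ge D' PT hη').trans (le_of_eq ?_)
    refine Finset.sum_equiv σ (fun φ => ?_) fun φ _ => rfl
    simp only [Finset.mem_filter, Finset.mem_univ, true_and]
    exact (not_congr (annSwap_coe_eq_one W₂ φ)).symm)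
  have hdvd : ∀ X : Subgroup G, Odd (Nat.card X) := fun X =>
    D.oddG.of_dvd_nat X.card_subgroup_dvd_card
  have hq2 := D.q_prime.two_le
  have hp2 := D.p_prime.two_le
  refine count_false D.p_prime D.q_prime D.p_odd D.q_odd D.p_ne_q (hdvd _)
    (Eq.trans D.card_C_modEq (Nat.mod_eq_of_lt hq2))
    (Subgroup.one_lt_card_iff_ne_bot _ |>.2 hC) (fun h => D.p_prime.ne_one
      (Nat.Coprime.eq_one_of_dvd ((D.coprime_H_U.coprime_dvd_left D.p_dvd_H).coprime_dvd_right
        (Subgroup.card_dvd_of_le D.C_le)) h))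
    (D.card_C_dvd_index (not_normalizer_le_of_typeII D.solvable P.hSP hII))
    ((hdvd U).of_dvd_nat (D.card_U ▸ dvd_mul_left _ _))
    (Eq.trans D.index_modEq (Nat.mod_eq_of_lt hq2)) D.index_mul_le
    ((hdvd V).of_dvd_nat (D'.card_U ▸ dvd_mul_left _ _))
    (Eq.trans D'.index_modEq (Nat.mod_eq_of_lt hp2))
    (lt_of_le_of_ne (Nat.pos_of_ne_zero fun h => (Nat.card_pos (α := V)).ne'
      (by rw [← D'.card_U, h, mul_zero])) (Ne.symm D'.index_ne_one))
    D'.index_mul_le Nat.card_pos key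

end Cfsg.Agent.OddOrder.PF
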