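import Cfsg.Agent.Lib.OddOrder.PF.S13_Orbits

/-!
Peterfalvi 13: the characters `μ_j` as sums of orbits of linear characters of `F(S)`, and two
irreducible characters of degree `q |U : C|` vanishing off `F(S)` when `C ≠ 1`.
-/

set_option autoImplicit false
set_option linter.style.haveILetI false
set_option linter.unusedSectionVars false

namespace Cfsg.Agent.OddOrder.PF

open Cfsg Cfsg.Agent Cfsg.Agent.OddOrder

universe u
variable {G : Type u} [Group G] [Finite G] {S W₁ U W₂ : Subgroup G}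

/-- The linear characters of an abelian group number its order. -/
theorem card_hom_of_comm {X : Type u} [Group X] [Finite X] (h : ∀ a b : X, a * b = b * a) :
    Nat.card (X →* ℂ) = Nat.card X := by
  rw [Char.card_monoidHom_complex]
  have : _root_.commutator X = ⊥ := by
    rw [commutator_def, Subgroup.commutator_eq_bot_iff_le_centralizer]
    exact fun x _ => Subgroup.mem_centralizer_iff.2 fun y _ => h y x
  rw [this, Subgroup.index_bot]

namespace PairSide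

variable (D : PairSide S W₁ U W₂)
include D

/-- The norm map onto `W₂`. -/
theorem exists_norm : ∃ t : nF S →* ↥W₂,
    (∀ w ∈ W₁, ∀ y y' : nF S, ((y' : S) : G) = w * ((y : S) : G) * w⁻¹ → t y' = t y) ∧
    (∀ y : nF S, ((y : S) : G) ∈ pairC S U → t y = 1) ∧
    ∀ (x : G) (hx : x ∈ W₂) (y : nF S), ((y : S) : G) = x → (t y : G) = x ^ Nat.card W₁ := by
  classical
  haveI : Fintype W₁ := Fintype.ofFinite _
  letI : CommGroup (nF S) :=
    { (inferInstance : Group (nF S)) with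
      mul_comm := fun a b => Subtype.ext (Subtype.ext (D.F_comm _ a.2 _ b.2)) }
  let φ : W₁ → (nF S →* nF S) := fun w =>
    { toFun := fun y => ⟨⟨(w : G) * ((y : S) : G) * (w : G)⁻¹,
          D.F_le_S (D.conj_mem_F (D.W₁_le w.2) y.2)⟩, D.conj_mem_F (D.W₁_le w.2) y.2⟩
      map_one' := Subtype.ext (Subtype.ext (by simp))
      map_mul' := fun a b => Subtype.ext (Subtype.ext (by simp [mul_assoc])) }
  have hφ : ∀ v w : W₁, ∀ y, φ v (φ w y) = φ (v * w) y := fun v w y => Subtype.ext (Subtype.ext (by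
    show (v : G) * ((w : G) * ((y : S) : G) * (w : G)⁻¹) * (v : G)⁻¹ = _
    simp [φ, mul_assoc]))
  let T : nF S →* nF S :=
    { toFun := fun y => ∏ w : W₁, φ w y
      map_one' := by simp
      map_mul' := fun a b => by simp [Finset.prod_mul_distrib] }
  have hTfix : ∀ (v : W₁) (y), φ v (T y) = T y := fun v y => by
    show φ v (∏ w : W₁, φ w y) = _
    rw [map_prod]
    exact Fintype.prod_equiv (Equiv.mulLeft v) _ _ fun w => hφ v w y
  have hTW : ∀ y, ((T y : S) : G) ∈ W₂ := fun y => by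
    obtain ⟨w, hw, hw1⟩ := D.exists_gen
    refine D.mem_W₂_of_commute hw hw1 (D.F_le (T y).2) (mul_inv_eq_iff_eq_mul.1 ?_)
    exact congrArg (fun z : nF S => ((z : S) : G)) (hTfix ⟨w, hw⟩ y)
  let t : nF S →* ↥W₂ :=
    { toFun := fun y => ⟨_, hTW y⟩
      map_one' := Subtype.ext (by simp)
      map_mul' := fun a b => Subtype.ext (by simp) }
  refine ⟨t, fun w hw y y' e => Subtype.ext ?_, fun y hy => Subtype.ext ?_, fun x hx y e => ?_⟩
  · have hy' : y' = φ ⟨w, hw⟩ y := Subtype.ext (Subtype.ext e)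
    show ((T y' : S) : G) = ((T y : S) : G)
    rw [hy', show T (φ ⟨w, hw⟩ y) = T y from
      Fintype.prod_equiv (Equiv.mulRight (⟨w, hw⟩ : W₁)) _ _ fun v => hφ v ⟨w, hw⟩ y]
  · have hC : ((T y : S) : G) ∈ fittingHallOf S ⊓ pairC S U := by
      refine ⟨D.W₂_le (hTW y), ?_⟩
      show T y ∈ ((pairC S U).subgroupOf S).subgroupOf (nF S)
      exact Subgroup.prod_mem _ fun w _ => D.conj_mem_C w.2 hy
    rw [D.H_inf_C, Subgroup.mem_bot] at hC
    exact hC
  · have hfix : ∀ w : W₁, φ w y = y := fun w => Subtype.ext (Subtype.ext (by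
      show (w : G) * ((y : S) : G) * (w : G)⁻¹ = ((y : S) : G)
      rw [e, D.commute_W₂ w.2 hx, mul_inv_cancel_right]))
    show (((∏ w : W₁, φ w y : nF S) : S) : G) = _
    simp [hfix, e]

/-- There are `p - 1` characters fixed by `W₁`, trivial on `C` and non-trivial on `S_F`. -/
theorem exists_fixedLin : ∃ κ : {χ : ↥W₂ →* ℂ // χ ≠ 1} → (nF S →* ℂ),
    Function.Injective κ ∧ ∀ χ, IsFixedLin S W₁ U (κ χ) := by
  obtain ⟨t, h1, h2, h3⟩ := D.exists_norm
  have hpow : ∀ x : ↥W₂, ∃ y : nF S, ((y : S) : G) ∈ W₂ ∧ t y = x := fun x => by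
    have hc : (Nat.card W₂).Coprime (Nat.card W₁) :=
      (Nat.coprime_primes D.p_prime D.q_prime).2 D.p_ne_q
    obtain ⟨z, hz⟩ := (powCoprime hc).surjective x
    exact ⟨⟨⟨z, D.W₂_le_S z.2⟩, D.W₂_le_F z.2⟩, z.2,
      Subtype.ext ((h3 z z.2 _ rfl).trans (congrArg Subtype.val hz :))⟩
  refine ⟨fun χ => χ.1.comp t, fun a b h => Subtype.ext (MonoidHom.ext fun x => ?_), fun χ =>
    ⟨fun w hw y y' e => by simp [h1 w hw y y' e], fun y hy => by simp [h2 y hy], ?_⟩⟩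
  · obtain ⟨y, -, rfl⟩ := hpow x
    exact DFunLike.congr_fun h y
  · obtain ⟨x, hx⟩ : ∃ x, χ.1 x ≠ 1 := by
      by_contra hne
      push Not at hne
      exact χ.2 (MonoidHom.ext hne)
    obtain ⟨y, hy, rfl⟩ := hpow x
    exact ⟨y, D.W₂_le hy, hx⟩

/-- A non-trivial character of `C`, extended to `F(S)` trivially on `S_F`. -/
theorem exists_ext_C (hC : pairC S U ≠ ⊥) : ∃ ρ : nF S →* ℂ,
    (∀ y : nF S, ((y : S) : G) ∈ fittingHallOf S → ρ y = 1) ∧
      ∃ y : nF S, ((y : S) : G) ∈ pairC S U ∧ ρ y ≠ 1 := by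
  classical
  letI : CommGroup (nF S) :=
    { (inferInstance : Group (nF S)) with
      mul_comm := fun a b => Subtype.ext (Subtype.ext (D.F_comm _ a.2 _ b.2)) }
  have hcop : (Nat.card W₂).Coprime (Nat.card (pairC S U)) :=
    (D.coprime_H_U.coprime_dvd_left D.p_dvd_H).coprime_dvd_right (Subgroup.card_dvd_of_le D.C_le)
  obtain ⟨m, hm0, hm1⟩ := Nat.chineseRemainder hcop 0 1
  have hH : ∀ x ∈ fittingHallOf S, x ^ m = 1 := fun x hx => by
    obtain ⟨k, rfl⟩ := Nat.modEq_zero_iff_dvd.1 hm0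
    rw [pow_mul, D.H_pow x hx, one_pow]
  have hC1 : ∀ c ∈ pairC S U, c ^ m = c := fun c hc => by
    have h : (⟨c, hc⟩ : ↥(pairC S U)) ^ m = ⟨c, hc⟩ := by
      conv_rhs => rw [← pow_one (⟨c, hc⟩ : ↥(pairC S U))]
      exact pow_eq_pow_iff_modEq.2 (hm1.of_dvd (orderOf_dvd_natCard _))
    exact congrArg Subtype.val h
  have hmem : ∀ y : nF S, ((y : S) : G) ^ m ∈ pairC S U := fun y => by
    obtain ⟨x, hx, c, hc, e⟩ := D.mem_fittingOf.1 y.2
    change ((y : S) : G) = x * c at e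
    rw [e, (show Commute x c from (D.C_comm_H hc hx).symm).mul_pow, hH x hx, one_mul, hC1 c hc]
    exact hc
  let π : nF S →* ↥(pairC S U) :=
    { toFun := fun y => ⟨_, hmem y⟩
      map_one' := Subtype.ext (by simp)
      map_mul' := fun a b => Subtype.ext (by
        show ((((a * b : nF S)) : S) : G) ^ m = _
        exact (show Commute ((a : S) : G) ((b : S) : G) from D.F_comm _ a.2 _ b.2).mul_pow m) }
  obtain ⟨ρ, hρ⟩ : ∃ ρ : ↥(pairC S U) →* ℂ, ρ ≠ 1 := by
    have h1 : 1 < Nat.card (↥(pairC S U) →* ℂ) := by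
      rw [card_hom_of_comm fun a b => Subtype.ext (D.U_comm _ a.2.1 _ b.2.1)]
      exact Subgroup.one_lt_card_iff_ne_bot _ |>.2 hC
    haveI : Finite (↥(pairC S U) →* ℂ) := Nat.finite_of_card_ne_zero (by omega)
    haveI := Finite.one_lt_card_iff_nontrivial.1 h1
    exact exists_ne 1
  obtain ⟨c, hc⟩ : ∃ c, ρ c ≠ 1 := by
    by_contra hne
    push Not at hne
    exact hρ (MonoidHom.ext hne)
  refine ⟨ρ.comp π, fun y hy => ?_, ⟨⟨c, D.F_le_S (D.C_le_F c.2)⟩, D.C_le_F c.2⟩, c.2, ?_⟩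
  · rw [MonoidHom.comp_apply, show π y = 1 from Subtype.ext (hH _ hy), map_one]
  · rw [MonoidHom.comp_apply,
      show π ⟨⟨c, D.F_le_S (D.C_le_F c.2)⟩, D.C_le_F c.2⟩ = c from Subtype.ext (hC1 _ c.2)]
    exact hc

/-- An element `w` of `W₁` moves every non-trivial character of `C`. -/
theorem eq_one_of_fixed {ρ : nF S →* ℂ} {w : G} (hw : w ∈ W₁) (hw1 : w ≠ 1)
    (h : ∀ y y' : nF S, ((y : S) : G) ∈ pairC S U → ((y' : S) : G) = w * ((y : S) : G) * w⁻¹ →
      ρ y' = ρ y) {y : nF S} (hy : ((y : S) : G) ∈ pairC S U) : ρ y = 1 := by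
  let f : ↥(pairC S U) → ↥(pairC S U) := fun c =>
    ⟨(c : G)⁻¹ * (w * c * w⁻¹), mul_mem (inv_mem c.2) (D.conj_mem_C hw c.2)⟩
  have hinj : Function.Injective f := by
    intro a b e
    have e' : (a : G)⁻¹ * (w * a * w⁻¹) = (b : G)⁻¹ * (w * b * w⁻¹) := congrArg Subtype.val e
    refine Subtype.ext (inv_mul_eq_one.1 (D.eq_one_of_commute hw hw1
      (mul_mem (inv_mem b.2.1) a.2.1) ?_)).symm
    have hcomm : ∀ a ∈ U, ∀ b ∈ U, a * b = b * a := D.U_comm
    refine mul_inv_eq_iff_eq_mul.1 ?_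
    calc w * ((b : G)⁻¹ * a) * w⁻¹ = (w * b * w⁻¹)⁻¹ * (w * a * w⁻¹) := by group
      _ = (w * b * w⁻¹)⁻¹ * ((a : G) * ((b : G)⁻¹ * (w * b * w⁻¹))) := by rw [← e']; group
      _ = (w * b * w⁻¹)⁻¹ * (((b : G)⁻¹ * (w * b * w⁻¹)) * a) := by
          rw [hcomm (a : G) a.2.1 _ (mul_mem (inv_mem b.2.1) (D.conj_mem_U hw b.2.1))]
      _ = (w * b * w⁻¹)⁻¹ * ((w * b * w⁻¹) * (b : G)⁻¹ * a) := by
          rw [hcomm (b : G)⁻¹ (inv_mem b.2.1) _ (D.conj_mem_U hw b.2.1)]
      _ = (b : G)⁻¹ * a := by group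
  obtain ⟨c, hc⟩ := Finite.surjective_of_injective hinj ⟨_, hy⟩
  let k : nF S := ⟨⟨c, D.F_le_S (D.C_le_F c.2)⟩, D.C_le_F c.2⟩
  have hk' := D.conj_mem_C hw c.2
  let k' : nF S := ⟨⟨_, D.F_le_S (D.C_le_F hk')⟩, D.C_le_F hk'⟩
  rw [show y = k⁻¹ * k' from Subtype.ext (Subtype.ext (congrArg Subtype.val hc).symm), map_mul,
    h k k' c.2 rfl, ← map_mul, inv_mul_cancel, map_one]

theorem relIndex_F : (fittingOf S).relIndex ⁅S, S⁆ = (pairC S U).relIndex U := by
  have h1 := Subgroup.relIndex_mul_relIndex ⊥ (fittingOf S) ⁅S, S⁆ bot_le D.F_le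
  rw [Subgroup.relIndex_bot_left, Subgroup.relIndex_bot_left, D.card_F,
    ← card_eq_of_isComplIn D.hP.U_compl, D.card_H, ← D.card_U, mul_assoc] at h1
  exact Nat.eq_of_mul_eq_mul_left Nat.card_pos
    (Nat.eq_of_mul_eq_mul_left (pow_pos D.p_prime.pos _) h1)

end PairSide

section Mu

variable [Fintype S] {A : Set G} {H : Subgroup G} {R : G → Subgroup G}
  {μ : (↥(W₁ ⊔ W₂) →* ℂˣ) → (S → ℂ)} {δ : (↥(W₁ ⊔ W₂) →* ℂˣ) → ℤ}
  (D : PairSide S W₁ U W₂) (P : PrimeDade A S ⁅S, S⁆ H W₁ W₂ R) (M : MuFamily S W₁ W₂ μ δ)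
include D P M

/-- Each `μ_j` is induced from a fixed linear character of `F(S)`; the orbits attached to distinct
`j` are distinct. -/
theorem exists_mu_orbits :
    ∃ (κ : Ann W₁ W₂ W₁ → (nF S →* ℂ)) (O : Ann W₁ W₂ W₁ → Finset (IrrCharacter (nF S))),
      (∀ ψ : Ann W₁ W₂ W₁, ψ.1 ≠ 1 →
        IsFixedLin S W₁ U (κ ψ) ∧ muSum ⁅S, S⁆ μ ψ = indFun (nF S) (κ ψ) ∧
        (O ψ).card = (pairC S U).relIndex U ∧
        (∀ g : S, (g : G) ∉ fittingOf S → muSum ⁅S, S⁆ μ ψ g = 0) ∧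
        ∀ y : nF S, muSum ⁅S, S⁆ μ ψ y = (Nat.card W₁ : ℂ) * ∑ η ∈ O ψ, η.1 y) ∧
      ∀ ψ ψ' : Ann W₁ W₂ W₁, ψ.1 ≠ 1 → ψ'.1 ≠ 1 → ψ ≠ ψ' → Disjoint (O ψ) (O ψ') := by
  classical
  haveI := (ann_facts P.selfNorm).1
  haveI : Fintype (Ann W₁ W₂ W₂) := Fintype.ofFinite _
  haveI := P.K_subgroupOf_normal
  haveI := D.nF_normal
  set K : Subgroup S := (⁅S, S⁆ : Subgroup G).subgroupOf S with hK
  haveI : Fintype K := Fintype.ofFinite _
  have hNK : nF S ≤ K := fun y hy => D.F_le hy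
  set N' : Subgroup K := (nF S).subgroupOf K with hN'
  haveI : N'.Normal := Subgroup.Normal.comap D.nF_normal K.subtype
  haveI : Fintype N' := Fintype.ofFinite _
  haveI : Fintype (nF S) := Fintype.ofFinite _
  let e : N' ≃* nF S := Subgroup.subgroupOfEquivOfLe hNK
  obtain ⟨kap, hkinj, hkap⟩ := D.exists_fixedLin
  let kap' : {χ : ↥W₂ →* ℂ // χ ≠ 1} → (N' →* ℂ) := fun χ => (kap χ).comp e.toMonoidHom
  have hfree : ∀ χ g, Char.conjFun N' (kap' χ) g = kap' χ → g ∈ N' := by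
    intro χ g hg
    refine D.mem_F_of_fixes (hkap χ) (g := ((g : S) : G)) g.2 fun y y' he => ?_
    obtain ⟨z, rfl⟩ := e.surjective y
    obtain ⟨z', rfl⟩ := e.surjective y'
    rw [show z' = MulAut.conjNormal g z from Subtype.ext (Subtype.ext (Subtype.ext (by
      rw [MulAut.conjNormal_apply]; exact he)))]
    exact congrFun hg z
  choose hirr hcard hform hzero using fun χ => freeOrbit N' (kap' χ) (hfree χ)
  have hind : ∀ χ, indFun K (indFun N' (kap' χ)) = indFun (nF S) (kap χ) := by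
    intro χ
    rw [Char.indFun_indFun]
    have hmap : N'.map K.subtype = nF S := Subgroup.map_subgroupOf_eq_of_le hNK
    rw [← indFun_congr hmap (kap χ)]
    congr 1
    funext s
    show kap χ (e ((N'.equivMapOfInjective _ K.subtype_injective).symm s)) = _
    refine congrArg (kap χ) (Subtype.ext ?_)
    have := congrArg Subtype.val
      ((N'.equivMapOfInjective _ K.subtype_injective).apply_symm_apply s)
    exact this
  have hψ : ∀ χ, ∃ ψ : Ann W₁ W₂ W₁, ψ.1 ≠ 1 ∧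
      indFun N' (kap' χ) = fun y : K => μ ψ.1 y := by
    intro χ
    rcases M.fixed_eq_res P (hirr χ) with h | ⟨ψ, h⟩
    · exfalso
      rw [hind χ] at h
      obtain ⟨w, hw, hw1⟩ := D.exists_gen
      refine not_irr_indFun_of_fixed (nF S) (kap χ) (g := ⟨w, D.W₁_le hw⟩) (fun hF => hw1 ?_)
        (funext fun y => (hkap χ).fixed w hw y _ (by rw [MulAut.conjNormal_apply]; rfl)) h
      have : w ∈ ⁅S, S⁆ ⊓ W₁ := ⟨D.F_le hF, hw⟩
      rwa [D.hP.W₁_compl.2.2.1, Subgroup.mem_bot] at this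
    · refine ⟨ψ, fun h1 => D.index_ne_one ?_, h⟩
      have h2 := congrFun h 1
      rw [h1, M.map_one P, Char.indFun_apply_one, map_one, mul_one, Nat.cast_eq_one] at h2
      rw [← D.relIndex_F, ← h2]
      exact (Subgroup.relIndex_subgroupOf P.K_le).symm
  choose ψ hψ1 hψeq using hψ
  have horb : ∀ χ χ', ∀ η, η ∈ Char.orbitFinset N' (Char.linIrr (kap' χ)) →
      η ∈ Char.orbitFinset N' (Char.linIrr (kap' χ')) → χ = χ' := by
    intro χ χ' η h h'
    obtain ⟨g, rfl⟩ := (Char.mem_orbitFinset N').1 h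
    obtain ⟨g', hgg⟩ := (Char.mem_orbitFinset N').1 h'
    have e1 : Char.conjFun N' (kap' χ) (g * g'⁻¹) = kap' χ' := by
      have h2 : Char.conjFun N' (kap' χ) g = Char.conjFun N' (kap' χ') g' :=
        congrArg Subtype.val hgg
      rw [Char.conjFun_mul, h2, ← Char.conjFun_mul, mul_inv_cancel, Char.conjFun_one]
    set k : K := g * g'⁻¹ with hk
    obtain ⟨a, ha, u, hu, hau⟩ := D.hP.U_compl.2.2.2 ((k : S) : G) k.2
    refine hkinj (D.fixedLin_eq_of_conj (hkap χ) (hkap χ') hu fun y y' he => ?_)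
    obtain ⟨z, rfl⟩ := e.surjective y
    obtain ⟨z', rfl⟩ := e.surjective y'
    rw [show z' = MulAut.conjNormal k z from Subtype.ext (Subtype.ext (Subtype.ext (by
      rw [MulAut.conjNormal_apply]
      show (((z' : K) : S) : G) = ((k : S) : G) * (((z : K) : S) : G) * ((k : S) : G)⁻¹
      have hu' : u * (((z : K) : S) : G) * u⁻¹ ∈ fittingOf S :=
        D.conj_mem_F (D.U_le_S hu) z.2
      rw [hau, show a * u * (((z : K) : S) : G) * (a * u)⁻¹ =
        a * (u * (((z : K) : S) : G) * u⁻¹) * a⁻¹ by group, D.F_comm a (D.H_le_F ha) _ hu',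
        mul_inv_cancel_right]
      exact he)))]
    exact congrFun e1 z
  have hψinj : Function.Injective fun χ => (⟨ψ χ, hψ1 χ⟩ : {ψ : Ann W₁ W₂ W₁ // ψ.1 ≠ 1}) := by
    intro χ χ' h
    have h' : ψ χ = ψ χ' := congrArg Subtype.val h
    have he : indFun N' (kap' χ) = indFun N' (kap' χ') := by rw [hψeq, hψeq, h']
    -- compare the orbit sums
    by_contra hne
    have h0 := congrArg (fun f => classInner (fun y : N' => f y) (kap' χ)) he
    simp only [hform] at h0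
    rw [show (fun y : N' => ∑ η ∈ Char.orbitFinset N' (Char.linIrr (kap' χ)), η.1 y) =
        ∑ η ∈ Char.orbitFinset N' (Char.linIrr (kap' χ)), η.1 from
        funext fun y => (Finset.sum_apply _ _ _).symm,
      show (fun y : N' => ∑ η ∈ Char.orbitFinset N' (Char.linIrr (kap' χ')), η.1 y) =
        ∑ η ∈ Char.orbitFinset N' (Char.linIrr (kap' χ')), η.1 from
        funext fun y => (Finset.sum_apply _ _ _).symm,
      Char.classInner_sum_left, Char.classInner_sum_left,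
      Finset.sum_eq_zero (fun η hη => ?_) (s := Char.orbitFinset N' (Char.linIrr (kap' χ'))),
      Finset.sum_eq_single (Char.linIrr (kap' χ))] at h0
    · exact one_ne_zero ((Char.classInner_irr_self (Char.linIrr (kap' χ)).2).symm.trans h0)
    · exact fun η _ hη => Char.classInner_irr_of_ne η.2 (Char.linIrr (kap' χ)).2
        fun h => hη (Subtype.ext h)
    · exact fun h => absurd ((Char.mem_orbitFinset N').2 ⟨1, Subtype.ext (by simp)⟩) h
    · refine Char.classInner_irr_of_ne η.2 (Char.linIrr (kap' χ)).2 fun h2 => hne ?_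
      exact horb χ χ' _ ((Char.mem_orbitFinset N').2 ⟨1, Subtype.ext (by simp)⟩)
        (show Char.linIrr (kap' χ) ∈ _ by rwa [← show η = Char.linIrr (kap' χ) from Subtype.ext h2])
  haveI : Finite {χ : ↥W₂ →* ℂ // χ ≠ 1} := Finite.of_injective _ hψinj
  have hbij := (Nat.bijective_iff_injective_and_card _).2 ⟨hψinj, by
    have h1 : Nat.card (↥W₂ →* ℂ) = Nat.card W₂ := card_hom_of_comm fun a b =>
      Subtype.ext (D.H_comm _ (D.W₂_le a.2) _ (D.W₂_le b.2))
    haveI : Finite (↥W₂ →* ℂ) := Nat.finite_of_card_ne_zero (h1 ▸ Nat.card_pos.ne')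
    haveI := Fintype.ofFinite (↥W₂ →* ℂ)
    haveI : Fintype (Ann W₁ W₂ W₁) := Fintype.ofFinite _
    rw [Nat.card_eq_fintype_card, Nat.card_eq_fintype_card, Fintype.card_subtype_compl,
      Fintype.card_subtype_compl, Fintype.card_subtype_eq, ← Nat.card_eq_fintype_card, h1]
    have h2 : Fintype.card {x : Ann W₁ W₂ W₁ // x.1 = 1} = 1 := by
      rw [Fintype.card_eq_one_iff]
      exact ⟨⟨⟨1, fun _ _ => rfl⟩, rfl⟩, fun x => Subtype.ext (Subtype.ext x.2)⟩
    rw [h2, ← Nat.card_eq_fintype_card, (ann_facts P.selfNorm).2.2.1]⟩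
  obtain ⟨χ₀⟩ : Nonempty {χ : ↥W₂ →* ℂ // χ ≠ 1} := by
    obtain ⟨⟨ψ', hψ'⟩⟩ : Nonempty {ψ : Ann W₁ W₂ W₁ // ψ.1 ≠ 1} := by
      have h3 := (three_le_card P.selfNorm P.oddW).2
      rw [← (ann_facts P.selfNorm).2.2.1] at h3
      obtain ⟨a, b, hab⟩ := (Finite.one_lt_card_iff_nontrivial.1
        (show 1 < Nat.card (Ann W₁ W₂ W₁) by omega)).exists_pair_ne
      by_cases ha : a.1 = 1
      · exact ⟨⟨b, fun hb => hab (Subtype.ext (ha.trans hb.symm))⟩⟩
      · exact ⟨⟨a, ha⟩⟩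
    exact ⟨(hbij.2 ⟨ψ', hψ'⟩).choose⟩
  let inv : Ann W₁ W₂ W₁ → {χ : ↥W₂ →* ℂ // χ ≠ 1} := fun a =>
    if h : a.1 ≠ 1 then (hbij.2 ⟨a, h⟩).choose else χ₀
  have hinv : ∀ a : Ann W₁ W₂ W₁, a.1 ≠ 1 → ψ (inv a) = a := fun a h => by
    simp only [inv, dif_pos h]
    exact congrArg Subtype.val (hbij.2 ⟨a, h⟩).choose_spec
  let tr : IrrCharacter N' ↪ IrrCharacter (nF S) :=
    ⟨fun η => ⟨fun y => η.1 (e.symm y),
        Char.IsIrrCharacter.comp_surjective η.2 e.symm.toMonoidHom e.symm.surjective⟩,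
      fun a b h => Subtype.ext (funext fun z => by
        have := congrFun (congrArg Subtype.val h) (e z)
        simpa using this)⟩
  refine ⟨fun a => kap (inv a),
    fun a => (Char.orbitFinset N' (Char.linIrr (kap' (inv a)))).map tr, fun a ha => ?_,
    fun a a' ha ha' hne => ?_⟩
  · have hsum : muSum ⁅S, S⁆ μ a = indFun K (fun y => μ a.1 y) := rfl
    have heq : (fun y : K => μ a.1 y) = indFun N' (kap' (inv a)) := by rw [hψeq, hinv a ha]
    have hq : ∀ y : K, muSum ⁅S, S⁆ μ a y = (Nat.card W₁ : ℂ) * indFun N' (kap' (inv a)) y := by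
      intro y
      rw [M.muSum_eq P, Finset.sum_apply,
        Finset.sum_congr rfl fun φ _ => M.apply_twist P a.1 φ.1 φ.2 y.2, Finset.sum_const,
        Finset.card_univ, ← Nat.card_eq_fintype_card, (ann_facts P.selfNorm).2.1, nsmul_eq_mul,
        ← congrFun heq y]
    refine ⟨hkap _, by rw [hsum, heq, hind], ?_, fun g hg => ?_, fun y => ?_⟩
    · rw [Finset.card_map, hcard, ← D.relIndex_F]
      exact Subgroup.relIndex_subgroupOf P.K_le
    · by_cases hgK : g ∈ K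
      · rw [show g = ((⟨g, hgK⟩ : K) : S) from rfl, hq,
          hzero (inv a) ⟨g, hgK⟩ (fun h => hg h), mul_zero]
      · rw [hsum]; exact Char.indFun_of_notMem_normal _ _ hgK
    · have h1 : muSum ⁅S, S⁆ μ a (y : S) =
          muSum ⁅S, S⁆ μ a (((e.symm y : N') : K) : S) := rfl
      rw [h1, hq, hform, Finset.sum_map]
      rfl
  · rw [Finset.disjoint_left]
    intro η h h'
    obtain ⟨η₁, h1, rfl⟩ := Finset.mem_map.1 h
    obtain ⟨η₂, h2, he⟩ := Finset.mem_map.1 h'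
    rw [tr.injective he] at h2
    exact hne (by rw [← hinv a ha, ← hinv a' ha', horb _ _ _ h1 h2])

/-- For `C ≠ 1`: two irreducible characters of degree `q |U : C|` vanishing off `F(S)` that agree
with some `μ_j` on `S_F`. -/
theorem exists_lambda (hC : pairC S U ≠ ⊥) :
    ∃ (ψ₀ : Ann W₁ W₂ W₁) (l l' : S → ℂ) (O O' : Finset (IrrCharacter (nF S))), ψ₀.1 ≠ 1 ∧
      IsIrrCharacter S l ∧ IsIrrCharacter S l' ∧ l ≠ l' ∧
      (∀ g : S, (g : G) ∉ fittingOf S → l g = 0 ∧ l' g = 0) ∧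
      (∀ y : nF S, l y = ∑ η ∈ O, η.1 y ∧ l' y = ∑ η ∈ O', η.1 y) ∧
      O.card = Nat.card W₁ * (pairC S U).relIndex U ∧
      O'.card = Nat.card W₁ * (pairC S U).relIndex U ∧ Disjoint O O' ∧
      ∀ g : S, (g : G) ∈ fittingHallOf S →
        l g = muSum ⁅S, S⁆ μ ψ₀ g ∧ l' g = muSum ⁅S, S⁆ μ ψ₀ g := by
  classical
  haveI := (ann_facts P.selfNorm).1
  haveI := D.nF_normal
  haveI : Fintype (nF S) := Fintype.ofFinite _
  obtain ⟨κ, O, hO, -⟩ := exists_mu_orbits D P M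
  obtain ⟨ψ₀, hψ₀⟩ : ∃ ψ : Ann W₁ W₂ W₁, ψ.1 ≠ 1 := by
    have h3 := (three_le_card P.selfNorm P.oddW).2
    rw [← (ann_facts P.selfNorm).2.2.1] at h3
    obtain ⟨a, b, hab⟩ := (Finite.one_lt_card_iff_nontrivial.1
      (show 1 < Nat.card (Ann W₁ W₂ W₁) by omega)).exists_pair_ne
    by_cases ha : a.1 = 1
    · exact ⟨b, fun hb => hab (Subtype.ext (ha.trans hb.symm))⟩
    · exact ⟨a, ha⟩
  obtain ⟨hκ, hμ, -⟩ := hO ψ₀ hψ₀
  obtain ⟨ρ, hρH, y₀, hy₀, hρne⟩ := D.exists_ext_C hC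
  let ρ' : nF S →* ℂ :=
    { toFun := fun y => ρ y⁻¹
      map_one' := by simp
      map_mul' := fun a b => by
        have hcomm : a * b = b * a := Subtype.ext (Subtype.ext (D.F_comm _ a.2 _ b.2))
        rw [← map_mul, ← mul_inv_rev, hcomm] }
  set k₁ : nF S →* ℂ := κ ψ₀ * ρ with hk₁
  set k₂ : nF S →* ℂ := κ ψ₀ * ρ' with hk₂
  have hρ'H : ∀ y : nF S, ((y : S) : G) ∈ fittingHallOf S → ρ' y = 1 := fun y hy =>
    hρH _ (inv_mem hy : ((y : S) : G)⁻¹ ∈ fittingHallOf S)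
  have hρ'ne : ρ' y₀ ≠ 1 := fun h => hρne (by
    have h1 := map_mul ρ y₀ y₀⁻¹
    rw [mul_inv_cancel, map_one, show ρ y₀⁻¹ = 1 from h, mul_one] at h1
    exact h1.symm)
  -- an element moving one of the twists into another one acts on `C` through `W₁`
  have move : ∀ (r r' : nF S →* ℂ),
      (∀ y : nF S, ((y : S) : G) ∈ fittingHallOf S → r y = 1) →
      (∀ y : nF S, ((y : S) : G) ∈ fittingHallOf S → r' y = 1) →
      ∀ g : S, Char.conjFun (nF S) (κ ψ₀ * r : nF S →* ℂ) g = (κ ψ₀ * r' : nF S →* ℂ) →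
      ∃ w ∈ W₁, (w = 1 → (g : G) ∈ fittingOf S) ∧
        ∀ y y' : nF S, ((y : S) : G) ∈ pairC S U →
          ((y' : S) : G) = w * ((y : S) : G) * w⁻¹ → r y' = r' y := by
    intro r r' hr hr' g hg
    obtain ⟨k, hk, w, hw, hgkw⟩ := D.hP.W₁_compl.2.2.2 (g : G) g.2
    obtain ⟨a, ha, u, hu, rfl⟩ := D.hP.U_compl.2.2.2 k hk
    have hconj : ∀ y y' : nF S,
        ((y' : S) : G) = (g : G) * ((y : S) : G) * (g : G)⁻¹ →
        (κ ψ₀) y' * r y' = (κ ψ₀) y * r' y := fun y y' he => by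
      rw [show y' = MulAut.conjNormal g y from Subtype.ext (Subtype.ext (by
        rw [MulAut.conjNormal_apply]; exact he))]
      exact congrFun hg y
    have huC : u ∈ pairC S U := by
      refine D.mem_C_of_fixes hκ hu fun x hx y e => ?_
      have hx' := D.conj_mem_H (S.inv_mem (D.W₁_le hw)) hx
      let z : nF S := ⟨⟨_, D.H_le_S hx'⟩, D.H_le_F hx'⟩
      have hgz : ((y : S) : G) = (g : G) * ((z : S) : G) * (g : G)⁻¹ := by
        show _ = (g : G) * (w⁻¹ * x * w⁻¹⁻¹) * (g : G)⁻¹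
        rw [hgkw, show a * u * w * (w⁻¹ * x * w⁻¹⁻¹) * (a * u * w)⁻¹ =
          a * (u * x * u⁻¹) * a⁻¹ by group, D.H_comm a ha _ (D.conj_mem_H (D.U_le_S hu) hx),
          mul_inv_cancel_right, e]
      have h1 := hconj z y hgz
      rw [hr' z hx', hr y (by rw [e]; exact D.conj_mem_H (D.U_le_S hu) hx), mul_one, mul_one] at h1
      rw [h1]
      exact (hκ.fixed w hw z ⟨⟨x, D.H_le_S hx⟩, D.H_le_F hx⟩
        (show x = w * (w⁻¹ * x * w⁻¹⁻¹) * w⁻¹ by group)).symm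
    have hauF : a * u ∈ fittingOf S := mul_mem (D.H_le_F ha) (D.C_le_F huC)
    refine ⟨w, hw, fun h1 => by rw [hgkw, h1, mul_one]; exact hauF, fun y y' hy he => ?_⟩
    have h1 := hconj y y' (by
      have hwy : w * ((y : S) : G) * w⁻¹ ∈ fittingOf S := D.conj_mem_F (D.W₁_le hw) y.2
      rw [hgkw, he, show a * u * w * ((y : S) : G) * (a * u * w)⁻¹ =
        a * u * (w * ((y : S) : G) * w⁻¹) * (a * u)⁻¹ by group, D.F_comm _ hauF _ hwy,
        mul_inv_cancel_right])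
    rw [hκ.trivial_C y hy, hκ.trivial_C y' (by rw [he]; exact D.conj_mem_C hw hy), one_mul,
      one_mul] at h1
    exact h1
  have hfree : ∀ (r : nF S →* ℂ),
      (∀ y : nF S, ((y : S) : G) ∈ fittingHallOf S → r y = 1) → r y₀ ≠ 1 →
      ∀ g : S, Char.conjFun (nF S) (κ ψ₀ * r : nF S →* ℂ) g = (κ ψ₀ * r : nF S →* ℂ) →
        g ∈ nF S := by
    intro r hr hne g hg
    obtain ⟨w, hw, h1, h2⟩ := move r r hr hr g hg
    by_contra hgF
    exact hne (D.eq_one_of_fixed hw (fun h => hgF (h1 h)) h2 hy₀)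
  obtain ⟨hl, hlcard, hlform, hlzero⟩ := freeOrbit (nF S) k₁ (hfree ρ hρH hρne)
  obtain ⟨hl', hlcard', hlform', hlzero'⟩ := freeOrbit (nF S) k₂ (hfree ρ' hρ'H hρ'ne)
  have hindex : (nF S).index = Nat.card W₁ * (pairC S U).relIndex U := by
    have h1 := (nF S).card_mul_index
    rw [Coprime.card_subgroupOf D.F_le_S, D.card_F, D.card_S, ← D.card_U] at h1
    refine Nat.eq_of_mul_eq_mul_left (Nat.mul_pos (pow_pos D.p_prime.pos _) Nat.card_pos)
      (h1.trans ?_)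
    ring
  have hdisj : Disjoint (Char.orbitFinset (nF S) (Char.linIrr k₁))
      (Char.orbitFinset (nF S) (Char.linIrr k₂)) := by
    rw [Finset.disjoint_left]
    intro η h h'
    obtain ⟨g, rfl⟩ := (Char.mem_orbitFinset _).1 h
    obtain ⟨g', hgg⟩ := (Char.mem_orbitFinset _).1 h'
    have e1 : Char.conjFun (nF S) k₁ (g * g'⁻¹) = k₂ := by
      have h2 : Char.conjFun (nF S) k₁ g = Char.conjFun (nF S) k₂ g' := congrArg Subtype.val hgg
      rw [Char.conjFun_mul, h2, ← Char.conjFun_mul, mul_inv_cancel, Char.conjFun_one]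
    obtain ⟨w, hw, -, h2⟩ := move ρ ρ' hρH hρ'H _ e1
    have hsq : ∀ y y' : nF S, ((y : S) : G) ∈ pairC S U →
        ((y' : S) : G) = (w * w) * ((y : S) : G) * (w * w)⁻¹ → ρ y' = ρ y := fun y y' hy he => by
      have hy1 := D.conj_mem_C hw hy
      let y1 : nF S := ⟨⟨_, D.F_le_S (D.C_le_F hy1)⟩, D.C_le_F hy1⟩
      rw [h2 y1 y' hy1 (show _ = w * (w * ((y : S) : G) * w⁻¹) * w⁻¹ by rw [he]; group)]
      exact h2 y⁻¹ y1⁻¹ (inv_mem hy :) (show (w * ((y : S) : G) * w⁻¹)⁻¹ =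
        w * ((y : S) : G)⁻¹ * w⁻¹ by group) |>.trans (by
          show ρ y⁻¹⁻¹ = ρ y; rw [inv_inv])
    by_cases hw1 : w = 1
    · have h3 : ρ y₀ = ρ y₀⁻¹ := h2 y₀ y₀ hy₀ (by rw [hw1]; group)
      have h4 : ρ (y₀ ^ 2) = 1 := by
        rw [pow_two, map_mul]
        nth_rw 2 [h3]
        rw [← map_mul, mul_inv_cancel, map_one]
      have hodd : Odd (orderOf y₀) := D.oddG.of_dvd_nat
        ((orderOf_dvd_natCard y₀).trans ((nF S).card_subgroup_dvd_card.trans
          S.card_subgroup_dvd_card))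
      obtain ⟨m, hm⟩ := exists_pow_eq_self_of_coprime
        ((Nat.coprime_two_left).2 hodd)
      refine hρne ?_
      rw [← hm, map_pow, h4, one_pow]
    · refine hρne (D.eq_one_of_fixed (w := w * w) (mul_mem hw hw) (fun h => hw1 ?_) hsq hy₀)
      obtain ⟨m, hm⟩ := D.q_odd
      have hord := congrArg Subtype.val (pow_card_eq_one' (x := (⟨w, hw⟩ : W₁)))
      rw [Subgroup.coe_pow, hm, pow_succ, pow_mul, pow_two, h, one_pow, one_mul,
        Subgroup.coe_one] at hord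
      exact hord
  have hP : ∀ (r : nF S →* ℂ), (∀ y : nF S, ((y : S) : G) ∈ fittingHallOf S → r y = 1) →
      ∀ g : S, (g : G) ∈ fittingHallOf S →
        indFun (nF S) (κ ψ₀ * r : nF S →* ℂ) g = muSum ⁅S, S⁆ μ ψ₀ g := by
    intro r hr g hg
    rw [hμ]
    simp only [indFun]
    congr 1
    refine Finset.sum_congr rfl fun x _ => ?_
    have hx : ((x⁻¹ * g * x : S) : G) ∈ fittingHallOf S := by
      have := D.conj_mem_H (S.inv_mem x.2) hg
      simpa using this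
    have hxF : x⁻¹ * g * x ∈ nF S := D.H_le_F hx
    rw [Char.extendByZero_of_mem _ _ hxF, Char.extendByZero_of_mem _ _ hxF]
    show κ ψ₀ _ * r _ = _
    rw [hr _ hx, mul_one]
  refine ⟨ψ₀, indFun (nF S) k₁, indFun (nF S) k₂, _, _, hψ₀, hl, hl', fun h => ?_,
    fun g hg => ⟨hlzero g hg, hlzero' g hg⟩, fun y => ⟨hlform y, hlform' y⟩,
    hlcard.trans hindex, hlcard'.trans hindex, hdisj,
    fun g hg => ⟨hP ρ hρH g hg, hP ρ' hρ'H g hg⟩⟩
  have hres : ∀ n : nF S, (Char.linIrr k₁).1 ⟨n, le_rfl (a := nF S) n.2⟩ =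
      ((1 : ℕ) : ℂ) * (Char.linIrr k₁).1 n := by simp
  have hmem : Char.linIrr k₁ ∈ Char.orbitFinset (nF S) (Char.linIrr k₁) :=
    (Char.mem_orbitFinset _).2 ⟨1, Subtype.ext (by simp)⟩
  have h0 := congrArg (fun f => classInner (fun y : nF S => f y) (Char.linIrr k₁).1) h
  simp only [hlform, hlform'] at h0
  rw [show (fun y : nF S => ∑ η ∈ Char.orbitFinset (nF S) (Char.linIrr k₁), η.1 y) =
      ∑ η ∈ Char.orbitFinset (nF S) (Char.linIrr k₁), η.1 from
      funext fun y => (Finset.sum_apply _ _ _).symm,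
    show (fun y : nF S => ∑ η ∈ Char.orbitFinset (nF S) (Char.linIrr k₂), η.1 y) =
      ∑ η ∈ Char.orbitFinset (nF S) (Char.linIrr k₂), η.1 from
      funext fun y => (Finset.sum_apply _ _ _).symm,
    Char.classInner_sum_left, Char.classInner_sum_left,
    Finset.sum_eq_zero (fun η hη => ?_) (s := Char.orbitFinset (nF S) (Char.linIrr k₂)),
    Finset.sum_eq_single (Char.linIrr k₁)] at h0
  · exact one_ne_zero ((Char.classInner_irr_self (Char.linIrr k₁).2).symm.trans h0)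
  · exact fun η _ hη => Char.classInner_irr_of_ne η.2 (Char.linIrr k₁).2
      fun h => hη (Subtype.ext h)
  · exact fun h => absurd hmem h
  · exact Char.classInner_irr_of_ne η.2 (Char.linIrr k₁).2 fun h2 =>
      Finset.disjoint_left.1 hdisj hmem (by rwa [← show η = Char.linIrr k₁ from Subtype.ext h2])

end Mu

end Cfsg.Agent.OddOrder.PF
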