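import Cfsg.Agent.Lib.OddOrder.PF.S13_Setup
import Cfsg.Agent.Lib.OddOrder.PF.SubCoherent
import Cfsg.Agent.Lib.Char.Clifford
import Cfsg.Agent.Lib.Char.Monomial

/-!
The characters of Peterfalvi 13 induced from linear characters of `F(S) = P × C`.

* `freeOrbit`: inducing a linear character of a normal subgroup with trivial inertia quotient;
* `exists_mu_orbits`: each `μ_j`, `j ≠ 0`, vanishes off `F(S)`, where it is `q` times the sum of
  an orbit of `|U : C|` linear characters, distinct orbits for distinct `j`;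
* `exists_lambda`: for `C ≠ 1` two irreducible characters of degree `q |U : C|` vanishing off
  `F(S)` and agreeing on `P` with one of the `μ_j`.
-/

set_option autoImplicit false
set_option linter.style.haveILetI false
set_option linter.unusedSectionVars false

namespace Cfsg.Agent.OddOrder.PF

open Cfsg Cfsg.Agent Cfsg.Agent.OddOrder
open scoped commutatorElement

universe u

section Generic

variable {X : Type u} [Group X] [Fintype X] (N : Subgroup X) [N.Normal] [Fintype N]

/-- Inducing a linear character of `N` fixed only by `N`. -/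
theorem freeOrbit (κ : N →* ℂ) (hfree : ∀ g, Char.conjFun N κ g = κ → g ∈ N) :
    IsIrrCharacter X (indFun N κ) ∧
      (Char.orbitFinset N (Char.linIrr κ)).card = N.index ∧
      (∀ y : N, indFun N κ y = ∑ η ∈ Char.orbitFinset N (Char.linIrr κ), η.1 y) ∧
      ∀ g : X, g ∉ N → indFun N κ g = 0 := by
  classical
  set θ : IrrCharacter N := Char.linIrr κ with hθ
  have hres : ∀ n : N, θ.1 ⟨n, le_rfl (a := N) n.2⟩ = ((1 : ℕ) : ℂ) * θ.1 n := by simp
  have hfree' : ∀ g, Char.conjFun N θ.1 g = θ.1 → g ∈ N := hfree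
  have hfix : ∀ g, Char.conjFun N θ.1 g = θ.1 ↔ g ∈ N := fun g =>
    ⟨hfree' g, Char.inertia_fixes N N le_rfl θ
      (Char.IsCharacter.isClassFunction (Char.irr_isCharacter θ)) (by norm_num) hres⟩
  have hfib : ∀ η ∈ Char.orbitFinset N θ,
      (Finset.univ.filter fun g => Char.conjChar N θ g = η).card = Nat.card N := by
    intro η hη
    obtain ⟨g₀, rfl⟩ := (Char.mem_orbitFinset N).1 hη
    have key : ∀ g, Char.conjChar N θ g = Char.conjChar N θ g₀ ↔ g * g₀⁻¹ ∈ N := fun g => by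
      rw [← hfix, Char.conjFun_mul]
      refine ⟨fun h => ?_, fun h => Subtype.ext ?_⟩
      · rw [show Char.conjFun N θ.1 g = Char.conjFun N θ.1 g₀ from congrArg Subtype.val h,
          ← Char.conjFun_mul, mul_inv_cancel, Char.conjFun_one]
      · show Char.conjFun N θ.1 g = Char.conjFun N θ.1 g₀
        have h2 := congrArg (fun f => Char.conjFun N f g₀) h
        rwa [← Char.conjFun_mul N (Char.conjFun N θ.1 g), inv_mul_cancel, Char.conjFun_one] at h2
    rw [Nat.card_eq_fintype_card, ← Finset.card_univ]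
    refine Finset.card_bij (fun g hg => (⟨g * g₀⁻¹, (key g).1 (Finset.mem_filter.1 hg).2⟩ : N))
      (fun _ _ => Finset.mem_univ _) (fun a _ b _ h => by
        have h' : a * g₀⁻¹ = b * g₀⁻¹ := congrArg Subtype.val h
        exact mul_right_cancel h') fun n _ => ⟨n * g₀, ?_, Subtype.ext (by simp)⟩
    exact Finset.mem_filter.2 ⟨Finset.mem_univ _, (key _).2 (by simp)⟩
  have hN0 : (Nat.card N : ℂ) ≠ 0 := Nat.cast_ne_zero.2 Nat.card_pos.ne'
  refine ⟨Char.isIrrCharacter_indFun_inertia N N le_rfl θ hfree' (ψ := θ) one_ne_zero hres, ?_,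
    fun y => ?_, fun g hg => Char.indFun_of_notMem_normal _ _ hg⟩
  · have h1 := Finset.card_eq_sum_card_fiberwise (f := Char.conjChar N θ) (s := Finset.univ)
      (t := Char.orbitFinset N θ) fun g _ => (Char.mem_orbitFinset N).2 ⟨g, rfl⟩
    rw [Finset.sum_congr rfl hfib, Finset.sum_const, smul_eq_mul, Finset.card_univ,
      ← Nat.card_eq_fintype_card, ← N.index_mul_card] at h1
    exact (Nat.eq_of_mul_eq_mul_right Nat.card_pos h1).symm
  · have h1 := congrFun (Char.resFun_indFun N θ.1) y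
    rw [Char.resFun_apply, Pi.smul_apply, Finset.sum_apply, smul_eq_mul] at h1
    refine h1.trans ?_
    rw [show ∑ g : X, Char.conjFun N θ.1 g y = ∑ g : X, (Char.conjChar N θ g).1 y from rfl,
      ← Finset.sum_fiberwise_of_maps_to (t := Char.orbitFinset N θ) (g := Char.conjChar N θ)
        fun g _ => (Char.mem_orbitFinset N).2 ⟨g, rfl⟩,
      Finset.mul_sum]
    refine Finset.sum_congr rfl fun η hη => ?_
    rw [Finset.sum_congr rfl (fun g hg => by rw [(Finset.mem_filter.1 hg).2] :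
        ∀ g ∈ Finset.univ.filter (fun g => Char.conjChar N θ g = η),
          (Char.conjChar N θ g).1 y = η.1 y),
      Finset.sum_const, hfib η hη, nsmul_eq_mul, ← mul_assoc, inv_mul_cancel₀ hN0, one_mul]

/-- If a linear character is fixed outside `N`, it does not induce irreducibly. -/
theorem not_irr_indFun_of_fixed (κ : N →* ℂ) {g : X} (hg : g ∉ N)
    (hfix : Char.conjFun N κ g = κ) : ¬ IsIrrCharacter X (indFun N κ) := by
  classical
  intro h
  set θ : IrrCharacter N := Char.linIrr κ with hθ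
  have hN0 : (Nat.card N : ℂ) ≠ 0 := Nat.cast_ne_zero.2 Nat.card_pos.ne'
  have h1 := Char.classInner_irr_self h
  rw [Char.classInner_indFun N _ (Char.isClassFunction_indFun _ _), ← Char.conj_classInner] at h1
  rw [show (fun y : N => indFun N κ (y : X)) = Char.resFun N (indFun N θ.1) from rfl,
    Char.resFun_indFun, Char.classInner_smul_left, Char.classInner_sum_left,
    Finset.sum_congr rfl (fun x _ => (show classInner (Char.conjFun N θ.1 x) κ =
      if Char.conjFun N θ.1 x = θ.1 then 1 else 0 by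
        split_ifs with e
        · rw [e]; exact Char.classInner_irr_self θ.2
        · exact Char.classInner_irr_of_ne (Char.isIrrCharacter_conjFun N θ.2 x) θ.2 e)),
    Finset.sum_boole, map_mul, map_inv₀, map_natCast, map_natCast,
    inv_mul_eq_one₀ hN0, Nat.cast_inj] at h1
  have hres : ∀ n : N, θ.1 ⟨n, le_rfl (a := N) n.2⟩ = ((1 : ℕ) : ℂ) * θ.1 n := by simp
  have hsub : insert g (Finset.univ.filter (· ∈ N)) ⊆
      Finset.univ.filter fun x => Char.conjFun N θ.1 x = θ.1 := by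
    intro x hx
    rw [Finset.mem_filter]
    refine ⟨Finset.mem_univ _, ?_⟩
    rcases Finset.mem_insert.1 hx with rfl | hx
    · exact hfix
    · exact Char.inertia_fixes N N le_rfl θ
        (Char.IsCharacter.isClassFunction (Char.irr_isCharacter θ)) (by norm_num) hres
        (Finset.mem_filter.1 hx).2
  have hcard : (Finset.univ.filter (· ∈ N)).card = Nat.card N := by
    rw [Nat.card_eq_fintype_card, Fintype.card_subtype]
  have := Finset.card_le_card hsub
  rw [Finset.card_insert_of_notMem (by simpa using hg), hcard, ← h1] at this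
  omega

end Generic

variable {G : Type u} [Group G] [Finite G] {S W₁ U W₂ : Subgroup G}

/-- `F(S)` inside `S`. -/
abbrev nF (S : Subgroup G) : Subgroup S := (fittingOf S).subgroupOf S

/-- A linear character of `F(S)` fixed by `W₁`, trivial on `C` and non-trivial on `S_F`. -/
structure IsFixedLin (S W₁ U : Subgroup G) (κ : nF S →* ℂ) : Prop where
  fixed : ∀ w ∈ W₁, ∀ y y' : nF S, ((y' : S) : G) = w * ((y : S) : G) * w⁻¹ → κ y' = κ y
  trivial_C : ∀ y : nF S, ((y : S) : G) ∈ pairC S U → κ y = 1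
  nontrivial : ∃ y : nF S, ((y : S) : G) ∈ fittingHallOf S ∧ κ y ≠ 1

namespace PairSide

variable (D : PairSide S W₁ U W₂)
include D

theorem nF_normal : (nF S).Normal :=
  (Subgroup.normal_subgroupOf_iff_le_normalizer D.F_le_S).2 (le_normalizer_fittingOf S)

/-- An element of `U` fixing `κ` on `S_F` lies in `C`. -/
theorem mem_C_of_fixes {κ : nF S →* ℂ} (hκ : IsFixedLin S W₁ U κ) {u : G} (hu : u ∈ U)
    (h : ∀ x (hx : x ∈ fittingHallOf S) (y : nF S), ((y : S) : G) = u * x * u⁻¹ →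
      κ y = κ ⟨⟨x, D.H_le_S hx⟩, D.H_le_F hx⟩) :
    u ∈ pairC S U := by
  classical
  let lift : ∀ x, x ∈ fittingHallOf S → nF S := fun x hx => ⟨⟨x, D.H_le_S hx⟩, D.H_le_F hx⟩
  let E : Subgroup G :=
    { carrier := {v | v ∈ U ∧ ∀ x (hx : x ∈ fittingHallOf S) (y : nF S),
        ((y : S) : G) = v * x * v⁻¹ → κ y = κ (lift x hx)}
      one_mem' := ⟨one_mem _, fun x hx y e => congrArg κ (Subtype.ext (Subtype.ext (by
        rw [e, one_mul, inv_one, mul_one])))⟩
      mul_mem' := fun {a b} ha hb => ⟨mul_mem ha.1 hb.1, fun x hx y e => by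
        have hb' := D.conj_mem_H (D.U_le_S hb.1) hx
        rw [ha.2 _ hb' y (by rw [e]; group), hb.2 x hx _ rfl]⟩
      inv_mem' := fun {a} ha => ⟨inv_mem ha.1, fun x hx y e => by
        have hy' := D.conj_mem_H (S.inv_mem (D.U_le_S ha.1)) hx
        rw [show y = lift _ hy' from Subtype.ext (Subtype.ext e),
          ← ha.2 _ hy' (lift x hx) (show x = a * (a⁻¹ * x * a⁻¹⁻¹) * a⁻¹ by group)]⟩ }
  have key : ∀ w ∈ W₁, ∀ v ∈ E, w * v * w⁻¹ ∈ E := fun w hw v hv => by
    refine ⟨D.conj_mem_U hw hv.1, fun x hx y e => ?_⟩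
    have hx' := D.conj_mem_H (S.inv_mem (D.W₁_le hw)) hx
    have hvx := D.conj_mem_H (D.U_le_S hv.1) hx'
    rw [hκ.fixed w hw (lift _ hvx) y (by rw [e]; show _ = w * (v * (w⁻¹ * x * w⁻¹⁻¹) * v⁻¹) * w⁻¹
                                         group),
      hv.2 _ hx' (lift _ hvx) rfl, ← hκ.fixed w hw (lift _ hx') (lift x hx)
        (show x = w * (w⁻¹ * x * w⁻¹⁻¹) * w⁻¹ by group)]
  have hWn : W₁ ≤ Subgroup.normalizer (E : Set G) := fun w hw => Subgroup.mem_normalizer_iff.2 fun v =>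
    ⟨key w hw v, fun hv => by simpa [mul_assoc] using key w⁻¹ (inv_mem hw) _ hv⟩
  set Y : Subgroup G := ⁅fittingHallOf S, E⁆ with hY
  have hEU : E ≤ U := fun v hv => hv.1
  have hYle : Y ≤ fittingHallOf S :=
    Coprime.commutator_le_left_of_le_normalizer ((hEU.trans D.U_le_S).trans D.S_le_normalizer)
  have hnorm : ∀ g : G, g ∈ Subgroup.normalizer (fittingHallOf S : Set G) →
      g ∈ Subgroup.normalizer (E : Set G) → g ∈ Subgroup.normalizer (Y : Set G) := fun g h1 h2 => by
    refine Subgroup.mem_normalizer_iff_map_conj_eq.2 ?_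
    rw [hY, Subgroup.map_commutator, Subgroup.mem_normalizer_iff_map_conj_eq.1 h1,
      Subgroup.mem_normalizer_iff_map_conj_eq.1 h2]
  rcases D.irred hYle (fun g hg => hnorm g (D.S_le_normalizer (D.U_le_S hg))
      (Subgroup.centralizer_le_normalizer _ (Subgroup.mem_centralizer_iff.2 fun v hv =>
        D.U_comm v hv.1 g hg)))
    (fun g hg => hnorm g (D.S_le_normalizer (D.W₁_le hg)) (hWn hg)) with h0 | h0
  · exact ⟨hu, Subgroup.le_centralizer_iff.1
      (Subgroup.commutator_eq_bot_iff_le_centralizer.1 h0) ⟨hu, h⟩⟩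
  · exfalso
    let K : Subgroup G := ((κ.toHomUnits.ker).map (nF S).subtype).map S.subtype
    have hK : Y ≤ K := by
      refine Subgroup.commutator_le.2 fun x hx v hv => ?_
      have hvx := D.conj_mem_H (D.U_le_S hv.1) (inv_mem hx)
      refine ⟨_, ⟨lift x hx * lift _ hvx, ?_, rfl⟩, ?_⟩
      · rw [SetLike.mem_coe, MonoidHom.mem_ker]
        refine Units.ext ?_
        rw [MonoidHom.coe_toHomUnits, Units.val_one, map_mul,
          hv.2 _ (inv_mem hx) (lift _ hvx) rfl, ← map_mul,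
          show lift x hx * lift x⁻¹ (inv_mem hx) = 1 from Subtype.ext (Subtype.ext (mul_inv_cancel x)),
          map_one]
      · show x * (v * x⁻¹ * v⁻¹) = ⁅x, v⁆
        rw [commutatorElement_def]; group
    obtain ⟨y, hy, hne⟩ := hκ.nontrivial
    obtain ⟨_, ⟨z, hz, rfl⟩, e⟩ := hK (show ((y : S) : G) ∈ Y by rw [h0]; exact hy)
    refine hne ?_
    rw [show y = z from Subtype.ext (Subtype.ext e.symm)]
    have := congrArg Units.val (MonoidHom.mem_ker.1 hz)
    rwa [MonoidHom.coe_toHomUnits, Units.val_one] at this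

/-- `W₁`-fixed characters conjugate under `S'` are equal. -/
theorem fixedLin_eq_of_conj {κ κ' : nF S →* ℂ} (hκ : IsFixedLin S W₁ U κ)
    (hκ' : IsFixedLin S W₁ U κ') {u : G} (hu : u ∈ U)
    (h : ∀ y y' : nF S, ((y' : S) : G) = u * ((y : S) : G) * u⁻¹ → κ y' = κ' y) : κ = κ' := by
  obtain ⟨w, hw, hw1⟩ := D.exists_gen
  set v := u⁻¹ * (w * u * w⁻¹) with hv
  have hvU : v ∈ U := mul_mem (inv_mem hu) (D.conj_mem_U hw hu)
  have hw' := D.conj_mem_U hw hu
  let mk : ∀ z, z ∈ fittingOf S → nF S := fun z hz => ⟨⟨z, D.F_le_S hz⟩, hz⟩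
  have hvC : v ∈ pairC S U := by
    refine D.mem_C_of_fixes hκ hvU fun x hx y e => ?_
    have h1 := D.conj_mem_H (S.inv_mem (D.U_le_S hu)) hx
    have h2 := D.conj_mem_H (S.inv_mem (D.W₁_le hw)) h1
    have h3 := D.conj_mem_H (D.U_le_S hu) h2
    have h4 := D.conj_mem_H (D.W₁_le hw) h3
    -- `κ (w u w⁻¹ z) = κ' z` at `z = u⁻¹ x u`
    have e1 := hκ.fixed w hw (mk _ (D.H_le_F h3)) (mk _ (D.H_le_F h4)) rfl
    have e2 := h (mk _ (D.H_le_F h2)) (mk _ (D.H_le_F h3)) rfl
    have e3 := hκ'.fixed w⁻¹ (inv_mem hw) (mk _ (D.H_le_F h1)) (mk _ (D.H_le_F h2)) rfl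
    have e4 := h (mk _ (D.H_le_F h1)) (mk _ (D.H_le_F hx))
      (show x = u * (u⁻¹ * x * u⁻¹⁻¹) * u⁻¹ by group)
    rw [show y = mk _ (D.H_le_F h4) from Subtype.ext (Subtype.ext (e.trans ?_)), e1, e2, e3, ← e4]
    show v * x * v⁻¹ = w * (u * (w⁻¹ * (u⁻¹ * x * u⁻¹⁻¹) * w⁻¹⁻¹) * u⁻¹) * w⁻¹
    rw [hv, D.U_comm _ (inv_mem hu) _ hw']
    group
  have huC : u ∈ pairC S U := D.mem_C_of_commutator hw hw1 hu hvC
  refine MonoidHom.ext fun y => ?_
  refine h y y ?_
  rw [D.F_comm u (D.C_le_F huC) ((y : S) : G) y.2, mul_inv_cancel_right]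

/-- An element of `S'` fixing a `W₁`-fixed character lies in `F(S)`. -/
theorem mem_F_of_fixes {κ : nF S →* ℂ} (hκ : IsFixedLin S W₁ U κ) {g : G} (hg : g ∈ ⁅S, S⁆)
    (h : ∀ y y' : nF S, ((y' : S) : G) = g * ((y : S) : G) * g⁻¹ → κ y' = κ y) :
    g ∈ fittingOf S := by
  obtain ⟨a, ha, u, hu, rfl⟩ := D.hP.U_compl.2.2.2 g hg
  refine mul_mem (D.H_le_F ha) (D.C_le_F (D.mem_C_of_fixes hκ hu fun x hx y e => ?_))
  refine h ⟨⟨x, D.H_le_S hx⟩, D.H_le_F hx⟩ y ?_
  show ((y : S) : G) = a * u * x * (a * u)⁻¹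
  rw [show a * u * x * (a * u)⁻¹ = a * (u * x * u⁻¹) * a⁻¹ by group,
    D.H_comm a ha _ (D.conj_mem_H (D.U_le_S hu) hx), mul_inv_cancel_right, e]

end PairSide

end Cfsg.Agent.OddOrder.PF
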