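import Cfsg.Agent.Lib.OddOrder.PF.S13_Lambda
import Cfsg.Agent.Lib.OddOrder.PF.S13_Mass
import Cfsg.Agent.Lib.OddOrder.CyclicTIExist

/-!
Peterfalvi 13, the three sets of the count and what one member tells about `η` on them.

* `fitConj S`, `vConj W₁ W₂`: the conjugates of `F(S)#` and of `W ∖ (W₁ ∪ W₂)`;
* `PairSide.sum_fitConj`: sums over `fitConj S` of a class function;
* `PairSide.dade_off`, `PairSide.dade_on`: the Dade image of a function living on `F(S)#`;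
* `exists_eta_sub`: outside `V` the differences of the `η_0j` vanish off `fitConj S` and are
  differences of orbit sums on `F(S)`; `sum_normSq_eta_fit_ge`: the resulting lower bound.
-/

set_option autoImplicit false
set_option linter.style.haveILetI false
set_option linter.unusedSectionVars false

namespace Cfsg.Agent.OddOrder.PF

open Cfsg Cfsg.Agent Cfsg.Agent.OddOrder

universe u
variable {G : Type u} [Group G] [Fintype G]

open Classical in
/-- The conjugates of the non-identity elements of `F(S)`. -/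
noncomputable def fitConj (S : Subgroup G) : Finset G :=
  Finset.univ.filter fun g => g ≠ 1 ∧ ∃ x : G, x * g * x⁻¹ ∈ fittingOf S

open Classical in
/-- The conjugates of `W ∖ (W₁ ∪ W₂)`. -/
noncomputable def vConj (W₁ W₂ : Subgroup G) : Finset G :=
  Finset.univ.filter fun g => ∃ x : G, x * g * x⁻¹ ∈ W₁ ⊔ W₂ ∧ x * g * x⁻¹ ∉ W₁ ∧ x * g * x⁻¹ ∉ W₂

theorem mem_fitConj {S : Subgroup G} {g : G} :
    g ∈ fitConj S ↔ g ≠ 1 ∧ ∃ x : G, x * g * x⁻¹ ∈ fittingOf S := by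
  simp [fitConj]

theorem mem_vConj {W₁ W₂ : Subgroup G} {g : G} :
    g ∈ vConj W₁ W₂ ↔
      ∃ x : G, x * g * x⁻¹ ∈ W₁ ⊔ W₂ ∧ x * g * x⁻¹ ∉ W₁ ∧ x * g * x⁻¹ ∉ W₂ := by
  simp [vConj]

theorem vConj_swap (W₁ W₂ : Subgroup G) : vConj W₂ W₁ = vConj W₁ W₂ := by
  ext g
  simp only [mem_vConj, sup_comm W₂ W₁, and_comm (a := _ ∉ W₂)]

variable {S W₁ U W₂ : Subgroup G}

namespace PairSide

variable (D : PairSide S W₁ U W₂)
include D

theorem fitting_ne_bot : fittingOf S ≠ ⊥ := fun h =>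
  D.H_ne_bot (le_bot_iff.1 (h ▸ D.H_le_F))

theorem mem_fitConj_of_mem {y : G} (hy : y ∈ fittingOf S) (hy1 : y ≠ 1) : y ∈ fitConj S :=
  mem_fitConj.2 ⟨hy1, 1, by simpa using hy⟩

/-- The conjugates of `F(S)#` carry `|G| / |S|` copies of `F(S)#`. -/
theorem sum_fitConj {β : Type*} [AddCommMonoid β] (f : G → β)
    (hf : ∀ g x : G, f (x * g * x⁻¹) = f g) [Fintype (nF S)]
    [DecidablePred fun y : nF S => y ≠ 1] :
    Nat.card S • ∑ g ∈ fitConj S, f g =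
      Nat.card G • ∑ y ∈ Finset.univ.filter (fun y : nF S => y ≠ 1), f ((y : S) : G) := by
  classical
  haveI : Fintype S := Fintype.ofFinite _
  set Y := Finset.univ.filter (fun y : nF S => y ≠ 1)
  have hne : ∀ y ∈ Y, ((y : S) : G) ≠ 1 := fun y hy h =>
    (Finset.mem_filter.1 hy).2 (Subtype.ext (Subtype.ext h))
  have hmaps : ∀ z ∈ (Finset.univ : Finset G) ×ˢ Y,
      z.1 * ((z.2 : S) : G) * z.1⁻¹ ∈ fitConj S := fun z hz =>
    mem_fitConj.2 ⟨fun h => hne z.2 (Finset.mem_product.1 hz).2 (by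
        have := congrArg (fun a => z.1⁻¹ * a * z.1) h
        simpa [mul_assoc] using this),
      z.1⁻¹, by
        rw [show z.1⁻¹ * (z.1 * ((z.2 : S) : G) * z.1⁻¹) * z.1⁻¹⁻¹ = ((z.2 : S) : G) by group]
        exact z.2.2⟩
  have hfib : ∀ g ∈ fitConj S, (((Finset.univ : Finset G) ×ˢ Y).filter
      fun z => z.1 * ((z.2 : S) : G) * z.1⁻¹ = g).card = Nat.card S := by
    intro g hg
    obtain ⟨hg1, x, hx⟩ := mem_fitConj.1 hg
    rw [Nat.card_eq_fintype_card, ← Finset.card_univ]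
    have hin : ∀ s : S, (s : G)⁻¹ * (x * g * x⁻¹) * (s : G) ∈ fittingOf S := fun s => by
      simpa using D.conj_mem_F (S.inv_mem s.2) hx
    refine (Finset.card_bij (fun (s : S) _ => ((x⁻¹ * s : G),
      (⟨⟨(s : G)⁻¹ * (x * g * x⁻¹) * s, D.F_le_S (hin s)⟩, hin s⟩ : nF S))) ?_ ?_ ?_).symm
    · intro s _
      refine Finset.mem_filter.2 ⟨Finset.mem_product.2 ⟨Finset.mem_univ _,
        Finset.mem_filter.2 ⟨Finset.mem_univ _, fun h => hg1 ?_⟩⟩, by simp [mul_assoc]⟩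
      have h' := congrArg (fun y : nF S => ((y : S) : G)) h
      have h'' := congrArg (fun a => x⁻¹ * (s : G) * a * (s : G)⁻¹ * x) h'
      simpa [mul_assoc] using h''
    · intro a _ b _ h
      exact Subtype.ext (mul_left_cancel (congrArg Prod.fst h))
    · rintro ⟨z, y⟩ hz
      obtain ⟨hzy, hgz⟩ := Finset.mem_filter.1 hz
      have hy1 := hne y (Finset.mem_product.1 hzy).2
      have hxz : x * z ∈ S := D.ti (x * z) ((y : S) : G) y.2 hy1 (by
        rw [show x * z * ((y : S) : G) * (x * z)⁻¹ = x * (z * ((y : S) : G) * z⁻¹) * x⁻¹ by group]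
        simp only at hgz
        rw [hgz]; exact hx)
      refine ⟨⟨x * z, hxz⟩, Finset.mem_univ _, Prod.ext (by simp) (Subtype.ext (Subtype.ext ?_))⟩
      show (x * z)⁻¹ * (x * g * x⁻¹) * (x * z) = ((y : S) : G)
      simp only at hgz
      rw [← hgz]; group
  calc Nat.card S • ∑ g ∈ fitConj S, f g
      = ∑ g ∈ fitConj S, ∑ z ∈ ((Finset.univ : Finset G) ×ˢ Y).filter
          (fun z => z.1 * ((z.2 : S) : G) * z.1⁻¹ = g), f ((z.2 : S) : G) := by
        rw [Finset.smul_sum]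
        refine Finset.sum_congr rfl fun g hg => ?_
        rw [Finset.sum_congr rfl fun z hz => (show f ((z.2 : S) : G) = f g by
          rw [← (Finset.mem_filter.1 hz).2, hf]), Finset.sum_const, hfib g hg]
    _ = ∑ z ∈ (Finset.univ : Finset G) ×ˢ Y, f ((z.2 : S) : G) :=
        Finset.sum_fiberwise_of_maps_to hmaps _
    _ = _ := by
        rw [Finset.sum_product]
        simp only []
        rw [Finset.sum_const, Finset.card_univ, Nat.card_eq_fintype_card]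

theorem card_fitConj :
    Nat.card S * (fitConj S).card = Nat.card G * (Nat.card (fittingOf S) - 1) := by
  classical
  haveI : Fintype (nF S) := Fintype.ofFinite _
  have h := D.sum_fitConj (fun _ => (1 : ℕ)) fun _ _ => rfl
  simp only [Finset.sum_const, smul_eq_mul, mul_one, Finset.filter_ne', Finset.card_erase_of_mem
    (Finset.mem_univ _), Finset.card_univ] at h
  rwa [← Nat.card_eq_fintype_card (α := nF S), Coprime.card_subgroupOf D.F_le_S] at h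

theorem not_dvd_card_F : ¬ Nat.card W₁ ∣ Nat.card (fittingOf S) := by
  rw [D.card_F]
  intro h
  rcases D.q_prime.dvd_mul.1 h with h | h
  · exact D.p_ne_q ((Nat.prime_dvd_prime_iff_eq D.q_prime D.p_prime).1
      (D.q_prime.dvd_of_dvd_pow h)).symm
  · exact D.q_prime.not_dvd_one ((D.card_C_modEq.dvd_iff dvd_rfl).1 h)

/-- An element of `W ∖ (W₁ ∪ W₂)` is conjugate to none of `F(S)`. -/
theorem disjoint_vConj : Disjoint (vConj W₁ W₂) (fitConj S) := by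
  rw [Finset.disjoint_left]
  intro g hg hg'
  obtain ⟨x, hw, hw1, hw2⟩ := mem_vConj.1 hg
  obtain ⟨-, z, hz⟩ := mem_fitConj.1 hg'
  have hn : W₁ ≤ Subgroup.normalizer (W₂ : Set G) := fun a ha =>
    Subgroup.centralizer_le_normalizer _ (Subgroup.mem_centralizer_iff.2 fun b hb =>
      (D.commute_W₂ ha hb).symm)
  obtain ⟨a, ha, b, hb, hab⟩ := (Coprime.mem_sup_iff_of_le_normalizer hn).1 hw
  have ha1 : a ≠ 1 := fun h => hw2 (by rw [← hab, h, one_mul]; exact hb)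
  have hpow : g ^ Nat.card (fittingOf S) = 1 := by
    have h1 : (z * g * z⁻¹) ^ Nat.card (fittingOf S) = 1 := orderOf_dvd_iff_pow_eq_one.1
      (Subgroup.orderOf_dvd_natCard _ hz)
    rwa [conj_pow, conj_eq_one_iff] at h1
  have h2 : a ^ Nat.card (fittingOf S) * b ^ Nat.card (fittingOf S) = 1 := by
    rw [← (show Commute a b from D.commute_W₂ ha hb).mul_pow, hab, conj_pow, hpow, mul_one,
      mul_inv_cancel]
  have h3 : a ^ Nat.card (fittingOf S) ∈ W₁ ⊓ W₂ :=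
    ⟨pow_mem ha _, (eq_inv_of_mul_eq_one_left h2).symm ▸ W₂.inv_mem (W₂.pow_mem hb _)⟩
  rw [D.hP.selfNormalizing.2.2.1, Subgroup.mem_bot] at h3
  refine D.not_dvd_card_F ((dvd_of_eq ?_).trans (orderOf_dvd_of_pow_eq_one h3))
  exact (((Nat.dvd_prime D.q_prime).1 (Subgroup.orderOf_dvd_natCard _ ha)).resolve_left
    fun h => ha1 (orderOf_eq_one_iff.1 h)).symm

/-- The two Fitting subgroups of a pair meet no common class. -/
theorem disjoint_fitConj {T V : Subgroup G} (D' : PairSide T W₂ V W₁) :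
    Disjoint (fitConj S) (fitConj T) := by
  rw [Finset.disjoint_left]
  intro g hg hg'
  obtain ⟨hg1, x, hx⟩ := mem_fitConj.1 hg
  obtain ⟨-, y, hy⟩ := mem_fitConj.1 hg'
  set K : Subgroup G := (fittingOf T).map (MulAut.conj (x * y⁻¹)).toMonoidHom
  have hle : K ≤ S := fun k hk => by
    obtain ⟨t, ht, rfl⟩ := hk
    refine D.centralizer_le hx (fun h => hg1 (conj_eq_one_iff.1 h))
      (Subgroup.mem_centralizer_singleton_iff.2 ?_)
    have h := D'.F_comm t ht _ hy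
    show x * y⁻¹ * t * (x * y⁻¹)⁻¹ * (x * g * x⁻¹) = x * g * x⁻¹ * (x * y⁻¹ * t * (x * y⁻¹)⁻¹)
    calc x * y⁻¹ * t * (x * y⁻¹)⁻¹ * (x * g * x⁻¹) = x * y⁻¹ * (t * (y * g * y⁻¹)) * y * x⁻¹ := by
          group
      _ = x * y⁻¹ * (y * g * y⁻¹ * t) * y * x⁻¹ := by rw [h]
      _ = _ := by group
  have hd := Subgroup.card_dvd_of_le hle
  rw [Subgroup.card_map_of_injective (MulAut.conj (x * y⁻¹)).injective, D'.card_F, D.card_S] at hd
  have h2 : Nat.card W₁ * Nat.card W₁ ∣ Nat.card W₂ ^ Nat.card W₁ * Nat.card U * Nat.card W₁ := by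
    refine dvd_trans ?_ ((dvd_mul_right _ _).trans hd)
    rw [← pow_two]
    exact pow_dvd_pow _ D.p_prime.two_le
  have h3 := (Nat.mul_dvd_mul_iff_right D.q_prime.pos).1 h2
  rcases D.q_prime.dvd_mul.1 h3 with h | h
  · exact D.p_ne_q ((Nat.prime_dvd_prime_iff_eq D.q_prime D.p_prime).1
      (D.q_prime.dvd_of_dvd_pow h)).symm
  · rw [← D.card_U] at h
    exact D.q_prime.not_dvd_one (((D.card_C_modEq.mul D.index_modEq).dvd_iff dvd_rfl).1 h)

end PairSide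

section Dade

variable [Fintype S] {A : Set G} {H : Subgroup G} {R : G → Subgroup G}
  (D : PairSide S W₁ U W₂) (P : PrimeDade A S ⁅S, S⁆ H W₁ W₂ R)
include D P

theorem fitting_sharp_subset {a : G} (ha : a ∈ fittingOf S) (ha1 : a ≠ 1) : a ∈ A := by
  obtain ⟨b, hb, hb1⟩ := (Subgroup.bot_or_exists_ne_one W₂).resolve_left P.selfNorm.2.1
  exact P.cover a (D.F_le ha) ha1 b (P.W₂_le hb) hb1 (D.F_comm a ha b (D.W₂_le_F hb))

theorem R_eq_bot_of_mem_F {a : G} (ha : a ∈ fittingOf S) (ha1 : a ≠ 1) : R a = ⊥ := by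
  have hmem : a ∈ A ∪ classV S W₁ W₂ := Or.inl (fitting_sharp_subset D P ha ha1)
  have hc := D.centralizer_le ha ha1
  refine le_bot_iff.1 ?_
  rw [← P.dade.inf_eq_bot a hmem]
  exact le_inf le_rfl (le_inf ((P.dade.le_centralizer a hmem).trans hc) (P.dade.le_centralizer a hmem))

/-- A function living on `F(S)#` has its Dade image on the conjugates of `F(S)#`. -/
theorem dade_off {α : S → ℂ} (hα : IsClassFunction S α)
    (hsupp : ∀ a : S, (a : G) ∉ fittingOf S → α a = 0) (h1 : α 1 = 0) {g : G}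
    (hg : g ∉ fitConj S) : dadeIsometry (A ∪ classV S W₁ W₂) S R α g = 0 := by
  by_cases hu : g ∈ dadeUnion (A ∪ classV S W₁ W₂) R
  · obtain ⟨a, ha, w, hw, x, hx⟩ := mem_dadeUnion.1 hu
    rw [dadeIsometry_apply P.dade hα (a := ⟨a, P.dade.subset ha⟩) ha hw hx]
    by_cases haF : a ∈ fittingOf S
    · by_cases ha1 : a = 1
      · rw [show (⟨a, P.dade.subset ha⟩ : S) = 1 from Subtype.ext ha1, h1]
      · rw [R_eq_bot_of_mem_F D P haF ha1, Subgroup.mem_bot] at hw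
        rw [hw, mul_one] at hx
        exact absurd (mem_fitConj.2 ⟨fun h => ha1 (by rw [← hx, h]; simp), x, by rwa [hx]⟩) hg
    · exact hsupp _ haF
  · exact dadeIsometry_eq_zero hu α

/-- On `F(S)#` itself the image is the function. -/
theorem dade_on {α : S → ℂ} (hα : IsClassFunction S α) {a : S} (ha : (a : G) ∈ fittingOf S)
    (ha1 : a ≠ 1) : dadeIsometry (A ∪ classV S W₁ W₂) S R α a = α a :=
  dadeIsometry_apply P.dade hα
    (Or.inl (fitting_sharp_subset D P ha fun h => ha1 (Subtype.ext h))) (x := 1) (u := 1)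
    (Subgroup.one_mem _) (by simp)

end Dade

/-- The `μ_ij`, `j ≠ 0`, have degree `|U : C|`. -/
theorem mu_apply_one [Fintype S] {A : Set G} {H : Subgroup G} {R : G → Subgroup G}
    {μ : (↥(W₁ ⊔ W₂) →* ℂˣ) → (S → ℂ)} {δ : (↥(W₁ ⊔ W₂) →* ℂˣ) → ℤ}
    (D : PairSide S W₁ U W₂) (P : PrimeDade A S ⁅S, S⁆ H W₁ W₂ R) (M : MuFamily S W₁ W₂ μ δ)
    {ψ : Ann W₁ W₂ W₁} (hψ : ψ.1 ≠ 1) : μ ψ.1 1 = ((pairC S U).relIndex U : ℂ) := by
  classical
  haveI := (ann_facts P.selfNorm).1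
  haveI : Fintype (Ann W₁ W₂ W₂) := Fintype.ofFinite _
  obtain ⟨κ, O, hO, -⟩ := exists_mu_orbits D P M
  obtain ⟨-, -, hc, -, hf⟩ := hO ψ hψ
  have hq0 : (Nat.card W₁ : ℂ) ≠ 0 := Nat.cast_ne_zero.2 D.q_prime.ne_zero
  have h1 := hf 1
  have h3 : ∀ η ∈ O ψ, (η.1 1 : ℂ) = 1 := fun η _ =>
    Char.apply_one_of_comm (fun a b => Subtype.ext (Subtype.ext (D.F_comm _ a.2 _ b.2))) η
  rw [Finset.sum_congr rfl h3, Finset.sum_const, nsmul_eq_mul, mul_one, hc, OneMemClass.coe_one,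
    M.muSum_eq P, Finset.sum_apply,
    Finset.sum_congr rfl fun φ _ => M.apply_twist P ψ.1 φ.1 φ.2 (y := 1) (one_mem _),
    Finset.sum_const, Finset.card_univ, nsmul_eq_mul, ← Nat.card_eq_fintype_card,
    (ann_facts P.selfNorm).2.1] at h1
  exact mul_left_cancel₀ hq0 h1

section Eta

variable {η : (↥(W₁ ⊔ W₂) →* ℂˣ) → (G → ℂ)}

/-- Outside the conjugates of `W ∖ (W₁ ∪ W₂)` the family is additive. -/
theorem eta_mul_apply (hη : IsCyclicTIFamily W₁ W₂ η) {g : G} (hg : g ∉ vConj W₁ W₂)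
    (φ : Ann W₁ W₂ W₂) (ψ : Ann W₁ W₂ W₁) :
    η (φ.1 * ψ.1) g = η φ.1 g + η ψ.1 g - 1 := by
  by_cases h : φ.1 ≠ 1 ∧ ψ.1 ≠ 1
  · have h' := congrFun (hη.induced_eq φ.1 ψ.1 h.1 h.2 φ.2 ψ.2) g
    rw [indFun, Finset.sum_eq_zero, mul_zero] at h'
    · linear_combination -h'
    intro x _
    by_cases hx : x⁻¹ * g * x ∈ W₁ ⊔ W₂
    · rw [Char.extendByZero_of_mem _ _ hx]
      rcases (show x⁻¹ * g * x ∈ W₁ ∨ x⁻¹ * g * x ∈ W₂ by
        by_contra hcon
        push Not at hcon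
        exact hg (mem_vConj.2 ⟨x⁻¹, by rw [inv_inv]; exact ⟨hx, hcon⟩⟩)) with h1 | h1
      · simp [ψ.2 ⟨_, hx⟩ h1]
      · simp [φ.2 ⟨_, hx⟩ h1]
    · exact Char.extendByZero_of_notMem _ _ hx
  · rcases not_and_or.1 h with h | h <;> rw [not_ne_iff.1 h]
    · rw [show (1 : ↥(W₁ ⊔ W₂) →* ℂˣ) * ψ.1 = ψ.1 from MonoidHom.ext fun w => one_mul _,
        hη.map_one]
      ring
    · rw [show φ.1 * (1 : ↥(W₁ ⊔ W₂) →* ℂˣ) = φ.1 from MonoidHom.ext fun w => mul_one _,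
        hη.map_one]
      ring

variable [Fintype S] {A : Set G} {H : Subgroup G} {R : G → Subgroup G}
  (D : PairSide S W₁ U W₂) (P : PrimeDade A S ⁅S, S⁆ H W₁ W₂ R)
  (hη : IsCyclicTIFamily W₁ W₂ η)
include D P hη

/-- The differences `η_0j - η_0k` outside `V`. -/
theorem exists_eta_sub : ∃ (O : Ann W₁ W₂ W₁ → Finset (IrrCharacter (nF S))) (e : ℤ),
    (e = 1 ∨ e = -1) ∧ ∀ ψ ψ' : Ann W₁ W₂ W₁, ψ.1 ≠ 1 → ψ'.1 ≠ 1 →
      (ψ ≠ ψ' → Disjoint (O ψ) (O ψ')) ∧ (O ψ).card = (pairC S U).relIndex U ∧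
      (∀ g, g ∉ vConj W₁ W₂ → g ∉ fitConj S → η ψ.1 g = η ψ'.1 g) ∧
      ∀ y : nF S, η ψ.1 ((y : S) : G) - η ψ'.1 ((y : S) : G) =
        (e : ℂ) * ((∑ x ∈ O ψ, x.1 y) - ∑ x ∈ O ψ', x.1 y) := by
  classical
  haveI := (ann_facts P.selfNorm).1
  haveI : Fintype (Ann W₁ W₂ W₂) := Fintype.ofFinite _
  obtain ⟨μ, δ, M⟩ := P.exists_muFamily
  obtain ⟨κ, O, hO, hdisj⟩ := exists_mu_orbits D P M
  set q := Nat.card W₁
  have hq0 : (q : ℂ) ≠ 0 := Nat.cast_ne_zero.2 D.q_prime.ne_zero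
  have hcard : (Fintype.card (Ann W₁ W₂ W₂) : ℂ) = q := by
    rw [← Nat.card_eq_fintype_card, (ann_facts P.selfNorm).2.1]
  have hne : ∀ ψ : Ann W₁ W₂ W₁, ψ.1 ≠ 1 →
      ¬ ∀ w : ↥(W₁ ⊔ W₂), (w : G) ∈ W₂ → ψ.1 w = 1 := fun ψ hψ h => hψ <| by
    have := mul_inj P.selfNorm (a := ⟨ψ.1, h⟩) (a' := ⟨1, fun _ _ => rfl⟩)
      (b := ⟨1, fun _ _ => rfl⟩) (b' := ψ) (MonoidHom.ext fun w => by simp)
    exact (congrArg Subtype.val this.2).symm
  have hdeg : ∀ ψ : Ann W₁ W₂ W₁, ψ.1 ≠ 1 → μ ψ.1 1 = ((pairC S U).relIndex U : ℂ) :=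
    fun ψ hψ => mu_apply_one D P M hψ
  obtain ⟨ψ₁, hψ₁⟩ : ∃ ψ : Ann W₁ W₂ W₁, ψ.1 ≠ 1 := by
    have h3 := (three_le_card P.selfNorm P.oddW).2
    rw [← (ann_facts P.selfNorm).2.2.1] at h3
    obtain ⟨a, b, hab⟩ := (Finite.one_lt_card_iff_nontrivial.1
      (show 1 < Nat.card (Ann W₁ W₂ W₁) by omega)).exists_pair_ne
    by_cases ha : a.1 = 1
    · exact ⟨b, fun hb => hab (Subtype.ext (ha.trans hb.symm))⟩
    · exact ⟨a, ha⟩
  refine ⟨O, δ ψ₁.1, M.sign _, fun ψ ψ' hψ hψ' => ?_⟩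
  have hd : μ ψ.1 1 = μ ψ'.1 1 := (hdeg ψ hψ).trans (hdeg ψ' hψ').symm
  have hsign : δ ψ.1 = δ ψ₁.1 := M.sign_eq_of_degree P ((hdeg ψ hψ).trans (hdeg ψ₁ hψ₁).symm)
  obtain ⟨-, -, hc, hz, hf⟩ := hO ψ hψ
  obtain ⟨-, -, hc', hz', hf'⟩ := hO ψ' hψ'
  set α : S → ℂ := muSum ⁅S, S⁆ μ ψ - muSum ⁅S, S⁆ μ ψ'
  have hαz : ∀ a : S, (a : G) ∉ fittingOf S → α a = 0 := fun a ha => by
    simp only [α, Pi.sub_apply, hz a ha, hz' a ha, sub_self]
  have hα1 : α 1 = 0 := by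
    simp only [α, Pi.sub_apply, M.muSum_eq P, Finset.sum_apply]
    rw [sub_eq_zero]
    refine Finset.sum_congr rfl fun φ _ => ?_
    rw [M.apply_twist P ψ.1 φ.1 φ.2 (one_mem _ : ((1 : S) : G) ∈ ⁅S, S⁆),
      M.apply_twist P ψ'.1 φ.1 φ.2 (one_mem _ : ((1 : S) : G) ∈ ⁅S, S⁆), hd]
  have hαc : IsClassFunction S α := fun a x => by
    simp only [α, muSum, Pi.sub_apply, Char.isClassFunction_indFun _ _ a x]
  have himg := M.tau_sum_sub P hη (hne ψ hψ) (hne ψ' hψ')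
    (fun w hw => by rw [ψ.2 w hw, ψ'.2 w hw]) hd
  rw [← M.muSum_eq P, ← M.muSum_eq P, hsign] at himg
  have key : ∀ g, g ∉ vConj W₁ W₂ → dadeIsometry (A ∪ classV S W₁ W₂) S R α g =
      (δ ψ₁.1 : ℂ) * ((q : ℂ) * (η ψ.1 g - η ψ'.1 g)) := by
    intro g hg
    rw [himg, Pi.smul_apply, smul_eq_mul, Pi.sub_apply, Finset.sum_apply, Finset.sum_apply,
      ← Finset.sum_sub_distrib]
    simp only [mul_comm ψ.1, mul_comm ψ'.1, eta_mul_apply hη hg, add_sub_add_left_eq_sub,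
      sub_sub_sub_cancel_right, Finset.sum_const, Finset.card_univ, nsmul_eq_mul, hcard]
  have hδ : (δ ψ₁.1 : ℂ) * δ ψ₁.1 = 1 := by rcases M.sign ψ₁.1 with h | h <;> simp [h]
  refine ⟨fun h => hdisj ψ ψ' hψ hψ' h, hc, fun g hg hgF => ?_, fun y => ?_⟩
  · have h := key g hg
    rw [dade_off D P hαc hαz hα1 hgF] at h
    rcases mul_eq_zero.1 h.symm with h | h
    · rw [h, zero_mul] at hδ; exact absurd hδ zero_ne_one
    · exact sub_eq_zero.1 ((mul_eq_zero.1 h).resolve_left hq0)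
  · have hgV : ((y : S) : G) ∉ vConj W₁ W₂ := by
      intro hV
      by_cases h1 : ((y : S) : G) = 1
      · obtain ⟨x, -, h2, -⟩ := mem_vConj.1 hV
        exact h2 (by rw [h1, mul_one, mul_inv_cancel]; exact one_mem _)
      · exact Finset.disjoint_left.1 D.disjoint_vConj hV (D.mem_fitConj_of_mem y.2 h1)
    have h := key _ hgV
    have hval : dadeIsometry (A ∪ classV S W₁ W₂) S R α ((y : S) : G) = α y := by
      by_cases h1 : (y : S) = 1
      · rw [h1, hα1, OneMemClass.coe_one, dade_off D P hαc hαz hα1 (fun hm => (mem_fitConj.1 hm).1 rfl)]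
      · exact dade_on D P hαc y.2 h1
    rw [hval, show α y = (q : ℂ) * ((∑ x ∈ O ψ, x.1 y) - ∑ x ∈ O ψ', x.1 y) by
      simp only [α, Pi.sub_apply, hf, hf', mul_sub, q]] at h
    refine mul_left_cancel₀ hq0 ?_
    linear_combination (-(δ ψ₁.1 : ℂ)) * h -
      (q : ℂ) * (η ψ.1 ((y : S) : G) - η ψ'.1 ((y : S) : G)) * hδ

/-- The mass of the `η_0j` on `F(S)#`. -/
theorem sum_normSq_eta_fit_ge [Fintype (nF S)] [DecidablePred fun y : nF S => y ≠ 1]
    [Fintype (Ann W₁ W₂ W₁)] [DecidablePred fun ψ : Ann W₁ W₂ W₁ => ψ.1 ≠ 1] :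
    ((Nat.card W₂ : ℝ) - 1) * ((Nat.card (fittingOf S) : ℝ) * ((pairC S U).relIndex U : ℝ) -
        ((pairC S U).relIndex U : ℝ) ^ 2) ≤
      ∑ ψ ∈ Finset.univ.filter (fun ψ : Ann W₁ W₂ W₁ => ψ.1 ≠ 1),
        ∑ y ∈ Finset.univ.filter (fun y : nF S => y ≠ 1),
          Complex.normSq (η ψ.1 ((y : S) : G)) := by
  classical
  obtain ⟨O, e, he, hO⟩ := exists_eta_sub D P hη
  let ι := {ψ : Ann W₁ W₂ W₁ // ψ.1 ≠ 1}
  have hcard : Fintype.card ι = Nat.card W₂ - 1 := by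
    rw [Fintype.card_subtype_compl (fun ψ : Ann W₁ W₂ W₁ => ψ.1 = 1), ← Nat.card_eq_fintype_card,
      (ann_facts P.selfNorm).2.2.1]
    congr 1
    rw [Fintype.card_eq_one_iff]
    exact ⟨⟨⟨1, fun _ _ => rfl⟩, rfl⟩, fun x => Subtype.ext (Subtype.ext x.2)⟩
  have h2 : 2 ≤ Fintype.card ι := by
    have := (three_le_card P.selfNorm P.oddW).2
    omega
  have h := sum_normSq_family_ge (F := nF S)
    (fun a b => Subtype.ext (Subtype.ext (D.F_comm _ a.2 _ b.2))) h2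
    (fun i y => η i.1.1 ((y : S) : G))
    (fun i => Char.IsGeneralizedCharacter.comp (eta_isGeneralized hη i.1.1)
      (S.subtype.comp (nF S).subtype))
    (fun i => O i.1) (fun i k hik => (hO i.1 k.1 i.2 k.2).1 fun h => hik (Subtype.ext h))
    (fun i => (hO i.1 i.1 i.2 i.2).2.1) he (fun i k y => (hO i.1 k.1 i.2 k.2).2.2.2 y)
  rw [Coprime.card_subgroupOf D.F_le_S, hcard, Nat.cast_sub D.p_prime.one_le, Nat.cast_one] at h
  rw [← Finset.sum_subtype_eq_sum_filter]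
  simpa [ι, Finset.subtype_univ] using h

end Eta

end Cfsg.Agent.OddOrder.PF
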