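import Cfsg.Agent.Lib.OddOrder.PF.Partition
import Cfsg.Agent.Lib.OddOrder.FittingHall
import Cfsg.Agent.Lib.Coprime.Basic
import Cfsg.Agent.Lib.Frobenius.FixedPointFree
import Cfsg.Agent.Lib.OddOrder.SigmaConj
import Cfsg.Agent.Lib.OddOrder.HallFusion
import Cfsg.Agent.Lib.OddOrder.PF.S13_Kernel
import Cfsg.Agent.S1545

/-!
Peterfalvi (13.17): for a member `S` of Type II of a pair, the maximal subgroup `L` containing `N(U)` is
a Frobenius group whose kernel contains `U`, with complement `W₁` or `W₁ × W₂^y`, `y ∈ T_F`.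

The Frobenius property of Type I subgroups (S1540) is a hypothesis; `row1549` is the row in terms of
the standing hypotheses of section 13.
-/

set_option autoImplicit false
set_option linter.style.haveILetI false
set_option linter.unusedSectionVars false

namespace Cfsg.Agent.OddOrder.PF

open Cfsg Cfsg.Agent Cfsg.Agent.OddOrder
open scoped Pointwise IsMulCommutative commutatorElement

universe u

variable {G : Type u} [Group G] [Finite G] (B : BGFacts G)
include B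

theorem conj_mem_sigmaCore {M : Subgroup G} {m x : G} (hm : m ∈ M) (hx : x ∈ sigmaCore M) :
    m * x * m⁻¹ ∈ sigmaCore M :=
  conj_mem_map_subtype (piCore (sigma M) M) hm hx

/-- The centraliser of `z ∈ M_σ` lies in one maximal subgroup `N` only, and some non-identity element of
`N_σ ∩ M` centralises `z`: then `M = N`. -/
theorem eq_of_fixed {M N : Subgroup G} (hM : IsCoatom M) {z x : G} (hz : z ∈ sigmaCore M) (hz1 : z ≠ 1)
    (hu : ∀ L : Subgroup G, IsCoatom L → Subgroup.centralizer ({z} : Set G) ≤ L → L = N)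
    (hx : x ∈ sigmaCore N) (hxM : x ∈ M) (hx1 : x ≠ 1) (hc : Commute x z) : M = N := by
  by_cases hzle : Subgroup.centralizer ({z} : Set G) ≤ M
  · exact hu M hM hzle
  obtain ⟨N', ⟨hN', hCN⟩, -, -, -, hcompl, -⟩ := B.s1375 M hM z hz hz1 hzle
  rw [hu N' hN' hCN] at hcompl
  have hxC : x ∈ Subgroup.centralizer ({z} : Set G) := Subgroup.mem_centralizer_singleton_iff.2 hc.eq
  have h : x ∈ M ⊓ Subgroup.centralizer ({z} : Set G) ⊓
      (sigmaCore N ⊓ Subgroup.centralizer ({z} : Set G)) := ⟨⟨hxM, hxC⟩, hx, hxC⟩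
  rw [hcompl.2.2.1, Subgroup.mem_bot] at h
  exact absurd h hx1

/-- For `H` with `κ(H)` empty and not conjugate to `M`, no element of `M_σ ∩ H` commutes with an element
of `H_σ ∩ M`, identities excepted. -/
theorem not_commute_sigmaCore (hG : IsMinSimpleOddOrder G) {M H : Subgroup G} (hM : IsCoatom M)
    (hH : IsCoatom H) (hnc : NotConj M H) (hk : kappa H = ∅) {y u : G} (hy : y ∈ sigmaCore M)
    (hy1 : y ≠ 1) (hyH : y ∈ H) (hu : u ∈ sigmaCore H) (hu1 : u ≠ 1) (huM : u ∈ M) (hc : Commute y u) :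
    False := by
  obtain ⟨p, hp, hpd⟩ := Nat.exists_prime_and_dvd fun h => hu1 (orderOf_eq_one_iff.1 h)
  haveI := Fact.mk hp
  set z := u ^ (orderOf u / p)
  have ho : orderOf z = p := orderOf_pow_orderOf_div (orderOf_pos u).ne' hpd
  have hzH : z ∈ sigmaCore H := Subgroup.pow_mem _ hu _
  have hzM : z ∈ M := Subgroup.pow_mem _ huM _
  have hz1 : z ≠ 1 := fun h => hp.ne_one (by rw [← ho, h, orderOf_one])
  have hyz : Commute y z := hc.pow_right _
  have hpH : p ∈ sigma H := mem_sigma_of_dvd_sigmaCore hp (ho ▸ Subgroup.orderOf_dvd_natCard _ hzH)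
  have hpM : p ∉ sigma M := not_mem_sigma_of_notConj B hH hM hnc.symm hpH
  by_cases hpk : p ∈ kappa M
  · obtain ⟨K, hzK, hK⟩ := exists_piHallOf_ge (kappa M) (hG.2.2.2 M hM.1) (Subgroup.zpowers_le.2 hzM)
      fun q hq hd => by
        rw [Nat.card_zpowers, ho, Nat.prime_dvd_prime_iff_eq hq hp] at hd
        exact hd ▸ hpk
    rw [Subgroup.zpowers_le] at hzK
    have hKc := (B.s1351 M hM).2 K hK
    obtain ⟨U, hKU⟩ := (B.s1352 M hM K hKc hK).1
    have hK1 : K ≠ ⊥ := fun h => hz1 (Subgroup.mem_bot.1 (h ▸ hzK))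
    obtain ⟨Ms, ⟨hMs, hKst, hKstH⟩, -⟩ := B.s1366 M hM K U hKU hK1
    have hu' := (B.s1367 M hM K U hKU hK1 Ms hMs hKst hKstH).2 (Subgroup.zpowers z)
      (Subgroup.zpowers_le.2 hzK) (by rw [Nat.card_zpowers, ho]; exact hp)
    rw [Subgroup.zpowers_eq_closure, Subgroup.centralizer_closure] at hu'
    have hMs' : H = Ms := eq_of_fixed B hH hzH hz1 hu'.2 ((le_of_eq hKst).trans inf_le_left hzK)
      ((OddOrder.sigmaCore_le H) hzH) hz1 (Commute.refl z)
    subst hMs'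
    obtain ⟨q, hq, hqd⟩ := Nat.exists_prime_and_dvd fun h => hy1 (orderOf_eq_one_iff.1 h)
    have hyC : y ∈ M ⊓ Subgroup.centralizer ({z} : Set G) :=
      ⟨OddOrder.sigmaCore_le M hy, Subgroup.mem_centralizer_singleton_iff.2 hyz.eq⟩
    rw [(B.s1354 M hM K hKc hK).2 hK1 z hzK hz1] at hyC
    have hyK : y ∈ Subgroup.centralizer (K : Set G) :=
      (sup_le (fun k hk => Subgroup.mem_centralizer_iff.2 fun a ha =>
          haveI := hKc; congrArg Subtype.val (mul_comm' (⟨a, ha⟩ : K) ⟨k, hk⟩)) inf_le_right :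
        K ⊔ (sigmaCore M ⊓ Subgroup.centralizer (K : Set G)) ≤ _) hyC
    have := hKstH.2.1 q hq (hqd.trans (Subgroup.orderOf_dvd_natCard _ (⟨hy, hyK⟩ : y ∈ sigmaCore M ⊓ _)))
    rw [hk] at this
    exact this
  · have hu' := unique_of_sigmaHat B hG hM hy hy1 hzM hyz ho hpM hpk
    exact hnc.ne (eq_of_fixed B hH hzH hz1 hu' hy hyH hy1 hyz)

theorem mem_sigmaCore_of_prime (hG : IsMinSimpleOddOrder G) {M X : Subgroup G} (hM : IsCoatom M)
    (hXM : X ≤ M) {q : ℕ} (hq : q.Prime) (hX : Nat.card X = q) (hs : q ∈ sigma M) :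
    X ≤ sigmaCore M := by
  intro x hx
  have h := (sigmaCore_hall hG hM).2.2 q hq hs
  haveI : ((sigmaCore M).subgroupOf M).Normal := sigmaCore_normal_subgroupOf (M := M)
  refine mem_of_coprime_index (N := (sigmaCore M).subgroupOf M) (x := ⟨x, hXM hx⟩) ?_
  refine Nat.Coprime.coprime_dvd_left (k := q) ?_ (hq.coprime_iff_not_dvd.2 h)
  rw [Subgroup.orderOf_mk, ← hX]
  exact Subgroup.orderOf_dvd_natCard _ hx

/-- A member of Type II has a standard factorisation with `K = W₁` and the given `U`. -/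
theorem typeII_decomposition {S T W₁ W₂ U V : Subgroup G} (P : TypePair S T W₁ W₂ U V)
    (hSII : IsOfTypeII S) : IsSigmaDecomposition S W₁ U := by
  obtain ⟨⟨U', hU'⟩, -⟩ := pair_decomposition B P
  have hF : fittingHallOf S = sigmaCore S := by
    rw [← typeCore_eq_sigmaCore B P.hS,
      typeCore_eq_fittingHallOf (not_typeIII_IV_of_typeII B P.hS hSII)]
  have hP := P.hSP
  refine ⟨hP.W₁_cyclic, hU'.hall, ⟨hP.U_compl.2.1.trans S.commutator_le_self,
    sup_le hP.W₁_compl.2.1 (OddOrder.sigmaCore_le S), ?_, fun m hm => ?_⟩, hP.U_normal⟩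
  · refine le_bot_iff.1 fun u hu => ?_
    have hu' : u ∈ ⁅S, S⁆ := hP.U_compl.2.1 hu.1
    have h2 : u ∈ W₁ ⊔ sigmaCore S := hu.2
    rw [← SetLike.mem_coe, Subgroup.coe_mul_of_left_le_normalizer_right _ _
      (hP.W₁_compl.2.1.trans fun m hm => Subgroup.mem_normalizer_iff.2 fun x =>
        ⟨conj_mem_sigmaCore B hm, fun h => by
          simpa [mul_assoc] using conj_mem_sigmaCore B (inv_mem hm) h⟩)] at h2
    obtain ⟨w, hw, h, hh, rfl⟩ := Set.mem_mul.1 h2
    have hh' : h ∈ fittingHallOf S := hF ▸ hh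
    have hw' : w ∈ ⁅S, S⁆ ⊓ W₁ := ⟨by simpa using mul_mem hu' (inv_mem (hP.U_compl.1 hh')), hw⟩
    rw [hP.W₁_compl.2.2.1, Subgroup.mem_bot] at hw'
    have : w * h ∈ fittingHallOf S ⊓ U := ⟨by rw [hw', one_mul]; exact hh', hu.1⟩
    rwa [hP.U_compl.2.2.1] at this
  · obtain ⟨a, ha, b, hb, rfl⟩ := hP.W₁_compl.2.2.2 m hm
    obtain ⟨h, hh, u, hu, rfl⟩ := hP.U_compl.2.2.2 a ha
    refine ⟨u, hu, u⁻¹ * h * u * b, mul_mem (Subgroup.mem_sup_right ?_) (Subgroup.mem_sup_left hb),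
      by group⟩
    rw [hF] at hh
    have := conj_mem_sigmaCore B (inv_mem (hP.U_compl.2.1.trans S.commutator_le_self hu)) hh
    simpa using this

/-- The data of (13.17). -/
theorem typeII_support (hG : IsMinSimpleOddOrder G) {S T W₁ W₂ U V : Subgroup G}
    (P : TypePair S T W₁ W₂ U V) (hSII : IsOfTypeII S) {L : Subgroup G} (hL : IsCoatom L)
    (hNU : Subgroup.normalizer (U : Set G) ≤ L)
    (hp : (Nat.card W₂).Prime) (hq : (Nat.card W₁).Prime) :
    kappa L = ∅ ∧ U ≤ sigmaCore L ∧ IsComplIn (L ⊓ T) (sigmaCore L) L ∧ U ≠ ⊥ ∧ W₁ ≤ L := by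
  classical
  have hd := typeII_decomposition B P hSII
  obtain ⟨⟨V', hV'⟩, hW₁⟩ := pair_decomposition B P.swap
  obtain ⟨-, hW₂⟩ := pair_decomposition B P
  have hW₂s : (sigmaCore S : Set G) ⊓ (Subgroup.centralizer (W₁ : Set G) : Set G) = (W₂ : Set G) :=
    congrArg SetLike.coe hW₂
  have hW₁s : (sigmaCore T : Set G) ⊓ (Subgroup.centralizer (W₂ : Set G) : Set G) = (W₁ : Set G) :=
    congrArg SetLike.coe hW₁
  obtain ⟨hUab, hNUS⟩ := B.s1363 S P.hS W₁ U hd P.hSP.W₁_ne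
  have hfpf := B.s1353 S P.hS W₁ U hd
  have hU1 : U ≠ ⊥ := ((B.s1381 S P.hS W₁ U hd).1 hSII).2
  have hW₁T : W₁ ≤ sigmaCore T := fun x hx => (B.s1355 T P.hT).2.1 (P.hTP.W₂_le hx).1
  have hW₁N : W₁ ≤ Subgroup.normalizer (U : Set G) := P.hSP.U_normal
  have hW₁L : W₁ ≤ L := hW₁N.trans hNU
  have hUL : U ≤ L := Subgroup.le_normalizer.trans hNU
  haveI := hUab
  -- the maximal subgroup over the normalisers of the Sylow subgroups of `U`
  obtain ⟨r, hr, hrd⟩ := Nat.exists_prime_and_dvd (Nat.ne_of_gt (U.one_lt_card_iff_ne_bot.2 hU1))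
  haveI := Fact.mk hr
  obtain ⟨R⟩ : Nonempty (Sylow r U) := inferInstance
  set R' := (R : Subgroup U).map U.subtype with hR'
  have hR1 : R' ≠ ⊥ := by
    rw [hR', Ne, Subgroup.map_eq_bot_iff_of_injective _ U.subtype_injective]
    exact R.ne_bot_of_dvd_card hrd
  have hRS : R' ≤ S := (Subgroup.map_subtype_le _).trans hd.compl.1
  obtain ⟨H, hH, hRH⟩ := exists_coatom_ge (X := Subgroup.normalizer (R' : Set G))
    (normalizer_ne_top_of_minSimple hG hR1 fun h => P.hS.1 (top_unique (h ▸ hRS)))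
  obtain ⟨hkH, hUH, -, -, -, hcompl⟩ := B.s1435 S P.hS W₁ U hd P.hSP.W₁_ne hU1 T P.hT
    (by rw [hW₂s, hW₁]) (by rw [hW₂]; exact hV'.hall) r hrd R H hH hRH
  have hNR : Subgroup.normalizer (U : Set G) ≤ Subgroup.normalizer (R' : Set G) := by
    have key : ∀ g ∈ Subgroup.normalizer (U : Set G), ∀ x ∈ R', g * x * g⁻¹ ∈ R' := by
      rintro g hg _ ⟨⟨x, hxU⟩, hx, rfl⟩
      have hgx : g * x * g⁻¹ ∈ U := (Subgroup.mem_normalizer_iff.1 hg x).1 hxU
      obtain ⟨k, hk⟩ := R.2 ⟨⟨x, hxU⟩, hx⟩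
      have hk' : x ^ r ^ k = 1 := by
        simpa using congrArg Subtype.val (congrArg Subtype.val hk)
      have hp' : IsPGroup r (Subgroup.zpowers (⟨_, hgx⟩ : U)) := by
        intro z
        refine ⟨k, Subtype.ext ?_⟩
        obtain ⟨n, hn⟩ := Subgroup.mem_zpowers_iff.1 z.2
        have e : (⟨_, hgx⟩ : U) ^ r ^ k = 1 := Subtype.ext (by
          show (g * x * g⁻¹) ^ r ^ k = 1
          rw [conj_pow, hk', mul_one, mul_inv_cancel])
        show (z : U) ^ r ^ k = 1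
        rw [← hn, ← zpow_natCast, ← zpow_mul, mul_comm, zpow_mul, zpow_natCast, e, one_zpow]
      obtain ⟨Q, hQ⟩ := hp'.exists_le_sylow
      haveI : (R : Subgroup U).Normal := inferInstance
      haveI := Sylow.unique_of_normal R inferInstance
      rw [Subsingleton.elim Q R] at hQ
      exact ⟨⟨_, hgx⟩, hQ (Subgroup.mem_zpowers _), rfl⟩
    intro g hg
    exact Subgroup.mem_normalizer_iff.2 fun x => ⟨key g hg x, fun h => by
      simpa [mul_assoc] using key g⁻¹ (inv_mem hg) _ h⟩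
  have hNH : Subgroup.normalizer (U : Set G) ≤ H := hNR.trans hRH
  suffices hLH : L = H by subst hLH; exact ⟨hkH, hUH, hcompl, hU1, hW₁L⟩
  by_cases hconj : ∃ g : G, L = H.map (MulAut.conj g).toMonoidHom
  · -- a conjugate of `H` containing `N(U)` is `H`
    obtain ⟨g, hg⟩ := hconj
    obtain ⟨u, hu, hu1⟩ := (Subgroup.bot_or_exists_ne_one U).resolve_left hU1
    obtain ⟨-, R₀, hR₀, -, huniq⟩ := B.s1374 H hH u (hUH hu) hu1
    obtain ⟨x, ⟨hxR, hxL⟩, hx⟩ := huniq g (hg ▸ hUL hu)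
    have hxU : x ∈ Subgroup.centralizer (U : Set G) := Subgroup.mem_centralizer_iff.2 fun v hv => by
      have hvc : v ∈ Subgroup.centralizer ({u} : Set G) := Subgroup.mem_centralizer_singleton_iff.2
        (congrArg Subtype.val (mul_comm' (⟨v, hv⟩ : U) ⟨u, hu⟩))
      have hvH : MulAut.conj v • H = H := Final.map_conj_eq_of_mem_normalizer
        (Subgroup.le_normalizer (OddOrder.sigmaCore_le H (hUH hv)))
      have hvL : MulAut.conj v • L = L :=
        Final.map_conj_eq_of_mem_normalizer (Subgroup.le_normalizer (hUL hv))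
      have h1 : v * x * v⁻¹ = x := hx _ ⟨(Subgroup.mem_normalizer_iff.1 (hR₀ hvc) x).1 hxR, by
        have e : MulAut.conj (v * x * v⁻¹) • H = L := by
          have hxL' : MulAut.conj x • H = L := hxL.trans hg.symm
          have hvH' : MulAut.conj v⁻¹ • H = H := by
            conv_lhs => rw [← hvH]
            rw [← mul_smul, ← map_mul, inv_mul_cancel, map_one, one_smul]
          rw [map_mul, map_mul, mul_smul, mul_smul, hvH', hxL', hvL]
        exact e.trans hg⟩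
      exact mul_inv_eq_iff_eq_mul.1 h1
    have hxH : x ∈ H := hNH (Subgroup.centralizer_le_normalizer _ hxU)
    rw [hg, ← hxL]
    exact Final.map_conj_eq_of_mem_normalizer (Subgroup.le_normalizer hxH)
  exfalso
  have hnc : NotConj H L := fun g hg => hconj ⟨g, hg⟩
  have hUσ : ∀ l : ℕ, l.Prime → l ∣ Nat.card U → l ∉ sigma L := fun l hl hld =>
    not_mem_sigma_of_notConj B hH hL hnc
      (mem_sigma_of_dvd_sigmaCore hl (hld.trans (Subgroup.card_dvd_of_le hUH)))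
  have hUdisj : U ⊓ sigmaCore L = ⊥ := Coprime.disjoint_of_coprime_card
    (Nat.coprime_of_dvd fun l hl h1 h2 => hUσ l hl h1 (mem_sigma_of_dvd_sigmaCore hl h2))
  obtain ⟨w, hw, hw1⟩ := (Subgroup.bot_or_exists_ne_one W₁).resolve_left P.hSP.W₁_ne
  have hqσ : Nat.card W₁ ∉ sigma L := fun hs => by
    refine hU1 (le_bot_iff.1 fun u hu => ?_)
    have hwL := mem_sigmaCore_of_prime B hG hL hW₁L hq rfl hs hw
    have h1 : w * u * w⁻¹ * u⁻¹ ∈ U ⊓ sigmaCore L := by
      refine ⟨mul_mem ((Subgroup.mem_normalizer_iff.1 (hW₁N hw) u).1 hu) (U.inv_mem hu), ?_⟩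
      have h2 := mul_mem hwL (conj_mem_sigmaCore B (hUL hu) (inv_mem hwL))
      simpa [mul_assoc] using h2
    rw [hUdisj, Subgroup.mem_bot, mul_inv_eq_one, mul_inv_eq_iff_eq_mul] at h1
    have h3 : u ∈ U ⊓ Subgroup.centralizer ({w} : Set G) :=
      ⟨hu, Subgroup.mem_centralizer_singleton_iff.2 h1.symm⟩
    rwa [hfpf w hw hw1] at h3
  -- `U` fixes nothing in `L_σ`
  have hCU : sigmaCore L ⊓ Subgroup.centralizer (U : Set G) = ⊥ := by
    refine le_bot_iff.1 fun y hy => ?_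
    by_contra hy1
    rw [Subgroup.mem_bot] at hy1
    obtain ⟨u, hu, hu1⟩ := (Subgroup.bot_or_exists_ne_one U).resolve_left hU1
    exact not_commute_sigmaCore B hG hL hH hnc.symm hkH hy.1 hy1
      (hNH (Subgroup.centralizer_le_normalizer _ hy.2)) (hUH hu) hu1 (hUL hu)
      ((Subgroup.mem_centralizer_iff.1 hy.2 u hu).symm)
  -- so `W₁` fixes something
  have hσ1 : sigmaCore L ≠ ⊥ := typeCore_eq_sigmaCore B hL ▸ typeCore_ne_bot B hL
  have hUW : U ⊓ W₁ = ⊥ := Decomp.right_inf_left hd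
  have hcop : (Nat.card (sigmaCore L)).Coprime (Nat.card ↥(U ⊔ W₁)) := by
    rw [Decomp.card_sup hd]
    refine Nat.Coprime.mul_right (Nat.coprime_of_dvd fun l hl h1 h2 =>
      hUσ l hl h2 (mem_sigma_of_dvd_sigmaCore hl h1)) (Nat.coprime_of_dvd fun l hl h1 h2 => hqσ ?_)
    rw [← (Nat.prime_dvd_prime_iff_eq hl hq).1 h2]
    exact mem_sigma_of_dvd_sigmaCore hl h1
  have hform := S1545.result U W₁ (sigmaCore L) hU1 P.hSP.W₁_ne hUW
    (fun e he x hx => (Subgroup.mem_normalizer_iff.1 (hW₁N he) x).1 hx)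
    (fun e he he1 x hx hc => by
      have h3 : x ∈ U ⊓ Subgroup.centralizer ({e} : Set G) :=
        ⟨hx, Subgroup.mem_centralizer_singleton_iff.2 hc.symm⟩
      rwa [hfpf e he he1] at h3)
    (fun x hx h hh => conj_mem_sigmaCore B (sup_le hUL hW₁L hx) hh)
    (Coprime.disjoint_of_coprime_card hcop)
    (haveI := hG.2.2.2 L hL.1; Group.isSolvable_of_isSolvable_injective
      (f := Subgroup.inclusion (OddOrder.sigmaCore_le L)) (Subgroup.inclusion_injective _))
    hcop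
  have hCW : sigmaCore L ⊓ Subgroup.centralizer (W₁ : Set G) ≠ ⊥ := by
    intro h0
    refine hσ1 (Subgroup.card_eq_one.1 ?_)
    have h1 : sigmaCore L ⊓ Subgroup.centralizer ((U ⊔ W₁ : Subgroup G) : Set G) = ⊥ :=
      le_bot_iff.1 (hCU ▸ inf_le_inf_left _ (Subgroup.centralizer_le fun a ha => Subgroup.mem_sup_left ha))
    rw [h0, h1, hCU, Subgroup.card_bot, one_pow, one_mul, one_mul] at hform
    exact hform
  obtain ⟨y₀, hy₀, hy₀1⟩ := (Subgroup.bot_or_exists_ne_one _).resolve_left hCW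
  obtain ⟨l, hl, hld⟩ := Nat.exists_prime_and_dvd fun h => hy₀1 (orderOf_eq_one_iff.1 h)
  haveI := Fact.mk hl
  set y := y₀ ^ (orderOf y₀ / l)
  have ho : orderOf y = l := orderOf_pow_orderOf_div (orderOf_pos y₀).ne' hld
  have hy : y ∈ sigmaCore L ⊓ Subgroup.centralizer (W₁ : Set G) := Subgroup.pow_mem _ hy₀ _
  have hy1 : y ≠ 1 := fun h => hl.ne_one (by rw [← ho, h, orderOf_one])
  have hwy : Commute w y := Subgroup.mem_centralizer_iff.1 hy.2 w hw
  have hlL : l ∈ sigma L := mem_sigma_of_dvd_sigmaCore hl (ho ▸ Subgroup.orderOf_dvd_natCard _ hy.1)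
  have hTc := (B.s1367 T P.hT W₂ V' hV' P.hTP.W₁_ne S P.hS (by rw [hW₁s, hW₂])
    (by rw [hW₁]; exact hd.hall)).1 W₁ (by rw [hW₁]) hq
  have hyT : y ∈ T := hTc.1 hy.2
  have hqT : Nat.card W₁ ∈ sigma T :=
    mem_sigma_of_dvd_sigmaCore hq (Subgroup.card_dvd_of_le hW₁T)
  have hTL : NotConj T L := fun g hg => hqσ (by rw [hg, sigma_conj]; exact hqT)
  have hlT : l ∉ sigma T := not_mem_sigma_of_notConj B hL P.hT hTL.symm hlL
  by_cases hlk : l ∈ kappa T
  · -- `l = |W₂|`, so `L` is a conjugate of `S`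
    have hlp : l ∈ sigma S := by
      refine mem_sigma_of_dvd_sigmaCore hl (Dvd.dvd.trans ?_
        (Subgroup.card_dvd_of_le (fun x hx => (B.s1355 S P.hS).2.1 (P.hSP.W₂_le hx).1 : W₂ ≤ _)))
      have h := Subgroup.relIndex_mul_relIndex ⊥ W₂ T bot_le hV'.hall.1
      rw [Subgroup.relIndex_bot_left, Subgroup.relIndex_bot_left] at h
      exact ((Nat.Prime.dvd_mul hl).1 (h ▸ hlk.2.1)).resolve_right (hV'.hall.2.2 l hl hlk)
    obtain ⟨g, hg⟩ := B.s1378.2 S L P.hS hL ⟨l, hlp, hlL⟩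
    have hder : ⁅L, L⁆ = MulAut.conj g • (U ⊔ sigmaCore S) := by
      rw [hg, ← Subgroup.map_commutator, (B.s1365 S P.hS W₁ U hd P.hSP.W₁_ne).1]; rfl
    have hUder : U ≤ ⁅L, L⁆ := by
      intro u hu
      have hinj : Function.Injective (fun v : U =>
          (⟨(v : G) * (w * (v : G)⁻¹ * w⁻¹), mul_mem v.2
            ((Subgroup.mem_normalizer_iff.1 (hW₁N hw) _).1 (inv_mem v.2))⟩ : U)) := by
        intro a b hab
        have hab' : (a : G) * (w * (a : G)⁻¹ * w⁻¹) = b * (w * (b : G)⁻¹ * w⁻¹) :=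
          congrArg Subtype.val hab
        have h3 : (b : G)⁻¹ * a ∈ U ⊓ Subgroup.centralizer ({w} : Set G) := by
          refine ⟨U.mul_mem (U.inv_mem b.2) a.2, Subgroup.mem_centralizer_singleton_iff.2 ?_⟩
          calc (b : G)⁻¹ * a * w = (b : G)⁻¹ * ((a : G) * (w * (a : G)⁻¹ * w⁻¹)) * w * a := by group
            _ = (b : G)⁻¹ * (b * (w * (b : G)⁻¹ * w⁻¹)) * w * a := by rw [hab']
            _ = w * ((b : G)⁻¹ * a) := by group
        rw [hfpf w hw hw1, Subgroup.mem_bot, inv_mul_eq_one] at h3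
        exact Subtype.ext h3.symm
      obtain ⟨v, hv⟩ := Finite.surjective_of_injective hinj ⟨u, hu⟩
      rw [← show (v : G) * (w * (v : G)⁻¹ * w⁻¹) = u from congrArg Subtype.val hv,
        show (v : G) * (w * (v : G)⁻¹ * w⁻¹) = ⁅(v : G), w⁆ by rw [commutatorElement_def]; group]
      exact Subgroup.commutator_mem_commutator (hUL v.2) (hW₁L hw)
    have hσ : MulAut.conj g • sigmaCore S = sigmaCore L := by rw [hg]; exact (sigmaCore_map g S).symm
    have hle : U ≤ (MulAut.conj g • U) ⊔ sigmaCore L := by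
      rw [← hσ, ← Subgroup.smul_sup, ← hder]; exact hUder
    have hn : MulAut.conj g • U ≤ Subgroup.normalizer ((sigmaCore L : Subgroup G) : Set G) := by
      refine le_trans ?_ (le_normalizer_map_subtype (piCore (sigma L) L))
      rw [hg]
      exact Subgroup.map_mono hd.compl.1
    obtain ⟨s, hs, hsU⟩ := Coprime.exists_conj_eq_of_le_sup hn hle (Coprime.card_conj_smul g U).symm
      (by
        rw [Coprime.card_conj_smul]
        exact Nat.coprime_of_dvd fun x hx h1 h2 => hUσ x hx h1 (mem_sigma_of_dvd_sigmaCore hx h2))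
      (Or.inr (haveI : IsMulCommutative (MulAut.conj g • U : Subgroup G) :=
          Subgroup.map_isMulCommutative U _;
        Group.isSolvable_of_comm fun a b => mul_comm' a b))
    rw [Coprime.conj_smul_smul] at hsU
    have hsg : s * g ∈ L := hNU (Coprime.mem_normalizer_of_conj_smul_eq hsU)
    have hgL : g ∈ L := (Subgroup.mul_mem_cancel_left L (OddOrder.sigmaCore_le L hs)).1 hsg
    refine hNUS (hNU.trans (le_of_eq ?_))
    rw [← map_conj_inv g S, ← hg]
    exact (Final.map_conj_eq_of_mem_normalizer (Subgroup.le_normalizer (inv_mem hgL))).symm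
  · have hu := unique_of_sigmaHat B hG P.hT (hW₁T hw) hw1 hyT hwy ho hlT hlk
    exact hTL.ne (eq_of_fixed B hL hy.1 hy1 hu (hW₁T hw) (hW₁L hw) hw1 hwy)

/-- Peterfalvi (13.17). -/
theorem typeII_support_frobenius (hG : IsMinSimpleOddOrder G) {S T W₁ W₂ U V : Subgroup G}
    (P : TypePair S T W₁ W₂ U V) (hSII : IsOfTypeII S)
    (hp : (Nat.card W₂).Prime) (hq : (Nat.card W₁).Prime)
    (hQ : IsElementaryAbelian (Nat.card W₁) (fittingHallOf T))
    (hN : Subgroup.normalizer (W₁ : Set G) = fittingHallOf T ⊔ W₂)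
    (hfrob : ∀ M : Subgroup G, IsCoatom M → IsOfTypeI' M → ∀ x ∈ fittingHallOf M, x ≠ 1 →
      M ⊓ Subgroup.centralizer ({x} : Set G) ≤ fittingHallOf M)
    {L : Subgroup G} (hL : IsCoatom L) (hNU : Subgroup.normalizer (U : Set G) ≤ L) :
    (∀ x ∈ fittingHallOf L, x ≠ 1 → L ⊓ Subgroup.centralizer ({x} : Set G) ≤ fittingHallOf L) ∧
      U ≤ fittingHallOf L ∧
      ((fittingHallOf L ⊓ W₁ = ⊥ ∧ fittingHallOf L ⊔ W₁ = L) ∨
        ∃ y ∈ fittingHallOf T,
          fittingHallOf L ⊓ (W₁ ⊔ W₂.map (MulAut.conj y).toMonoidHom) = ⊥ ∧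
          fittingHallOf L ⊔ (W₁ ⊔ W₂.map (MulAut.conj y).toMonoidHom) = L) := by
  classical
  obtain ⟨hk, hUF, hc, -, hW₁L⟩ := typeII_support B hG P hSII hL hNU hp hq
  have hI : IsOfTypeI' L := Dichotomy.isOfTypeI_of_kappa_empty B hL hk
  have hF : sigmaCore L = fittingHallOf L := sigmaCore_eq_fittingHallOf_of_typeI B hL hI
  rw [hF] at hUF hc
  have hFr := hfrob L hL hI
  refine ⟨hFr, hUF, ?_⟩
  set F := fittingHallOf L with hFdef
  set E := L ⊓ T with hE
  set Q := fittingHallOf T with hQdef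
  have hW₁Q : W₁ ≤ Q := P.hTP.W₂_le.trans inf_le_left
  have hW₁E : W₁ ≤ E := le_inf hW₁L (hW₁Q.trans (fittingHallOf_le T))
  have hFL : F ≤ L := fittingHallOf_le L
  have hEF : E ⊓ F = ⊥ := hc.2.2.1
  have hsupE : F ⊔ E = L := le_antisymm (sup_le hFL inf_le_left) fun m hm => by
    obtain ⟨a, ha, b, hb, rfl⟩ := hc.2.2.2 m hm
    exact mul_mem (Subgroup.mem_sup_right ha) (Subgroup.mem_sup_left hb)
  -- `E ∩ Q` is cyclic of exponent `q`
  have hEQ : E ⊓ Q = W₁ := by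
    haveI := hQ.1
    haveI : IsMulCommutative (E ⊓ Q : Subgroup G) := ⟨⟨fun a b => Subtype.ext
      (show (a : G) * b = b * a from
        congrArg Subtype.val (mul_comm' (⟨a, a.2.2⟩ : Q) ⟨b, b.2.2⟩))⟩⟩
    set Z := F ⊓ Subgroup.centralizer (F : Set G)
    haveI : IsMulCommutative Z := ⟨⟨fun a b => Subtype.ext
      (show (a : G) * b = b * a from (Subgroup.mem_centralizer_iff.1 b.2.2 a a.2.1))⟩⟩
    have hLF : ∀ m ∈ L, ∀ z ∈ F, m * z * m⁻¹ ∈ F := fun m hm z hz => conj_mem_map_subtype _ hm hz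
    have hLZ : ∀ m ∈ L, ∀ z ∈ Z, m * z * m⁻¹ ∈ Z := by
      intro m hm z hz
      refine ⟨hLF m hm z hz.1, Subgroup.mem_centralizer_iff.2 fun a ha => ?_⟩
      have h := Subgroup.mem_centralizer_iff.1 hz.2 _ (hLF m⁻¹ (inv_mem hm) a ha)
      calc a * (m * z * m⁻¹) = m * (m⁻¹ * a * m⁻¹⁻¹ * z) * m⁻¹ := by group
        _ = m * (z * (m⁻¹ * a * m⁻¹⁻¹)) * m⁻¹ := by rw [h]
        _ = m * z * m⁻¹ * a := by group
    have hnZ : E ⊓ Q ≤ Subgroup.normalizer (Z : Set G) := fun m hm =>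
      Subgroup.mem_normalizer_iff.2 fun z => ⟨hLZ m hm.1.1 z, fun h => by
        simpa [mul_assoc] using hLZ m⁻¹ (inv_mem hm.1.1) _ h⟩
    have hfpf := Frobenius.Fpf.isFpf_conjHom (E ⊓ Q) Z hnZ fun e he he1 => by
      refine le_bot_iff.1 fun z hz => ?_
      by_contra hz1
      rw [Subgroup.mem_bot] at hz1
      have heF : e ∈ F := hFr z hz.1.1 hz1 ⟨he.1.1,
        Subgroup.mem_centralizer_singleton_iff.2 (Subgroup.mem_centralizer_singleton_iff.1 hz.2).symm⟩
      have : e ∈ E ⊓ F := ⟨he.1, heF⟩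
      rw [hEF, Subgroup.mem_bot] at this
      exact he1 this
    have hZ1 : Z ≠ ⊥ := by
      haveI : Nontrivial F := (Subgroup.nontrivial_iff_ne_bot F).2 (B.s1355 L hL).1
      haveI : Group.IsNilpotent F := HallFusion.isNilpotent_fittingHallOf L
      haveI : Nontrivial (Subgroup.center F) :=
        (Subgroup.nontrivial_iff_ne_bot _).2 (Group.IsNilpotent.center_ne_bot F)
      obtain ⟨⟨z, hz⟩, hz1⟩ := exists_ne (1 : Subgroup.center F)
      intro h
      refine hz1 (Subtype.ext (Subtype.ext ?_))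
      have : (z : G) ∈ Z := ⟨z.2, Subgroup.mem_centralizer_iff.2 fun a ha =>
        congrArg Subtype.val (Subgroup.mem_center_iff.1 hz ⟨a, ha⟩)⟩
      rwa [h, Subgroup.mem_bot] at this
    haveI : Nontrivial Z := (Subgroup.nontrivial_iff_ne_bot Z).2 hZ1
    haveI := Frobenius.Fpf.isCyclic_of_comm hfpf fun a b => mul_comm' a b
    obtain ⟨a, ha⟩ := IsCyclic.exists_generator (α := ↥(E ⊓ Q))
    refine (Subgroup.eq_of_le_of_card_ge (le_inf hW₁E hW₁Q) ?_).symm
    rw [← orderOf_eq_card_of_forall_mem_zpowers ha]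
    exact Nat.le_of_dvd Nat.card_pos
      (orderOf_dvd_of_pow_eq_one (Subtype.ext (hQ.2 a a.2.2)))
  have hTQ : T ≤ Subgroup.normalizer (Q : Set G) := le_normalizer_map_subtype _
  have hEW : E ≤ Q ⊔ W₂ := by
    rw [← hN]
    intro e he
    rw [← hEQ]
    refine Subgroup.mem_normalizer_iff.2 fun x => ?_
    show x ∈ E ∧ x ∈ Q ↔ e * x * e⁻¹ ∈ E ∧ e * x * e⁻¹ ∈ Q
    rw [(Subgroup.mem_normalizer_iff.1 (hTQ he.2) x)]
    exact and_congr_left fun _ => ⟨fun hx => mul_mem (mul_mem he hx) (inv_mem he), fun hx => by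
      simpa [mul_assoc] using mul_mem (mul_mem (inv_mem he) hx) he⟩
  have hpq : Nat.card W₂ ≠ Nat.card W₁ := fun h => by
    have := (typeP_card_W₁_coprime P.hSP).coprime_dvd_right (Subgroup.card_dvd_of_le
      ((P.hSP.W₂_le.trans inf_le_right).trans (Subgroup.commutator_le_self _)))
    rw [h, Nat.coprime_self] at this
    exact P.hSP.W₁_ne (Subgroup.card_eq_one.1 this)
  have hQp : (Nat.card W₂).Coprime (Nat.card Q) := by
    haveI := Fact.mk hq
    obtain ⟨k, hk⟩ := (PGroup.isPGroup_of_elementaryAbelian hQ).exists_card_eq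
    rw [hk]
    exact ((Nat.coprime_primes hp hq).2 hpq).pow_right k
  have hW₂Q : W₂ ⊓ Q = ⊥ := Coprime.disjoint_of_coprime_card hQp
  have hW₂T : W₂ ≤ Subgroup.normalizer (Q : Set G) := P.hTP.W₁_compl.2.1.trans hTQ
  have hEQn : E ≤ Subgroup.normalizer (Q : Set G) := inf_le_right.trans hTQ
  have hdvd : Nat.card E ∣ Nat.card W₁ * Nat.card W₂ := by
    have h2 : Nat.card ↥(W₂ ⊔ Q) = Nat.card W₂ * Nat.card Q :=
      Coprime.card_sup_of_le_normalizer hW₂T hW₂Q
    have hle : E ⊔ Q ≤ W₂ ⊔ Q := sup_le (hEW.trans_eq (sup_comm _ _)) le_sup_right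
    have hi : Q.relIndex E ∣ Nat.card W₂ := by
      rw [← Coprime.relIndex_sup_right_of_le_normalizer hEQn]
      have e1 := Subgroup.relIndex_mul_relIndex ⊥ Q (E ⊔ Q) bot_le le_sup_right
      rw [Subgroup.relIndex_bot_left, Subgroup.relIndex_bot_left] at e1
      refine Nat.dvd_of_mul_dvd_mul_left (Nat.card_pos (α := Q)) ?_
      rw [e1, mul_comm (Nat.card Q), ← h2]
      exact Subgroup.card_dvd_of_le hle
    have e2 := Subgroup.relIndex_mul_relIndex ⊥ (E ⊓ Q) E bot_le inf_le_left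
    rw [Subgroup.relIndex_bot_left, Subgroup.relIndex_bot_left, Subgroup.inf_relIndex_left, hEQ] at e2
    rw [← e2]
    exact mul_dvd_mul_left _ hi
  by_cases hpE : Nat.card W₂ ∣ Nat.card E
  · right
    haveI := Fact.mk hp
    obtain ⟨⟨e, he⟩, heo⟩ := exists_prime_orderOf_dvd_card' (G := E) _ hpE
    rw [Subgroup.orderOf_mk] at heo
    obtain ⟨y, hy, hye⟩ := Coprime.exists_conj_eq_of_le_sup (N := Q) (H := W₂)
      (K := Subgroup.zpowers e) hW₂T (Subgroup.zpowers_le.2 (sup_comm Q W₂ ▸ hEW he))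
      (by rw [Nat.card_zpowers, heo]) hQp
      (Or.inl (haveI := hQ.1; Group.isSolvable_of_comm fun a b => mul_comm' a b))
    have hye' : W₂.map (MulAut.conj y).toMonoidHom = Subgroup.zpowers e := hye
    refine ⟨y, hy, ?_⟩
    have heq : W₁ ⊔ Subgroup.zpowers e = E := by
      refine Subgroup.eq_of_le_of_card_ge (sup_le hW₁E (Subgroup.zpowers_le.2 he)) ?_
      refine Nat.le_of_dvd Nat.card_pos (hdvd.trans (Nat.Coprime.mul_dvd_of_dvd_of_dvd
        ((Nat.coprime_primes hq hp).2 hpq.symm) (Subgroup.card_dvd_of_le le_sup_left) ?_))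
      rw [← heo, ← Nat.card_zpowers]
      exact Subgroup.card_dvd_of_le le_sup_right
    rw [hye', heq, inf_comm]
    exact ⟨hEF, hsupE⟩
  · left
    have heq : W₁ = E := Subgroup.eq_of_le_of_card_ge hW₁E (Nat.le_of_dvd Nat.card_pos
      (((hp.coprime_iff_not_dvd.2 hpE).symm).dvd_of_dvd_mul_right hdvd))
    rw [heq, inf_comm]
    exact ⟨hEF, hsupE⟩

/-- Row 1549. -/
theorem row1549 (hG : IsMinSimpleOddOrder G) (hV : NoTypeV G) (hPP : PairPrimes G)
    (h3 : TypeIIIOnly G) (hK : TypeIIIKernel G) (hC : TypeIIKernel G)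
    (hfrob : ∀ M : Subgroup G, IsCoatom M → IsOfTypeI' M → ∀ x ∈ fittingHallOf M, x ≠ 1 →
      M ⊓ Subgroup.centralizer ({x} : Set G) ≤ fittingHallOf M)
    (S T W₁ W₂ U V : Subgroup G) (hS : IsCoatom S) (hT : IsCoatom T)
    (hSP : IsTypePWith S W₁ U W₂) (hTP : IsTypePWith T W₂ V W₁) (hST : S ⊓ T = W₁ ⊔ W₂)
    (hII : IsOfTypeII S ∨ IsOfTypeII T)
    (hS25 : IsOfTypeII S ∨ IsOfTypeIII S ∨ IsOfTypeIV S ∨ IsOfTypeV S)
    (hT25 : IsOfTypeII T ∨ IsOfTypeIII T ∨ IsOfTypeIV T ∨ IsOfTypeV T)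
    (hSII : IsOfTypeII S) (L : Subgroup G) (hL : IsCoatom L)
    (hNU : Subgroup.normalizer (U : Set G) ≤ L) :
    (∀ x ∈ fittingHallOf L, x ≠ 1 → L ⊓ Subgroup.centralizer ({x} : Set G) ≤ fittingHallOf L) ∧
      U ≤ fittingHallOf L ∧
      ((fittingHallOf L ⊓ W₁ = ⊥ ∧ fittingHallOf L ⊔ W₁ = L) ∨
        ∃ y ∈ fittingHallOf T,
          fittingHallOf L ⊓ (W₁ ⊔ W₂.map (MulAut.conj y).toMonoidHom) = ⊥ ∧
          fittingHallOf L ⊔ (W₁ ⊔ W₂.map (MulAut.conj y).toMonoidHom) = L) := by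
  have P : TypePair S T W₁ W₂ U V := ⟨hS, hT, hSP, hTP, hST, hII, hS25, hT25⟩
  have D := pairSide hG B hV hPP h3 hK P
  obtain ⟨h1, h2⟩ := normalizer_W₁_of_pair hG B hV hPP h3 hK hC P
  exact typeII_support_frobenius B hG P hSII D.p_prime D.q_prime
    (pairSide hG B hV hPP h3 hK P.swap).isElementaryAbelian (h1.trans h2) hfrob hL hNU

end Cfsg.Agent.OddOrder.PF
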