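import Cfsg.Agent.Lib.OddOrder.PF.S14_Numeric

/-!
Further arithmetic for Peterfalvi 14: the consequences of the budget, of equality in Bessel's
inequality, and the bounds on the order of the kernel of the companion.
-/

set_option autoImplicit false

namespace Cfsg.Agent.OddOrder.PF.S14

variable {p q u v M M' : ℕ}

/-- `M` has no non-trivial divisor whose primes divide `(q - 1) / 2`, and symmetrically. -/
theorem eq_one_of_dvd_geom_half {a b k : ℕ} (ha : a.Prime) (hb : b.Prime) (hb2 : 2 < b)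
    (hbodd : Odd b) (hM : (a - 1) * M = a ^ b - 1) (hu : u ∣ M) (h2 : u ∣ ((b - 1) / 2) ^ k) :
    u = 1 := by
  by_contra hne
  obtain ⟨r, hr, hru⟩ := Nat.exists_prime_and_dvd hne
  haveI := Fact.mk hr
  have hrb : r ∣ b - 1 := (hr.dvd_of_dvd_pow (hru.trans h2)).trans (Dvd.intro_left 2 (by
    have := Nat.odd_iff.1 hbodd; omega))
  have hrlt : r < b := by
    have := Nat.le_of_dvd (by omega) hrb
    omega
  have h1 : ((a : ZMod r)) ^ b = 1 := by
    have h := (ZMod.natCast_eq_zero_iff _ r).2 ((hru.trans hu).mul_left (a - 1))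
    rw [hM, Nat.cast_sub (Nat.one_le_pow _ _ ha.pos), Nat.cast_pow, Nat.cast_one, sub_eq_zero] at h
    exact h
  have ha0 : (a : ZMod r) ≠ 0 := fun h => by
    rw [h, zero_pow hb.ne_zero] at h1
    exact zero_ne_one h1
  have h2' : ((a : ZMod r)) ^ (r - 1) = 1 := ZMod.pow_card_sub_one_eq_one ha0
  have hcop : b.Coprime (r - 1) := hb.coprime_iff_not_dvd.2 fun hd => by
    have := Nat.le_of_dvd (by have := hr.two_le; omega) hd
    omega
  have ho : orderOf (a : ZMod r) ∣ 1 := hcop ▸ Nat.dvd_gcd (orderOf_dvd_of_pow_eq_one h1)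
    (orderOf_dvd_of_pow_eq_one h2')
  have ha1 : (a : ZMod r) = 1 := orderOf_eq_one_iff.1 (Nat.dvd_one.1 ho)
  have hmod : a ≡ 1 [MOD r] := (ZMod.natCast_eq_natCast_iff _ _ _).1 (by rw [ha1, Nat.cast_one])
  have := (geom_modEq_q ha.two_le hmod hM).symm.trans (Nat.modEq_zero_iff_dvd.2 (hru.trans hu))
  have hrb' : r ∣ b := Nat.modEq_zero_iff_dvd.1 this
  have := (Nat.prime_dvd_prime_iff_eq hr hb).1 hrb'
  omega

/-- A companion of smaller size: `3 (q - 1) v ≤ R'`. -/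
theorem companion_nonfull_bound {R' : ℕ} (hq : q.Prime) (h3 : 3 ≤ q) (hp : p.Prime) (hp5 : 5 ≤ p)
    (hM' : (q - 1) * M' = q ^ p - 1) (hd : Dich q p v M') (hne : v ≠ M')
    (hR : (q - 1) ^ p ≤ R') (hR' : v ∣ M' → R' = q ^ p - 1) : 3 * (q - 1) * v ≤ R' := by
  rcases hd with hdvd | hdvd
  · obtain ⟨m, hm⟩ := hdvd
    have hM'o := geom_odd (hq.odd_of_ne_two (by omega)) (hp.odd_of_ne_two (by omega)) hq.two_le hM'
    have hmo : m % 2 = 1 := Nat.odd_iff.1 (Nat.odd_mul.1 (hm ▸ hM'o)).2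
    have hm3 : 3 ≤ m := by
      have : m ≠ 1 := fun h => hne (by rw [hm, h, mul_one])
      omega
    rw [hR' ⟨m, hm⟩, ← hM', hm, mul_comm 3 (q - 1), mul_assoc, mul_comm v m]
    exact Nat.mul_le_mul_left _ (Nat.mul_le_mul_right v hm3)
  · have hA : 0 < (q - 1) / 2 := by omega
    have hle := Nat.le_of_dvd (pow_pos hA _) hdvd
    refine le_trans ?_ hR
    have h8 : 3 * ((q - 1) / 2) ^ (p - 1) ≤ (q - 1) ^ (p - 1) :=
      calc 3 * ((q - 1) / 2) ^ (p - 1) ≤ 2 ^ (p - 1) * ((q - 1) / 2) ^ (p - 1) := by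
            refine Nat.mul_le_mul_right _ (le_trans (show 3 ≤ 2 ^ 4 by norm_num) ?_)
            exact Nat.pow_le_pow_right (by norm_num) (by omega)
        _ = (2 * ((q - 1) / 2)) ^ (p - 1) := (mul_pow _ _ _).symm
        _ ≤ (q - 1) ^ (p - 1) := Nat.pow_le_pow_left (Nat.mul_div_le _ _) _
    calc 3 * (q - 1) * v = (q - 1) * (3 * v) := by ring
      _ ≤ (q - 1) * (q - 1) ^ (p - 1) :=
          Nat.mul_le_mul_left _ ((Nat.mul_le_mul_left 3 hle).trans h8)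
      _ = (q - 1) ^ p := by rw [← pow_succ']; congr 1; omega

/-- The budget leaves one of `U`, `V` full, and both if the coefficient is not zero. -/
theorem budget_cases {R R' h : ℕ} (h3 : 3 ≤ q) (hp5 : 5 ≤ p) (hh : 13 ≤ h)
    (hu0 : 0 < u) (hv0 : 0 < v)
    (hu : u = M → (p - 1) * u = R) (hu' : u ≠ M → q * (p - 1) * u ≤ R)
    (hv : v = M' → (q - 1) * v = R') (hv' : v ≠ M' → 3 * (q - 1) * v ≤ R') (c : ℤ)
    (hb : (1 - (u : ℝ) / R) / q + (1 - (v : ℝ) / R') / p + ((p : ℝ) - 1) * ((q : ℝ) - 1) / (p * q) +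
      (c : ℝ) ^ 2 * ((h - 1 : ℕ) : ℝ) / ((p * q : ℕ) * h) ≤ 1) :
    (u = M ∨ v = M') ∧ (c ≠ 0 → u = M ∧ v = M') := by
  have hp0 : (0 : ℝ) < p := by exact_mod_cast (show 0 < p by omega)
  have hq0 : (0 : ℝ) < q := by exact_mod_cast (show 0 < q by omega)
  have hh0 : (0 : ℝ) < h := by exact_mod_cast (show 0 < h by omega)
  have hu0' : (0 : ℝ) < u := by exact_mod_cast hu0
  have hv0' : (0 : ℝ) < v := by exact_mod_cast hv0
  have key : 1 + (c : ℝ) ^ 2 * (1 - 1 / (h : ℝ)) ≤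
      (p : ℝ) * ((u : ℝ) / R) + (q : ℝ) * ((v : ℝ) / R') := by
    rw [Nat.cast_sub (show 1 ≤ h by omega)] at hb
    push_cast at hb
    have h1 := mul_le_mul_of_nonneg_left hb (mul_pos hp0 hq0).le
    rw [show (p : ℝ) * q * ((1 - (u : ℝ) / R) / q + (1 - (v : ℝ) / R') / p +
        ((p : ℝ) - 1) * ((q : ℝ) - 1) / (p * q) + (c : ℝ) ^ 2 * ((h : ℝ) - 1) / (p * q * h)) =
      p * (1 - (u : ℝ) / R) + q * (1 - (v : ℝ) / R') + ((p : ℝ) - 1) * ((q : ℝ) - 1) +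
        (c : ℝ) ^ 2 * (1 - 1 / (h : ℝ)) by field_simp] at h1
    nlinarith
  have aux : ∀ {a x R : ℕ} (k : ℕ), 0 < x → 2 ≤ a → 0 < k → k * (a - 1) * x ≤ R →
      ∀ {b : ℕ}, 2 ≤ b → b ≤ a →
      (a : ℝ) * ((x : ℝ) / R) ≤ (b : ℝ) / ((k : ℝ) * ((b : ℝ) - 1)) := by
    intro a x R k hx ha hk hR b hb hba
    have hk0 : (0 : ℝ) < k := by exact_mod_cast hk
    have hx0 : (0 : ℝ) < x := by exact_mod_cast hx
    have ha' : (2 : ℝ) ≤ a := by exact_mod_cast ha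
    have hb' : (2 : ℝ) ≤ b := by exact_mod_cast hb
    have hba' : (b : ℝ) ≤ a := by exact_mod_cast hba
    have hR' : (k : ℝ) * ((a : ℝ) - 1) * x ≤ R := by
      rw [show ((a : ℝ) - 1) = ((a - 1 : ℕ) : ℝ) by rw [Nat.cast_sub (by omega), Nat.cast_one]]
      exact_mod_cast hR
    have hR0 : (0 : ℝ) < R := lt_of_lt_of_le (by nlinarith [mul_pos hk0 hx0]) hR'
    rw [← mul_div_assoc, div_le_div_iff₀ hR0 (by nlinarith)]
    nlinarith [mul_le_mul_of_nonneg_left hR' (show (0 : ℝ) ≤ b by linarith),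
      mul_pos hk0 hx0]
  have hu1 : u = M → (p : ℝ) * ((u : ℝ) / R) ≤ 5 / 4 := fun e => by
    have h1 := aux (a := p) 1 hu0 (by omega) one_pos (by rw [one_mul, hu e]) (b := 5) (by omega) hp5
    norm_num at h1 ⊢
    linarith
  have hu2 : u ≠ M → (p : ℝ) * ((u : ℝ) / R) ≤ 5 / 12 := fun e => by
    have h1 := aux (a := p) q hu0 (by omega) (by omega) (hu' e) (b := 5) (by omega) hp5
    refine h1.trans ?_
    have : (3 : ℝ) ≤ q := by exact_mod_cast h3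
    rw [div_le_iff₀ (by push_cast; linarith)]
    push_cast
    linarith
  have hv1 : v = M' → (q : ℝ) * ((v : ℝ) / R') ≤ 3 / 2 := fun e => by
    have h1 := aux (a := q) 1 hv0 (by omega) one_pos (by rw [one_mul, hv e]) (b := 3) (by omega) h3
    norm_num at h1 ⊢
    linarith
  have hv2 : v ≠ M' → (q : ℝ) * ((v : ℝ) / R') ≤ 1 / 2 := fun e => by
    have h1 := aux (a := q) 3 hv0 (by omega) (by omega) (hv' e) (b := 3) (by omega) h3
    norm_num at h1 ⊢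
    linarith
  have hc0 : (0 : ℝ) ≤ (c : ℝ) ^ 2 * (1 - 1 / (h : ℝ)) := by
    refine mul_nonneg (sq_nonneg _) (sub_nonneg.2 ?_)
    rw [div_le_one hh0]
    exact_mod_cast (show 1 ≤ h by omega)
  refine ⟨?_, fun hc => ?_⟩
  · by_contra hno
    push Not at hno
    linarith [hu2 hno.1, hv2 hno.2]
  · have h12 : (12 : ℝ) / 13 ≤ 1 - 1 / (h : ℝ) := by
      have : (13 : ℝ) ≤ h := by exact_mod_cast hh
      rw [le_sub_iff_add_le, ← le_sub_iff_add_le', div_le_iff₀ hh0]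
      linarith
    have hc1 : (1 : ℝ) ≤ (c : ℝ) ^ 2 := by
      have := sq_pos_of_ne_zero hc
      exact_mod_cast (show (1 : ℤ) ≤ c ^ 2 by omega)
    have hlow : (12 : ℝ) / 13 ≤ (c : ℝ) ^ 2 * (1 - 1 / (h : ℝ)) := by
      nlinarith
    by_cases e : u = M
    · refine ⟨e, by_contra fun e' => ?_⟩
      linarith [hu1 e, hv2 e']
    · by_cases e' : v = M'
      · linarith [hu2 e, hv1 e']
      · linarith [hu2 e, hv2 e']

/-- Equality in Bessel's inequality when no coefficient vanishes. -/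
theorem bessel_equality {d d' : ℤ} (h3 : 3 ≤ q) (hqp : q < p) (hd : Odd d)
    (hc : d + d' - 1 ≠ 0)
    (h : ((p - 1 : ℕ) : ℤ) * d ^ 2 + ((q - 1 : ℕ) : ℤ) * d' ^ 2 +
      ((p - 1 : ℕ) : ℤ) * ((q - 1 : ℕ) : ℤ) * (d + d' - 1) ^ 2 + 1 ≤ ((p * q : ℕ) : ℤ)) :
    Odd d' ∧ ((p - 1 : ℕ) : ℤ) * d ^ 2 + ((q - 1 : ℕ) : ℤ) * d' ^ 2 +
      ((p - 1 : ℕ) : ℤ) * ((q - 1 : ℕ) : ℤ) * (d + d' - 1) ^ 2 + 1 = ((p * q : ℕ) : ℤ) := by
  push_cast [Nat.cast_sub (show 1 ≤ p by omega), Nat.cast_sub (show 1 ≤ q by omega)] at h ⊢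
  have hq : (3 : ℤ) ≤ q := by exact_mod_cast h3
  have hp : (4 : ℤ) ≤ p := by exact_mod_cast (show 4 ≤ p by omega)
  have hd0 : d ≠ 0 := fun e => by rw [e] at hd; simp at hd
  have hd2 : 1 ≤ d ^ 2 := by have := sq_pos_of_ne_zero hd0; omega
  have hc2 : 1 ≤ (d + d' - 1) ^ 2 := by have := sq_pos_of_ne_zero hc; omega
  have hP : (0 : ℤ) ≤ (p : ℤ) - 1 := by linarith
  have hPQ : (0 : ℤ) ≤ ((p : ℤ) - 1) * ((q : ℤ) - 1) := mul_nonneg hP (by linarith)
  rcases Int.even_or_odd d' with he | ho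
  · exfalso
    obtain ⟨k, hk⟩ := he
    obtain ⟨l, hl⟩ := hd
    have hc4 : 4 ≤ (d + d' - 1) ^ 2 := by
      rw [show d + d' - 1 = 2 * (l + k) by omega] at hc ⊢
      have : 0 < (l + k) ^ 2 := sq_pos_of_ne_zero fun e => hc (by rw [e, mul_zero])
      nlinarith
    nlinarith [mul_le_mul_of_nonneg_left hc4 hPQ, mul_le_mul_of_nonneg_left hd2 hP,
      mul_nonneg (show (0 : ℤ) ≤ (q : ℤ) - 1 by linarith) (sq_nonneg d')]
  · refine ⟨ho, le_antisymm h ?_⟩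
    have hd0' : d' ≠ 0 := fun e => by rw [e] at ho; simp at ho
    have hd2' : 1 ≤ d' ^ 2 := by have := sq_pos_of_ne_zero hd0'; omega
    nlinarith [mul_le_mul_of_nonneg_left hc2 hPQ, mul_le_mul_of_nonneg_left hd2 hP,
      mul_le_mul_of_nonneg_left hd2' (show (0 : ℤ) ≤ (q : ℤ) - 1 by linarith)]

/-- For `e = q` the coefficient on the row is even. -/
theorem even_of_bessel_small {d d' : ℤ} (hqp : q < p)
    (h : ((p - 1 : ℕ) : ℤ) * d ^ 2 + ((q - 1 : ℕ) : ℤ) * d' ^ 2 +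
      ((p - 1 : ℕ) : ℤ) * ((q - 1 : ℕ) : ℤ) * (d + d' - 1) ^ 2 + 1 ≤ (q : ℤ)) : Even d := by
  rcases Int.even_or_odd d with he | ho
  · exact he
  exfalso
  have hd0 : d ≠ 0 := fun e => by rw [e] at ho; simp at ho
  have hd2 : 1 ≤ d ^ 2 := by have := sq_pos_of_ne_zero hd0; omega
  have hP : (q : ℤ) ≤ ((p - 1 : ℕ) : ℤ) := by exact_mod_cast (show q ≤ p - 1 by omega)
  have h0 : (0 : ℤ) ≤ ((p - 1 : ℕ) : ℤ) := Int.natCast_nonneg _
  have h1 : (0 : ℤ) ≤ ((q - 1 : ℕ) : ℤ) := Int.natCast_nonneg _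
  nlinarith [mul_le_mul_of_nonneg_left hd2 h0, mul_nonneg h1 (sq_nonneg d'),
    mul_nonneg (mul_nonneg h0 h1) (sq_nonneg (d + d' - 1))]

/-- `(p q) ^ 2` is below the kernel with a non-trivial cofactor. -/
theorem sq_lt_kernel {k : ℕ} (hp : p.Prime) (h3 : 3 ≤ q) (hqp : q < p)
    (hM : (p - 1) * M = p ^ q - 1) (hk : 2 * (p * q) + 1 ≤ k) : (p * q) ^ 2 < M * k := by
  refine lt_of_le_of_lt ?_ (kernel_big hp (by omega) hM hk)
  calc (p * q) ^ 2 = q * (q * p ^ 2) := by ring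
    _ ≤ 2 * q * (p * p ^ 2) := by
        rw [mul_comm 2 q, mul_assoc]
        refine Nat.mul_le_mul_left q (le_trans (Nat.mul_le_mul_right _ hqp.le) ?_)
        omega
    _ = 2 * q * p ^ 3 := by ring
    _ ≤ 2 * q * p ^ q := Nat.mul_le_mul_left _ (Nat.pow_le_pow_right hp.pos h3)

/-- No function has odd values off the four classes. -/
theorem rest_false {h : ℕ} (h3 : 3 ≤ q) (hp5 : 5 ≤ p) (hu : p ≤ u) (hv : q ≤ v)
    (hh : (p * q) ^ 2 ≤ h)
    (hb : (1 / p + 1 / q - 2 / (p * q) : ℝ) ≤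
      (p * q : ℝ) / h + 1 / (u * q) + 1 / (v * p)) : False := by
  have hp : (5 : ℝ) ≤ p := by exact_mod_cast hp5
  have hq : (3 : ℝ) ≤ q := by exact_mod_cast h3
  have hu' : (p : ℝ) ≤ u := by exact_mod_cast hu
  have hv' : (q : ℝ) ≤ v := by exact_mod_cast hv
  have hh' : ((p : ℝ) * q) ^ 2 ≤ h := by exact_mod_cast hh
  have hpq : (0 : ℝ) < (p : ℝ) * q := by positivity
  have e1 : (p * q : ℝ) / h ≤ 1 / (p * q) := by
    rw [div_le_div_iff₀ (lt_of_lt_of_le (by positivity) hh') hpq]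
    nlinarith
  have e2 : 1 / ((u : ℝ) * q) ≤ 1 / (p * q) :=
    one_div_le_one_div_of_le hpq (by nlinarith)
  have e3 : 1 / ((v : ℝ) * p) ≤ 1 / (p * q) := one_div_le_one_div_of_le hpq (by nlinarith)
  have key : 1 / (p : ℝ) + 1 / q - 2 / (p * q) ≤ 3 * (1 / (p * q)) := by linarith
  have h2 := mul_le_mul_of_nonneg_left key hpq.le
  rw [show (p : ℝ) * q * (1 / p + 1 / q - 2 / (p * q)) = q + p - 2 by field_simp,
    show (p : ℝ) * q * (3 * (1 / (p * q))) = 3 by field_simp] at h2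
  linarith

/-- A multiple `h ≡ 1 (mod p)` of `v ≡ 1 (mod p)` with `h ≤ q v` is `v`. -/
theorem eq_of_dvd_le {h N : ℕ} (hqp : q < p) (hv : v ≡ 1 [MOD p]) (hdvd : v ∣ h)
    (hN : h = p * q * N + 1) (hle : h ≤ q * v) : h = v := by
  obtain ⟨j, hj⟩ := hdvd
  have hj1 : j ≡ 1 [MOD p] := by
    have h1 : h ≡ 1 [MOD p] := by
      rw [hN]
      have : p * q * N ≡ 0 [MOD p] :=
        Nat.modEq_zero_iff_dvd.2 (dvd_mul_of_dvd_left (dvd_mul_right p q) N)
      simpa using this.add_right 1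
    rw [hj] at h1
    exact ((hv.mul_right j).symm.trans h1 |> fun e => by simpa using e)
  have hv0 : 0 < v := Nat.pos_of_ne_zero fun e => by rw [hj, e, zero_mul] at hN; omega
  have hjq : j ≤ q := by
    rw [hj, mul_comm q v] at hle
    exact Nat.le_of_mul_le_mul_left hle hv0
  have hj0 : j ≠ 0 := fun e => by rw [hj, e, mul_zero] at hN; omega
  have : j = 1 := by
    have hmod : j % p = 1 % p := hj1
    rw [Nat.mod_eq_of_lt (by omega), Nat.mod_eq_of_lt (by omega)] at hmod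
    exact hmod
  rw [hj, this, mul_one]

end Cfsg.Agent.OddOrder.PF.S14
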