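import Cfsg.Agent.Lib.OddOrder.DadeSeven
import Cfsg.Agent.Lib.OddOrder.PF.S10_Bridge

/-!
Families of signed irreducible characters with a "bridge": a virtual character `β` vanishing off a
set `Y` that meets the family only through `1 - f z + a Σ w i • f i` (Peterfalvi (7.8), (13.18)).

* `even_classInner_real`: real virtual characters, one orthogonal to `1`, have even inner product;
* `ConjFamily.orth_of_disjoint`, `Bridge.cross`, `Bridge.parity`: two families with disjoint supports;
* `Bridge.bessel`, `Bridge.eq_of_tight`: the norm of the remaining part of `β`.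
-/

set_option autoImplicit false
set_option linter.style.haveILetI false
set_option linter.unusedSectionVars false

namespace Cfsg.Agent.OddOrder.PF.S14

open Cfsg Cfsg.Agent.OddOrder Cfsg.Agent
open scoped ComplexConjugate

universe u
variable {G : Type u} [Group G] [Fintype G]

/-- Two real virtual characters of a group of odd order, the first orthogonal to `1`, have even
inner product. -/
theorem even_classInner_real (hodd : Odd (Nat.card G)) {θ θ' : G → ℂ}
    (hθ : IsGeneralizedCharacter G θ) (hθ' : IsGeneralizedCharacter G θ') (hr : conjFun θ = θ)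
    (hr' : conjFun θ' = θ') (h1 : classInner θ (fun _ => (1 : ℂ)) = 0) :
    ∃ z : ℤ, classInner θ θ' = (2 * z : ℤ) := by
  classical
  choose m hm using fun χ : IrrCharacter G =>
    Char.IsGeneralizedCharacter.exists_int_classInner hθ (Char.irr_isGeneralized χ)
  choose m' hm' using fun χ : IrrCharacter G =>
    Char.IsGeneralizedCharacter.exists_int_classInner hθ' (Char.irr_isGeneralized χ)
  have hc : ∀ F : G → ℂ, conjFun F = F → ∀ χ : IrrCharacter G,
      classInner F (Char.conjIrr χ).1 = conj (classInner F χ.1) := fun F hF χ => by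
    conv_lhs => rw [← hF]
    rw [show (Char.conjIrr χ).1 = conjFun χ.1 from funext fun g => rfl, classInner_conjFun]
  have hsym : ∀ χ, m (Char.conjIrr χ) * m' (Char.conjIrr χ) = m χ * m' χ := by
    intro χ
    have e := (hm (Char.conjIrr χ)).symm.trans (hc θ hr χ)
    have e' := (hm' (Char.conjIrr χ)).symm.trans (hc θ' hr' χ)
    rw [hm, map_intCast, Int.cast_inj] at e
    rw [hm', map_intCast, Int.cast_inj] at e'
    rw [e, e']
  have h0 : m (Char.trivialChar G) = 0 := by
    exact_mod_cast (hm (Char.trivialChar G)).symm.trans h1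
  have hfix : Char.conjIrr (Char.trivialChar G) = Char.trivialChar G :=
    Subtype.ext (funext fun g => map_one conj)
  have hodd' : Odd (∑ χ : IrrCharacter G,
      (m χ * m' χ + if χ = Char.trivialChar G then 1 else 0)) := by
    refine odd_sum_of_involution Char.conjIrr Char.conjIrr_conjIrr _ hfix (fun χ hχ => ?_) _
      (fun χ => ?_) ?_
    · exact Subtype.ext (Cfsg.Agent.S0161.result hodd χ ((Char.conjIrr_eq_self_iff χ).mp hχ))
    · rw [hsym]
      by_cases h : χ = Char.trivialChar G
      · rw [h, hfix]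
      · rw [if_neg h, if_neg fun e => h (by rw [← Char.conjIrr_conjIrr χ, e, hfix])]
    · rw [h0, if_pos rfl, zero_mul, zero_add]; exact odd_one
  rw [Finset.sum_add_distrib, Finset.sum_ite_eq', if_pos (Finset.mem_univ _)] at hodd'
  obtain ⟨z, hz⟩ : Even (∑ χ : IrrCharacter G, m χ * m' χ) := by
    rcases Int.even_or_odd (∑ χ : IrrCharacter G, m χ * m' χ) with h | h
    · exact h
    · exact absurd hodd' (Int.not_odd_iff_even.2 (h.add_one))
  refine ⟨z, ?_⟩
  rw [classInner_eq_sum_coeff (Char.IsGeneralizedCharacter.isClassFunction hθ'),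
    show 2 * z = ∑ χ : IrrCharacter G, m χ * m' χ by omega, Int.cast_sum]
  exact Finset.sum_congr rfl fun χ _ => by rw [hm, hm', map_intCast, Int.cast_mul]

theorem classInner_one_one : classInner (fun _ : G => (1 : ℂ)) (fun _ => 1) = 1 :=
  Char.classInner_irr_self Char.isIrrCharacter_one

theorem classInner_eq_zero_of_disjoint {Y Y' : Set G} (hd : Disjoint Y Y') {θ θ' : G → ℂ}
    (h : ∀ g, g ∉ Y → θ g = 0) (h' : ∀ g, g ∉ Y' → θ' g = 0) : classInner θ θ' = 0 := by
  rw [classInner, Finset.sum_eq_zero, mul_zero]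
  intro g _
  by_cases hg : g ∈ Y
  · rw [h' g (Set.disjoint_left.1 hd hg), map_zero, mul_zero]
  · rw [h g hg, zero_mul]

/-- An orthonormal family of signed irreducible characters, closed under conjugation without fixed
members, with differences of conjugates supported on `Y`. -/
structure ConjFamily {ι : Type*} (f : ι → G → ℂ) (st : ι → ι) (Y : Set G) : Prop where
  signed : ∀ i, IsSignedIrr (f i)
  orth : ∀ i j, i ≠ j → classInner (f i) (f j) = 0
  st_st : ∀ i, st (st i) = i
  st_ne : ∀ i, st i ≠ i
  conj_eq : ∀ i, conjFun (f i) = f (st i)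
  supp : ∀ i, ∀ g, g ∉ Y → f i g - f (st i) g = 0

theorem isGeneralized_of_signed {x : G → ℂ} (h : IsSignedIrr x) : IsGeneralizedCharacter G x := by
  rcases h with h | h
  · exact Char.irr_isGeneralized ⟨_, h⟩
  · simpa using Char.IsGeneralizedCharacter.neg (Char.irr_isGeneralized ⟨_, h⟩)

namespace ConjFamily

variable {ι ι' : Type*} {f : ι → G → ℂ} {st : ι → ι} {Y : Set G} {f' : ι' → G → ℂ}
  {st' : ι' → ι'} {Y' : Set G} (hf : ConjFamily f st Y)

include hf

theorem inner_eq [DecidableEq ι] (i j : ι) : classInner (f i) (f j) = if i = j then 1 else 0 := by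
  split_ifs with h
  · rw [h, (hf.signed j).classInner_self]
  · exact hf.orth i j h

theorem classInner_one (i : ι) : classInner (f i) (fun _ => (1 : ℂ)) = 0 := by
  by_contra h
  obtain ⟨e, he, hfe⟩ : ∃ e : ℂ, e ≠ 0 ∧ f i = e • (fun _ => (1 : ℂ)) :=
    (signed_eq_or_orth (hf.signed i) (Or.inl Char.isIrrCharacter_one)).resolve_right h
  have h0 := hf.orth i (st i) (hf.st_ne i).symm
  rw [← hf.conj_eq, hfe, show conjFun (e • fun _ : G => (1 : ℂ)) = conj e • fun _ => (1 : ℂ) from
    funext fun g => by simp [conjFun], Char.classInner_smul_left, Char.classInner_smul_right,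
    classInner_one_one, mul_one, Complex.conj_conj, mul_eq_zero, or_self] at h0
  exact he h0

/-- Two families with disjoint supports are orthogonal. -/
theorem orth_of_disjoint (hf' : ConjFamily f' st' Y') (hd : Disjoint Y Y') (i : ι) (j : ι') :
    classInner (f i) (f' j) = 0 := by
  by_contra h
  obtain ⟨e, he, hfe⟩ := (signed_eq_or_orth (hf.signed i) (hf'.signed j)).resolve_right h
  have hs : f (st i) = conj e • f' (st' j) := by
    rw [← hf.conj_eq, ← hf'.conj_eq, hfe]
    funext g
    simp [conjFun]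
  have h0 := classInner_eq_zero_of_disjoint hd (θ := f i - f (st i)) (θ' := f' j - f' (st' j))
    (fun g hg => hf.supp i g hg) (fun g hg => hf'.supp j g hg)
  have h1 := (hf'.signed j).classInner_self
  have h2 := (hf'.signed (st' j)).classInner_self
  have h3 := hf'.orth j (st' j) (hf'.st_ne j).symm
  have h4 := hf'.orth (st' j) j (hf'.st_ne j)
  rw [hs, hfe] at h0
  simp only [Char.classInner_sub_left, Char.classInner_sub_right, Char.classInner_smul_left,
    h1, h2, h3, h4, mul_one, mul_zero, sub_zero, zero_sub, sub_neg_eq_add] at h0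
  have hee : e + conj e = 0 := h0
  obtain ⟨n, hn⟩ := Char.IsGeneralizedCharacter.exists_int_classInner
    (isGeneralized_of_signed (hf.signed i)) (isGeneralized_of_signed (hf'.signed j))
  rw [hfe, Char.classInner_smul_left, h1, mul_one] at hn
  rw [hn, map_intCast, ← Int.cast_add, Int.cast_eq_zero] at hee
  exact he (by rw [hn, show n = 0 by omega, Int.cast_zero])

/-- A family with support off `V` is orthogonal to the cyclic TI family. -/
theorem orth_eta {W₁ W₂ : Subgroup G} {η : (↥(W₁ ⊔ W₂) →* ℂˣ) → (G → ℂ)}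
    (hW : IsSelfNormalizingCyclic W₁ W₂) (hodd : Odd (Nat.card ↥(W₁ ⊔ W₂)))
    (hη : IsCyclicTIFamily W₁ W₂ η)
    (hV : ∀ w ∈ W₁ ⊔ W₂, w ∉ W₁ → w ∉ W₂ → w ∉ Y) (i : ι) (ω : ↥(W₁ ⊔ W₂) →* ℂˣ) :
    classInner (f i) (η ω) = 0 :=
  (signed_orth_eta hW hodd hη (hf.signed i) (hf.signed (st i)) (hf.orth i (st i) (hf.st_ne i).symm)
    ⟨Char.IsGeneralizedCharacter.sub (isGeneralized_of_signed (hf.signed i))
      (isGeneralized_of_signed (hf.signed (st i))),
      fun w h1 h2 => hf.supp i w (hV w w.2 h1 h2)⟩ ω).1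

end ConjFamily

/-- A bridge from `1` to the family `f`: `β = 1 - f z + a Σ w i • f i + Γ` with `‖β‖² = e + 1`. -/
structure Bridge {ι : Type*} [Fintype ι] (f : ι → G → ℂ) (st : ι → ι) (Y : Set G) (w : ι → ℕ)
    (z : ι) (β : G → ℂ) (e : ℕ) : Prop extends ConjFamily f st Y where
  w_z : w z = 1
  diff : ∀ i, ∀ g, g ∉ Y → f i g = w i * f z g
  gen : IsGeneralizedCharacter G β
  vanish : ∀ g, g ∉ Y → β g = 0
  beta_one : classInner β (fun _ => (1 : ℂ)) = 1
  beta_norm : classInner β β = e + 1
  coef : ∃ a : ℤ, ∀ i, classInner β (f i) = a * w i - (open Classical in if i = z then 1 else 0)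
  beta_conj : conjFun β = β + (f z - f (st z))

namespace Bridge

variable {ι ι' : Type*} [Fintype ι] [Fintype ι'] {f : ι → G → ℂ} {st : ι → ι} {Y : Set G}
  {w : ι → ℕ} {z : ι} {β : G → ℂ} {e : ℕ}
  {f' : ι' → G → ℂ} {st' : ι' → ι'} {Y' : Set G} {w' : ι' → ℕ} {z' : ι'} {β' : G → ℂ} {e' : ℕ}
  (hB : Bridge f st Y w z β e)

include hB

/-- `β` meets a family with disjoint support proportionally to the weights. -/
theorem cross (hB' : Bridge f' st' Y' w' z' β' e') (hd : Disjoint Y Y') :
    ∃ b : ℤ, ∀ i, classInner β (f' i) = b * w' i := by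
  obtain ⟨b, hb⟩ := Char.IsGeneralizedCharacter.exists_int_classInner hB.gen
    (isGeneralized_of_signed (hB'.signed z'))
  refine ⟨b, fun i => ?_⟩
  have h := classInner_eq_zero_of_disjoint hd (θ := β) (θ' := f' i - (w' i : ℂ) • f' z')
    (fun g hg => hB.vanish g hg)
    (fun g hg => by rw [Pi.sub_apply, Pi.smul_apply, hB'.diff i g hg, smul_eq_mul, sub_self])
  rw [Char.classInner_sub_right, Char.classInner_smul_right, map_natCast, hb, sub_eq_zero] at h
  rw [h, mul_comm]

/-- The two cross coefficients of a pair of bridges with disjoint supports have odd sum. -/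
theorem parity (hodd : Odd (Nat.card G)) (hB' : Bridge f' st' Y' w' z' β' e') (hd : Disjoint Y Y')
    {b b' : ℤ} (hb : classInner β (f' z') = b) (hb' : classInner β' (f z) = b') : Odd (b + b') := by
  set one : G → ℂ := fun _ => (1 : ℂ) with hone
  have hreal : ∀ (x y c : G → ℂ), conjFun y = c → conjFun x = x + (y - c) →
      conjFun (x - one + y) = x - one + y := by
    intro x y c hy hx
    funext g
    have h1 := congrFun hy g
    have h2 := congrFun hx g
    simp only [conjFun, Pi.add_apply, Pi.sub_apply, map_add, map_sub, hone, map_one] at h1 h2 ⊢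
    rw [h1, h2]; ring
  have hg : ∀ (x y : G → ℂ), IsGeneralizedCharacter G x → IsSignedIrr y →
      IsGeneralizedCharacter G (x - one + y) := fun x y hx hy =>
    Char.IsGeneralizedCharacter.add (Char.IsGeneralizedCharacter.sub hx
      (Char.IsCharacter.isGeneralized Char.isCharacter_one)) (isGeneralized_of_signed hy)
  obtain ⟨c, hc⟩ := even_classInner_real hodd (hg β (f z) hB.gen (hB.signed z))
    (hg β' (f' z') hB'.gen (hB'.signed z')) (hreal _ _ _ (hB.conj_eq z) hB.beta_conj)
    (hreal _ _ _ (hB'.conj_eq z') hB'.beta_conj)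
    (by rw [Char.classInner_add_left, Char.classInner_sub_left, hB.beta_one,
      hB.toConjFamily.classInner_one, hone, classInner_one_one]; ring)
  have e1 : classInner β β' = 0 := classInner_eq_zero_of_disjoint hd hB.vanish hB'.vanish
  have e2 : classInner one β' = 1 := by rw [← Char.conj_classInner, hone, hB'.beta_one, map_one]
  have e3 : classInner (f z) β' = b' := by rw [← Char.conj_classInner, hb', map_intCast]
  have e4 : classInner (f z) one = 0 := hB.toConjFamily.classInner_one z
  have e5 : classInner one (f' z') = 0 := by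
    rw [← Char.conj_classInner, hone, hB'.toConjFamily.classInner_one, map_zero]
  have e6 := hB.toConjFamily.orth_of_disjoint hB'.toConjFamily hd z z'
  have e7 : classInner one one = 1 := classInner_one_one
  have e8 : classInner β one = 1 := hB.beta_one
  simp only [Char.classInner_add_left, Char.classInner_sub_left, Char.classInner_add_right,
    Char.classInner_sub_right, e1, e2, e3, e4, e5, e6, e7, e8, hb] at hc
  have : ((b + b' : ℤ) : ℂ) = ((2 * c + 1 : ℤ) : ℂ) := by
    push_cast at hc ⊢; linear_combination hc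
  rw [Int.cast_inj] at this
  exact ⟨c, this⟩

/-- The part of `β` beyond `1` and the family has norm at most `e - 1`, with equality only if
`β = 1 - f z + Σ c k • g k`. -/
theorem bessel {κ : Type*} [Fintype κ] (g : κ → G → ℂ) (hg : ∀ k, IsSignedIrr (g k))
    (horth : ∀ k l, k ≠ l → classInner (g k) (g l) = 0)
    (hg1 : ∀ k, classInner (g k) (fun _ => (1 : ℂ)) = 0)
    (hgf : ∀ k i, classInner (g k) (f i) = 0) (c : κ → ℤ) (hc : ∀ k, classInner β (g k) = c k)
    (hN : 2 ≤ ∑ i, w i ^ 2) :
    ∑ k, c k ^ 2 + 1 ≤ (e : ℤ) ∧ (3 ≤ ∑ i, w i ^ 2 → ∑ k, c k ^ 2 + 1 = (e : ℤ) →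
      β = (fun _ => (1 : ℂ)) - f z + ∑ k, (c k : ℂ) • g k) := by
  classical
  obtain ⟨a, ha⟩ := hB.coef
  set A : ι → ℤ := fun i => a * w i - if i = z then 1 else 0 with hA
  have hA' : ∀ i, classInner β (f i) = A i := fun i => by
    rw [ha i, hA]; push_cast; by_cases h : i = z <;> simp [h]
  let v : Unit ⊕ ι ⊕ κ → G → ℂ := Sum.elim (fun _ _ => 1) (Sum.elim f g)
  let C : Unit ⊕ ι ⊕ κ → ℤ := Sum.elim (fun _ => 1) (Sum.elim A c)
  have hv : ∀ i ∈ (Finset.univ : Finset (Unit ⊕ ι ⊕ κ)), ∀ j ∈ (Finset.univ : Finset _),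
      classInner (v i) (v j) = if i = j then (((fun _ => 1) i : ℕ) : ℂ) else 0 := by
    intro i _ j _
    rcases i with i | i | i <;> rcases j with j | j | j <;> simp only [v, Sum.elim_inl, Sum.elim_inr]
    · simp [classInner_one_one]
    · rw [← Char.conj_classInner, hB.toConjFamily.classInner_one]; simp
    · rw [← Char.conj_classInner, hg1]; simp
    · simp [hB.toConjFamily.classInner_one]
    · rw [hB.toConjFamily.inner_eq]; by_cases h : i = j <;> simp [h]
    · rw [← Char.conj_classInner, hgf]; simp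
    · simp [hg1]
    · simp [hgf]
    · by_cases h : i = j
      · subst h; simp [(hg i).classInner_self]
      · simp [horth i j h, h]
  have hC : ∀ i ∈ (Finset.univ : Finset (Unit ⊕ ι ⊕ κ)), classInner β (v i) = C i := by
    intro i _
    rcases i with i | i | i <;> simp only [v, C, Sum.elim_inl, Sum.elim_inr]
    · rw [Int.cast_one]; exact hB.beta_one
    · exact hA' i
    · exact hc i
  have hsum : ∑ i, A i ^ 2 = a ^ 2 * ((∑ i, w i ^ 2 : ℕ) : ℤ) - 2 * a + 1 := by
    have h1 : ∀ i, A i ^ 2 = a ^ 2 * (w i : ℤ) ^ 2 +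
        if i = z then 1 - 2 * a * (w i : ℤ) else 0 := fun i => by
      simp only [hA]; split_ifs <;> ring
    simp_rw [h1]
    rw [Finset.sum_add_distrib, ← Finset.mul_sum, Finset.sum_ite_eq', if_pos (Finset.mem_univ _),
      hB.w_z]
    push_cast; ring
  have h := bessel_int Finset.univ v (fun _ => 1) (fun _ _ => one_pos) hv β ((e : ℤ) + 1)
    (by rw [hB.beta_norm]; push_cast; rfl) C hC
  simp only [Fintype.sum_sum_type, Fintype.sum_unique, C, Sum.elim_inl, Sum.elim_inr, Nat.cast_one,
    div_one] at h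
  have h' : 1 + (∑ i, A i ^ 2 + ∑ k, c k ^ 2) ≤ (e : ℤ) + 1 := by
    have := h
    norm_num at this
    exact_mod_cast this
  rw [hsum] at h'
  have hNz : (2 : ℤ) ≤ ((∑ i, w i ^ 2 : ℕ) : ℤ) := by exact_mod_cast hN
  have ha2 : 0 ≤ a ^ 2 * ((∑ i, w i ^ 2 : ℕ) : ℤ) - 2 * a := by
    have := Int.le_self_sq a
    nlinarith [sq_nonneg a]
  refine ⟨by linarith, fun h3 heq => ?_⟩
  have ha0 : a = 0 := by
    have h3' : (3 : ℤ) ≤ ((∑ i, w i ^ 2 : ℕ) : ℤ) := by exact_mod_cast h3
    have := Int.le_self_sq a
    have h0 : a ^ 2 ≤ 0 := by nlinarith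
    exact pow_eq_zero_iff (two_ne_zero) |>.1 (le_antisymm h0 (sq_nonneg a))
  have hrest : β = ∑ i, (C i : ℂ) • v i := by
    refine sub_eq_zero.1 (Char.classInner_self_eq_zero ?_)
    have hvs : ∀ i, classInner (v i) β = C i := fun i => by
      rw [← Char.conj_classInner, hC i (Finset.mem_univ i), map_intCast]
    have hvv : ∀ i j, classInner (v i) (v j) = if i = j then (1 : ℂ) else 0 := fun i j => by
      simpa using hv i (Finset.mem_univ i) j (Finset.mem_univ j)
    simp only [Char.classInner_sub_left, Char.classInner_sub_right, Char.classInner_sum_left,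
      Char.classInner_sum_right, Char.classInner_smul_left, Char.classInner_smul_right, hB.beta_norm,
      map_intCast, hC _ (Finset.mem_univ _), hvs, hvv, mul_ite, mul_one, mul_zero, Finset.sum_ite_eq,
      Finset.sum_ite_eq', Finset.mem_univ, if_true, sub_self, sub_zero]
    have hCC : ∑ i, C i ^ 2 = (e : ℤ) + 1 := by
      simp only [Fintype.sum_sum_type, Fintype.sum_unique, C, Sum.elim_inl, Sum.elim_inr, hsum, ha0]
      linarith
    have hCC' : ∑ i, (C i : ℂ) * (C i : ℂ) = (e : ℂ) + 1 := by
      simp only [← sq]; exact_mod_cast hCC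
    simp only [hCC', sub_self, Finset.sum_const_zero]
  have hfsum : ∑ i, (A i : ℂ) • f i = -f z := by
    simp [hA, ha0, ite_smul]
  rw [hrest, Fintype.sum_sum_type, Fintype.sum_sum_type, Fintype.sum_unique]
  simp only [C, v, Sum.elim_inl, Sum.elim_inr, Int.cast_one, one_smul, hfsum]
  abel

end Bridge

end Cfsg.Agent.OddOrder.PF.S14
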