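import Cfsg.Agent.Lib.OddOrder.PF.S14_Outer
import Cfsg.Agent.Lib.OddOrder.PF.Partition

/-!
The budget of a pair in Peterfalvi 14: the masses of a member `η (φ ψ)` of the cyclic family on the
classes of `P`, `Q`, `V` and of the kernel of a third subgroup, by (7.5) and (7.8); and the mass of
a function with odd integer values off these classes.
-/

set_option autoImplicit false
set_option linter.style.haveILetI false
set_option linter.unusedSectionVars false

namespace Cfsg.Agent.OddOrder.PF.S14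

open Cfsg Cfsg.Agent.OddOrder Cfsg.Agent
open scoped ComplexConjugate

universe u

variable {G : Type u} [Group G] [Fintype G]

theorem coe_dadeUnion_bot (A : Set G) :
    (↑(dadeUnion A fun _ => (⊥ : Subgroup G)) : Set G) = conjSet A := by
  ext g
  rw [Finset.mem_coe, mem_dadeUnion]
  constructor
  · rintro ⟨a, ha, u, hu, x, hx⟩
    rw [Subgroup.mem_bot] at hu
    rw [hu, mul_one] at hx
    exact ⟨a, ha, x⁻¹, by rw [← hx]; group⟩
  · rintro ⟨a, ha, y, rfl⟩
    exact ⟨a, ha, 1, one_mem _, y⁻¹, by group⟩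

theorem tiV_eq_setV (W₁ W₂ : Subgroup G) : tiV W₁ W₂ = setV W₁ W₂ := rfl

theorem invDade_bot {A : Set G} {L : Subgroup G} {a : L} (ha : (a : G) ∈ A) (χ : G → ℂ) :
    invDade A L (fun _ => ⊥) χ a = χ a := by
  rw [invDade_of_mem ha, cosetAvg_eq_sum, Fintype.sum_unique,
    show ((default : (⊥ : Subgroup G)) : G) = 1 from Subgroup.mem_bot.1 (default : (⊥ : Subgroup G)).2]
  simp

open Classical in
/-- The mass of `χ` on the conjugates of a TI-subset. -/
theorem mass_bot {A : Set G} {L : Subgroup G} [Fintype L]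
    (hD : DadeHypothesis A L fun _ => ⊥) {χ : G → ℂ} (hχ : IsClassFunction G χ) :
    (Nat.card L : ℝ)⁻¹ * ∑ a ∈ (Finset.univ : Finset L).filter (fun a : L => (a : G) ∈ A),
        Complex.normSq (χ a) ≤
      (Nat.card G : ℝ)⁻¹ * ∑ g ∈ dadeUnion A (fun _ => (⊥ : Subgroup G)), Complex.normSq (χ g) := by
  refine le_trans (le_of_eq ?_) (sum_normSq_invDade_le hD hχ)
  congr 1
  rw [Finset.sum_filter]
  refine Finset.sum_congr rfl fun a _ => ?_
  split_ifs with ha
  · rw [invDade_bot ha]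
  · rw [invDade_of_notMem ha, map_zero]

/-- The number of elements of `W₁ W₂` outside both factors. -/
theorem card_tiV {W₁ W₂ : Subgroup G} (hW : IsSelfNormalizingCyclic W₁ W₂) :
    Nat.card {a : ↥(W₁ ⊔ W₂) // (a : G) ∈ tiV W₁ W₂} + Nat.card W₁ + Nat.card W₂ =
      Nat.card W₁ * Nat.card W₂ + 1 := by
  classical
  haveI : Fintype ↥(W₁ ⊔ W₂) := Fintype.ofFinite _
  rw [← card_sup_eq hW]
  let F : Subgroup G → Finset ↥(W₁ ⊔ W₂) := fun X => Finset.univ.filter fun a => (a : G) ∈ X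
  have hF : ∀ X, X ≤ W₁ ⊔ W₂ → (F X).card = Nat.card X := fun X hX => by
    rw [← Nat.card_congr (Subgroup.subgroupOfEquivOfLe hX).toEquiv, Nat.card_eq_fintype_card,
      ← Fintype.card_subtype]
    rfl
  have hV : Nat.card {a : ↥(W₁ ⊔ W₂) // (a : G) ∈ tiV W₁ W₂} = ((F W₁ ∪ F W₂)ᶜ).card := by
    rw [Nat.card_eq_fintype_card, Fintype.card_subtype]
    congr 1
    ext a
    simp [F, tiV]
  have hI : (F W₁ ∩ F W₂).card = 1 := Finset.card_eq_one.2 ⟨1, by
    ext a
    simp only [F, Finset.mem_inter, Finset.mem_filter, Finset.mem_univ, true_and,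
      Finset.mem_singleton]
    refine ⟨fun h => Subtype.ext ?_, fun h => by subst h; exact ⟨one_mem _, one_mem _⟩⟩
    have : (a : G) ∈ W₁ ⊓ W₂ := ⟨h.1, h.2⟩
    rwa [hW.2.2.1, Subgroup.mem_bot] at this⟩
  have h1 := Finset.card_union_add_card_inter (F W₁) (F W₂)
  rw [hI, hF W₁ le_sup_left, hF W₂ le_sup_right] at h1
  have h2 := Finset.card_add_card_compl (F W₁ ∪ F W₂)
  rw [← Nat.card_eq_fintype_card] at h2
  omega

namespace Member

variable {S W₁ U W₂ : Subgroup G} {p q : ℕ} (m : Member S W₁ U W₂ p q)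
  {T V : Subgroup G} (m' : Member T W₂ V W₁ q p) (B : BGFacts G) (hG : IsMinSimpleOddOrder G)

include m in
theorem card_tiV_real :
    (Nat.card {a : ↥(W₁ ⊔ W₂) // (a : G) ∈ tiV W₁ W₂} : ℝ) = ((p : ℝ) - 1) * ((q : ℝ) - 1) := by
  have h := congrArg (Nat.cast (R := ℝ)) (card_tiV m.hW)
  rw [m.q_eq, m.p_eq] at h
  push_cast at h
  linear_combination h

include m m' B hG

theorem disjoint_three (hnc : NotConj S T) :
    Disjoint (conjSet ((fittingHallOf S : Set G) \ {1})) (conjSet ((fittingHallOf T : Set G) \ {1})) ∧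
      Disjoint (conjSet ((fittingHallOf S : Set G) \ {1})) (conjSet (setV W₁ W₂)) ∧
      Disjoint (conjSet ((fittingHallOf T : Set G) \ {1})) (conjSet (setV W₁ W₂)) := by
  refine ⟨?_, m.disjoint_P_V B hG, setV_symm W₂ W₁ ▸ m'.disjoint_P_V B hG⟩
  have h := B.s1379.1 S T m.coatom m'.coatom hnc
  refine Disjoint.mono (fun g hg => ?_) (fun g hg => ?_) (Set.disjoint_iff_inter_eq_empty.2 h)
  · exact conjSet_subset_tildeOf _ _ (conjSet_mono (m.sdiff_subset_sigma B) hg)
  · exact conjSet_subset_tildeOf _ _ (conjSet_mono (m'.sdiff_subset_sigma B) hg)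

variable {η : (↥(W₁ ⊔ W₂) →* ℂˣ) → (G → ℂ)} (hη : IsCyclicTIFamily W₁ W₂ η)
  (hnc : NotConj S T) {A : Set G} {L : Subgroup G} [Fintype L] {R : G → Subgroup G} {K : Subgroup L}
  {τ₁ : (L → ℂ) → G → ℂ} {ζ : L → ℂ} (hL : CohSetting A L R K τ₁ ζ)
  (hdS : Disjoint (↑(dadeUnion A R) : Set G) (conjSet m.supp))
  (hdT : Disjoint (↑(dadeUnion A R) : Set G) (conjSet m'.supp))
include hη hnc hL hdS hdT

/-- The masses on the four classes add up to at most one. -/
theorem mass_le {χ : G → ℂ} (hχ : IsClassFunction G χ) (h1 : classInner χ χ = 1) :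
    (Nat.card G : ℝ)⁻¹ * (∑ g ∈ dadeUnion ((fittingHallOf S : Set G) \ {1}) (fun _ => (⊥ : Subgroup G)),
        Complex.normSq (χ g)) +
      (Nat.card G : ℝ)⁻¹ * (∑ g ∈ dadeUnion ((fittingHallOf T : Set G) \ {1}) (fun _ => (⊥ : Subgroup G)),
        Complex.normSq (χ g)) +
      (Nat.card G : ℝ)⁻¹ * (∑ g ∈ dadeUnion (tiV W₁ W₂) (fun _ => (⊥ : Subgroup G)),
        Complex.normSq (χ g)) +
      (Nat.card G : ℝ)⁻¹ * (∑ g ∈ dadeUnion A R, Complex.normSq (χ g)) ≤ 1 := by
  classical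
  obtain ⟨hPQ, hPV, hQV⟩ := m.disjoint_three m' B hG hnc
  have hP : conjSet ((fittingHallOf S : Set G) \ {1}) ⊆ conjSet m.supp :=
    fun _ h => m.mem_supp_P h
  have hQ : conjSet ((fittingHallOf T : Set G) \ {1}) ⊆ conjSet m'.supp :=
    fun _ h => m'.mem_supp_P h
  have hV : conjSet (setV W₁ W₂) ⊆ conjSet m.supp := by
    rintro g ⟨w, ⟨hw, hn⟩, y, rfl⟩
    obtain ⟨a, ha, z, e⟩ := m.mem_supp_V hw (fun h => hn (Or.inl h)) (fun h => hn (Or.inr h))
    exact ⟨a, ha, y * z, by rw [e]; group⟩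
  have d12 : Disjoint (dadeUnion ((fittingHallOf S : Set G) \ {1}) fun _ => (⊥ : Subgroup G))
      (dadeUnion ((fittingHallOf T : Set G) \ {1}) fun _ => ⊥) := by
    rw [← Finset.disjoint_coe, coe_dadeUnion_bot, coe_dadeUnion_bot]; exact hPQ
  have d3 : Disjoint (dadeUnion ((fittingHallOf S : Set G) \ {1}) (fun _ => (⊥ : Subgroup G)) ∪
      dadeUnion ((fittingHallOf T : Set G) \ {1}) fun _ => ⊥)
      (dadeUnion (tiV W₁ W₂) fun _ => ⊥) := by
    rw [← Finset.disjoint_coe, Finset.coe_union, coe_dadeUnion_bot, coe_dadeUnion_bot,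
      coe_dadeUnion_bot, tiV_eq_setV]
    exact hPV.union_left hQV
  have d4 : Disjoint (dadeUnion ((fittingHallOf S : Set G) \ {1}) (fun _ => (⊥ : Subgroup G)) ∪
      dadeUnion ((fittingHallOf T : Set G) \ {1}) (fun _ => ⊥) ∪
      dadeUnion (tiV W₁ W₂) fun _ => ⊥) (dadeUnion A R) := by
    rw [← Finset.disjoint_coe, Finset.coe_union, Finset.coe_union, coe_dadeUnion_bot,
      coe_dadeUnion_bot, coe_dadeUnion_bot, tiV_eq_setV]
    exact ((hdS.symm.mono_left hP).union_left (hdT.symm.mono_left hQ)).union_left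
      (hdS.symm.mono_left hV)
  rw [← mul_add, ← mul_add, ← mul_add, ← Finset.sum_union d12, ← Finset.sum_union d3,
    ← Finset.sum_union d4]
  have h : (Nat.card G : ℝ)⁻¹ * ∑ g, Complex.normSq (χ g) = 1 := by
    rw [Char.classInner_self] at h1
    exact_mod_cast h1
  refine le_trans (mul_le_mul_of_nonneg_left ?_ (by positivity)) h.le
  exact Finset.sum_le_sum_of_subset_of_nonneg (Finset.subset_univ _)
    fun _ _ _ => Complex.normSq_nonneg _

/-- The budget. -/
theorem budget [Fintype (Ann W₁ W₂ W₁)] [Fintype (Ann W₁ W₂ W₂)]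
    (horth : ∀ ξ ∈ inducedIrrAbove K ⊥, ∀ ω, classInner (τ₁ ξ) (η ω) = 0)
    {φ : Ann W₁ W₂ W₂} {ψ : Ann W₁ W₂ W₁} (hφ : φ ≠ annOne W₁ W₂ W₂) (hψ : ψ ≠ annOne W₁ W₂ W₁)
    {c : ℤ} (hc : classInner (dadeBeta A L R K ζ) (η (φ.1 * ψ.1)) = c) :
    (1 - (Nat.card U : ℝ) /
        Nat.card {a : ↥(fittingHallOf S) →* ℂˣ // RegularChar (fittingHallOf S) U a}) / q +
      (1 - (Nat.card V : ℝ) /
        Nat.card {a : ↥(fittingHallOf T) →* ℂˣ // RegularChar (fittingHallOf T) V a}) / p +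
      ((p : ℝ) - 1) * ((q : ℝ) - 1) / (p * q) +
      (c : ℝ) ^ 2 * ((Nat.card K - 1 : ℕ) : ℝ) / (K.index * Nat.card K) ≤ 1 := by
  classical
  set χ : G → ℂ := η (φ.1 * ψ.1) with hχ
  have hχc : IsClassFunction G χ :=
    Char.IsGeneralizedCharacter.isClassFunction (eta_isGeneralized hη _)
  have h1 : classInner χ χ = 1 := by rw [hχ, hη.orthonormal, if_pos rfl]
  refine le_trans (add_le_add (add_le_add (add_le_add ?_ ?_) ?_) ?_)
    (m.mass_le m' B hG hη hnc hL hdS hdT hχc h1)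
  · haveI : Fintype S := Fintype.ofFinite _
    haveI : Fintype ↥(fittingHallOf S) := Fintype.ofFinite _
    refine (m.budget_P B hG hη φ hψ).trans (le_trans (le_of_eq ?_) (mass_bot (m.dade_P B) hχc))
    congr 1
    refine Finset.sum_bij (fun x _ => (⟨x.1, m.P_le x.2⟩ : ↥S)) (fun x hx => ?_)
      (fun x _ y _ e => Subtype.ext (congrArg (fun z : ↥S => (z : G)) e)) (fun y hy => ?_)
      fun x _ => rfl
    · simp only [Finset.mem_erase, ne_eq] at hx
      simp only [Finset.mem_filter]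
      exact ⟨Finset.mem_univ _, x.2,
        fun h => hx.1 (Subtype.ext (Set.mem_singleton_iff.1 h))⟩
    · simp only [Finset.mem_filter] at hy
      obtain ⟨-, hy1, hy2⟩ := hy
      exact ⟨⟨y.1, hy1⟩, Finset.mem_erase.2 ⟨fun h => hy2 (congrArg Subtype.val h),
        Finset.mem_univ _⟩, rfl⟩
  · haveI : Fintype T := Fintype.ofFinite _
    haveI : Fintype ↥(fittingHallOf T) := Fintype.ofFinite _
    haveI : Fintype (Ann W₂ W₁ W₂) := Fintype.ofFinite _
    haveI : Fintype (Ann W₂ W₁ W₁) := Fintype.ofFinite _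
    have hφ' : (annSwap W₁ W₂ W₂).symm φ ≠ annOne W₂ W₁ W₂ := fun h => hφ (by
      rw [← (annSwap W₁ W₂ W₂).apply_symm_apply φ, h, annSwap_annOne])
    have h := m'.budget_P B hG (isCyclicTIFamily_swap hη) ((annSwap W₁ W₂ W₁).symm ψ) hφ'
    have e : η ((((annSwap W₁ W₂ W₁).symm ψ).1 * ((annSwap W₁ W₂ W₂).symm φ).1).comp
        (MulEquiv.subgroupCongr (sup_comm W₁ W₂)).toMonoidHom) = χ := by
      rw [annSwap_mul, Equiv.apply_symm_apply, Equiv.apply_symm_apply, hχ]
      exact congrArg η (MonoidHom.ext fun w => mul_comm _ _)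
    simp only [e] at h
    refine h.trans (le_trans (le_of_eq ?_) (mass_bot (m'.dade_P B) hχc))
    congr 1
    refine Finset.sum_bij (fun x _ => (⟨x.1, m'.P_le x.2⟩ : ↥T)) (fun x hx => ?_)
      (fun x _ y _ e => Subtype.ext (congrArg (fun z : ↥T => (z : G)) e)) (fun y hy => ?_)
      fun x _ => rfl
    · simp only [Finset.mem_erase, ne_eq] at hx
      simp only [Finset.mem_filter]
      exact ⟨Finset.mem_univ _, x.2,
        fun h => hx.1 (Subtype.ext (Set.mem_singleton_iff.1 h))⟩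
    · simp only [Finset.mem_filter] at hy
      obtain ⟨-, hy1, hy2⟩ := hy
      exact ⟨⟨y.1, hy1⟩, Finset.mem_erase.2 ⟨fun h => hy2 (congrArg Subtype.val h),
        Finset.mem_univ _⟩, rfl⟩
  · haveI : Fintype ↥(W₁ ⊔ W₂) := Fintype.ofFinite _
    refine le_trans (le_of_eq ?_) (mass_bot (dadeHypothesis_tiV m.hW) hχc)
    rw [Finset.sum_congr rfl (g := fun _ => (1 : ℝ)) fun a ha => ?_, Finset.sum_const,
      ← Fintype.card_subtype, ← Nat.card_eq_fintype_card, nsmul_eq_mul, mul_one, m.card_tiV_real,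
      m.card_W]
    · push_cast
      field_simp
    · obtain ⟨-, ha⟩ := (Finset.mem_filter.1 ha).2
      rw [hχ, hη.eq_on _ a (fun h => ha (Or.inl h)) fun h => ha (Or.inr h),
        ← Complex.sq_norm]
      rw [show ‖((φ.1 * ψ.1) a : ℂ)‖ = 1 from ?_, one_pow]
      have hn : ((φ.1 * ψ.1) a : ℂ) ^ Nat.card ↥(W₁ ⊔ W₂) = 1 := by
        rw [← Units.val_pow_eq_pow_val, ← map_pow, pow_card_eq_one', map_one, Units.val_one]
      exact Complex.norm_eq_one_of_pow_eq_one hn Nat.card_pos.ne'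
  · refine le_trans (le_of_eq ?_) (sum_normSq_invDade_le hL.dade hχc)
    rw [hL.norm_invDade_orth hχc fun ξ hξ => horth ξ hξ _, hc, Complex.normSq_apply,
      Complex.intCast_re, Complex.intCast_im]
    ring

/-- A function with norm one, bounded below on the four classes as `τ₁ ζ`, and odd integral values
elsewhere. -/
theorem rest_bound (hU : ∀ x ∈ U, ∀ z ∈ fittingHallOf S, z ≠ 1 → x * z = z * x → x = 1)
    (hV : ∀ x ∈ V, ∀ z ∈ fittingHallOf T, z ≠ 1 → x * z = z * x → x = 1)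
    (hpq : K.index = p * q) (hN : 2 * (p * q) + 1 ≤ Nat.card K)
    (hint : ∀ g : G, g ∉ dadeUnion A R → (orderOf g).Coprime (p * q) →
      ∃ n : ℤ, Odd n ∧ τ₁ ζ g = n) :
    (1 / p + 1 / q - 2 / (p * q) : ℝ) ≤
      (p * q : ℝ) / Nat.card K + 1 / (Nat.card U * q) + 1 / (Nat.card V * p) := by
  classical
  set χ : G → ℂ := τ₁ ζ with hχ
  have hχc : IsClassFunction G χ :=
    Char.IsGeneralizedCharacter.isClassFunction (hL.image_gen hL.mem)
  have h1 : classInner χ χ = 1 := (hL.image_inner hL.mem hL.mem).trans hL.norm_one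
  have hG0 : (0 : ℝ) < Nat.card G := by exact_mod_cast Nat.card_pos
  set DP := dadeUnion ((fittingHallOf S : Set G) \ {1}) (fun _ => (⊥ : Subgroup G))
  set DQ := dadeUnion ((fittingHallOf T : Set G) \ {1}) (fun _ => (⊥ : Subgroup G))
  set DV := dadeUnion (tiV W₁ W₂) (fun _ => (⊥ : Subgroup G))
  set DL := dadeUnion A R with hDL
  set Z : Finset G := DP ∪ DQ ∪ DV ∪ DL
  have hout : ∀ g, g ∉ Z → (1 : ℝ) ≤ Complex.normSq (χ g) := by
    intro g hg
    simp only [Z, Finset.mem_union, not_or] at hg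
    obtain ⟨⟨⟨hgP, hgQ⟩, hgV⟩, hgL⟩ := hg
    have hcp : (orderOf g).Coprime p := by
      refine ((Nat.Prime.coprime_iff_not_dvd m.hp).2 fun hd => ?_).symm
      rcases m.classify B hd with hg' | ⟨y, hy, z, hz, hz1, hc⟩
      · exact hgV (by rwa [← Finset.mem_coe, coe_dadeUnion_bot, tiV_eq_setV])
      · obtain ⟨x, hx, b, hb, e⟩ := m.typeP.U_compl.2.2.2 _ hy
        have hxz : x * z = z * x := by
          haveI := m.elem.1
          exact congrArg Subtype.val (mul_comm' (⟨x, hx⟩ : fittingHallOf S) ⟨z, hz⟩)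
        have hb1 : b = 1 := hU b hb z hz hz1 (mul_left_cancel (a := x) (by
          calc x * (b * z) = x * b * z := (mul_assoc _ _ _).symm
            _ = y * g * y⁻¹ * z := by rw [e]
            _ = z * (y * g * y⁻¹) := hc
            _ = z * x * b := by rw [e, mul_assoc]
            _ = x * (z * b) := by rw [← hxz, mul_assoc]))
        refine hgP ?_
        rw [← Finset.mem_coe, coe_dadeUnion_bot]
        refine ⟨y * g * y⁻¹, ⟨?_, fun h1 => ?_⟩, y⁻¹, by group⟩
        · rw [e, hb1, mul_one]; exact hx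
        · rw [Set.mem_singleton_iff, conj_eq_one_iff] at h1
          exact m.hp.ne_one (Nat.dvd_one.1 (by simpa [h1] using hd))
    have hcq : (orderOf g).Coprime q := by
      refine ((Nat.Prime.coprime_iff_not_dvd m.hq).2 fun hd => ?_).symm
      rcases m'.classify B hd with hg' | ⟨y, hy, z, hz, hz1, hc⟩
      · exact hgV (by rwa [← Finset.mem_coe, coe_dadeUnion_bot, tiV_eq_setV, setV_symm])
      · obtain ⟨x, hx, b, hb, e⟩ := m'.typeP.U_compl.2.2.2 _ hy
        have hxz : x * z = z * x := by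
          haveI := m'.elem.1
          exact congrArg Subtype.val (mul_comm' (⟨x, hx⟩ : fittingHallOf T) ⟨z, hz⟩)
        have hb1 : b = 1 := hV b hb z hz hz1 (mul_left_cancel (a := x) (by
          calc x * (b * z) = x * b * z := (mul_assoc _ _ _).symm
            _ = y * g * y⁻¹ * z := by rw [e]
            _ = z * (y * g * y⁻¹) := hc
            _ = z * x * b := by rw [e, mul_assoc]
            _ = x * (z * b) := by rw [← hxz, mul_assoc]))
        refine hgQ ?_
        rw [← Finset.mem_coe, coe_dadeUnion_bot]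
        refine ⟨y * g * y⁻¹, ⟨?_, fun h1 => ?_⟩, y⁻¹, by group⟩
        · rw [e, hb1, mul_one]; exact hx
        · rw [Set.mem_singleton_iff, conj_eq_one_iff] at h1
          exact m'.hp.ne_one (Nat.dvd_one.1 (by simpa [h1] using hd))
    obtain ⟨n, hn, hval⟩ := hint g hgL (Nat.Coprime.mul_right hcp hcq)
    rw [show χ g = n from hval, Complex.normSq_intCast]
    obtain ⟨k, hk⟩ := hn
    have hn0 : n ≠ 0 := by omega
    have := sq_pos_of_ne_zero hn0
    exact_mod_cast (show (1 : ℤ) ≤ n * n by nlinarith)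
  -- the measures of the four classes
  have hmeas : ∀ {A' : Set G} {L' : Subgroup G} {R' : G → Subgroup G},
      DadeHypothesis A' L' R' → ∀ {a : ℝ}, (Nat.card {x : L' // (x : G) ∈ A'} : ℝ) = a →
      ((dadeUnion A' R').card : ℝ) / Nat.card G = a / Nat.card L' := by
    intro A' L' R' hD a ha
    rw [← ha, div_eq_div_iff hG0.ne' (Nat.cast_ne_zero.2 Nat.card_pos.ne')]
    have := congrArg (Nat.cast (R := ℝ)) (card_dadeUnion hD)
    push_cast at this
    linear_combination this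
  have hpunct : ∀ (H M : Subgroup G), H ≤ M →
      (Nat.card {x : M // (x : G) ∈ (H : Set G) \ {1}} : ℝ) = (Nat.card H : ℝ) - 1 := by
    intro H M hHM
    haveI : Fintype H := Fintype.ofFinite _
    rw [Nat.card_congr
      ({ toFun := fun x => ⟨⟨x.1.1, x.2.1⟩, fun h => x.2.2 (congrArg Subtype.val h)⟩
         invFun := fun x => ⟨⟨x.1.1, hHM x.1.2⟩, x.1.2, fun h => x.2 (Subtype.ext h)⟩ } :
        {x : M // (x : G) ∈ (H : Set G) \ {1}} ≃ {x : H // x ≠ 1}),
      Nat.card_eq_fintype_card, Fintype.card_subtype_compl, Fintype.card_subtype_eq,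
      Nat.card_eq_fintype_card, Nat.cast_sub Fintype.card_pos, Nat.cast_one]
  have eP := hmeas (m.dade_P B) (hpunct _ _ m.P_le)
  have eQ := hmeas (m'.dade_P B) (hpunct _ _ m'.P_le)
  have eV := hmeas (dadeHypothesis_tiV m.hW) m.card_tiV_real
  have eL := hmeas hL.dade (a := (Nat.card K : ℝ) - 1) (by
    haveI : Fintype K := Fintype.ofFinite _
    rw [Nat.card_congr
      ({ toFun := fun x => ⟨⟨x.1, ((hL.support x.1).1 x.2).1⟩,
            fun h => ((hL.support x.1).1 x.2).2 (congrArg Subtype.val h)⟩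
         invFun := fun x => ⟨x.1.1, (hL.support x.1.1).2 ⟨x.1.2, fun h => x.2 (Subtype.ext h)⟩⟩ } :
        {x : L // (x : G) ∈ A} ≃ {x : K // x ≠ 1}),
      Nat.card_eq_fintype_card, Fintype.card_subtype_compl, Fintype.card_subtype_eq,
      Nat.card_eq_fintype_card, Nat.cast_sub Fintype.card_pos, Nat.cast_one])
  -- the mass on the kernel
  have hH : 1 - (K.index : ℝ) / Nat.card K ≤
      (Nat.card G : ℝ)⁻¹ * ∑ g ∈ DL, Complex.normSq (χ g) := by
    obtain ⟨a, ha⟩ := hL.exists_coef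
    refine le_trans ?_ (sum_normSq_invDade_le hL.dade hχc)
    rw [hχ, hL.norm_invDade_self ha, le_add_iff_nonneg_right]
    refine div_nonneg ?_ (Nat.cast_nonneg _)
    have hidx : (0 : ℝ) < K.index := by
      exact_mod_cast Nat.pos_of_ne_zero Subgroup.index_ne_zero_of_finite
    have h2 : (2 : ℝ) ≤ ((Nat.card K : ℝ) - 1) / K.index := by
      rw [le_div_iff₀ hidx, hpq]
      have : ((2 * (p * q) + 1 : ℕ) : ℝ) ≤ Nat.card K := by exact_mod_cast hN
      push_cast at this ⊢
      linarith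
    have h3 : (a : ℝ) ≤ (a : ℝ) ^ 2 := by exact_mod_cast Int.le_self_sq a
    nlinarith [mul_le_mul_of_nonneg_left h2 (sq_nonneg (a : ℝ))]
  -- the total
  have htot : (Nat.card G : ℝ)⁻¹ * ∑ g ∈ DL, Complex.normSq (χ g) +
      ((Finset.univ \ Z).card : ℝ) / Nat.card G ≤ 1 := by
    have h : (Nat.card G : ℝ)⁻¹ * ∑ g, Complex.normSq (χ g) = 1 := by
      rw [Char.classInner_self] at h1
      exact_mod_cast h1
    rw [← h, ← Finset.sum_sdiff (Finset.subset_univ Z), mul_add, add_comm]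
    refine add_le_add ?_ (mul_le_mul_of_nonneg_left (Finset.sum_le_sum_of_subset_of_nonneg
      Finset.subset_union_right fun _ _ _ => Complex.normSq_nonneg _) (by positivity))
    rw [div_eq_inv_mul]
    refine mul_le_mul_of_nonneg_left ?_ (by positivity)
    rw [← nsmul_one, ← Finset.sum_const]
    exact Finset.sum_le_sum fun g hg => hout g (Finset.mem_sdiff.1 hg).2
  have hZ : (Z.card : ℝ) ≤ DP.card + DQ.card + DV.card + DL.card := by
    have h1 := Finset.card_union_le DP DQ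
    have h2 := Finset.card_union_le (DP ∪ DQ) DV
    have h3 := Finset.card_union_le (DP ∪ DQ ∪ DV) DL
    exact_mod_cast (by simp only [Z]; omega :
      Z.card ≤ DP.card + DQ.card + DV.card + DL.card)
  have hrest : ((Finset.univ \ Z).card : ℝ) = Nat.card G - Z.card := by
    rw [Finset.card_sdiff_of_subset (Finset.subset_univ _), Finset.card_univ,
      Nat.cast_sub (Finset.card_le_univ Z), ← Nat.card_eq_fintype_card]
  rw [hrest, sub_div, div_self hG0.ne'] at htot
  have hZ' : (Z.card : ℝ) / Nat.card G ≤ (DP.card : ℝ) / Nat.card G + (DQ.card : ℝ) / Nat.card G +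
      (DV.card : ℝ) / Nat.card G + (DL.card : ℝ) / Nat.card G := by
    rw [← add_div, ← add_div, ← add_div]; gcongr
  rw [eP, eQ, eV, eL] at hZ'
  have hP0 : (0 : ℝ) < (p : ℝ) := by exact_mod_cast m.hp.pos
  have hq0 : (0 : ℝ) < (q : ℝ) := by exact_mod_cast m.hq.pos
  have hu0 : (0 : ℝ) < (Nat.card U : ℝ) := by exact_mod_cast Nat.card_pos
  have hv0 : (0 : ℝ) < (Nat.card V : ℝ) := by exact_mod_cast Nat.card_pos
  have hK0 : (0 : ℝ) < (Nat.card K : ℝ) := by exact_mod_cast Nat.card_pos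
  have bP : ((Nat.card (fittingHallOf S) : ℝ) - 1) / Nat.card S ≤ 1 / (Nat.card U * q) := by
    rw [m.card_P, m.card_S, Nat.cast_pow]
    push_cast
    rw [div_le_div_iff₀ (by positivity) (by positivity)]
    nlinarith [mul_pos hu0 hq0]
  have bQ : ((Nat.card (fittingHallOf T) : ℝ) - 1) / Nat.card T ≤ 1 / (Nat.card V * p) := by
    rw [m'.card_P, m'.card_S, Nat.cast_pow]
    push_cast
    rw [div_le_div_iff₀ (by positivity) (by positivity)]
    nlinarith [mul_pos hv0 hP0]
  have bL : ((Nat.card K : ℝ) - 1) / Nat.card L ≤ 1 / (p * q) := by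
    rw [← K.card_mul_index, hpq]
    push_cast
    rw [div_le_div_iff₀ (by positivity) (by positivity)]
    nlinarith [mul_pos hP0 hq0]
  rw [m.card_W] at hZ'
  push_cast at hZ'
  rw [hpq] at hH
  push_cast at hH
  have eq1 : ((p : ℝ) - 1) * ((q : ℝ) - 1) / (q * p) =
      1 - 1 / p - 1 / q + 1 / (p * q) := by field_simp; ring
  have eq2 : (2 : ℝ) / (p * q) = 1 / (p * q) + 1 / (p * q) := by ring
  rw [eq1] at hZ'
  linarith

end Member

end Cfsg.Agent.OddOrder.PF.S14
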