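import Cfsg.Agent.Lib.OddOrder.PF.S14_Budget
import Cfsg.Agent.Lib.OddOrder.PF.S14_Arith

/-!
The case analysis of Peterfalvi 14: given the bridge of the support `L` of `U` with index `p q` and a
companion bridge for `T`, the subgroup `U` has order `(p^q - 1)/(p - 1)` and either fills the kernel
of `L` or lies in a cyclic kernel.
-/

set_option autoImplicit false
set_option linter.style.haveILetI false
set_option linter.unusedSectionVars false

namespace Cfsg.Agent.OddOrder.PF.S14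

open Cfsg Cfsg.Agent.OddOrder Cfsg.Agent
open scoped ComplexConjugate

universe u

variable {G : Type u} [Group G] [Fintype G]

/-- A bridge for `T`: either its support misses the one of `L`, or `V` is conjugate into `H`. -/
structure Companion {κ : Type*} [Fintype κ] (f : κ → G → ℂ) (st : κ → κ) (Y : Set G) (w : κ → ℕ)
    (z : κ) (β : G → ℂ) (e bound v : ℕ) (suppS YL : Set G) (cnj : Prop) : Prop where
  bridge : Bridge f st Y w z β e
  e_le : e ≤ bound
  two_le : 2 ≤ ∑ i, w i ^ 2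
  v_le : v ≤ e * (∑ i, w i ^ 2) + 1
  disjoint : Disjoint Y suppS
  cases : Disjoint YL Y ∨ cnj

theorem emptyFamily : ConjFamily (G := G) (fun i : PEmpty.{1} => i.elim) id (∅ : Set G) :=
  ⟨fun i => i.elim, fun i => i.elim, fun i => i.elim, fun i => i.elim, fun i => i.elim,
    fun i => i.elim⟩

namespace Member

variable {S W₁ U W₂ : Subgroup G} {p q : ℕ} (m : Member S W₁ U W₂ p q)
  {T V : Subgroup G} (m' : Member T W₂ V W₁ q p) (B : BGFacts G) (hG : IsMinSimpleOddOrder G)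
  {η : (↥(W₁ ⊔ W₂) →* ℂˣ) → (G → ℂ)} (hη : IsCyclicTIFamily W₁ W₂ η)

include m m' B hη in
/-- The coefficients on the row, on the column, and off both. -/
theorem exists_coeffs {ι : Type*} [Fintype ι] {f : ι → G → ℂ} {st : ι → ι} {Y : Set G} {w : ι → ℕ}
    {z : ι} {β : G → ℂ} {e : ℕ} (hB : Bridge f st Y w z β e) (hd : Disjoint Y (conjSet m.supp))
    (hd' : Disjoint Y (conjSet m'.supp)) [Fintype (Ann W₁ W₂ W₁)] [Fintype (Ann W₁ W₂ W₂)] :
    ∃ d d' : ℤ, (∀ ψ : Ann W₁ W₂ W₁, ψ ≠ annOne W₁ W₂ W₁ → classInner β (η ψ.1) = d) ∧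
      (∀ φ : Ann W₁ W₂ W₂, φ ≠ annOne W₁ W₂ W₂ → classInner β (η φ.1) = d') ∧
      (Even d → q * (∑ i, w i ^ 2) + 1 ≤ Nat.card U) ∧
      (Even d' → p * (∑ i, w i ^ 2) + 1 ≤ Nat.card V) ∧
      (Odd d → ∀ ψ : Ann W₁ W₂ W₁, ψ ≠ annOne W₁ W₂ W₁ →
        ∃ σ : ℤ, Odd σ ∧ classInner β (etaCol η ψ) = σ) := by
  haveI := (ann_facts m'.hW).1
  haveI : Fintype (Ann W₂ W₁ W₂) := Fintype.ofFinite _
  haveI : Fintype (Ann W₂ W₁ W₁) := Fintype.ofFinite _
  obtain ⟨d, hrow, heven, hodd⟩ := m.exists_d B hη hB hd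
  obtain ⟨d', hcol, heven', -⟩ := m'.exists_d B (isCyclicTIFamily_swap hη) hB hd'
  refine ⟨d, d', hrow, fun φ hφ => ?_, heven, heven', hodd⟩
  have hφ' : (annSwap W₁ W₂ W₂).symm φ ≠ annOne W₂ W₁ W₂ := fun h => hφ (by
    rw [← (annSwap W₁ W₂ W₂).apply_symm_apply φ, h, annSwap_annOne])
  have h := hcol _ hφ'
  have e := congrArg Subtype.val ((annSwap W₁ W₂ W₂).apply_symm_apply φ)
  rw [annSwap_coe] at e
  simpa only [e] using h

variable (hqp : q < p) {H : Subgroup G} (hUH : U ≤ H)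
  {A : Set G} {L : Subgroup G} [Fintype L] {R : G → Subgroup G} {K : Subgroup L}
  {τ₁ : (L → ℂ) → G → ℂ} {ζ : L → ℂ} (hL : CohSetting A L R K τ₁ ζ)
  {ι : Type*} [Fintype ι] {f : ι → G → ℂ} {st : ι → ι} {w : ι → ℕ} {z : ι}
  (hB : Bridge f st (↑(dadeUnion A R) : Set G) w z (dadeBeta A L R K ζ) (p * q))
  (hfz : f z = τ₁ ζ) (hsurj : ∀ ξ ∈ inducedIrrAbove K ⊥, ∃ i, f i = τ₁ ξ)
  (hidx : K.index = p * q) (hKH : Nat.card K = Nat.card H)
  (hN : Nat.card H = p * q * (∑ i, w i ^ 2) + 1) (hN2 : 2 ≤ ∑ i, w i ^ 2)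
  (hdS : Disjoint (↑(dadeUnion A R) : Set G) (conjSet m.supp))
  (hdT : Disjoint (↑(dadeUnion A R) : Set G) (conjSet m'.supp))
  (hnc : NotConj S T)
  {κ : Type*} [Fintype κ] {f' : κ → G → ℂ} {st' : κ → κ} {Y' : Set G} {w' : κ → ℕ} {z' : κ}
  {β' : G → ℂ} {e' : ℕ}
  (hC : Companion f' st' Y' w' z' β' e' (p * q) (Nat.card V) (conjSet m.supp) (↑(dadeUnion A R) : Set G)
    (∃ g : G, V.map (MulAut.conj g).toMonoidHom ≤ H))

set_option maxHeartbeats 1000000 in
include m m' B hG hη hqp hUH hL hB hfz hsurj hidx hKH hN hN2 hdS hdT hnc hC in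
/-- `U` is full, and `H = U` or `H` is cyclic. -/
theorem full_and_cases {M : ℕ} (hM : (p - 1) * M = p ^ q - 1)
    (hcyc : IsCyclic H → Nat.card U ≡ 1 [MOD p]) :
    Nat.card U = M ∧ (U = H ∨ IsCyclic H) := by
  classical
  haveI := (ann_facts m.hW).1
  haveI : Fintype (Ann W₁ W₂ W₁) := Fintype.ofFinite _
  haveI : Fintype (Ann W₁ W₂ W₂) := Fintype.ofFinite _
  have h3 : 3 ≤ q := m.three_le.2
  have hqp2 : q + 2 ≤ p := by
    obtain ⟨a, ha⟩ := m.p_odd
    obtain ⟨b, hb⟩ := m.q_odd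
    omega
  have hp5 : 5 ≤ p := by omega
  have hq2 : 2 ≤ q := by omega
  obtain ⟨M', hM'⟩ : ∃ M', (q - 1) * M' = q ^ p - 1 :=
    ⟨∑ i ∈ Finset.range p, q ^ i, by rw [mul_comm, geom_sum_mul_of_one_le (by omega)]⟩
  set u := Nat.card U with hu
  set v := Nat.card V with hv
  set h := Nat.card H with hh
  set N := ∑ i, w i ^ 2 with hNdef
  set RS := Nat.card {a : ↥(fittingHallOf S) →* ℂˣ // RegularChar (fittingHallOf S) U a} with hRS
  set RT := Nat.card {a : ↥(fittingHallOf T) →* ℂˣ // RegularChar (fittingHallOf T) V a} with hRT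
  obtain ⟨hdU, hRlo, hUdvd⟩ := m.uAct.dichotomy hM
  obtain ⟨hdV, hRlo', hVdvd⟩ := m'.uAct.dichotomy hM'
  have hu1 : u ≡ 1 [MOD q] := m.uAct.card_U_modEq
  have hv1 : v ≡ 1 [MOD p] := m'.uAct.card_U_modEq
  have hu0 : 1 < u := m.uAct.one_lt_card_U
  have hv0 : 1 < v := m'.uAct.one_lt_card_U
  have huodd : Odd u := m.odd.of_dvd_nat U.card_subgroup_dvd_card
  have hhodd : Odd h := m.odd.of_dvd_nat H.card_subgroup_dvd_card
  obtain ⟨k, hk⟩ : u ∣ h := Subgroup.card_dvd_of_le hUH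
  have hko : Odd k := (Nat.odd_mul.1 (hk ▸ hhodd)).2
  have hh13 : 13 ≤ h := by
    have : 15 ≤ p * q := le_trans (by norm_num) (Nat.mul_le_mul hp5 h3)
    have := Nat.mul_le_mul this hN2
    omega
  obtain ⟨d, d', hrow, hcolumn, hdeven, hdeven', hdodd⟩ := m.exists_coeffs m' B hη hB hdS hdT
  rw [← hu, ← hNdef] at hdeven
  rw [← hv, ← hNdef] at hdeven'
  have hvle : v ≤ e' * (∑ i, w' i ^ 2) + 1 := hC.v_le
  -- the budget
  have horth : ∀ ξ ∈ inducedIrrAbove K ⊥, ∀ ω, classInner (τ₁ ξ) (η ω) = 0 := fun ξ hξ ω => by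
    obtain ⟨i, hi⟩ := hsurj ξ hξ
    rw [← hi]
    exact m.orth_eta_bridge B hη hB hdS i ω
  obtain ⟨φ₀, hφ₀⟩ : ∃ φ : Ann W₁ W₂ W₂, φ ≠ annOne W₁ W₂ W₂ :=
    Fintype.exists_ne_of_one_lt_card (by
      rw [← Nat.card_eq_fintype_card, (ann_facts m.hW).2.1, m.q_eq]; omega) _
  obtain ⟨ψ₀, hψ₀⟩ : ∃ ψ : Ann W₁ W₂ W₁, ψ ≠ annOne W₁ W₂ W₁ :=
    Fintype.exists_ne_of_one_lt_card (by
      rw [← Nat.card_eq_fintype_card, (ann_facts m.hW).2.2.1, m.p_eq]; omega) _
  have hc : classInner (dadeBeta A L R K ζ) (η (φ₀.1 * ψ₀.1)) = ((d + d' - 1 : ℤ) : ℂ) := by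
    rw [m.coeff_mul B hη hB hdS φ₀ ψ₀, hcolumn φ₀ hφ₀, hrow ψ₀ hψ₀]
    push_cast; ring
  have hbud := m.budget m' B hG hη hnc hL hdS hdT horth hφ₀ hψ₀ hc
  rw [hidx, hKH] at hbud
  have hu0' : 0 < u := by omega
  have hv0' : 0 < v := by omega
  obtain ⟨hfull, hfull'⟩ := budget_cases (M := M) (M' := M') h3 hp5 hh13 hu0' hv0'
    (fun e => by rw [e, (hUdvd (dvd_of_eq e)).2.2, hM])
    (fun e => (nonfull_bound m.hp m.hq h3 hqp hM hu1 hdU e hRlo fun hd => (hUdvd hd).2.2).2)
    (fun e => by rw [e, (hVdvd (dvd_of_eq e)).2.2, hM'])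
    (fun e => companion_nonfull_bound m.hq h3 m.hp hp5 hM' hdV e hRlo' fun hd => (hVdvd hd).2.2)
    (d + d' - 1) hbud
  -- the conjugate case
  have hconj : (∃ g : G, V.map (MulAut.conj g).toMonoidHom ≤ H) →
      v ∣ h ∧ (h = v → v ∣ M' → IsCyclic H) := by
    rintro ⟨g, hg⟩
    have e : Nat.card (V.map (MulAut.conj g).toMonoidHom : Subgroup G) = v :=
      Subgroup.card_map_of_injective (MulAut.conj g).injective
    refine ⟨e ▸ Subgroup.card_dvd_of_le hg, fun hhv hvM => ?_⟩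
    have e' : V.map (MulAut.conj g).toMonoidHom = H :=
      Subgroup.eq_of_le_of_card_ge hg (by rw [e, ← hh, hhv])
    haveI := (hVdvd hvM).1
    exact e' ▸ (V.equivMapOfInjective _ (MulAut.conj g).injective).isCyclic.1 inferInstance
  have hdd : d + d' - 1 = 0 → Odd d → Even d' := fun h0 hd => by
    obtain ⟨a, ha⟩ := hd
    exact ⟨-a, by omega⟩
  have hfullU : u = M := by
    by_contra hne
    have hvM : v = M' := hfull.resolve_left hne
    have h0 : d + d' - 1 = 0 := by_contra fun h0 => hne (hfull' h0).1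
    have hquM := (nonfull_bound m.hp m.hq h3 hqp hM hu1 hdU hne hRlo fun hd => (hUdvd hd).2.2).1
    rcases hC.cases with hdL | hg
    · obtain ⟨D, hDrow, hDeven, hDodd⟩ := m.exists_d B hη hC.bridge hC.disjoint
      rcases Int.even_or_odd D with hDe | hDo
      · exact companion_too_big h3 hqp2 hM hM' hquM hvM hC.e_le (hDeven hDe) hvle
      obtain ⟨x, hx⟩ := hB.cross hC.bridge hdL
      obtain ⟨y, hy⟩ := hC.bridge.cross hB hdL.symm
      have hxy : Odd (x + y) := hB.parity m.odd hC.bridge hdL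
        (by simpa [hC.bridge.w_z] using hx z') (by simpa [hB.w_z] using hy z)
      by_cases hx0 : x = 0
      · have hy0 : y ≠ 0 := fun e => by rw [hx0, e] at hxy; simp at hxy
        obtain ⟨s, hs, hscol⟩ := hDodd hDo ψ₀ hψ₀
        obtain ⟨n, hn, hle⟩ := m.bessel_regular B hη hC.bridge hC.disjoint hG (by omega) hDrow hDo
          hψ₀ hs hscol hC.two_le hB.toConjFamily hdL.symm hdS hy
        refine hne (full_of_bounds (NL := N) (k := k) m.hp m.hq h3 hqp hM hu1 huodd hu0 hdU hRlo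
          (fun hd => (hUdvd hd).2.2) hn ?_ (hk.symm.trans hN) hko)
        have hy1 : (1 : ℤ) ≤ y ^ 2 := by have := sq_pos_of_ne_zero hy0; omega
        have he' : (e' : ℤ) ≤ (p : ℤ) * q := by exact_mod_cast hC.e_le
        have hN0 : (0 : ℤ) ≤ (N : ℤ) := Int.natCast_nonneg _
        have hcast : ((p - 1 : ℕ) : ℤ) = (p : ℤ) - 1 := by omega
        rw [hcast] at hle
        have : ((n : ℤ) + N) ≤ (p : ℤ) * q - p := by nlinarith [mul_le_mul_of_nonneg_right hy1 hN0]
        rw [Nat.mul_sub, mul_one]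
        have hpq : p ≤ p * q := Nat.le_mul_of_pos_right p (by omega)
        omega
      · have hle := hB.cross_bound hC.bridge.toConjFamily hdL hx hN2
        refine companion_small_false m.hp m.hq h3 hqp hM hM' hu1 huodd hu0 hdU hne hvM hC.e_le ?_
          hvle
        have hx1 : (1 : ℤ) ≤ x ^ 2 := by have := sq_pos_of_ne_zero hx0; omega
        have h1 := mul_le_mul_of_nonneg_right hx1 (Int.natCast_nonneg (∑ i, w' i ^ 2))
        rw [one_mul] at h1
        omega
    · obtain ⟨hvh, hvcyc⟩ := hconj hg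
      rcases Int.even_or_odd d with hde | hdo
      · refine companion_too_big h3 hqp2 hM hM' hquM hvM le_rfl (hdeven hde) ?_
        rw [← hN]
        exact Nat.le_of_dvd (by omega) hvh
      have hle : h ≤ q * v := by
        have := Nat.mul_le_mul_left q (hdeven' (hdd h0 hdo))
        rw [mul_add, mul_one, ← mul_assoc, mul_comm q p] at this
        omega
      have hhv := eq_of_dvd_le hqp hv1 hvh hN hle
      have hup := hcyc (hvcyc hhv (dvd_of_eq hvM))
      have hdM : u ∣ M := hdU.resolve_right fun hd => by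
        have := eq_one_of_dvd_geom_half (u := u) m.hq m.hp (by omega) m.p_odd hM'
          (hvM ▸ hhv ▸ ⟨k, hk⟩) hd
        omega
      obtain ⟨s, hs, hscol⟩ := hdodd hdo ψ₀ hψ₀
      obtain ⟨n, hn, hle'⟩ := m.bessel_regular B hη hB hdS hG (by omega) hrow hdo hψ₀ hs hscol hN2
        (w' := fun i : PEmpty.{1} => 0) emptyFamily (Set.disjoint_empty _) (Set.empty_disjoint _)
        (b := 0) (fun i => i.elim)
      refine hne (full_of_conj m.hp m.hq (by omega) hM hu1 hdM hup (hUdvd hdM).2.2 hn ?_)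
      rw [Nat.mul_sub, mul_one]
      have hpq : p ≤ p * q := Nat.le_mul_of_pos_right p (by omega)
      simp only [Finset.univ_eq_empty, Finset.sum_empty, Nat.cast_zero, mul_zero, add_zero] at hle'
      omega
  refine ⟨hfullU, ?_⟩
  by_cases hk1 : k = 1
  · exact Or.inl (Subgroup.eq_of_le_of_card_ge hUH (by rw [← hh, hk, hk1, mul_one]))
  right
  have hpq1 : ¬ p ≡ 1 [MOD q] := fun hp1 => by
    have hh1 := (hfullU ▸ hu1 : M ≡ 1 [MOD q]).symm.trans
      ((geom_modEq_q m.hp.two_le hp1 hM).trans (Nat.modEq_zero_iff_dvd.2 dvd_rfl))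
    exact m.hq.ne_one (Nat.dvd_one.1 (Nat.modEq_zero_iff_dvd.1 hh1))
  have hMk : h = M * k := by rw [hk, hfullU]
  have hk2 : 2 * (p * q) + 1 ≤ k := by
    refine cofactor_ge m.hp m.hq h3 hqp hM hpq1 ?_ hko hk1
    rw [← hMk, hN]
    have : p * q * N ≡ 0 [MOD p * q] := Nat.modEq_zero_iff_dvd.2 (dvd_mul_right _ _)
    simpa using this.add_right 1
  have hsq := hMk ▸ sq_lt_kernel m.hp h3 hqp hM hk2
  have hN3 : 3 ≤ N := by
    by_contra hlt
    have h1 := Nat.mul_le_mul_left (p * q) (show N ≤ 2 by omega)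
    have h2 : 15 ≤ p * q := le_trans (by norm_num) (Nat.mul_le_mul hp5 h3)
    nlinarith
  rcases Int.even_or_odd d with hde | hdo
  · exfalso
    have h1 := Nat.mul_le_mul_left p (hdeven hde)
    rw [mul_add, mul_one, ← mul_assoc, hfullU] at h1
    have h2 : M * (2 * (p * q) + 1) ≤ M * k := Nat.mul_le_mul_left M hk2
    have h3' : p * M + 1 ≤ M * (2 * (p * q) + 1) := by
      have hM0 : 0 < M := hfullU ▸ hu0'
      have : p * M ≤ M * (2 * (p * q)) := by
        rw [mul_comm p M]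
        exact Nat.mul_le_mul_left M (le_trans (Nat.le_mul_of_pos_right p (show 0 < 2 * q by omega))
          (le_of_eq (by ring)))
      rw [mul_add, mul_one]
      omega
    omega
  by_cases h0 : d + d' - 1 = 0
  · have hle : h ≤ q * v := by
      have := Nat.mul_le_mul_left q (hdeven' (hdd h0 hdo))
      rw [mul_add, mul_one, ← mul_assoc, mul_comm q p] at this
      omega
    rcases hC.cases with hdL | hg
    · exfalso
      have hsmall : h ≤ p ^ 2 * q ^ 3 := by
        obtain ⟨x, hx⟩ := hB.cross hC.bridge hdL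
        obtain ⟨y, hy⟩ := hC.bridge.cross hB hdL.symm
        have hxy : Odd (x + y) := hB.parity m.odd hC.bridge hdL
          (by simpa [hC.bridge.w_z] using hx z') (by simpa [hB.w_z] using hy z)
        by_cases hx0 : x = 0
        · have hy0 : y ≠ 0 := fun e => by rw [hx0, e] at hxy; simp at hxy
          have hb := hC.bridge.cross_bound hB.toConjFamily hdL.symm hy hC.two_le
          have hy1 : (1 : ℤ) ≤ y ^ 2 := by have := sq_pos_of_ne_zero hy0; omega
          have h1 := mul_le_mul_of_nonneg_right hy1 (Int.natCast_nonneg N)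
          rw [one_mul] at h1
          rw [← hNdef] at hb
          have he' := hC.e_le
          have hNe : N + 1 ≤ p * q := by omega
          rw [hN]
          calc p * q * N + 1 ≤ p * q * (N + 1) := by rw [mul_add, mul_one]; omega
            _ ≤ p * q * (p * q) := Nat.mul_le_mul_left _ hNe
            _ ≤ p * q * (p * q) * q := Nat.le_mul_of_pos_right _ (by omega)
            _ = p ^ 2 * q ^ 3 := by ring
        · have hb := hB.cross_bound hC.bridge.toConjFamily hdL hx hN2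
          have hx1 : (1 : ℤ) ≤ x ^ 2 := by have := sq_pos_of_ne_zero hx0; omega
          have h1 := mul_le_mul_of_nonneg_right hx1 (Int.natCast_nonneg (∑ i, w' i ^ 2))
          rw [one_mul] at h1
          have hNe : (∑ i, w' i ^ 2) + 1 ≤ p * q := by omega
          have hv2 : v ≤ p * q * (p * q) := by
            refine hvle.trans ?_
            have h2 := Nat.mul_le_mul hC.e_le hNe
            have he1 : 1 ≤ e' := Nat.pos_of_ne_zero fun e0 => by
              have := hvle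
              rw [e0, zero_mul] at this
              omega
            rw [mul_add, mul_one] at h2
            omega
          calc h ≤ q * v := hle
            _ ≤ q * (p * q * (p * q)) := Nat.mul_le_mul_left q hv2
            _ = p ^ 2 * q ^ 3 := by ring
      exact cofactor_false_of_small m.hp h3 hqp hM hk2 hsmall hMk.ge
    · obtain ⟨hvh, hvcyc⟩ := hconj hg
      have hhv := eq_of_dvd_le hqp hv1 hvh hN hle
      refine hdV.elim (hvcyc hhv) fun hd => ?_
      exfalso
      have := eq_one_of_dvd_geom_half (u := M) m.hp m.hq (by omega) m.q_odd hM dvd_rfl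
        (by
          rw [← hv, ← hhv, hMk] at hd
          exact (dvd_mul_right M k).trans hd)
      omega
  · exfalso
    have hvM := (hfull' h0).2
    obtain ⟨hbe, hbeq⟩ := m.bessel_eta B hη hB hdS hrow hcolumn hN2
    obtain ⟨hd'o, heq⟩ := bessel_equality h3 hqp hdo h0 hbe
    have hint := hbeq hdo hd'o hN3 heq
    have hfpf : ∀ x ∈ U, ∀ y ∈ fittingHallOf S, y ≠ 1 → x * y = y * x → x = 1 :=
      fun x hx y hy hy1 hxy => by_contra fun hx1 =>
        hy1 ((hUdvd (dvd_of_eq hfullU)).2.1 x hx hx1 y hy hxy)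
    have hfpf' : ∀ x ∈ V, ∀ y ∈ fittingHallOf T, y ≠ 1 → x * y = y * x → x = 1 :=
      fun x hx y hy hy1 hxy => by_contra fun hx1 =>
        hy1 ((hVdvd (dvd_of_eq hvM)).2.1 x hx hx1 y hy hxy)
    have hrest := m.rest_bound m' B hG hη hnc hL hdS hdT hfpf hfpf' hidx
      (by rw [hKH]; have := Nat.mul_le_mul_left (p * q) hN2; omega)
      (fun g hg hgc => by rw [← hfz]; exact hint g (by simpa using hg) hgc)
    rw [hKH] at hrest
    refine rest_false h3 hp5 (u := u) (v := v) ?_ ?_ hsq.le hrest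
    · exact hfullU ▸ le_trans (Nat.le_self_pow (by omega) p) (pow_pred_le_geom m.hp.two_le (by omega) hM)
    · exact hvM ▸ le_trans (Nat.le_self_pow (by omega) q) (pow_pred_le_geom (p := q) (q := p) m.hq.two_le (by omega) hM')

end Member

end Cfsg.Agent.OddOrder.PF.S14
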