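import Cfsg.Agent.Lib.OddOrder.PF.TypePDade
import Cfsg.Agent.Lib.OddOrder.PF.S10_Basic
import Cfsg.Agent.Lib.OddOrder.DadeInverse
import Cfsg.Agent.Lib.OddOrder.DecompositionFacts

/-!
Supports for Peterfalvi 14: the set `V = W ∖ (W₁ ∪ W₂)` of a subgroup of type P misses every
`σ`-support, `σ`-supports of non-conjugate maximal subgroups are disjoint, and a subset of a
TI-subset `A` with normaliser `M` satisfies the Dade hypothesis with trivial twisting subgroups.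
-/

set_option autoImplicit false
set_option linter.style.haveILetI false
set_option linter.unusedSectionVars false

namespace Cfsg.Agent.OddOrder.PF.S14

open Cfsg Cfsg.Agent.OddOrder Cfsg.Agent

universe u
variable {G : Type u} [Group G]

/-- The union of the conjugates of a set. -/
def conjSet (X : Set G) : Set G := {g | ∃ a ∈ X, ∃ y : G, g = y * a * y⁻¹}

theorem subset_conjSet (X : Set G) : X ⊆ conjSet X := fun a ha => ⟨a, ha, 1, by simp⟩

theorem conjSet_mono {X Y : Set G} (h : X ⊆ Y) : conjSet X ⊆ conjSet Y :=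
  fun _ ⟨a, ha, y, e⟩ => ⟨a, h ha, y, e⟩

theorem conj_mem_conjSet {X : Set G} {g : G} (h : g ∈ conjSet X) (y : G) :
    y * g * y⁻¹ ∈ conjSet X := by
  obtain ⟨a, ha, z, rfl⟩ := h
  exact ⟨a, ha, y * z, by group⟩

/-- `W ∖ (W₁ ∪ W₂)`. -/
def setV (W₁ W₂ : Subgroup G) : Set G := (↑(W₁ ⊔ W₂) : Set G) \ ((W₁ : Set G) ∪ (W₂ : Set G))

theorem setV_symm (W₁ W₂ : Subgroup G) : setV W₁ W₂ = setV W₂ W₁ := by
  rw [setV, setV, sup_comm, Set.union_comm]

theorem conjSet_subset_tildeOf (M : Subgroup G) (A : Set G) : conjSet A ⊆ tildeOf M A :=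
  fun _ ⟨a, ha, y, e⟩ => ⟨a, ha, 1, one_mem _, y, by rw [mul_one]; exact e⟩

theorem tildeOf_mono (M : Subgroup G) {A A' : Set G} (h : A ⊆ A') : tildeOf M A ⊆ tildeOf M A' :=
  fun _ ⟨a, ha, r, hr, y, e⟩ => ⟨a, h ha, r, hr, y, e⟩

/-- A subset of a TI-subset with normaliser `M` is a Dade support with trivial twisting groups. -/
theorem dade_of_ti {A X : Set G} {M : Subgroup G} (hTI : IsTISubset A)
    (hN : Subgroup.normalizer A = M) (hXA : X ⊆ A) (h1 : (1 : G) ∉ X) (hXM : X ⊆ (M : Set G))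
    (hconj : ∀ m ∈ M, ∀ x ∈ X, m * x * m⁻¹ ∈ X) : DadeHypothesis X M (fun _ => ⊥) := by
  have key : ∀ a ∈ X, ∀ g : G, g * a * g⁻¹ ∈ A → g ∈ M := by
    intro a ha g hg
    by_contra h
    exact h1 (hTI g (hN ▸ h) a (hXA ha) hg ▸ ha)
  refine ⟨h1, hXM, hconj, fun a ha g hg => ⟨g, key a ha g (hXA hg), rfl⟩, fun a _ => bot_le,
    fun a _ c _ u hu => ?_, fun a _ => bot_inf_eq _, fun a ha => ?_, fun a _ b _ => by simp⟩
  · rw [Subgroup.mem_bot] at hu ⊢; simp [hu]
  · rw [bot_sup_eq]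
    refine inf_eq_right.2 fun c hc => key a ha c ?_
    rw [show c * a = a * c from Subgroup.mem_centralizer_singleton_iff.1 hc, mul_inv_cancel_right]
    exact hXA ha

theorem dadeUnion_bot_eq [Fintype G] (X : Set G) :
    (dadeUnion X (fun _ : G => (⊥ : Subgroup G)) : Set G) = conjSet X := by
  ext g
  rw [SetLike.mem_coe, mem_dadeUnion]
  constructor
  · rintro ⟨a, ha, u, hu, x, hx⟩
    rw [Subgroup.mem_bot] at hu
    rw [hu, mul_one] at hx
    exact ⟨a, ha, x⁻¹, by rw [← hx]; group⟩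
  · rintro ⟨a, ha, y, rfl⟩
    exact ⟨a, ha, 1, one_mem _, y⁻¹, by group⟩

theorem dadeUnion_supportR_eq [Fintype G] (M : Subgroup G) (A : Set G) :
    (dadeUnion A (supportR M) : Set G) = tildeOf M A := by
  ext g
  rw [SetLike.mem_coe, mem_dadeUnion]
  constructor
  · rintro ⟨a, ha, u, hu, x, hx⟩
    exact ⟨a, ha, u, hu, x⁻¹, by rw [← hx]; group⟩
  · rintro ⟨a, ha, u, hu, y, rfl⟩
    exact ⟨a, ha, u, hu, y⁻¹, by group⟩

variable [Finite G] (B : BGFacts G)
include B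

/-- The `σ`-supports of non-conjugate maximal subgroups are disjoint. -/
theorem disjoint_tilde {M N : Subgroup G} (hM : IsCoatom M) (hN : IsCoatom N)
    (hnc : ∀ g : G, N ≠ M.map (MulAut.conj g).toMonoidHom) {A A' : Set G}
    (hA : A ⊆ (sigmaCore M : Set G) \ {1}) (hA' : A' ⊆ (sigmaCore N : Set G) \ {1}) :
    Disjoint (tildeOf M A) (tildeOf N A') :=
  (Set.disjoint_iff_inter_eq_empty.2 (B.s1379.1 M N hM hN hnc)).mono (tildeOf_mono M hA)
    (tildeOf_mono N hA')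

/-- The cyclic factor of a standard factorisation of a subgroup of type P is conjugate to `W₁`. -/
theorem exists_decomp_W {M W₁ U W₂ : Subgroup G} (hG : IsMinSimpleOddOrder G) (hM : IsCoatom M)
    (hP : IsTypePWith M W₁ U W₂) (hI : ¬ IsOfTypeI' M) :
    ∃ K U' : Subgroup G, IsSigmaDecomposition M K U' ∧ K ≠ ⊥ ∧ ∃ s ∈ M,
      K = W₁.map (MulAut.conj s).toMonoidHom ∧
      sigmaCore M ⊓ Subgroup.centralizer (K : Set G) = W₂.map (MulAut.conj s).toMonoidHom := by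
  obtain ⟨K, U', hKU⟩ := exists_decomp B hM
  have hK : K ≠ ⊥ := by
    intro hK
    by_cases hU : U' = ⊥
    · rcases type_cases B hM with h | h | h | h
      · exact hI h
      · exact ((B.s1381 M hM K U' hKU).1 h).1 hK
      · exact ((B.s1382 M hM K U' hKU).1 h).1 hK
      · exact ((B.s1383 M hM K U' hKU).1 h).1 hK
    · exact hI ((B.s1380 M hM K U' hKU).2 ⟨hK, hU⟩)
  have hD : ⁅M, M⁆ = U' ⊔ sigmaCore M := (B.s1365 M hM K U' hKU hK).1
  -- `K` is a complement of `M'`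
  have hKM : K ≤ M := hKU.hall.1
  have hN : W₁ ≤ Subgroup.normalizer ((⁅M, M⁆ : Subgroup G) : Set G) := fun a ha =>
    Subgroup.mem_normalizer_iff.2 fun x => ⟨conj_mem_commutator (hP.W₁_compl.2.1 ha), fun h => by
      have := conj_mem_commutator (M.inv_mem (hP.W₁_compl.2.1 ha)) h
      simpa [mul_assoc] using this⟩
  have hKW : K ≤ W₁ ⊔ ⁅M, M⁆ := fun w hw => by
    obtain ⟨d, hd, a, ha, rfl⟩ := hP.W₁_compl.2.2.2 w (hKM hw)
    exact Subgroup.mul_mem _ (Subgroup.mem_sup_right hd) (Subgroup.mem_sup_left ha)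
  have hdisj : (⁅M, M⁆ : Subgroup G) ⊓ K = ⊥ := by
    refine Coprime.disjoint_of_coprime_card (Nat.coprime_of_dvd fun l hl h1 h2 => ?_)
    have hk := hKU.hall.2.1 l hl h2
    rw [hD] at h1
    have hUn : U' ≤ Subgroup.normalizer (sigmaCore M : Set G) :=
      hKU.compl.1.trans (le_normalizer_sigmaCore M)
    have hUs : U' ⊓ sigmaCore M = ⊥ :=
      le_bot_iff.1 (hKU.compl.2.2.1 ▸ inf_le_inf_left U' le_sup_right)
    rw [Coprime.card_sup_of_le_normalizer hUn hUs] at h1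
    rcases hl.dvd_mul.1 h1 with h | h
    · exact (not_mem_of_dvd_decomposition hG hM hKU hl h).2 hk
    · exact hk.2.2.1 (isPiGrp_piCoreOf (sigma M) M l hl h)
  have hcompl : IsComplIn (⁅M, M⁆ : Subgroup G) K M := by
    refine ⟨M.commutator_le_self, hKM, hdisj, fun m hm => ?_⟩
    obtain ⟨u, hu, c, hc, rfl⟩ := hKU.compl.2.2.2 m hm
    obtain ⟨k, hk, x, hx, rfl⟩ := (Coprime.mem_sup_iff_of_le_normalizer
      (hKM.trans (le_normalizer_sigmaCore M))).1 hc
    refine ⟨u * (k * x * k⁻¹), ?_, k, hk, by group⟩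
    rw [hD]
    exact Subgroup.mul_mem _ (Subgroup.mem_sup_left hu) (Subgroup.mem_sup_right
      ((Subgroup.mem_normalizer_iff.1 (le_normalizer_sigmaCore M (hKM hk)) x).1 hx))
  have hcard : Nat.card K = Nat.card W₁ :=
    Nat.eq_of_mul_eq_mul_left Nat.card_pos
      ((card_eq_of_isComplIn hcompl).trans (card_eq_of_isComplIn hP.W₁_compl).symm)
  obtain ⟨s, hs, e⟩ := Coprime.exists_conj_eq_of_le_sup hN hKW hcard (typeP_card_W₁_coprime hP)
    (Or.inr (by have := hP.W₁_cyclic; exact Group.isSolvable_of_comm fun a b => IsCyclic.commGroup.mul_comm a b))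
  have hs' : s ∈ M := M.commutator_le_self hs
  have e' : W₁.map (MulAut.conj s).toMonoidHom = K := e
  refine ⟨K, U', hKU, hK, s, hs', e'.symm, ?_⟩
  have hc := Final.isTypePWith_conj hs' hP
  rw [e'] at hc
  refine le_antisymm (fun x hx => ?_) (fun x hx => ⟨?_, ?_⟩)
  · obtain ⟨k, hk, hk1⟩ := (Subgroup.bot_or_exists_ne_one K).resolve_left hK
    rw [← hc.W₂_centralizer k hk hk1]
    exact ⟨(B.s1355 M hM).2.2.1 hx.1, Subgroup.mem_centralizer_singleton_iff.2
      (Subgroup.mem_centralizer_iff.1 hx.2 k hk).symm⟩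
  · exact (B.s1355 M hM).2.1 (hc.W₂_le hx).1
  · exact Subgroup.mem_centralizer_iff.2 fun k hk => hc.selfNormalizing.2.2.2.1 k hk x hx

/-- The conjugates of `W ∖ (W₁ ∪ W₂)` miss every `σ`-support. -/
theorem disjoint_V_tilde {M W₁ U W₂ : Subgroup G} (hG : IsMinSimpleOddOrder G) (hM : IsCoatom M)
    (hP : IsTypePWith M W₁ U W₂) (hI : ¬ IsOfTypeI' M) {N : Subgroup G} (hN : IsCoatom N)
    {A : Set G} (hA : A ⊆ (sigmaCore N : Set G) \ {1}) :
    Disjoint (conjSet (setV W₁ W₂)) (tildeOf N A) := by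
  obtain ⟨K, U', hKU, hK, s, hs, eK, eS⟩ := exists_decomp_W B hG hM hP hI
  refine Set.disjoint_left.2 fun g hg hgA => ?_
  obtain ⟨w, ⟨hw, hw12⟩, y, rfl⟩ := hg
  rw [Set.mem_union, not_or] at hw12
  have h := ((B.s1379.2.2 M K U' hM hKU hK).2 N hN (y * s⁻¹) (MulAut.conj s w) ⟨?_, ?_⟩)
  · apply h
    rw [MulAut.conj_apply, show y * s⁻¹ * (s * w * s⁻¹) * (y * s⁻¹)⁻¹ = y * w * y⁻¹ by group]
    exact tildeOf_mono N hA hgA
  · rw [eS, eK, ← Subgroup.map_sup]
    exact Subgroup.mem_map_of_mem _ hw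
  · rw [eS, eK]
    rintro (h | h)
    · obtain ⟨x, hx, hxe⟩ := h
      exact hw12.1 ((MulAut.conj s).injective hxe ▸ hx)
    · obtain ⟨x, hx, hxe⟩ := h
      exact hw12.2 ((MulAut.conj s).injective hxe ▸ hx)

end Cfsg.Agent.OddOrder.PF.S14
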