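import Cfsg.Agent.Lib.OddOrder.PF.S14_UAction
import Cfsg.Agent.Lib.OddOrder.PF.S14_Tilde
import Cfsg.Agent.Lib.OddOrder.PF.S10_Partner
import Cfsg.Agent.S1496
import Cfsg.Agent.S1545

/-!
A member of a pair of type P as it stands in Peterfalvi 14: `S = P U W₁` with `P = S_F` elementary
abelian of order `p ^ q`, `U` abelian and faithful on `P`, and `A₀(S)` a TI-subset.
-/

set_option autoImplicit false
set_option linter.style.haveILetI false
set_option linter.unusedSectionVars false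

namespace Cfsg.Agent.OddOrder.PF.S14

open Cfsg Cfsg.Agent.OddOrder Cfsg.Agent

universe u
variable {G : Type u} [Group G]

/-- A member of a pair, with `p = |W₂|` and `q = |W₁|`. -/
structure Member (S W₁ U W₂ : Subgroup G) (p q : ℕ) : Prop where
  coatom : IsCoatom S
  typeP : IsTypePWith S W₁ U W₂
  not_typeI : ¬ IsOfTypeI' S
  q_eq : Nat.card W₁ = q
  p_eq : Nat.card W₂ = p
  hp : p.Prime
  hq : q.Prime
  elem : IsElementaryAbelian p (fittingHallOf S)
  card_P : Nat.card (fittingHallOf S) = p ^ q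
  ti : IsTISubset (typeA0' S)
  norm : Subgroup.normalizer (typeA0' S) = S
  U_comm : IsMulCommutative U
  U_ne : U ≠ ⊥
  centU : U ⊓ Subgroup.centralizer (fittingHallOf S : Set G) = ⊥
  odd : Odd (Nat.card G)

variable [Finite G]

/-- A pair gives two members. -/
theorem member_of_pair (hG : IsMinSimpleOddOrder G) (B : BGFacts G) (h1 : PairPrimes G)
    (h2 : PairKernel G) (h3 : TypeIIIOnly G) (hV : NoTypeV G)
    (h47 : ∀ S T W₁ W₂ U V : Subgroup G, TypePair S T W₁ W₂ U V →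
      U ⊓ Subgroup.centralizer (fittingHallOf S : Set G) = ⊥)
    {S T W₁ W₂ U V : Subgroup G} (P : TypePair S T W₁ W₂ U V) :
    Member S W₁ U W₂ (Nat.card W₂) (Nat.card W₁) := by
  obtain ⟨hel, hcard, hti, hnorm⟩ := h2 S T W₁ W₂ U V P
  obtain ⟨hI, U', W₁', W₂', hP', hU', hab⟩ : ¬ IsOfTypeI' S ∧ ∃ U' W₁' W₂' : Subgroup G,
      IsTypePWith S W₁' U' W₂' ∧ U' ≠ ⊥ ∧ IsMulCommutative U' := by
    rcases P.hS25 with h | h | h | h
    · obtain ⟨A, U', C, hP', hU', -, -, hab, -⟩ := id h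
      exact ⟨not_typeI_of_typeII B P.hS h, U', A, C, hP', hU', hab⟩
    · obtain ⟨A, U', C, hP', hU', -, -, hab, -⟩ := id h
      exact ⟨not_typeI_of_typeIII_IV B P.hS (Or.inl h), U', A, C, hP', hU', hab⟩
    · obtain ⟨A, U', C, hP', hU', -, -, hab, -⟩ := (h3 S T W₁ W₂ U V P (Or.inr h)).1
      exact ⟨not_typeI_of_typeIII_IV B P.hS (Or.inr h), U', A, C, hP', hU', hab⟩
    · exact absurd h (hV S P.hS)
  have hc : Nat.card U = Nat.card U' :=
    Nat.eq_of_mul_eq_mul_left Nat.card_pos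
      ((card_eq_of_isComplIn P.hSP.U_compl).trans (card_eq_of_isComplIn hP'.U_compl).symm)
  haveI := hel.1
  have hN : U' ≤ Subgroup.normalizer (fittingHallOf S : Set G) :=
    (hP'.U_compl.2.1.trans S.commutator_le_self).trans (le_normalizer_map_subtype _)
  have hle : U ≤ U' ⊔ fittingHallOf S := fun x hx => by
    obtain ⟨a, ha, b, hb, rfl⟩ := hP'.U_compl.2.2.2 x (P.hSP.U_compl.2.1 hx)
    exact Subgroup.mul_mem _ (Subgroup.mem_sup_right ha) (Subgroup.mem_sup_left hb)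
  obtain ⟨g, -, hg⟩ := Coprime.exists_conj_eq_of_le_sup_of_comm (fittingHallOf S) U' U hN hle hc
    (coprime_fittingHallOf_of_inf_eq_bot (hP'.U_compl.2.1.trans S.commutator_le_self)
      hP'.U_compl.2.2.1).symm
  haveI := hab
  exact {
    coatom := P.hS
    typeP := P.hSP
    not_typeI := hI
    q_eq := rfl
    p_eq := rfl
    hp := (h1 S T W₁ W₂ U V P).2
    hq := (h1 S T W₁ W₂ U V P).1
    elem := hel
    card_P := hcard
    ti := hti
    norm := hnorm
    U_comm := by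
      refine ⟨⟨fun a b => Subtype.ext ?_⟩⟩
      have key : ∀ x ∈ U, ∃ y ∈ U', g * y * g⁻¹ = x := fun x hx => by
        rw [← hg] at hx
        obtain ⟨y, hy, e⟩ := hx
        exact ⟨y, hy, e⟩
      obtain ⟨a', ha', ea⟩ := key a a.2
      obtain ⟨b', hb', eb⟩ := key b b.2
      have e : a' * b' = b' * a' := congrArg Subtype.val (mul_comm' (⟨a', ha'⟩ : U') ⟨b', hb'⟩)
      show (a : G) * b = b * a
      rw [← ea, ← eb]
      calc g * a' * g⁻¹ * (g * b' * g⁻¹) = g * (a' * b') * g⁻¹ := by group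
        _ = g * (b' * a') * g⁻¹ := by rw [e]
        _ = g * b' * g⁻¹ * (g * a' * g⁻¹) := by group
    U_ne := fun h => hU' (Subgroup.card_eq_one.1 (by rw [← hc, h, Subgroup.card_bot]))
    centU := h47 S T W₁ W₂ U V P
    odd := hG.1 }

namespace Member

variable {S W₁ U W₂ : Subgroup G} {p q : ℕ} (m : Member S W₁ U W₂ p q)
include m

omit [Finite G] in
theorem P_le : fittingHallOf S ≤ S := Subgroup.map_subtype_le _

omit [Finite G] in
theorem P_le_commutator : fittingHallOf S ≤ ⁅S, S⁆ := m.typeP.U_compl.1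

omit [Finite G] in
theorem U_le : U ≤ S := m.typeP.U_compl.2.1.trans S.commutator_le_self

omit [Finite G] in
theorem W₁_le : W₁ ≤ S := m.typeP.W₁_compl.2.1

omit [Finite G] in
theorem W₂_le : W₂ ≤ fittingHallOf S := m.typeP.W₂_le.trans inf_le_left

omit [Finite G] in
theorem S_le_normalizer : S ≤ Subgroup.normalizer (fittingHallOf S : Set G) :=
  le_normalizer_map_subtype _

theorem coprime_W₁ : q.Coprime (Nat.card (⁅S, S⁆ : Subgroup G)) :=
  m.q_eq ▸ typeP_card_W₁_coprime m.typeP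

theorem p_ne_q : p ≠ q := fun h => m.hq.ne_one <| Nat.eq_one_of_dvd_coprimes m.coprime_W₁ dvd_rfl
  (h ▸ m.p_eq ▸ Subgroup.card_dvd_of_le (m.W₂_le.trans m.P_le_commutator))

theorem p_odd : Odd p := m.p_eq ▸ m.odd.of_dvd_nat (Subgroup.card_subgroup_dvd_card W₂)

theorem q_odd : Odd q := m.q_eq ▸ m.odd.of_dvd_nat (Subgroup.card_subgroup_dvd_card W₁)

theorem three_le : 3 ≤ p ∧ 3 ≤ q := by
  obtain ⟨a, ha⟩ := m.p_odd
  obtain ⟨b, hb⟩ := m.q_odd
  have := m.hp.two_le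
  have := m.hq.two_le
  omega

theorem coprime_P_U : (Nat.card (fittingHallOf S)).Coprime (Nat.card U) :=
  coprime_fittingHallOf_of_inf_eq_bot m.U_le m.typeP.U_compl.2.2.1

theorem not_dvd_p_U : ¬ p ∣ Nat.card U := fun h => m.hp.ne_one <|
  Nat.eq_one_of_dvd_coprimes m.coprime_P_U (m.card_P ▸ dvd_pow_self p m.hq.ne_zero) h

theorem card_commutator : Nat.card (⁅S, S⁆ : Subgroup G) = p ^ q * Nat.card U := by
  rw [← card_eq_of_isComplIn m.typeP.U_compl, m.card_P]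

theorem card_S : Nat.card S = p ^ q * Nat.card U * q := by
  rw [← card_eq_of_isComplIn m.typeP.W₁_compl, m.card_commutator, m.q_eq]

omit [Finite G] in
theorem cent_P_W {w : G} (hw : w ∈ W₁) (hw1 : w ≠ 1) :
    fittingHallOf S ⊓ Subgroup.centralizer ({w} : Set G) = W₂ := by
  refine le_antisymm ?_ fun c hc => ⟨m.W₂_le hc, ?_⟩
  · rw [← m.typeP.W₂_centralizer w hw hw1]
    exact inf_le_inf_right _ m.P_le_commutator
  · exact Subgroup.mem_centralizer_singleton_iff.2 (m.typeP.selfNormalizing.2.2.2.1 w hw c hc).symm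

omit [Finite G] in
theorem fpf {w : G} (hw : w ∈ W₁) (hw1 : w ≠ 1) {x : G} (hx : x ∈ U) (hc : w * x = x * w) :
    x = 1 := by
  have h2 : x ∈ W₂ := by
    rw [← m.typeP.W₂_centralizer w hw hw1]
    exact ⟨m.typeP.U_compl.2.1 hx, Subgroup.mem_centralizer_singleton_iff.2 hc.symm⟩
  have h3 : x ∈ fittingHallOf S ⊓ U := ⟨m.W₂_le h2, hx⟩
  rwa [m.typeP.U_compl.2.2.1, Subgroup.mem_bot] at h3

omit [Finite G] in
theorem faithful {x : G} (hx : x ∈ U) (h : ∀ y ∈ fittingHallOf S, x * y = y * x) : x = 1 := by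
  have h' : x ∈ U ⊓ Subgroup.centralizer (fittingHallOf S : Set G) :=
    ⟨hx, Subgroup.mem_centralizer_iff.2 fun y hy => (h y hy).symm⟩
  rwa [m.centU, Subgroup.mem_bot] at h'

/-- The subgroups of `P` invariant under `U` and `W₁` are `1` and `P`, and `C_P(U) = 1`. -/
theorem irred_aux : fittingHallOf S ⊓ Subgroup.centralizer (U : Set G) = ⊥ ∧
    ∀ A : Subgroup G, A ≤ fittingHallOf S → U ≤ Subgroup.normalizer (A : Set G) →
      W₁ ≤ Subgroup.normalizer (A : Set G) → A = ⊥ ∨ A = fittingHallOf S := by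
  haveI := m.elem.1
  set P := fittingHallOf S with hP
  have hUW : U ⊔ W₁ ≤ S := sup_le m.U_le m.W₁_le
  have hUW1 : U ⊓ W₁ = ⊥ := le_bot_iff.1
    (m.typeP.W₁_compl.2.2.1 ▸ inf_le_inf_right W₁ m.typeP.U_compl.2.1)
  have hcop : (Nat.card P).Coprime (Nat.card ↥(U ⊔ W₁)) := by
    rw [sup_comm, Coprime.card_sup_of_le_normalizer m.typeP.U_normal (inf_comm U W₁ ▸ hUW1), m.q_eq]
    exact (m.coprime_W₁.symm.coprime_dvd_left (Subgroup.card_dvd_of_le m.P_le_commutator)).mul_right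
      m.coprime_P_U
  have hdis : P ⊓ (U ⊔ W₁) = ⊥ := Coprime.disjoint_of_coprime_card hcop
  have formula : ∀ A : Subgroup G, A ≤ P → U ≤ Subgroup.normalizer (A : Set G) →
      W₁ ≤ Subgroup.normalizer (A : Set G) →
      Nat.card ↥(A ⊓ Subgroup.centralizer ((U ⊔ W₁ : Subgroup G) : Set G)) ^ q * Nat.card A =
        Nat.card ↥(A ⊓ Subgroup.centralizer (W₁ : Set G)) ^ q *
          Nat.card ↥(A ⊓ Subgroup.centralizer (U : Set G)) := by
    intro A hA hU hW
    rw [← m.q_eq]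
    refine S1545.result U W₁ A m.U_ne m.typeP.W₁_ne hUW1
      (fun e he x hx => conj_mem_of_le_normalizer m.typeP.U_normal he hx)
      (fun e he he1 x hx hc => m.fpf he he1 hx hc)
      (fun x hx a ha => conj_mem_of_le_normalizer (sup_le hU hW) hx ha)
      (le_bot_iff.1 (hdis ▸ inf_le_inf_right _ hA)) ?_ ?_
    · haveI : IsMulCommutative A := ⟨⟨fun a b => Subtype.ext
        (show (a : G) * b = b * a from congrArg Subtype.val (mul_comm' (⟨a, hA a.2⟩ : P) ⟨b, hA b.2⟩))⟩⟩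
      exact Group.isSolvable_of_comm fun a b => mul_comm' a b
    · exact hcop.coprime_dvd_left (Subgroup.card_dvd_of_le hA)
  have hCW : P ⊓ Subgroup.centralizer (W₁ : Set G) = W₂ := by
    obtain ⟨w, hw, hw1⟩ := (Subgroup.bot_or_exists_ne_one W₁).resolve_left m.typeP.W₁_ne
    refine le_antisymm ?_ fun c hc => ⟨m.W₂_le hc, Subgroup.mem_centralizer_iff.2 fun a ha =>
      m.typeP.selfNormalizing.2.2.2.1 a ha c hc⟩
    rw [← m.cent_P_W hw hw1]
    exact inf_le_inf_left _ (Subgroup.centralizer_le (Set.singleton_subset_iff.2 hw))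
  have hprime : ∀ A : Subgroup G, A ≤ W₂ → Nat.card A = 1 ∨ Nat.card A = p := fun A hA =>
    (Nat.dvd_prime m.hp).1 (m.p_eq ▸ Subgroup.card_dvd_of_le hA)
  have hCU : P ⊓ Subgroup.centralizer (U : Set G) = ⊥ := by
    have h := formula P le_rfl (m.U_le.trans m.S_le_normalizer) (m.W₁_le.trans m.S_le_normalizer)
    rw [hCW, m.p_eq, m.card_P] at h
    rcases hprime (P ⊓ Subgroup.centralizer ((U ⊔ W₁ : Subgroup G) : Set G))
      (hCW ▸ inf_le_inf_left _ (Subgroup.centralizer_le (SetLike.coe_subset_coe.2 le_sup_right)))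
      with h' | h'
    · rw [h', one_pow, one_mul] at h
      exact Subgroup.card_eq_one.1
        (Nat.eq_of_mul_eq_mul_left (pow_pos m.hp.pos q) (h.symm.trans (mul_one _).symm))
    · rw [h'] at h
      have hfull : Nat.card ↥(P ⊓ Subgroup.centralizer (U : Set G)) = p ^ q :=
        (Nat.eq_of_mul_eq_mul_left (pow_pos m.hp.pos q) h).symm
      have hPU : P ≤ Subgroup.centralizer (U : Set G) :=
        inf_eq_left.1 (Subgroup.eq_of_le_of_card_ge inf_le_left (by rw [hfull, m.card_P]))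
      refine absurd ((Subgroup.eq_bot_iff_forall _).2 fun x hx => m.faithful hx fun y hy => ?_) m.U_ne
      exact Subgroup.mem_centralizer_iff.1 (hPU hy) x hx
  refine ⟨hCU, fun A hA hU hW => ?_⟩
  have h := formula A hA hU hW
  have e1 : A ⊓ Subgroup.centralizer (U : Set G) = ⊥ := le_bot_iff.1 (hCU ▸ inf_le_inf_right _ hA)
  have e2 : A ⊓ Subgroup.centralizer ((U ⊔ W₁ : Subgroup G) : Set G) = ⊥ := le_bot_iff.1
    (e1 ▸ inf_le_inf_left _ (Subgroup.centralizer_le (SetLike.coe_subset_coe.2 le_sup_left)))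
  rw [e1, e2, Subgroup.card_bot, one_pow, one_mul, mul_one] at h
  rcases hprime (A ⊓ Subgroup.centralizer (W₁ : Set G)) (hCW ▸ inf_le_inf_right _ hA) with h' | h'
  · rw [h', one_pow] at h; exact Or.inl (Subgroup.card_eq_one.1 h)
  · rw [h'] at h; exact Or.inr (Subgroup.eq_of_le_of_card_ge hA (by rw [m.card_P, h]))

theorem uAct : UAct (fittingHallOf S) U W₁ p q where
  p_prime := m.hp
  q_prime := m.hq
  p_odd := m.p_odd
  elem := m.elem
  card_P := m.card_P
  UP := m.U_le.trans m.S_le_normalizer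
  WP := m.W₁_le.trans m.S_le_normalizer
  WU := m.typeP.U_normal
  U_comm := m.U_comm
  U_ne := m.U_ne
  U_odd := m.odd.of_dvd_nat (Subgroup.card_subgroup_dvd_card U)
  card_W := m.q_eq
  fpf := fun _ hw hw1 _ hx hc => m.fpf hw hw1 hx hc
  faithful := fun _ hx h => m.faithful hx h
  irred := m.irred_aux.2

/-- `U W₁` is Frobenius: `x w` is conjugate to `w`. -/
theorem conj_U_W {x w : G} (hx : x ∈ U) (hw : w ∈ W₁) (hw1 : w ≠ 1) :
    ∃ y ∈ U, y * (x * w) * y⁻¹ = w := by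
  have hco : (orderOf w).Coprime (Nat.card U) :=
    ((m.coprime_W₁.coprime_dvd_right (Subgroup.card_dvd_of_le m.typeP.U_compl.2.1)).coprime_dvd_left
      (m.q_eq ▸ Subgroup.orderOf_dvd_natCard W₁ hw))
  obtain ⟨y, hy, c, hc, hcw, e⟩ := S1496.result U w (m.typeP.U_normal hw) hco x hx
  rw [m.fpf hw hw1 hc hcw.symm, one_mul] at e
  exact ⟨y, hy, e⟩

/-- `x w` with `x ∈ P` is conjugate by `P` to `c w` with `c ∈ W₂`. -/
theorem conj_P_W {x w : G} (hx : x ∈ fittingHallOf S) (hw : w ∈ W₁) (hw1 : w ≠ 1) :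
    ∃ y ∈ fittingHallOf S, ∃ c ∈ W₂, y * (x * w) * y⁻¹ = c * w := by
  have hco : (orderOf w).Coprime (Nat.card (fittingHallOf S)) :=
    ((m.coprime_W₁.coprime_dvd_right (Subgroup.card_dvd_of_le m.P_le_commutator)).coprime_dvd_left
      (m.q_eq ▸ Subgroup.orderOf_dvd_natCard W₁ hw))
  obtain ⟨y, hy, c, hc, hcw, e⟩ :=
    S1496.result (fittingHallOf S) w (m.S_le_normalizer (m.W₁_le hw)) hco x hx
  exact ⟨y, hy, c, m.cent_P_W hw hw1 ▸ ⟨hc, Subgroup.mem_centralizer_singleton_iff.2 hcw⟩, e⟩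

/-- An element of `S ∖ S'` of order divisible by `p` is conjugate into `V`. -/
theorem mem_classV {g : G} (hg : g ∈ S) (hgd : g ∉ (⁅S, S⁆ : Subgroup G)) (hp : p ∣ orderOf g) :
    g ∈ classV S W₁ W₂ := by
  obtain ⟨d, hd, w, hw, rfl⟩ := m.typeP.W₁_compl.2.2.2 g hg
  obtain ⟨x, hx, a, ha, rfl⟩ := m.typeP.U_compl.2.2.2 d hd
  have hw1 : w ≠ 1 := fun h => hgd (by rw [h, mul_one]; exact hd)
  obtain ⟨y, hy, e⟩ := m.conj_U_W ha hw hw1
  obtain ⟨z, hz, c, hc, e'⟩ := m.conj_P_W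
    (conj_mem_of_le_normalizer (m.U_le.trans m.S_le_normalizer) hy hx) hw hw1
  have e2 : (z * y) * (x * a * w) * (z * y)⁻¹ = c * w := by
    calc (z * y) * (x * a * w) * (z * y)⁻¹
        = z * ((y * x * y⁻¹) * (y * (a * w) * y⁻¹)) * z⁻¹ := by group
      _ = c * w := by rw [e, e']
  have hc1 : c ≠ 1 := fun h => by
    have e3 : orderOf (x * a * w) = orderOf w := by
      rw [h, one_mul] at e2
      conv_rhs => rw [← e2]
      exact (MulEquiv.orderOf_eq (MulAut.conj (z * y)) _).symm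
    exact m.p_ne_q ((Nat.prime_dvd_prime_iff_eq m.hp m.hq).1
      (hp.trans (e3 ▸ m.q_eq ▸ Subgroup.orderOf_dvd_natCard W₁ hw)))
  refine ⟨(z * y)⁻¹, S.inv_mem (S.mul_mem (m.P_le hz) (m.U_le hy)), c * w,
    Subgroup.mul_mem _ (Subgroup.mem_sup_right hc) (Subgroup.mem_sup_left hw), fun h => hc1 ?_,
    fun h => hw1 ?_, by rw [← e2]; group⟩
  · have : c ∈ W₁ ⊓ W₂ := ⟨(W₁.mul_mem_cancel_right hw).1 h, hc⟩
    rwa [m.typeP.selfNormalizing.2.2.1, Subgroup.mem_bot] at this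
  · have : w ∈ W₁ ⊓ W₂ := ⟨hw, (W₂.mul_mem_cancel_left hc).1 h⟩
    rwa [m.typeP.selfNormalizing.2.2.1, Subgroup.mem_bot] at this

/-! ### Supports -/

/-- `(P ∖ 1) ∪ V^S`. -/
def supp (_ : Member S W₁ U W₂ p q) : Set G :=
  ((fittingHallOf S : Set G) \ {1}) ∪ classV S W₁ W₂

variable (B : BGFacts G)
include B

theorem sdiff_subset_sigma : (fittingHallOf S : Set G) \ {1} ⊆ (sigmaCore S : Set G) \ {1} :=
  Set.sdiff_subset_sdiff_left fun _ hx => (B.s1355 S m.coatom).2.1 hx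

theorem P_subset_typeA0 : (fittingHallOf S : Set G) \ {1} ⊆ typeA0' S :=
  fun _ hx => typeA_subset_typeA0 (typeA1_subset_typeA B m.coatom
    ⟨fittingHallOf_le_typeCore B m.coatom hx.1, hx.2⟩)

theorem dade_P : DadeHypothesis ((fittingHallOf S : Set G) \ {1}) S (fun _ => ⊥) :=
  dade_of_ti m.ti m.norm (m.P_subset_typeA0 B) (fun h => h.2 rfl) (fun _ hx => m.P_le hx.1)
    fun _ hs _ hx => ⟨conj_mem_map_subtype _ hs hx.1, fun h => hx.2 (conj_eq_one_iff.1 h)⟩

theorem supp_subset : m.supp ⊆ typeA0' S := by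
  rintro x (hx | hx)
  · exact m.P_subset_typeA0 B hx
  · rw [typeA0_eq m.typeP m.not_typeI]; exact Or.inr hx

theorem dade_supp : DadeHypothesis m.supp S (fun _ => ⊥) := by
  refine dade_of_ti m.ti m.norm (m.supp_subset B)
    (fun h => (typeA0_subset (m.supp_subset B h)).2 rfl)
    (fun x hx => (typeA0_subset (m.supp_subset B hx)).1) ?_
  rintro s hs x (hx | ⟨l, hl, w, hw, h1, h2, rfl⟩)
  · exact Or.inl ⟨conj_mem_map_subtype _ hs hx.1, fun h => hx.2 (conj_eq_one_iff.1 h)⟩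
  · exact Or.inr ⟨s * l, S.mul_mem hs hl, w, hw, h1, h2, by group⟩

theorem conjSet_supp :
    conjSet m.supp ⊆ conjSet ((fittingHallOf S : Set G) \ {1}) ∪ conjSet (setV W₁ W₂) := by
  rintro g ⟨a, ha | ⟨l, -, w, hw, h1, h2, rfl⟩, y, rfl⟩
  · exact Or.inl ⟨a, ha, y, rfl⟩
  · exact Or.inr ⟨w, ⟨hw, not_or.2 ⟨h1, h2⟩⟩, y * l, by group⟩

/-- `P^G` misses `V^G`. -/
theorem disjoint_P_V (hG : IsMinSimpleOddOrder G) :
    Disjoint (conjSet ((fittingHallOf S : Set G) \ {1})) (conjSet (setV W₁ W₂)) :=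
  ((disjoint_V_tilde B hG m.coatom m.typeP m.not_typeI m.coatom (m.sdiff_subset_sigma B)).mono_right
    (conjSet_subset_tildeOf _ _)).symm

/-- An element of order divisible by `p` is conjugate to an element of `S'` centralising some
non-identity element of `P`, or into `V`. -/
theorem classify {g : G} (hp : p ∣ orderOf g) :
    g ∈ conjSet (setV W₁ W₂) ∨ ∃ y : G, y * g * y⁻¹ ∈ (⁅S, S⁆ : Subgroup G) ∧
      ∃ z ∈ fittingHallOf S, z ≠ 1 ∧ y * g * y⁻¹ * z = z * (y * g * y⁻¹) := by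
  haveI := Fact.mk m.hp
  set z := g ^ (orderOf g / p) with hz
  have hzo : orderOf z = p := orderOf_pow_orderOf_div (orderOf_pos g).ne' hp
  obtain ⟨y, hy⟩ := exists_conj_mem_of_not_dvd_index (H := fittingHallOf S) (q := p)
    (fun h => (Nat.Prime.coprime_iff_not_dvd m.hp).1
      ((B.s1389 S m.coatom).2.1.coprime_dvd_left (m.card_P ▸ dvd_pow_self p m.hq.ne_zero)) h)
    (y := z) (n := 1) (by rw [hzo, pow_one])
  have hz1 : y * z * y⁻¹ ≠ 1 := fun h => m.hp.ne_one (by rw [← hzo, conj_eq_one_iff.1 h, orderOf_one])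
  have hc : y * g * y⁻¹ * (y * z * y⁻¹) = y * z * y⁻¹ * (y * g * y⁻¹) := by
    rw [hz]
    calc y * g * y⁻¹ * (y * g ^ (orderOf g / p) * y⁻¹) = y * (g * g ^ (orderOf g / p)) * y⁻¹ := by group
      _ = y * (g ^ (orderOf g / p) * g) * y⁻¹ := by rw [← pow_succ', pow_succ]
      _ = _ := by group
  have hS : y * g * y⁻¹ ∈ S := by
    have h := (m.dade_P B).sup_eq _ ⟨hy, hz1⟩
    rw [bot_sup_eq] at h
    exact (h.ge (Subgroup.mem_centralizer_singleton_iff.2 hc)).1
  by_cases hd : y * g * y⁻¹ ∈ (⁅S, S⁆ : Subgroup G)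
  · exact Or.inr ⟨y, hd, _, hy, hz1, hc⟩
  · obtain ⟨l, -, w, hw, h1, h2, e⟩ := m.mem_classV hS hd
      (by rw [show orderOf (y * g * y⁻¹) = orderOf g from MulEquiv.orderOf_eq (MulAut.conj y) g]; exact hp)
    refine Or.inl ⟨w, ⟨hw, not_or.2 ⟨h1, h2⟩⟩, y⁻¹ * l, ?_⟩
    calc g = y⁻¹ * (y * g * y⁻¹) * y := by group
      _ = _ := by rw [e]; group

end Member

end Cfsg.Agent.OddOrder.PF.S14
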