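import Cfsg.Agent.Lib.OddOrder.PF.S14_Bridge
import Cfsg.Agent.Lib.OddOrder.PF.S14_Tilde
import Cfsg.Agent.Lib.OddOrder.PF.S14_Member
import Cfsg.Agent.Lib.OddOrder.PF.TypeOneCoherence
import Cfsg.Agent.Lib.OddOrder.DadeSeven

/-!
Bridges for Peterfalvi 14: from a coherent family of irreducible characters induced from a normal
subgroup `K` with `A = K ∖ {1}`, for a Frobenius maximal subgroup of Type I, and for the
characters of `T' / T_F` of a member of Type III.
-/

set_option autoImplicit false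
set_option linter.style.haveILetI false
set_option linter.unusedSectionVars false

namespace Cfsg.Agent.OddOrder.PF.S14

open Cfsg Cfsg.Agent.OddOrder Cfsg.Agent
open scoped ComplexConjugate

universe u

section General

variable {G : Type u} [Group G] [Fintype G] {A : Set G} {L : Subgroup G} [Fintype L]
  {H : G → Subgroup G} {K : Subgroup L}

/-- In odd order a member of a set of irreducible characters induced from `K` is not real. -/
theorem conjFun_ne_of_mem_inducedIrrAbove [K.Normal] (hodd : Odd (Nat.card G)) {φ : L → ℂ}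
    (hφ : φ ∈ inducedIrrAbove K ⊥) (hirr : IsIrrCharacter L φ) : conjFun φ ≠ φ := by
  intro h
  have h1 : φ = fun _ => (1 : ℂ) := Cfsg.Agent.S0161.result
    (hodd.of_dvd_nat (Subgroup.card_subgroup_dvd_card L)) ⟨φ, hirr⟩ fun g =>
      Complex.conj_eq_iff_im.1 (congrFun h g)
  have h2 := classInner_indIrr_one K hφ
  rw [h1, Char.classInner_irr_self Char.isIrrCharacter_one] at h2
  exact one_ne_zero h2

/-- A coherent conjugation-closed set of irreducible characters induced from `K`, with a member of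
degree `[L : K]`, gives a bridge. -/
theorem exists_bridge_of_coherent [K.Normal] (hD : DadeHypothesis A L H)
    (hA : ∀ x : L, (x : G) ∈ A ↔ x ∈ K ∧ x ≠ 1) (hodd : Odd (Nat.card G)) {S : Set (L → ℂ)}
    (hsub : S ⊆ inducedIrrAbove K ⊥) (hirr : ∀ φ ∈ S, IsIrrCharacter L φ)
    (hconj : ∀ φ ∈ S, conjFun φ ∈ S) {τ₁ : (L → ℂ) → G → ℂ}
    (hiso : IsLinearIsometryOn (zspan S) τ₁)
    (hext : ∀ α ∈ zspanOn S {1}ᶜ, τ₁ α = dadeIsometry A L H α) {ζ : L → ℂ} (hζ : ζ ∈ S)
    (hζ1 : ζ 1 = K.index) {ι : Type u} [Fintype ι] (e : ι → L → ℂ) (he : Function.Injective e)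
    (hmem : ∀ i, e i ∈ S) (hsurj : ∀ φ ∈ S, ∃ i, e i = φ) :
    ∃ (st : ι → ι) (w : ι → ℕ) (z : ι),
      Bridge (fun i => τ₁ (e i)) st (dadeUnion A H : Set G) w z (dadeBeta A L H K ζ) K.index ∧
        e z = ζ ∧ ∀ i, e i 1 = w i * K.index := by
  classical
  haveI : Fintype K := Fintype.ofFinite _
  have hidx : (K.index : ℂ) ≠ 0 := Nat.cast_ne_zero.2 Subgroup.index_ne_zero_of_finite
  have hE : IsLinearIsometryOn ((Submodule.span ℤ S : Submodule ℤ (L → ℂ)) : Set (L → ℂ)) τ₁ := hiso
  have hin : ∀ φ ∈ S, φ ∈ Submodule.span ℤ S := fun φ hφ => Submodule.subset_span hφ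
  have hgen : ∀ φ ∈ S, IsGeneralizedCharacter G (τ₁ φ) := fun φ hφ => hiso.2.2.2 φ (hin φ hφ)
  have hLgen : ∀ φ ∈ S, IsGeneralizedCharacter L φ := fun φ hφ => Char.irr_isGeneralized ⟨φ, hirr φ hφ⟩
  have hinn : ∀ φ ∈ S, ∀ ψ ∈ S, classInner (τ₁ φ) (τ₁ ψ) = if φ = ψ then 1 else 0 := by
    intro φ hφ ψ hψ
    rw [hiso.2.2.1 φ (hin φ hφ) ψ (hin ψ hψ)]
    split_ifs with h
    · rw [h]; exact Char.classInner_irr_self (hirr ψ hψ)
    · exact Char.classInner_irr_of_ne (hirr φ hφ) (hirr ψ hψ) h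
  have hout : ∀ x : L, (x : G) ∉ A → x = 1 ∨ x ∉ K := fun x hx =>
    or_iff_not_imp_left.2 fun h hK => hx ((hA x).2 ⟨hK, h⟩)
  -- multiples of `ζ` subtracted
  have hcast : ∀ (m : ℕ) (f : L → ℂ), (m : ℂ) • f = (m : ℤ) • f := fun m f => by
    rw [← Int.cast_smul_eq_zsmul ℂ, Int.cast_natCast]
  have hz0 : ∀ φ ∈ S, ∀ m : ℕ, φ 1 = m * K.index →
      φ - (m : ℂ) • ζ ∈ zspanOn S {1}ᶜ := fun φ hφ m hm => by
    refine Char.mem_zspanOn_compl_one.2 ⟨?_, ?_⟩
    · rw [hcast]
      exact Submodule.sub_mem _ (hin φ hφ) (Submodule.smul_mem _ _ (hin ζ hζ))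
    · rw [Pi.sub_apply, Pi.smul_apply, hm, hζ1, smul_eq_mul, sub_self]
  have hvan : ∀ φ ∈ S, ∀ m : ℕ, φ 1 = m * K.index → ∀ x : L, (x : G) ∉ A →
      (φ - (m : ℂ) • ζ) x = 0 := fun φ hφ m hm x hx => by
    rcases hout x hx with rfl | h
    · exact (Char.mem_zspanOn_compl_one.1 (hz0 φ hφ m hm)).2
    · rw [Pi.sub_apply, Pi.smul_apply, indIrr_apply_notMem K (hsub hφ) h,
        indIrr_apply_notMem K (hsub hζ) h, smul_zero, sub_zero]
  have hsgen : ∀ φ ∈ S, ∀ m : ℕ, IsGeneralizedCharacter L (φ - (m : ℂ) • ζ) := fun φ hφ m =>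
    Char.IsGeneralizedCharacter.sub (hLgen φ hφ) (Char.IsCharacter.isGeneralized
      (Char.IsCharacter.natCast_smul (Char.IsIrrCharacter.isCharacter (hirr ζ hζ)) m))
  have hτsub : ∀ φ ∈ S, ∀ m : ℕ, φ 1 = m * K.index →
      dadeIsometry A L H (φ - (m : ℂ) • ζ) = τ₁ φ - (m : ℂ) • τ₁ ζ := fun φ hφ m hm => by
    rw [← hext _ (hz0 φ hφ m hm), hcast, Char.iso_map_sub hE (hin φ hφ)
        (Submodule.smul_mem _ _ (hin ζ hζ)), hiso.2.1 ζ (hin ζ hζ), ← Int.cast_smul_eq_zsmul ℂ,
      Int.cast_natCast]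
  have hτconj : ∀ φ ∈ S, dadeIsometry A L H (φ - conjFun φ) = τ₁ φ - τ₁ (conjFun φ) := fun φ hφ => by
    have h1 : φ - conjFun φ ∈ zspanOn S {1}ᶜ := Char.mem_zspanOn_compl_one.2
      ⟨Submodule.sub_mem _ (hin φ hφ) (hin _ (hconj φ hφ)), by
        obtain ⟨m, hm⟩ := exists_indIrr_apply_one K (hsub hφ)
        simp [conjFun, hm]⟩
    rw [← hext _ h1, Char.iso_map_sub hE (hin φ hφ) (hin _ (hconj φ hφ))]
  choose w hw using fun i => exists_indIrr_apply_one K (hsub (hmem i))
  obtain ⟨z, hz⟩ := hsurj ζ hζ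
  choose st hst using fun i => hsurj _ (hconj _ (hmem i))
  -- the images are orthogonal to the principal character
  have hone : ∀ φ ∈ S, classInner (τ₁ φ) (fun _ => (1 : ℂ)) = 0 := by
    have key : ∀ φ ∈ S, ∀ m : ℕ, φ 1 = m * K.index →
        classInner (τ₁ φ) (fun _ => (1 : ℂ)) = m * classInner (τ₁ ζ) (fun _ => (1 : ℂ)) := by
      intro φ hφ m hm
      have h := classInner_dade_one hD
        (Char.IsGeneralizedCharacter.isClassFunction (hsgen φ hφ m)) (hvan φ hφ m hm)
      rw [hτsub φ hφ m hm, Char.classInner_sub_left, Char.classInner_sub_left,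
        Char.classInner_smul_left, Char.classInner_smul_left, classInner_indIrr_one K (hsub hφ),
        classInner_indIrr_one K (hsub hζ), mul_zero, sub_zero, sub_eq_zero] at h
      exact h
    intro φ hφ
    obtain ⟨m, hm⟩ := exists_indIrr_apply_one K (hsub hφ)
    rw [key φ hφ m hm]
    suffices h : classInner (τ₁ ζ) (fun _ => (1 : ℂ)) = 0 by rw [h, mul_zero]
    have hne := conjFun_ne_of_mem_inducedIrrAbove hodd (hsub hζ) (hirr ζ hζ)
    have h2 := key (conjFun ζ) (hconj ζ hζ) 1 (by simp [conjFun, hζ1])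
    rw [Nat.cast_one, one_mul] at h2
    obtain ⟨f, hf⟩ := Char.IsGeneralizedCharacter.irr_or_neg_of_norm_one (hgen ζ hζ)
      (by rw [hinn ζ hζ ζ hζ, if_pos rfl])
    have h3 := hinn _ (hconj ζ hζ) ζ hζ
    rw [if_neg hne] at h3
    by_contra h4
    have hf1 : f.1 = fun _ => (1 : ℂ) := by
      by_contra h5
      have h6 := Char.classInner_irr_of_ne f.2 Char.isIrrCharacter_one h5
      rcases hf with hf | hf
      · exact h4 (by rw [hf]; exact h6)
      · exact h4 (by rw [hf, Char.classInner_neg_left, h6, neg_zero])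
    rw [← h2] at h4
    rcases hf with hf | hf
    · rw [hf, hf1] at h3; exact h4 h3
    · rw [hf, hf1, Char.classInner_neg_right, neg_eq_zero] at h3; exact h4 h3
  -- `τ₁` commutes with conjugation
  have hτ₁conj : ∀ φ ∈ S, conjFun (τ₁ φ) = τ₁ (conjFun φ) := by
    intro φ hφ
    have hφ' := hconj φ hφ
    have hne := conjFun_ne_of_mem_inducedIrrAbove hodd (hsub hφ) (hirr φ hφ)
    set a := τ₁ φ with ha
    set b := τ₁ (conjFun φ) with hb
    have hab : conjFun a - conjFun b = b - a := by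
      have h := congrArg conjFun (hτconj φ hφ)
      rw [conjFun_dadeIsometry, show conjFun (φ - conjFun φ) = conjFun φ - conjFun (conjFun φ) from
          funext fun x => by simp [conjFun],
        hτconj _ hφ', conjFun_conjFun] at h
      rw [show conjFun a - conjFun b = conjFun (a - b) from funext fun x => by simp [conjFun]]
      exact h.symm
    obtain ⟨f, hf⟩ := Char.IsGeneralizedCharacter.irr_or_neg_of_norm_one (hgen _ hφ')
      (by rw [hinn _ hφ' _ hφ', if_pos rfl])
    have hf1 : f ≠ Char.trivialChar G := by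
      intro h
      have h1 := hone _ hφ'
      rw [h] at hf
      rcases hf with hf | hf
      · rw [hf] at h1
        exact one_ne_zero ((Char.classInner_irr_self Char.isIrrCharacter_one).symm.trans h1)
      · rw [hf, Char.classInner_neg_left, neg_eq_zero] at h1
        exact one_ne_zero ((Char.classInner_irr_self Char.isIrrCharacter_one).symm.trans h1)
    have hbb : classInner (conjFun b) b = 0 := by
      have h0 : classInner (Char.conjIrr f).1 f.1 = 0 := by
        rw [Char.classInner_irr, if_neg]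
        intro h
        exact hf1 (Subtype.ext
          (Cfsg.Agent.S0161.result hodd f ((Char.conjIrr_eq_self_iff f).mp h)))
      have hc : conjFun f.1 = (Char.conjIrr f).1 := funext fun g => rfl
      rcases hf with hf | hf
      · rw [show b = f.1 from hf, hc]; exact h0
      · rw [show b = -f.1 from hf, show conjFun (-f.1) = -(conjFun f.1) from
          funext fun g => by simp [conjFun], hc, Char.classInner_neg_left, Char.classInner_neg_right,
          neg_neg]
        exact h0
    have haa : classInner a a = 1 := by rw [hinn φ hφ φ hφ, if_pos rfl]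
    have hbb1 : classInner b b = 1 := by rw [hinn _ hφ' _ hφ', if_pos rfl]
    have hba : classInner a b = 0 := by rw [hinn φ hφ _ hφ', if_neg hne.symm]
    have hcab : classInner (conjFun a) b = 1 := by
      have h := congrArg (fun F => classInner F b) hab
      simp only [Char.classInner_sub_left, hbb, hbb1, hba, sub_zero] at h
      exact h
    refine sub_eq_zero.1 (Char.classInner_self_eq_zero ?_)
    have hcab' : classInner b (conjFun a) = 1 := by rw [← Char.conj_classInner, hcab, map_one]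
    rw [Char.classInner_sub_left, Char.classInner_sub_right, Char.classInner_sub_right, hcab, hcab',
      hbb1, classInner_conjFun, haa, map_one]
    ring
  have hAgen : IsGeneralizedCharacter L (indFun K (fun _ => (1 : ℂ)) - ζ) :=
    Char.IsGeneralizedCharacter.sub
      (Char.IsCharacter.isGeneralized (Char.isCharacter_indFun K Char.isCharacter_one)) (hLgen ζ hζ)
  have hAvan : ∀ x : L, (x : G) ∉ A → (indFun K (fun _ => (1 : ℂ)) - ζ) x = 0 := fun x hx => by
    rcases hout x hx with rfl | h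
    · rw [Pi.sub_apply, Char.indFun_apply_one, hζ1, mul_one, sub_self]
    · rw [Pi.sub_apply, Char.indFun_of_notMem_normal K _ h, indIrr_apply_notMem K (hsub hζ) h,
        sub_zero]
  have hζζ : classInner ζ ζ = 1 := Char.classInner_irr_self (hirr ζ hζ)
  have hconjind : ∀ x : L, conj (indFun K (fun _ => (1 : ℂ)) x) = indFun K (fun _ => (1 : ℂ)) x :=
    fun x => by rw [indFun_one_apply]; split_ifs <;> simp
  refine ⟨st, w, z, ?_, hz, hw⟩
  refine
    { signed := fun i => ?_
      orth := fun i j hij => by rw [hinn _ (hmem i) _ (hmem j), if_neg fun h => hij (he h)]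
      st_st := fun i => he (by rw [hst, hst, conjFun_conjFun])
      st_ne := fun i h => conjFun_ne_of_mem_inducedIrrAbove hodd (hsub (hmem i)) (hirr _ (hmem i))
        (by rw [← hst, h])
      conj_eq := fun i => by rw [hst]; exact hτ₁conj _ (hmem i)
      supp := fun i g hg => by
        rw [hst, ← Pi.sub_apply, ← hτconj _ (hmem i)]
        exact dadeIsometry_eq_zero hg _
      w_z := ?_
      diff := fun i g hg => ?_
      gen := isGeneralizedCharacter_dadeIsometry hD hAgen hAvan
      vanish := fun g hg => dadeIsometry_eq_zero hg _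
      beta_one := ?_
      beta_norm := ?_
      coef := ?_
      beta_conj := ?_ }
  · obtain ⟨f, hf⟩ := Char.IsGeneralizedCharacter.irr_or_neg_of_norm_one (hgen _ (hmem i))
      (by rw [hinn _ (hmem i) _ (hmem i), if_pos rfl])
    rcases hf with hf | hf
    · exact Or.inl (hf ▸ f.2)
    · exact Or.inr (by rw [hf, neg_neg]; exact f.2)
  · have h := hw z
    rw [hz, hζ1] at h
    exact_mod_cast (mul_eq_right₀ hidx).1 h.symm
  · have h := congrFun (hτsub _ (hmem i) (w i) (hw i)) g
    rw [dadeIsometry_eq_zero hg, Pi.sub_apply, Pi.smul_apply, smul_eq_mul, eq_comm, sub_eq_zero] at h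
    rw [hz]
    exact h
  · rw [dadeBeta, classInner_dade_one hD (Char.IsGeneralizedCharacter.isClassFunction hAgen) hAvan,
      Char.classInner_sub_left, classInner_indIrr_one K (hsub hζ), sub_zero,
      Char.classInner_indFun K _ fun _ _ => rfl]
    exact Char.classInner_irr_self Char.isIrrCharacter_one
  · rw [dadeBeta, PF.classInner_dade_dade hD (Char.IsGeneralizedCharacter.isClassFunction hAgen) hAvan
      (Char.IsGeneralizedCharacter.isClassFunction hAgen), Char.classInner_sub_left, Char.classInner_sub_right, Char.classInner_sub_right,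
      classInner_indFun_one_self, hζζ, classInner_indIrr_indFun_one K (hsub hζ),
      ← Char.conj_classInner ζ (indFun K fun _ => (1 : ℂ)),
      classInner_indIrr_indFun_one K (hsub hζ), map_zero]
    ring
  · obtain ⟨a, ha⟩ := Char.IsGeneralizedCharacter.exists_int_classInner
      (isGeneralizedCharacter_dadeIsometry hD hAgen hAvan) (hgen ζ hζ)
    refine ⟨a + 1, fun i => ?_⟩
    have h : classInner (dadeBeta A L H K ζ) (dadeIsometry A L H (e i - (w i : ℂ) • ζ)) =
        classInner (indFun K (fun _ => (1 : ℂ)) - ζ) (e i - (w i : ℂ) • ζ) :=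
      PF.classInner_dade_dade hD (Char.IsGeneralizedCharacter.isClassFunction hAgen) hAvan
        (Char.IsGeneralizedCharacter.isClassFunction (hsgen _ (hmem i) _))
    have hzi : classInner ζ (e i) = if i = z then 1 else 0 := by
      by_cases hi : i = z
      · rw [if_pos hi, hi, hz, hζζ]
      · rw [if_neg hi]
        exact Char.classInner_irr_of_ne (hirr ζ hζ) (hirr _ (hmem i)) fun h => hi (he (hz.trans h).symm)
    rw [hτsub _ (hmem i) _ (hw i), Char.classInner_sub_right, Char.classInner_smul_right,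
      Char.classInner_sub_left, Char.classInner_sub_right, Char.classInner_sub_right,
      Char.classInner_smul_right, Char.classInner_smul_right,
      ← Char.conj_classInner (e i) (indFun K fun _ => (1 : ℂ)),
      classInner_indIrr_indFun_one K (hsub (hmem i)),
      ← Char.conj_classInner ζ (indFun K fun _ => (1 : ℂ)), classInner_indIrr_indFun_one K (hsub hζ),
      hζζ, hzi, map_natCast, map_zero] at h
    show classInner (dadeBeta A L H K ζ) (τ₁ (e i)) = _
    rw [dadeBeta] at h ⊢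
    rw [ha] at h
    push_cast
    linear_combination h
  · show conjFun (dadeBeta A L H K ζ) = dadeBeta A L H K ζ + (τ₁ (e z) - τ₁ (e (st z)))
    rw [hst, hz, ← hτconj ζ hζ, dadeBeta, conjFun_dadeIsometry, ← dadeIsometry_add]
    congr 1
    funext x
    simp only [conjFun, Pi.sub_apply, Pi.add_apply, map_sub, hconjind]
    ring

/-- A coherent setting gives a bridge indexed by the functions induced from `K`. -/
theorem bridge_of_cohSetting {τ₁ : (L → ℂ) → G → ℂ} {ζ : L → ℂ}
    (hS : CohSetting A L H K τ₁ ζ) (hodd : Odd (Nat.card G))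
    (hirr : ∀ η ∈ inducedIrrAbove K ⊥, IsIrrCharacter L η) :
    ∃ (ι : Type u) (_ : Fintype ι) (f : ι → G → ℂ) (st : ι → ι) (w : ι → ℕ) (z : ι),
      Bridge f st (dadeUnion A H : Set G) w z (dadeBeta A L H K ζ) K.index ∧ f z = τ₁ ζ ∧
        (∀ i, ∃ η ∈ inducedIrrAbove K ⊥, f i = τ₁ η) ∧
        (∀ η ∈ inducedIrrAbove K ⊥, ∃ i, f i = τ₁ η) ∧
        (∑ i, w i ^ 2) * K.index = Nat.card K - 1 := by
  classical
  haveI := hS.normal
  let e : ↥(indIrr K) → L → ℂ := fun i => i.1
  obtain ⟨st, w, z, hB, hz, hw⟩ := exists_bridge_of_coherent hS.dade hS.support hodd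
    (subset_refl (inducedIrrAbove K ⊥)) hirr (fun φ hφ => hS.conj_mem hφ) hS.isometry hS.extends_dade
    hS.mem hS.apply_one e Subtype.val_injective (fun i => (mem_indIrr K).1 i.2)
    (fun φ hφ => ⟨⟨φ, (mem_indIrr K).2 hφ⟩, rfl⟩)
  refine ⟨↥(indIrr K), inferInstance, _, st, w, z, hB, by rw [hz],
    fun i => ⟨e i, (mem_indIrr K).1 i.2, rfl⟩,
    fun η hη => ⟨⟨η, (mem_indIrr K).2 hη⟩, rfl⟩, ?_⟩
  have h := sum_indIrr K (1 : L)
  rw [if_pos rfl, Char.indFun_apply_one, mul_one, ← Finset.sum_coe_sort,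
    Finset.sum_congr rfl (g := fun i : ↥(indIrr K) => ((w i : ℂ) ^ 2 * K.index) * K.index) fun i _ => by
      rw [Char.classInner_irr_self (hirr _ ((mem_indIrr K).1 i.2)), div_one,
        show (i : L → ℂ) 1 = w i * K.index from hw i]
      ring,
    ← Finset.sum_mul, ← Finset.sum_mul, ← K.card_mul_index, Nat.cast_mul, ← sub_one_mul] at h
  have h' := mul_right_cancel₀ hS.index_ne_zero h
  apply Nat.cast_injective (R := ℂ)
  push_cast [Nat.cast_sub (Nat.card_pos (α := K))]
  exact h'

end General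

section TypeOne

variable {G : Type u} [Group G] [Fintype G]

/-- A Frobenius maximal subgroup of Type I gives a coherent setting. -/
theorem typeI_cohSetting (hG : IsMinSimpleOddOrder G) (B : BGFacts G) {L : Subgroup G} [Fintype L]
    (hL : IsCoatom L) (hI : IsOfTypeI' L)
    (hfrob : ∀ x ∈ fittingHallOf L, x ≠ 1 →
      L ⊓ Subgroup.centralizer ({x} : Set G) ≤ fittingHallOf L) :
    ∃ (τ₁ : (L → ℂ) → G → ℂ) (ζ : L → ℂ),
      CohSetting ((fittingHallOf L : Set G) \ {1}) L (supportR L) (fittingHall L) τ₁ ζ ∧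
        (∀ η ∈ inducedIrrAbove (fittingHall L) ⊥, IsIrrCharacter L η) ∧
        (fittingHall L).index * 2 + 1 ≤ Nat.card (fittingHallOf L) := by
  classical
  have hA := typeA_eq_of_frobenius hI hfrob
  have hD := dadeHypothesis_typeSet B hL (A := typeA' L) (Or.inr (Or.inl rfl))
  obtain ⟨hirr, -, τ₁, hiso, hext⟩ := typeI_frobenius_coherent hG L hL hI hfrob hD
  rw [hA] at hD hext
  set K := fittingHall L with hK
  haveI : Fintype K := Fintype.ofFinite _
  haveI : Group.IsSolvable L := hI.1.1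
  obtain ⟨θ, hθ, hθ1⟩ := exists_linear_above K inferInstance ⊥ (bot_lt_iff_ne_bot.2 hI.1.2.2.1)
  have hmem : indFun K θ.1 ∈ inducedIrrAbove K ⊥ := (mem_inducedIrrAbove_iff K).2 ⟨θ, hθ, rfl⟩
  have hdeg : indFun K θ.1 1 = (K.index : ℂ) := by
    rw [Char.indFun_apply_one, ← Char.charDegree_cast, hθ1, Nat.cast_one, mul_one]
  have hmem' := conj_mem_inducedIrrAbove K hmem
  have hS : CohSetting ((fittingHallOf L : Set G) \ {1}) L (supportR L) K τ₁ (indFun K θ.1) :=
    { dade := hD
      support := fun x => by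
        rw [hK, ← subgroupOf_fittingHallOf]
        exact and_congr Iff.rfl (not_congr ⟨fun h => Subtype.ext h, fun h => congrArg Subtype.val h⟩)
      normal := inferInstance
      isometry := hiso
      extends_dade := hext
      mem := hmem
      norm_one := Char.classInner_irr_self (hirr _ hmem)
      apply_one := hdeg
      exists_other := ⟨_, hmem', conjFun_ne_of_mem_inducedIrrAbove hG.1 hmem (hirr _ hmem), by
        show conj _ = _
        rw [hdeg, Complex.conj_natCast]⟩ }
  refine ⟨τ₁, _, hS, hirr, ?_⟩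
  obtain ⟨ι, _, f, st, w, z, hB, -, -, -, hsum⟩ := bridge_of_cohSetting hS hG.1 hirr
  have hw : 2 ≤ ∑ i, w i ^ 2 := by
    have h1 : w (st z) = 1 := by
      obtain ⟨a, ha⟩ := Char.IsGeneralizedCharacter.exists_int_classInner
        (isGeneralized_of_signed (hB.signed (st z))) (isGeneralized_of_signed (hB.signed z))
      by_contra hne
      have hd : ∀ g, g ∉ (dadeUnion ((fittingHallOf L : Set G) \ {1}) (supportR L) : Set G) →
          ((1 : ℂ) - w (st z)) * f z g = 0 := fun g hg => by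
        have := hB.supp z g hg
        rw [hB.diff (st z) g hg] at this
        linear_combination this
      have h1G := hd 1 (by exact_mod_cast one_notMem_dadeUnion hD)
      rcases mul_eq_zero.1 h1G with h | h
      · exact hne (by exact_mod_cast (sub_eq_zero.1 h).symm)
      · rcases hB.signed z with hs | hs
        · exact Char.IsIrrCharacter.apply_one_ne_zero hs h
        · exact Char.IsIrrCharacter.apply_one_ne_zero hs (by rw [Pi.neg_apply, h, neg_zero])
    calc 2 = ∑ i ∈ ({z, st z} : Finset ι), w i ^ 2 := by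
          rw [Finset.sum_pair (hB.st_ne z).symm, hB.w_z, h1]; norm_num
      _ ≤ _ := Finset.sum_le_univ_sum_of_nonneg fun _ => Nat.zero_le _
  rw [card_fittingHallOf, mul_comm, ← hK]
  have h2 := Nat.mul_le_mul_right K.index hw
  rw [hsum] at h2
  have := Nat.card_pos (α := K)
  omega

end TypeOne

section TypeThree

variable {G : Type u} [Group G] [Fintype G]

/-- The characters of `T' / T_F` of a member of Type III give a bridge supported on the conjugates
of `T' ∖ {1}`. -/
theorem typeIII_bridge (hG : IsMinSimpleOddOrder G) (B : BGFacts G) {T W₂ V W₁ : Subgroup G}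
    {q p : ℕ} (m : Member T W₂ V W₁ q p) (hIII : IsOfTypeIII T) :
    ∃ (ι : Type u) (_ : Fintype ι) (f : ι → G → ℂ) (st : ι → ι) (w : ι → ℕ) (z : ι) (β : G → ℂ),
      Bridge f st (conjSet ((↑(⁅T, T⁆ : Subgroup G) : Set G) \ {1})) w z β p ∧
        (∀ i, w i = 1) ∧ (∑ i, w i ^ 2) * p = Nat.card V - 1 ∧
        (⁅T, T⁆ : Subgroup G) ≤ sigmaCore T ∧
        Disjoint (conjSet ((↑(⁅T, T⁆ : Subgroup G) : Set G) \ {1})) (conjSet (setV W₂ W₁)) := by
  classical
  haveI : Fintype T := Fintype.ofFinite _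
  have hcore : typeCore T = ⁅T, T⁆ := if_pos (Or.inl hIII)
  have hσ : (⁅T, T⁆ : Subgroup G) ≤ sigmaCore T :=
    (hcore.symm.trans (typeCore_eq_sigmaCore B m.coatom)).le
  set A := (↑(⁅T, T⁆ : Subgroup G) : Set G) \ {1} with hAdef
  have hAσ : A ⊆ (sigmaCore T : Set G) \ {1} := Set.sdiff_subset_sdiff_left hσ
  have hdisj : Disjoint (conjSet A) (conjSet (setV W₂ W₁)) :=
    ((disjoint_V_tilde B hG m.coatom m.typeP m.not_typeI m.coatom hAσ).mono_right
      (conjSet_subset_tildeOf _ _)).symm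
  have hA1 : A = typeA1 T := by rw [typeA1, hcore]
  have hD : DadeHypothesis A T (fun _ => ⊥) :=
    dade_of_ti m.ti m.norm (hA1 ▸ (typeA1_subset_typeA B m.coatom).trans typeA_subset_typeA0)
      (fun h => h.2 rfl) (fun x hx => T.commutator_le_self hx.1)
      (fun s hs x hx => ⟨conj_mem_commutator hs hx.1, fun h => hx.2 (conj_eq_one_iff.1 h)⟩)
  set K := _root_.commutator T with hKdef
  haveI : Fintype K := Fintype.ofFinite _
  have hK : K = (⁅T, T⁆ : Subgroup G).subgroupOf T := commutator_eq_subgroupOf T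
  have hmK : ∀ x : T, x ∈ K ↔ (x : G) ∈ (⁅T, T⁆ : Subgroup G) := fun x => by rw [hK]; rfl
  have hAK : ∀ x : T, (x : G) ∈ A ↔ x ∈ K ∧ x ≠ 1 := fun x => by
    rw [hmK]
    exact and_congr Iff.rfl (not_congr ⟨fun h => Subtype.ext h, fun h => congrArg Subtype.val h⟩)
  have hFK : fittingHall T ≤ K := fun x hx =>
    (hmK x).2 (m.P_le_commutator (Subgroup.mem_map_of_mem _ hx))
  have hcardK : Nat.card K = q ^ p * Nat.card V := by
    rw [hK, Nat.card_congr (Subgroup.subgroupOfEquivOfLe T.commutator_le_self).toEquiv,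
      m.card_commutator]
  have hidx : K.index = p := by
    have h := K.card_mul_index
    rw [hcardK, show Nat.card T = q ^ p * Nat.card V * p from m.card_S] at h
    exact Nat.eq_of_mul_eq_mul_left (Nat.mul_pos (pow_pos m.hp.pos _) Nat.card_pos) h
  have hrel : (fittingHall T).relIndex K = Nat.card V := by
    have h := Subgroup.relIndex_mul_relIndex ⊥ (fittingHall T) K bot_le hFK
    rw [Subgroup.relIndex_bot_left, Subgroup.relIndex_bot_left, hcardK, ← card_fittingHallOf,
      m.card_P] at h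
    exact Nat.eq_of_mul_eq_mul_left (pow_pos m.hp.pos _) h
  haveI := m.U_comm
  -- `T'' ≤ T_F`
  have hder : ∀ x y : K, (x : T) * y * (x : T)⁻¹ * (y : T)⁻¹ ∈ fittingHall T := by
    intro x y
    let π := QuotientGroup.mk' (fittingHall T)
    have key : ∀ x : K, ∃ v : T, (v : G) ∈ V ∧ π x = π v := by
      intro x
      obtain ⟨c, hc, v, hv, e⟩ := m.typeP.U_compl.2.2.2 _ ((hmK x).1 x.2)
      refine ⟨⟨v, m.U_le hv⟩, hv, ?_⟩
      have e' : (x : T) = (⟨c, fittingHallOf_le T hc⟩ : T) * ⟨v, m.U_le hv⟩ := Subtype.ext e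
      have h1 : π ⟨c, fittingHallOf_le T hc⟩ = 1 := by
        refine (QuotientGroup.eq_one_iff _).2 ?_
        rw [← subgroupOf_fittingHallOf]
        exact hc
      rw [e', map_mul, h1, one_mul]
    obtain ⟨a, ha, ea⟩ := key x
    obtain ⟨b, hb, eb⟩ := key y
    have hab : a * b = b * a :=
      Subtype.ext (congrArg (fun t : V => (t : G)) (mul_comm' (⟨_, ha⟩ : V) ⟨_, hb⟩) :)
    refine (QuotientGroup.eq_one_iff _).1 (show π _ = 1 from ?_)
    rw [map_mul, map_mul, map_mul, map_inv, map_inv, ea, eb, ← map_mul, hab, map_mul]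
    group
  have hlin : ∀ θ ∈ aboveChars K (fittingHall T), charDegree θ.1 = 1 := by
    intro θ hθ
    have h := degree_sq_le_index θ ⊤ fun x _ y => ((mem_aboveChars K).1 hθ).2 _ (by
      simpa using hder x y)
    rw [Subgroup.index_top, sq] at h
    have hpos : charDegree θ.1 ≠ 0 := fun h0 => Char.IsIrrCharacter.apply_one_ne_zero θ.2 (by
      rw [← Char.charDegree_cast, h0, Nat.cast_zero])
    have := Nat.le_mul_self (charDegree θ.1)
    omega
  obtain ⟨w0, hw0, hw01⟩ := (Subgroup.bot_or_exists_ne_one W₂).resolve_left m.typeP.W₁_ne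
  have hirr : ∀ θ ∈ aboveChars K (fittingHall T), IsIrrCharacter T (indFun K θ.1) := by
    intro θ hθ
    have hθ1 : θ.1 1 = 1 := by rw [← Char.charDegree_cast, hlin θ hθ, Nat.cast_one]
    obtain ⟨lam, hlam⟩ := Char.IsCharacter.exists_monoidHom (Char.irr_isCharacter θ) hθ1
    refine Char.isIrrCharacter_indFun_inertia K K le_rfl θ (fun g hg => ?_) (ψ := θ) one_ne_zero
      (fun n => by simp)
    by_contra hgK
    obtain ⟨d, hd, a, ha, e⟩ := m.typeP.W₁_compl.2.2.2 _ g.2
    have ha1 : a ≠ 1 := fun h => hgK ((hmK g).2 (by rw [e, h, mul_one]; exact hd))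
    -- the commutators with `a` cover `V`
    let c : V → V := fun v => ⟨(v : G)⁻¹ * (a * v * a⁻¹),
      V.mul_mem (V.inv_mem v.2) ((Subgroup.mem_normalizer_iff.1 (m.typeP.U_normal ha) v).1 v.2)⟩
    have hcinj : Function.Injective c := by
      intro x y h
      have h' : (x : G)⁻¹ * (a * x * a⁻¹) = (y : G)⁻¹ * (a * y * a⁻¹) := congrArg Subtype.val h
      refine Subtype.ext (mul_inv_eq_one.1 (m.fpf ha ha1 (V.mul_mem y.2 (V.inv_mem x.2)) ?_)).symm
      calc a * ((y : G) * (x : G)⁻¹) = y * ((y : G)⁻¹ * (a * y * a⁻¹)) * a * (x : G)⁻¹ := by group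
        _ = y * ((x : G)⁻¹ * (a * x * a⁻¹)) * a * (x : G)⁻¹ := by rw [h']
        _ = y * (x : G)⁻¹ * a := by group
    have hfixd : ∀ x : T, x ∈ K → ∀ k : K, lam ⟨x * k * x⁻¹,
        Subgroup.Normal.conj_mem inferInstance _ k.2 x⟩ = lam k := fun x hx k => by
      rw [show (⟨x * k * x⁻¹, Subgroup.Normal.conj_mem inferInstance _ k.2 x⟩ : K) =
        ⟨x, hx⟩ * k * ⟨x, hx⟩⁻¹ from Subtype.ext rfl, map_mul, map_mul, mul_right_comm, ← map_mul,
        mul_inv_cancel, map_one, one_mul]
    have hinv : ∀ k : K, lam (MulAut.conjNormal g k) = lam k := fun k => by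
      rw [hlam]
      exact congrFun hg k
    have haT : a ∈ T := m.W₁_le ha
    have hainv : ∀ k : K, lam ⟨(⟨a, haT⟩ : T) * k * (⟨a, haT⟩ : T)⁻¹,
        Subgroup.Normal.conj_mem inferInstance _ k.2 _⟩ = lam k := fun k => by
      have hdK : (⟨d, T.commutator_le_self hd⟩ : T) ∈ K := (hmK _).2 hd
      rw [← hfixd _ hdK, ← hinv k]
      congr 1
      refine Subtype.ext ?_
      rw [MulAut.conjNormal_apply,
        show g = (⟨d, T.commutator_le_self hd⟩ : T) * ⟨a, haT⟩ from Subtype.ext e]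
      group
    have hVK : ∀ v : V, (⟨v, m.U_le v.2⟩ : T) ∈ K := fun v => (hmK _).2 (m.typeP.U_compl.2.1 v.2)
    have hlamV : ∀ v : V, lam ⟨_, hVK v⟩ = 1 := by
      intro v
      obtain ⟨x, hx⟩ := Finite.surjective_of_injective hcinj v
      rw [show (⟨_, hVK v⟩ : K) = (⟨_, hVK x⟩ : K)⁻¹ *
          ⟨(⟨a, haT⟩ : T) * (⟨_, hVK x⟩ : K) * (⟨a, haT⟩ : T)⁻¹,
            Subgroup.Normal.conj_mem inferInstance _ (hVK x) _⟩ from
        Subtype.ext (Subtype.ext (congrArg (fun t : V => (t : G)) hx).symm), map_mul, hainv,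
        ← map_mul, inv_mul_cancel, map_one]
    refine ((mem_aboveChars K).1 hθ).1 (Subtype.ext (funext fun k => ?_))
    obtain ⟨x, hx, v, hv, ek⟩ := m.typeP.U_compl.2.2.2 _ ((hmK k).1 k.2)
    have hxK : (⟨x, fittingHallOf_le T hx⟩ : T) ∈ K := (hmK _).2 (m.P_le_commutator hx)
    show θ.1 k = 1
    rw [← hlam, show k = (⟨_, hxK⟩ : K) * ⟨_, hVK ⟨v, hv⟩⟩ from Subtype.ext (Subtype.ext ek),
      map_mul, hlamV, mul_one, hlam, ((mem_aboveChars K).1 hθ).2 _ (by
        rw [← subgroupOf_fittingHallOf]; exact hx), hθ1]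
  set S := inducedIrrAbove K (fittingHall T) with hS
  have hsub : S ⊆ inducedIrrAbove K ⊥ := inducedIrrAbove_subset_bot K _
  have hSirr : ∀ φ ∈ S, IsIrrCharacter T φ := fun φ hφ => by
    obtain ⟨θ, hθ, rfl⟩ := (mem_inducedIrrAbove_iff K).1 hφ
    exact hirr θ hθ
  have hdeg : ∀ φ ∈ S, φ 1 = (K.index : ℂ) := fun φ hφ => by
    obtain ⟨θ, hθ, rfl⟩ := (mem_inducedIrrAbove_iff K).1 hφ
    rw [Char.indFun_apply_one, ← Char.charDegree_cast, hlin θ hθ, Nat.cast_one, mul_one]
  have hconj : ∀ φ ∈ S, conjFun φ ∈ S := fun φ hφ => conj_mem_inducedIrrAbove K hφ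
  have hne : S.Nonempty := by
    haveI : Group.IsSolvable T := hG.2.2.2 T m.coatom.1
    have hlt : fittingHall T < K := by
      refine lt_of_le_of_ne hFK fun h => m.U_ne (Subgroup.card_eq_one.1 ?_)
      rw [← hrel, h, Subgroup.relIndex_self]
    obtain ⟨θ, hθ, -⟩ := exists_linear_above K inferInstance (fittingHall T) hlt
    exact ⟨_, (mem_inducedIrrAbove_iff K).2 ⟨θ, hθ, rfl⟩⟩
  obtain ⟨hiso, hτ1, -⟩ := isLinearIsometryOn_dade hD S
    (fun φ hφ => Char.IsIrrCharacter.isCharacter (hSirr φ hφ)) (fun φ hφ x hx hxA =>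
      indIrr_apply_notMem K (hsub hφ) fun h => hxA ((hAK x).2 ⟨h, hx⟩))
  obtain ⟨R, hR⟩ := exists_coherenceSystem S hne hSirr
    (fun φ hφ => ⟨hconj φ hφ, conjFun_ne_of_mem_inducedIrrAbove hG.1 (hsub hφ) (hSirr φ hφ)⟩) _ hiso hτ1
  obtain ⟨-, τ₁, hiso₁, hext⟩ := isCoherent_of_const_degree hR
    (fun φ hφ ψ hψ => (hdeg φ hφ).trans (hdeg ψ hψ).symm)
  obtain ⟨ζ, hζ⟩ := hne
  let P := (aboveChars K (fittingHall T)).image fun θ => indFun K θ.1
  have hP : ∀ φ, φ ∈ P ↔ φ ∈ S := fun φ => by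
    simp only [P, Finset.mem_image, hS, mem_inducedIrrAbove_iff K, eq_comm]
  let e : ↥P → T → ℂ := fun i => i.1
  obtain ⟨st, w, z, hB, -, hw⟩ := exists_bridge_of_coherent hD hAK hG.1 hsub hSirr hconj hiso₁ hext hζ
    (hdeg ζ hζ) e Subtype.val_injective (fun i => (hP _).1 i.2) (fun φ hφ => ⟨⟨φ, (hP φ).2 hφ⟩, rfl⟩)
  rw [dadeUnion_bot_eq, hidx] at hB
  have hw1 : ∀ i, w i = 1 := fun i => by
    have h := hw i
    rw [hdeg (e i) ((hP _).1 i.2)] at h
    exact_mod_cast (mul_eq_right₀ (Nat.cast_ne_zero.2 Subgroup.index_ne_zero_of_finite)).1 h.symm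
  refine ⟨↥P, inferInstance, _, st, w, z, _, hB, hw1, ?_, hσ, hdisj⟩
  have hsum := sum_sq_div_norm K (aboveChars K (fittingHall T))
    (fun θ hθ g => conjChar_mem_aboveChars K hθ g) (fun _ => p) (fun _ => 1)
    (fun θ hθ => by rw [hdeg _ ((mem_inducedIrrAbove_iff K).2 ⟨θ, hθ, rfl⟩), hidx])
    (fun θ hθ => by rw [Char.classInner_irr_self (hirr θ hθ), Nat.cast_one])
  have h1 := sum_aboveChars K (fittingHall T)
  rw [Finset.sum_congr rfl (g := fun _ => (1 : ℂ)) fun θ hθ => by
      rw [← Char.charDegree_cast, hlin θ hθ, Nat.cast_one, one_pow],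
    Finset.sum_const, nsmul_one, hrel, eq_sub_iff_add_eq] at h1
  have h1' : (aboveChars K (fittingHall T)).card + 1 = Nat.card V := by exact_mod_cast h1
  rw [Finset.sum_congr rfl (g := fun _ => (1 : ℝ)) (s₁ := aboveChars K (fittingHall T)) fun θ hθ => by
      rw [hlin θ hθ, Nat.cast_one, one_pow],
    Finset.sum_const, Finset.sum_const, nsmul_one, hidx, nsmul_eq_mul, Nat.cast_one, div_one, sq,
    ← mul_assoc, mul_comm (p : ℝ) ((aboveChars K (fittingHall T)).card : ℝ)] at hsum
  have h2 : P.card * p = (aboveChars K (fittingHall T)).card := by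
    exact_mod_cast mul_right_cancel₀ (Nat.cast_ne_zero.2 m.hq.ne_zero) hsum
  rw [Finset.sum_congr rfl (g := fun _ => 1) fun i _ => by rw [hw1 i, one_pow],
    Finset.sum_const, smul_eq_mul, mul_one, Finset.card_univ, Fintype.card_coe, h2]
  omega

end TypeThree

end Cfsg.Agent.OddOrder.PF.S14
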