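import Cfsg.Agent.Lib.OddOrder.PF.Conjugates
import Cfsg.Agent.Lib.OddOrder.PF.TypeFacts
import Cfsg.Agent.Lib.OddOrder.PF.TypeOneCover
import Cfsg.Agent.Lib.OddOrder.Dichotomy
import Cfsg.Agent.Lib.OddOrder.DecompositionFacts
import Cfsg.Agent.Lib.OddOrder.SigmaDecomp
import Cfsg.Agent.Lib.OddOrder.PiHallExists
import Cfsg.Agent.Lib.OddOrder.SigmaTools

/-!
Peterfalvi (8.17), first half, and the supporting relation between maximal subgroups: `T` supports `S`
exactly when `A₁(S)` meets `A(T)`; in that case the centralisers of the common elements lie in `T` and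
not in `S`; of two maximal subgroups at most one is supported by a conjugate of the other.
-/

set_option autoImplicit false
set_option linter.unusedSectionVars false

namespace Cfsg.Agent.OddOrder.PF

open Cfsg Cfsg.Agent.OddOrder
open scoped Pointwise

universe u

/-! ### Conjugation -/

theorem piCore_map_equiv {X Y : Type u} [Group X] [Group Y] (π : Set ℕ) (e : X ≃* Y) :
    (piCore π X).map e.toMonoidHom = piCore π Y := by
  have key : ∀ {A B : Type u} [Group A] [Group B] (f : A ≃* B),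
      (piCore π A).map f.toMonoidHom ≤ piCore π B := by
    intro A B _ _ f
    rw [Subgroup.map_le_iff_le_comap]
    refine sSup_le fun N hN => Subgroup.map_le_iff_le_comap.1 (le_sSup ?_)
    obtain ⟨h1, h2⟩ := hN
    exact ⟨h1.map _ f.surjective, fun p hp hd => h2 p hp (by
      rwa [Subgroup.card_map_of_injective f.injective] at hd)⟩
  refine le_antisymm (key e) fun y hy => ?_
  exact ⟨e.symm y, key e.symm (Subgroup.mem_map_of_mem _ hy), e.apply_symm_apply y⟩

variable {G : Type u} [Group G] [Finite G] {M : Subgroup G}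

theorem sigma_map (g : G) (M : Subgroup G) :
    sigma (M.map (MulAut.conj g).toMonoidHom) = sigma M := sigma_conj g M

theorem map_conj_inv (g : G) (M : Subgroup G) :
    (M.map (MulAut.conj g).toMonoidHom).map (MulAut.conj g⁻¹).toMonoidHom = M := by
  rw [Subgroup.map_map, map_inv]
  exact (congrArg (fun f => M.map f) (MonoidHom.ext fun x => by simp [mul_assoc])).trans
    (Subgroup.map_id _)

theorem sigmaCore_map (g : G) (M : Subgroup G) :
    sigmaCore (M.map (MulAut.conj g).toMonoidHom) = (sigmaCore M).map (MulAut.conj g).toMonoidHom := by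
  unfold sigmaCore
  rw [sigma_map, ← piCore_map_equiv (sigma M)
      (M.equivMapOfInjective (MulAut.conj g).toMonoidHom (MulAut.conj g).injective),
    Subgroup.map_map, Subgroup.map_map]
  rfl

theorem kappa_subset_map (g : G) (M : Subgroup G) :
    kappa M ⊆ kappa (M.map (MulAut.conj g).toMonoidHom) := by
  rintro p ⟨hp, hd, hs, hP⟩
  haveI := Fact.mk hp
  set e := M.equivMapOfInjective (MulAut.conj g).toMonoidHom (MulAut.conj g).injective
  refine ⟨hp, by rwa [← Nat.card_congr e.toEquiv], by rwa [sigma_map], fun Q => ?_⟩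
  obtain ⟨hc, x, hx, hx1, y, hy, hy1, hxy⟩ :=
    hP (Q.mapSurjective (f := e.symm.toMonoidHom) e.symm.surjective)
  have hmem : ∀ z : M, z ∈ (Q.mapSurjective (f := e.symm.toMonoidHom) e.symm.surjective : Subgroup M) →
      e z ∈ (Q : Subgroup _) := by
    rintro z ⟨w, hw, rfl⟩
    show e (e.symm w) ∈ _
    rw [e.apply_symm_apply]
    exact hw
  refine ⟨?_, e x, hmem x hx, fun h => hx1 (e.injective (h.trans e.map_one.symm)), g * y * g⁻¹,
    by rw [sigmaCore_map]; exact ⟨y, hy, rfl⟩, fun h => hy1 (conj_eq_one_iff.1 h), ?_⟩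
  · have h1 : IsCyclic ↥((Q : Subgroup _).map e.symm.toMonoidHom) := by
      convert hc using 3 <;> rfl
    exact ((Q : Subgroup _).equivMapOfInjective e.symm.toMonoidHom e.symm.injective).isCyclic.2 h1
  · show (g * x * g⁻¹) * (g * y * g⁻¹) = (g * y * g⁻¹) * (g * x * g⁻¹)
    calc (g * x * g⁻¹) * (g * y * g⁻¹) = g * ((x : G) * y) * g⁻¹ := by group
      _ = g * (y * x) * g⁻¹ := by rw [hxy]
      _ = _ := by group

theorem kappa_map (g : G) (M : Subgroup G) : kappa (M.map (MulAut.conj g).toMonoidHom) = kappa M := by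
  refine Set.Subset.antisymm ?_ (kappa_subset_map g M)
  have h := kappa_subset_map g⁻¹ (M.map (MulAut.conj g).toMonoidHom)
  rwa [map_conj_inv] at h

variable (B : BGFacts G)
include B

theorem typeI_iff_kappa_eq_empty (hM : IsCoatom M) : IsOfTypeI' M ↔ kappa M = ∅ :=
  ⟨kappa_eq_empty_of_typeI B hM, Dichotomy.isOfTypeI_of_kappa_empty B hM⟩

theorem typeI_map_iff (hM : IsCoatom M) (g : G) :
    IsOfTypeI' (M.map (MulAut.conj g).toMonoidHom) ↔ IsOfTypeI' M := by
  rw [typeI_iff_kappa_eq_empty B (isCoatom_map _ hM), typeI_iff_kappa_eq_empty B hM, kappa_map]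

theorem typeCore_map (hM : IsCoatom M) (g : G) :
    typeCore (M.map (MulAut.conj g).toMonoidHom) = (typeCore M).map (MulAut.conj g).toMonoidHom := by
  rw [typeCore_eq_sigmaCore B (isCoatom_map _ hM), typeCore_eq_sigmaCore B hM, sigmaCore_map]

theorem mem_typeA1_map (hM : IsCoatom M) {x : G} (hx : x ∈ typeA1 M) (g : G) :
    g * x * g⁻¹ ∈ typeA1 (M.map (MulAut.conj g).toMonoidHom) := by
  refine ⟨?_, fun h => hx.2 (conj_eq_one_iff.1 h)⟩
  rw [SetLike.mem_coe, typeCore_map B hM]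
  exact ⟨x, hx.1, rfl⟩

theorem mem_typeA_map (hM : IsCoatom M) {x : G} (hx : x ∈ typeA' M) (g : G) :
    g * x * g⁻¹ ∈ typeA' (M.map (MulAut.conj g).toMonoidHom) := by
  have hcomm : ∀ y, x * y = y * x → g * x * g⁻¹ * (g * y * g⁻¹) = g * y * g⁻¹ * (g * x * g⁻¹) :=
    fun y h => by
      calc g * x * g⁻¹ * (g * y * g⁻¹) = g * (x * y) * g⁻¹ := by group
        _ = g * (y * x) * g⁻¹ := by rw [h]
        _ = _ := by group
  unfold typeA' at hx ⊢
  by_cases hI : IsOfTypeI' M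
  · rw [if_pos hI] at hx
    rw [if_pos ((typeI_map_iff B hM g).2 hI)]
    obtain ⟨h1, h2, y, hy, hy1, hxy⟩ := hx
    refine ⟨⟨x, h1, rfl⟩, fun h => h2 (conj_eq_one_iff.1 h), g * y * g⁻¹, ?_,
      fun h => hy1 (conj_eq_one_iff.1 h), hcomm y hxy⟩
    rw [← fittingHallOf_map]; exact ⟨y, hy, rfl⟩
  · rw [if_neg hI] at hx
    rw [if_neg (mt (typeI_map_iff B hM g).1 hI)]
    obtain ⟨h1, h2, y, hy, hy1, hxy⟩ := hx
    refine ⟨?_, fun h => h2 (conj_eq_one_iff.1 h), g * y * g⁻¹, ?_,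
      fun h => hy1 (conj_eq_one_iff.1 h), hcomm y hxy⟩
    · rw [← Subgroup.map_commutator]; exact ⟨x, h1, rfl⟩
    · rw [typeCore_map B hM]; exact ⟨y, hy, rfl⟩

theorem typeA_subset_sigmaHat (hM : IsCoatom M) {x : G} (hx : x ∈ typeA' M) : x ∈ sigmaHat M := by
  refine ⟨(typeA_subset hx).1, ?_⟩
  unfold typeA' at hx
  split_ifs at hx with hI
  · obtain ⟨-, -, y, hy, hy1, hxy⟩ := hx
    exact ⟨y, (B.s1355 M hM).2.1 hy, hy1, hxy⟩
  · obtain ⟨-, -, y, hy, hy1, hxy⟩ := hx
    exact ⟨y, typeCore_eq_sigmaCore B hM ▸ hy, hy1, hxy⟩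

theorem mem_typeA1_iff (hM : IsCoatom M) {x : G} : x ∈ typeA1 M ↔ x ∈ sigmaCore M ∧ x ≠ 1 := by
  rw [typeA1, typeCore_eq_sigmaCore B hM]; rfl

theorem not_mem_sigma_of_notConj {N : Subgroup G} (hM : IsCoatom M) (hN : IsCoatom N)
    (hnc : NotConj M N) {p : ℕ} (hpM : p ∈ sigma M) : p ∉ sigma N := fun hpN => by
  obtain ⟨g, hg⟩ := B.s1378.2 M N hM hN ⟨p, hpM, hpN⟩
  exact hnc g hg

/-- An element of `A(M)` and its non-identity powers. -/
theorem mem_typeA_of_mem_zpowers {a b : G} (hb : b ∈ typeA' M) (ha : a ∈ Subgroup.zpowers b)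
    (ha1 : a ≠ 1) : a ∈ typeA' M := by
  obtain ⟨n, rfl⟩ := Subgroup.mem_zpowers_iff.1 ha
  unfold typeA' at hb ⊢
  split_ifs at hb ⊢
  · obtain ⟨h1, -, y, hy, hy1, hxy⟩ := hb
    exact ⟨M.zpow_mem h1 n, ha1, y, hy, hy1, (Commute.zpow_left hxy n).eq⟩
  · obtain ⟨h1, -, y, hy, hy1, hxy⟩ := hb
    exact ⟨Subgroup.zpow_mem _ h1 n, ha1, y, hy, hy1, (Commute.zpow_left hxy n).eq⟩

/-! ### The common elements of `A₁(S)` and `A(T)` -/

variable {S T : Subgroup G}

/-- A prime order element of `M ∖ M_σ` outside `κ(M)` fixing an element of `M_σ` has its centraliser in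
`M` only. -/
theorem unique_of_sigmaHat (hG : IsMinSimpleOddOrder G) (hS : IsCoatom S) {x z : G} {p : ℕ} [Fact p.Prime]
    (hx : x ∈ sigmaCore S) (hx1 : x ≠ 1) (hzS : z ∈ S) (hxz : Commute x z) (ho : orderOf z = p)
    (hps : p ∉ sigma S) (hpk : p ∉ kappa S) :
    ∀ L : Subgroup G, IsCoatom L → Subgroup.centralizer ({z} : Set G) ≤ L → L = S := by
  obtain ⟨K, U, hKU⟩ := exists_decomp B hS
  have hpS : p ∣ Nat.card S := ho ▸ S.orderOf_dvd_natCard hzS
  have hH := Decomp.isPiHallOf_right hG hS hKU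
  have hndvd : ¬ p ∣ U.relIndex S := hH.2.2 p Fact.out ⟨Fact.out, hpk, hps⟩
  obtain ⟨P⟩ : Nonempty (Sylow p U) := inferInstance
  set T₀ := (P : Subgroup U).map U.subtype
  have hT₀U : T₀ ≤ U := Subgroup.map_subtype_le _
  have hsyl : IsSyl p T₀ S := by
    obtain ⟨T', hT', hle⟩ := exists_isSyl_ge (p := p) (P.2.map U.subtype) (hT₀U.trans hH.1)
    obtain ⟨kT, hkT⟩ := hT'.isPGroup.exists_card_eq
    have h2 : Nat.card T' ∣ Nat.card U * U.relIndex S := by
      rw [show Nat.card U * U.relIndex S = Nat.card S by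
        rw [← Subgroup.relIndex_bot_left, Subgroup.relIndex_mul_relIndex _ _ _ bot_le hH.1,
          Subgroup.relIndex_bot_left]]
      exact Subgroup.card_dvd_of_le hT'.le
    rw [hkT] at h2
    have h3 : p ^ kT ∣ Nat.card U :=
      (((Nat.Prime.coprime_iff_not_dvd Fact.out).2 hndvd).pow_left kT).dvd_of_dvd_mul_right h2
    have h4 : Nat.card T₀ = p ^ (Nat.card U).factorization p := by
      rw [Subgroup.card_map_of_injective U.subtype_injective, P.card_eq_multiplicity]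
    have h5 : kT ≤ (Nat.card U).factorization p :=
      (Nat.Prime.pow_dvd_iff_le_factorization Fact.out Nat.card_pos.ne').1 h3
    show IsSyl p ((P : Subgroup U).map U.subtype) S
    rw [Subgroup.eq_of_le_of_card_ge hle (by
      rw [h4, hkT]; exact Nat.pow_le_pow_right (Fact.out : p.Prime).pos h5)]
    exact hT'
  obtain ⟨m, hm, hle⟩ := hsyl.exists_conj_le (IsPGroup.of_card (n := 1)
    (by rw [Nat.card_zpowers, ho, pow_one] : Nat.card (Subgroup.zpowers z) = p ^ 1))
    (Subgroup.zpowers_le.2 hzS)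
  set z' := m * z * m⁻¹
  have hz'U : z' ∈ U := hT₀U (hle ⟨z, Subgroup.mem_zpowers z, rfl⟩)
  have hz'1 : z' ≠ 1 := fun h => (Fact.out : p.Prime).ne_one (by
    rw [← ho, orderOf_eq_one_iff]; exact conj_eq_one_iff.1 h)
  have hfix : sigmaCore S ⊓ Subgroup.centralizer (Subgroup.zpowers z' : Set G) ≠ ⊥ := by
    intro h
    refine hx1 (conj_eq_one_iff (a := m) |>.1 (Subgroup.mem_bot.1 (h ▸ (⟨?_, ?_⟩ :
      m * x * m⁻¹ ∈ sigmaCore S ⊓ Subgroup.centralizer (Subgroup.zpowers z' : Set G)))))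
    · exact conj_mem_map_subtype (piCore (sigma S) S) hm hx
    · show m * x * m⁻¹ ∈ Subgroup.centralizer (Subgroup.zpowers z' : Set G)
      rw [Subgroup.zpowers_eq_closure, Subgroup.centralizer_closure,
        Subgroup.mem_centralizer_singleton_iff]
      calc m * x * m⁻¹ * (m * z * m⁻¹) = m * (x * z) * m⁻¹ := by group
        _ = m * (z * x) * m⁻¹ := by rw [hxz.eq]
        _ = _ := by simp only [z']; group
  have h := (B.s1361 S hS K U hKU (Subgroup.zpowers z') (Subgroup.zpowers_le.2 hz'U)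
    (Subgroup.zpowers_ne_bot.2 hz'1) hfix).2
  rw [Subgroup.zpowers_eq_closure, Subgroup.centralizer_closure] at h
  intro L hL hCL
  have h2 := h (L.map (MulAut.conj m).toMonoidHom) (isCoatom_map _ hL) (by
    rw [show z' = MulAut.conj m z from rfl, centralizer_map]
    exact Subgroup.map_mono hCL)
  rw [← map_conj_inv m L, h2]
  exact Final.map_conj_eq_of_mem_normalizer (Subgroup.le_normalizer (inv_mem hm))

/-- Peterfalvi (8.17): where the centraliser of an element of `A₁(S) ∩ A(T)` lies. -/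
theorem centralizer_of_mem_inter (hG : IsMinSimpleOddOrder G) (hS : IsCoatom S) (hT : IsCoatom T)
    (hnc : NotConj S T) {x : G} (hx1 : x ∈ typeA1 S) (hxA : x ∈ typeA' T) :
    ¬ Subgroup.centralizer ({x} : Set G) ≤ S ∧ Subgroup.centralizer ({x} : Set G) ≤ T := by
  obtain ⟨hxσ, hxne⟩ := (mem_typeA1_iff B hS).1 hx1
  refine ⟨fun hle => ?_, ?_⟩
  · obtain ⟨hxT, y, hy, hy1, hxy⟩ := typeA_subset_sigmaHat B hT hxA
    obtain ⟨p, hp, hpd⟩ := Nat.exists_prime_and_dvd fun h => hy1 (orderOf_eq_one_iff.1 h)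
    haveI := Fact.mk hp
    set z := y ^ (orderOf y / p) with hz
    have ho : orderOf z = p := orderOf_pow_orderOf_div (orderOf_pos y).ne' hpd
    have hzT : z ∈ sigmaCore T := Subgroup.pow_mem _ hy _
    have hz1 : z ≠ 1 := fun h => hp.ne_one (by rw [← ho, h, orderOf_one])
    have hxz : Commute x z := Commute.pow_right hxy _
    have hzS : z ∈ S := hle (Subgroup.mem_centralizer_singleton_iff.2 hxz.symm.eq)
    have hpT : p ∈ sigma T :=
      mem_sigma_of_dvd_sigmaCore hp (ho ▸ Subgroup.orderOf_dvd_natCard _ hzT)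
    have hpS : p ∉ sigma S := not_mem_sigma_of_notConj B hT hS hnc.symm hpT
    have hxCz : x ∈ Subgroup.centralizer ({z} : Set G) :=
      Subgroup.mem_centralizer_singleton_iff.2 hxz.eq
    by_cases hpk : p ∈ kappa S
    · -- `z` lies in a Hall `κ(S)`-subgroup `K`, and `T` is the partner of `S`
      obtain ⟨K, hzK, hK⟩ := exists_piHallOf_ge (kappa S) (hG.2.2.2 S hS.1) (Subgroup.zpowers_le.2 hzS)
        fun q hq hd => by
          rw [Nat.card_zpowers, ho, Nat.prime_dvd_prime_iff_eq hq hp] at hd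
          exact hd ▸ hpk
      rw [Subgroup.zpowers_le] at hzK
      have hKc := (B.s1351 S hS).2 K hK
      obtain ⟨U, hKU⟩ := (B.s1352 S hS K hKc hK).1
      have hK1 : K ≠ ⊥ := fun h => hz1 (Subgroup.mem_bot.1 (h ▸ hzK))
      obtain ⟨Ms, ⟨hMs, hKst, hKstH⟩, -⟩ := B.s1366 S hS K U hKU hK1
      have hu := (B.s1367 S hS K U hKU hK1 Ms hMs hKst hKstH).2 (Subgroup.zpowers z)
        (Subgroup.zpowers_le.2 hzK) (by rw [Nat.card_zpowers, ho]; exact hp)
      rw [Subgroup.zpowers_eq_closure, Subgroup.centralizer_closure] at hu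
      have hTMs : T = Ms := by
        by_cases hzle : Subgroup.centralizer ({z} : Set G) ≤ T
        · exact hu.2 T hT hzle
        obtain ⟨N, ⟨hN, hCN⟩, -, -, -, -, -, hlast⟩ := B.s1375 T hT z hzT hz1 hzle
        have hNMs := hu.2 N hN hCN
        subst hNMs
        obtain ⟨K', U', hKU'⟩ := exists_decomp B hN
        refine absurd ?_ (hlast K' U' hKU').2.2
        exact ((le_of_eq hKst).trans inf_le_left) hzK
      subst hTMs
      have hxC : x ∈ S ⊓ Subgroup.centralizer ({z} : Set G) :=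
        ⟨OddOrder.sigmaCore_le S hxσ, hxCz⟩
      rw [(B.s1354 S hS K hKc hK).2 hK1 z hzK hz1] at hxC
      have hxK : x ∈ Subgroup.centralizer (K : Set G) :=
        (sup_le (fun k hk => Subgroup.mem_centralizer_iff.2 fun a ha =>
            haveI := hKc; congrArg Subtype.val (mul_comm' (⟨a, ha⟩ : K) ⟨k, hk⟩)) inf_le_right :
          K ⊔ (sigmaCore S ⊓ Subgroup.centralizer (K : Set G)) ≤ _) hxC
      obtain ⟨q, hq, hqd⟩ := Nat.exists_prime_and_dvd fun h => hxne (orderOf_eq_one_iff.1 h)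
      have hxKs : x ∈ sigmaCore S ⊓ Subgroup.centralizer (K : Set G) := ⟨hxσ, hxK⟩
      have hqk : q ∈ kappa T :=
        hKstH.2.1 q hq (hqd.trans (Subgroup.orderOf_dvd_natCard _ hxKs))
      have hnI : ¬ IsOfTypeI' T := fun h => by
        rw [kappa_eq_empty_of_typeI B hT h] at hqk
        exact hqk
      have hxT' : x ∈ ⁅T, T⁆ := by
        rw [typeA', if_neg hnI] at hxA
        exact hxA.1
      have hKsc := (B.s1351 T hT).2 _ hKstH
      obtain ⟨V, hV⟩ := (B.s1352 T hT _ hKsc hKstH).1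
      rw [(B.s1365 T hT _ V hV fun h => hxne (Subgroup.mem_bot.1 (h ▸ hxKs))).1] at hxT'
      have hdvd := hqd.trans (Subgroup.orderOf_dvd_natCard _ hxT')
      rw [Decomp.card_right_sup hV] at hdvd
      rcases (Nat.Prime.dvd_mul hq).1 hdvd with h | h
      · exact Decomp.not_mem_kappa hV hq h hqk
      · exact hqk.2.2.1 (mem_sigma_of_dvd_sigmaCore hq h)
    · -- `z` fixes an element of `S_σ`, so only `S` contains its centraliser
      have hu := unique_of_sigmaHat B hG hS hxσ hxne hzS hxz ho hpS hpk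
      by_cases hzle : Subgroup.centralizer ({z} : Set G) ≤ T
      · exact hnc.ne (hu T hT hzle)
      obtain ⟨N, ⟨hN, hCN⟩, -, -, -, hc, -⟩ := B.s1375 T hT z hzT hz1 hzle
      rw [hu N hN hCN] at hc
      have h : x ∈ T ⊓ Subgroup.centralizer ({z} : Set G) ⊓
          (sigmaCore S ⊓ Subgroup.centralizer ({z} : Set G)) := ⟨⟨hxT, hxCz⟩, hxσ, hxCz⟩
      rw [hc.2.2.1, Subgroup.mem_bot] at h
      exact hxne h
  · by_contra hle
    obtain ⟨hT1, -⟩ := (B.s1391 T hT _ (Or.inl rfl)).2.1 x hxA hle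
    obtain ⟨p, hp, hpd⟩ := Nat.exists_prime_and_dvd fun h => hxne (orderOf_eq_one_iff.1 h)
    exact not_mem_sigma_of_notConj B hS hT hnc
      (mem_sigma_of_dvd_sigmaCore hp (hpd.trans (Subgroup.orderOf_dvd_natCard _ hxσ)))
      (mem_sigma_of_dvd_sigmaCore hp (hpd.trans (Subgroup.orderOf_dvd_natCard _
        ((mem_typeA1_iff B hT).1 hT1).1)))

theorem supports_iff (hG : IsMinSimpleOddOrder G) (hS : IsCoatom S) (hT : IsCoatom T)
    (hnc : NotConj S T) : Supports' T S ↔ (typeA1 S ∩ typeA' T).Nonempty := by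
  constructor
  · rintro ⟨-, x, hx, hle, hxT⟩
    obtain ⟨-, h2, h3⟩ := B.s1391 S hS _ (Or.inr rfl)
    exact ⟨x, (h2 x hx hle).1, (h3 x hx hle T hT hxT).2.2.2.2.1.1⟩
  · rintro ⟨x, hx1, hxA⟩
    exact ⟨hT, x, typeA_subset_typeA0 (typeA1_subset_typeA B hS hx1),
      centralizer_of_mem_inter B hG hS hT hnc hx1 hxA⟩

theorem exists_supports_iff (hG : IsMinSimpleOddOrder G) (hS : IsCoatom S) (hT : IsCoatom T)
    (hnc : NotConj S T) :
    (∃ g : G, Supports' (T.map (MulAut.conj g).toMonoidHom) S) ↔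
      (tildeOf S (typeA1 S) ∩ tildeOf T (typeA' T)).Nonempty := by
  have hnc' : ∀ g : G, NotConj S (T.map (MulAut.conj g).toMonoidHom) := fun g k hk =>
    hnc (g⁻¹ * k) (by
      have e := congrArg (Subgroup.map (MulAut.conj g⁻¹).toMonoidHom) hk
      rw [map_conj_inv] at e
      rw [e, map_mul, mul_smul]
      rfl)
  constructor
  · rintro ⟨g, hg⟩
    obtain ⟨x, hx1, hxA⟩ := (supports_iff B hG hS (isCoatom_map _ hT) (hnc' g)).1 hg
    have h := mem_typeA_map B (isCoatom_map _ hT) hxA g⁻¹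
    rw [map_conj_inv] at h
    exact ⟨x, ⟨x, hx1, 1, one_mem _, 1, by group⟩, _, h, 1, one_mem _, g, by group⟩
  · rintro ⟨w, ⟨a, ha, r, hr, y, hy⟩, b, hb, s, hs, z, hz⟩
    set h := y⁻¹ * z with hh
    refine ⟨h, (supports_iff B hG hS (isCoatom_map _ hT) (hnc' h)).2 ?_⟩
    set T' := T.map (MulAut.conj h).toMonoidHom
    set b' := h * b * h⁻¹
    have hb' : b' ∈ typeA' T' := mem_typeA_map B hT hb h
    have har : a * r = b' * (h * s * h⁻¹) := by
      have e : a * r = y⁻¹ * w * y := by rw [hy]; group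
      rw [e, hz]
      simp only [b', h]
      group
    have hs' : h * s * h⁻¹ ∈ supportR T' b' := by
      rw [show b' = MulAut.conj h b from rfl, supportR_map]
      exact ⟨s, hs, rfl⟩
    have hs1 : h * s * h⁻¹ = 1 := by
      by_contra hne
      have hle : ¬ Subgroup.centralizer ({b'} : Set G) ≤ T' := fun hc => hne (by
        rw [supportR_eq_bot hc, Subgroup.mem_bot] at hs'
        exact hs')
      obtain ⟨hb1, -⟩ := (B.s1391 T' (isCoatom_map _ hT) _ (Or.inl rfl)).2.1 b' hb' hle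
      refine Set.eq_empty_iff_forall_notMem.1 (B.s1379.1 S T' hS (isCoatom_map _ hT) (hnc' h))
        (a * r) ⟨?_, ?_⟩
      · exact ⟨a, (mem_typeA1_iff B hS).1 ha, r, hr, 1, by group⟩
      · exact ⟨b', (mem_typeA1_iff B (isCoatom_map _ hT)).1 hb1, _, hs', 1, by rw [har]; group⟩
    rw [hs1, mul_one] at har
    have hD := dadeHypothesis_typeSet B hS (Or.inl rfl : typeA1 S = typeA1 S ∨ _ ∨ _)
    refine ⟨a, ha, mem_typeA_of_mem_zpowers B hb' ?_ fun e => hD.one_not_mem (e ▸ ha)⟩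
    rw [← har]
    exact mem_zpowers_mul_of_coprime (dade_commute hD ha hr)
      (((dade_coprime_orderOf hD ha ha).coprime_dvd_left (Subgroup.orderOf_dvd_natCard _ hr)).symm)

theorem tilde_inter_eq_empty (hG : IsMinSimpleOddOrder G) (hS : IsCoatom S) (hT : IsCoatom T)
    (hnc : NotConj S T) :
    tildeOf S (typeA1 S) ∩ tildeOf T (typeA' T) = ∅ ∨ tildeOf T (typeA1 T) ∩ tildeOf S (typeA' S) = ∅ := by
  by_contra hcon
  push Not at hcon
  obtain ⟨h1, h2⟩ := hcon
  obtain ⟨g, hg⟩ := (exists_supports_iff B hG hS hT hnc).2 h1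
  obtain ⟨h, hh⟩ := (exists_supports_iff B hG hT hS hnc.symm).2 h2
  obtain ⟨hT', x, hx, hxle, hxC⟩ := hg
  obtain ⟨hS', y, hy, hyle, hyC⟩ := hh
  obtain ⟨-, hx2, hx3⟩ := B.s1391 S hS _ (Or.inr rfl)
  obtain ⟨hxσ, hxne⟩ := (mem_typeA1_iff B hS).1 (hx2 x hx hxle).1
  have hxA := mem_typeA_map B hT' (hx3 x hx hxle _ hT' hxC).2.2.2.2.1.1 g⁻¹
  rw [map_conj_inv] at hxA
  obtain ⟨-, hy2, -⟩ := B.s1391 T hT _ (Or.inr rfl)
  obtain ⟨hyσ, hyne⟩ := (mem_typeA1_iff B hT).1 (hy2 y hy hyle).1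
  obtain ⟨p, hp, hpd⟩ := Nat.exists_prime_and_dvd fun h => hxne (orderOf_eq_one_iff.1 h)
  haveI := Fact.mk hp
  have hpS : p ∈ sigma S :=
    mem_sigma_of_dvd_sigmaCore hp (hpd.trans (Subgroup.orderOf_dvd_natCard _ hxσ))
  set x₀ := g⁻¹ * x * g⁻¹⁻¹
  have hpd₀ : p ∣ orderOf x₀ := by
    rwa [show x₀ = (MulAut.conj g⁻¹).toMonoidHom x from rfl,
      orderOf_injective (MulAut.conj g⁻¹).toMonoidHom (MulAut.conj g⁻¹).injective]
  obtain ⟨hk, ht2⟩ := ((B.s1436 T hT y hyσ hyne hyle _ hS' hyC).1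
    ⟨p, by rw [sigma_map]; exact hpS, hpd₀.trans (T.orderOf_dvd_natCard (typeA_subset hxA).1)⟩)
  have hpow : orderOf (x₀ ^ (orderOf x₀ / p)) = p := orderOf_pow_orderOf_div (orderOf_pos _).ne' hpd₀
  rcases mem_kappa_or_tau2 hG hT (not_mem_sigma_of_notConj B hS hT hnc hpS)
    (pow_mem_sigmaHat (typeA_subset_sigmaHat B hT hxA) _) hpow with h' | h'
  · rw [hk] at h'; exact h'
  · rw [ht2] at h'; exact h'

/-- The content of row 1539. -/
theorem supports_facts (hG : IsMinSimpleOddOrder G) (hS : IsCoatom S) (hT : IsCoatom T)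
    (hnc : ∀ g : G, T.map (MulAut.conj g).toMonoidHom ≠ S) :
    (Supports' T S ↔ (typeA1 S ∩ typeA' T).Nonempty) ∧
      (∀ x ∈ typeA1 S ∩ typeA' T,
        ¬ Subgroup.centralizer ({x} : Set G) ≤ S ∧ Subgroup.centralizer ({x} : Set G) ≤ T) ∧
      ((∃ g : G, Supports' (T.map (MulAut.conj g).toMonoidHom) S) ↔
        (tildeOf S (typeA1 S) ∩ tildeOf T (typeA' T)).Nonempty) ∧
      (tildeOf S (typeA1 S) ∩ tildeOf T (typeA' T) = ∅ ∨
        tildeOf T (typeA1 T) ∩ tildeOf S (typeA' S) = ∅) := by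
  have hn : NotConj S T := fun g hg => hnc g⁻¹ (by rw [hg]; exact map_conj_inv g S)
  exact ⟨supports_iff B hG hS hT hn, fun x hx => centralizer_of_mem_inter B hG hS hT hn hx.1 hx.2,
    exists_supports_iff B hG hS hT hn, tilde_inter_eq_empty B hG hS hT hn⟩

end Cfsg.Agent.OddOrder.PF
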