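import Cfsg.Agent.Lib.OddOrder.PF.S14_Member
import Cfsg.Agent.Lib.OddOrder.PF.S13_SupportII
import Cfsg.Agent.Lib.OddOrder.PF.Supports
import Cfsg.Agent.Lib.OddOrder.SingerField

/-!
The support of a member of Type II of a pair, and the last step of Peterfalvi 14: from
`|U| = (p ^ q - 1) / (p - 1)` and a conjugate of `W₂` normalising `U` to the field configuration.
-/

set_option autoImplicit false
set_option linter.style.haveILetI false
set_option linter.unusedSectionVars false

namespace Cfsg.Agent.OddOrder.PF.S14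

open Cfsg Cfsg.Agent.OddOrder Cfsg.Agent

universe u
variable {G : Type u} [Group G] [Finite G]

/-- In a finite cyclic group two subgroups of the same order are equal. -/
theorem eq_of_card_eq_of_isCyclic {H A A' : Subgroup G} [IsCyclic H] (hA : A ≤ H) (hA' : A' ≤ H)
    (hc : Nat.card A' = Nat.card A) : A' = A := by
  classical
  haveI : Fintype H := Fintype.ofFinite H
  set n := Nat.card A with hn
  have hs : ∀ X : Subgroup G, X ≤ H → Nat.card X = n → ∀ x : H,
      x ∈ (Finset.univ.filter fun x : H => x ^ n = 1) ↔ (x : G) ∈ X := by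
    intro X hX hcX
    have hsub : (Finset.univ.filter fun x : H => (x : G) ∈ X) ⊆
        Finset.univ.filter fun x : H => x ^ n = 1 := fun x hx => by
      rw [Finset.mem_filter] at hx ⊢
      have e : (x : G) ^ Nat.card X = 1 :=
        congrArg (fun t : X => (t : G)) (pow_card_eq_one' (x := (⟨(x : G), hx.2⟩ : X)))
      refine ⟨hx.1, Subtype.ext ?_⟩
      rw [← hcX]
      exact e
    have hcard : (Finset.univ.filter fun x : H => (x : G) ∈ X).card = n := by
      rw [← hcX, ← Fintype.card_subtype, ← Nat.card_eq_fintype_card]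
      exact Nat.card_congr
        { toFun := fun x => ⟨x.1, x.2⟩
          invFun := fun x => ⟨⟨x, hX x.2⟩, x.2⟩
          left_inv := fun x => rfl
          right_inv := fun x => rfl }
    have he := Finset.eq_of_subset_of_card_le hsub
      (by rw [hcard]; exact IsCyclic.card_pow_eq_one_le (Nat.card_pos (α := A)))
    intro x
    rw [← he]
    simp
  refine le_antisymm (fun x hx => ?_) fun x hx => ?_
  · exact (hs A hA rfl ⟨x, hA' hx⟩).1 ((hs A' hA' hc ⟨x, hA' hx⟩).2 hx)
  · exact (hs A' hA' hc ⟨x, hA hx⟩).1 ((hs A hA rfl ⟨x, hA hx⟩).2 hx)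

namespace Member

variable {S W₁ U W₂ : Subgroup G} {p q : ℕ} (m : Member S W₁ U W₂ p q) (B : BGFacts G)
include m B

/-- A maximal subgroup of Type I is conjugate to no member. -/
theorem notConj_typeI {L : Subgroup G} (hI : IsOfTypeI' L) :
    (∀ g : G, L ≠ S.map (MulAut.conj g).toMonoidHom) ∧
      ∀ g : G, S ≠ L.map (MulAut.conj g).toMonoidHom := by
  have h1 : ∀ g : G, L ≠ S.map (MulAut.conj g).toMonoidHom := fun g h =>
    m.not_typeI ((typeI_map_iff B m.coatom g).1 (h ▸ hI))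
  refine ⟨h1, fun g h => h1 g⁻¹ ?_⟩
  rw [h, map_conj_inv]

/-- The kernel of a maximal subgroup of Type I misses the conjugates of the support of a member. -/
theorem disjoint_typeI_supp (hG : IsMinSimpleOddOrder G) {L : Subgroup G} (hL : IsCoatom L)
    (hI : IsOfTypeI' L) :
    Disjoint (tildeOf L ((fittingHallOf L : Set G) \ {1})) (conjSet m.supp) := by
  have hA : (fittingHallOf L : Set G) \ {1} ⊆ (sigmaCore L : Set G) \ {1} :=
    Set.sdiff_subset_sdiff_left fun _ hx => (B.s1355 L hL).2.1 hx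
  refine Disjoint.mono_right (m.conjSet_supp B) (Set.disjoint_union_right.2 ⟨?_, ?_⟩)
  · exact (disjoint_tilde B hL m.coatom (m.notConj_typeI B hI).2 hA
      (m.sdiff_subset_sigma B)).mono_right (conjSet_subset_tildeOf _ _)
  · exact (disjoint_V_tilde B hG m.coatom m.typeP m.not_typeI hL hA).symm

end Member

variable {S T W₁ W₂ U V : Subgroup G} {p q : ℕ}

/-- The support of a member of Type II of a pair (Peterfalvi 13.17, as used in 14). -/
theorem exists_supportData (hG : IsMinSimpleOddOrder G) (B : BGFacts G)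
    (hfrob : ∀ M : Subgroup G, IsCoatom M → IsOfTypeI' M → ∀ x ∈ fittingHallOf M, x ≠ 1 →
      M ⊓ Subgroup.centralizer ({x} : Set G) ≤ fittingHallOf M)
    (P : TypePair S T W₁ W₂ U V) (m : Member S W₁ U W₂ p q) (m' : Member T W₂ V W₁ q p)
    (hSII : IsOfTypeII S)
    (hN : Subgroup.normalizer (W₁ : Set G) = fittingHallOf T ⊔ W₂) :
    ∃ L : Subgroup G, IsCoatom L ∧ IsOfTypeI' L ∧
      (∀ x ∈ fittingHallOf L, x ≠ 1 → L ⊓ Subgroup.centralizer ({x} : Set G) ≤ fittingHallOf L) ∧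
      U ≤ fittingHallOf L ∧
      Disjoint (tildeOf L ((fittingHallOf L : Set G) \ {1})) (conjSet m.supp) ∧
      Disjoint (tildeOf L ((fittingHallOf L : Set G) \ {1})) (conjSet m'.supp) ∧
      (((fittingHall L).index = q ∧ L = fittingHallOf L ⊔ W₁) ∨
        ∃ y ∈ fittingHallOf T, (fittingHall L).index = p * q ∧
          W₂.map (MulAut.conj y).toMonoidHom ≤ L ∧
          fittingHallOf L ⊓ W₂.map (MulAut.conj y).toMonoidHom = ⊥) := by
  haveI := hG.2.1
  have htop : Subgroup.normalizer (U : Set G) ≠ ⊤ := fun h => by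
    haveI := Subgroup.normalizer_eq_top_iff.1 h
    rcases hG.2.1.eq_bot_or_eq_top_of_normal U inferInstance with h' | h'
    · exact m.U_ne h'
    · exact m.coatom.1 (top_le_iff.1 (h' ▸ m.U_le))
  obtain ⟨L, hL, hNU⟩ := (eq_top_or_exists_le_coatom _).resolve_left htop
  have hp : (Nat.card W₂).Prime := m.p_eq ▸ m.hp
  have hq : (Nat.card W₁).Prime := m.q_eq ▸ m.hq
  have hQ : IsElementaryAbelian (Nat.card W₁) (fittingHallOf T) := m.q_eq ▸ m'.elem
  have hI : IsOfTypeI' L := Dichotomy.isOfTypeI_of_kappa_empty B hL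
    (typeII_support B hG P hSII hL hNU hp hq).1
  obtain ⟨hFr, hUF, hcase⟩ := typeII_support_frobenius B hG P hSII hp hq hQ hN hfrob hL hNU
  refine ⟨L, hL, hI, hFr, hUF, m.disjoint_typeI_supp B hG hL hI, m'.disjoint_typeI_supp B hG hL hI,
    ?_⟩
  have hidx : ∀ C : Subgroup G, fittingHallOf L ⊓ C = ⊥ → fittingHallOf L ⊔ C = L →
      (fittingHall L).index = Nat.card C := by
    intro C h1 h2
    have hC : C ≤ L := le_sup_right.trans h2.le
    have hn : C ≤ Subgroup.normalizer (fittingHallOf L : Set G) :=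
      hC.trans (le_normalizer_map_subtype _)
    have h := Coprime.card_sup_of_le_normalizer hn ((inf_comm _ _).trans h1)
    rw [sup_comm, h2, card_fittingHallOf, ← (fittingHall L).card_mul_index,
      mul_comm (Nat.card C)] at h
    exact Nat.eq_of_mul_eq_mul_left Nat.card_pos h
  rcases hcase with ⟨h1, h2⟩ | ⟨y, hy, h1, h2⟩
  · exact Or.inl ⟨(hidx W₁ h1 h2).trans m.q_eq, h2.symm⟩
  · refine Or.inr ⟨y, hy, (hidx _ h1 h2).trans ?_, (le_sup_right.trans le_sup_right).trans h2.le,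
      le_bot_iff.1 (h1 ▸ inf_le_inf_left _ le_sup_right)⟩
    have hW₁y : W₁.map (MulAut.conj y).toMonoidHom = W₁ := by
      haveI := hQ.1
      have hc : ∀ a ∈ W₁, y * a * y⁻¹ = a := fun a ha => by
        have e := congrArg Subtype.val (mul_comm' (⟨y, hy⟩ : fittingHallOf T)
          ⟨a, (P.hTP.W₂_le.trans inf_le_left) ha⟩)
        exact mul_inv_eq_iff_eq_mul.2 e
      ext a
      constructor
      · rintro ⟨b, hb, rfl⟩
        show y * b * y⁻¹ ∈ W₁
        rw [hc b hb]
        exact hb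
      · exact fun ha => ⟨a, ha, hc a ha⟩
    conv_lhs => rw [← hW₁y]
    rw [← Subgroup.map_sup, Subgroup.card_map_of_injective (MulAut.conj y).injective]
    have hn : W₁ ≤ Subgroup.normalizer (W₂ : Set G) :=
      le_trans (fun a ha => Subgroup.mem_centralizer_iff.2 fun b hb =>
        (m.typeP.selfNormalizing.2.2.2.1 a ha b hb).symm) (Subgroup.centralizer_le_normalizer _)
    rw [Coprime.card_sup_of_le_normalizer hn m.typeP.selfNormalizing.2.2.1, m.q_eq, m.p_eq, mul_comm]

/-- A conjugate of `W₂` in a Frobenius `L` with cyclic kernel normalises `U` and `|U| ≡ 1 (mod p)`. -/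
theorem congr_one_and_normalizes {L U E : Subgroup G} {p : ℕ}
    (hfrob : ∀ x ∈ fittingHallOf L, x ≠ 1 →
      L ⊓ Subgroup.centralizer ({x} : Set G) ≤ fittingHallOf L)
    (hU : U ≤ fittingHallOf L) (hE : E ≤ L) (hdisj : fittingHallOf L ⊓ E = ⊥) (hp : Nat.card E = p)
    (hcyc : IsCyclic (fittingHallOf L)) :
    E ≤ Subgroup.normalizer (U : Set G) ∧ Nat.card U ≡ 1 [MOD p] := by
  have hn : E ≤ Subgroup.normalizer (U : Set G) := fun e he => by
    refine Subgroup.mem_normalizer_iff_map_conj_eq.2 (eq_of_card_eq_of_isCyclic hU ?_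
      (Subgroup.card_map_of_injective (MulAut.conj e).injective))
    rintro _ ⟨x, hx, rfl⟩
    exact conj_mem_map_subtype _ (hE he) (hU hx)
  refine ⟨hn, ?_⟩
  let θ : E →* MulAut U := U.normalizerMonoidHom.comp (Subgroup.inclusion hn)
  have h := Singer.card_dvd_pred θ fun e x hx hfix => by
    have h' : (e : G) * x * (e : G)⁻¹ = x := congrArg Subtype.val hfix
    have hmem : (e : G) ∈ fittingHallOf L := hfrob x (hU x.2) (fun h => hx (Subtype.ext h))
      ⟨hE e.2, Subgroup.mem_centralizer_singleton_iff.2 (mul_inv_eq_iff_eq_mul.1 h')⟩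
    have hb : (e : G) ∈ fittingHallOf L ⊓ E := ⟨hmem, e.2⟩
    rw [hdisj, Subgroup.mem_bot] at hb
    exact Subtype.ext hb
  rw [hp] at h
  exact ((Nat.modEq_iff_dvd' Nat.card_pos).2 h).symm

omit [Finite G] in
/-- When `U` is the whole kernel, every subgroup of `L` normalises it. -/
theorem normalizes_of_eq {L U E : Subgroup G} (hU : U = fittingHallOf L) (hE : E ≤ L) :
    E ≤ Subgroup.normalizer (U : Set G) :=
  hU ▸ hE.trans (le_normalizer_map_subtype _)

/-- The field configuration. -/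
theorem conclusion (_hG : IsMinSimpleOddOrder G) (_P : TypePair S T W₁ W₂ U V)
    (m : Member S W₁ U W₂ p q) (m' : Member T W₂ V W₁ q p) (hqp : q < p) {M : ℕ}
    (hM : (p - 1) * M = p ^ q - 1) (hu : Nat.card U = M) {y : G} (hy : y ∈ fittingHallOf T)
    (hNy : W₂.map (MulAut.conj y).toMonoidHom ≤ Subgroup.normalizer (U : Set G)) :
    (Nat.card W₁).Prime ∧ (Nat.card W₂).Prime ∧
      IsElementaryAbelian (Nat.card W₂) (fittingHallOf S) ∧
      Nat.card (fittingHallOf S) = Nat.card W₂ ^ Nat.card W₁ ∧ IsCyclic U ∧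
      Nat.card U * (Nat.card W₂ - 1) = Nat.card W₂ ^ Nat.card W₁ - 1 ∧
      (∀ u ∈ U, u ≠ 1 → ∀ x ∈ fittingHallOf S, u * x = x * u → x = 1) ∧
      Nat.Coprime ((Nat.card W₂ ^ Nat.card W₁ - 1) / (Nat.card W₂ - 1)) (Nat.card W₂ - 1) ∧
      U ≤ Subgroup.normalizer (fittingHallOf S : Set G) ∧
      (Nat.card (fittingHallOf T)).Coprime (Nat.card W₂) ∧
      IsElementaryAbelian (Nat.card W₁) (fittingHallOf T) ∧
      W₂ ≤ Subgroup.normalizer (fittingHallOf T : Set G) ∧
      ∃ y ∈ fittingHallOf T, W₂.map (MulAut.conj y).toMonoidHom ≤ Subgroup.normalizer (U : Set G) ∧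
        ∃ (F : Type) (_ : Field F) (_ : Fintype F) (f : G → F) (ψ : G → F),
          Fintype.card F = Nat.card W₂ ^ Nat.card W₁ ∧
          Set.BijOn f (fittingHallOf S : Set G) Set.univ ∧
          (∀ x ∈ fittingHallOf S, ∀ x' ∈ fittingHallOf S, f (x * x') = f x + f x') ∧
          (∀ u ∈ U, ψ u ≠ 0 ∧ ∀ x ∈ fittingHallOf S, f (u * x * u⁻¹) = ψ u * f x) ∧
          (∀ u ∈ U, ∀ u' ∈ U, ψ (u * u') = ψ u * ψ u') ∧ Set.InjOn ψ (U : Set G) ∧
          (∀ x ∈ fittingHallOf S, x ∈ W₂ ↔ f x ^ Nat.card W₂ = f x) := by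
  have hp := m.hp
  have hq := m.hq
  haveI := Fact.mk hp
  obtain ⟨hcyc, hfpf, -⟩ := (m.uAct.dichotomy hM).2.2 hu.dvd
  have hUc : Nat.card U * (p - 1) = p ^ q - 1 := by rw [hu, mul_comm, hM]
  obtain ⟨-, hF⟩ := Singer.exists_singer_field p q (fittingHallOf S) U W₂ m.elem m.card_P m.W₂_le
    m.p_eq (m.U_le.trans m.S_le_normalizer) m.U_comm hfpf hUc
  have hcop : M.Coprime (p - 1) := Nat.coprime_of_dvd fun d hd h1 h2 => by
    have hp1 : p ≡ 1 [MOD d] := ((Nat.modEq_iff_dvd' hp.one_lt.le).2 h2).symm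
    have hMq := geom_modEq_q hp.two_le hp1 hM
    have hdq : d = q := (Nat.prime_dvd_prime_iff_eq hd hq).1
      ((Nat.modEq_zero_iff_dvd).1 (hMq.symm.trans (Nat.modEq_zero_iff_dvd.2 h1)))
    subst hdq
    have hu1 : M ≡ 1 [MOD d] := hu ▸ m.uAct.card_U_modEq
    exact hq.ne_one (Nat.eq_one_of_dvd_one
      (Nat.modEq_zero_iff_dvd.1 (hu1.symm.trans (Nat.modEq_zero_iff_dvd.2 h1))))
  have hdiv : (p ^ q - 1) / (p - 1) = M := by
    rw [← hM, Nat.mul_div_cancel_left _ (by have := hp.two_le; omega)]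
  rw [m.q_eq, m.p_eq]
  refine ⟨hq, hp, m.elem, m.card_P, hcyc, hUc, hfpf, by rw [hdiv]; exact hcop,
    m.U_le.trans m.S_le_normalizer, ?_, m'.elem, m'.W₁_le.trans m'.S_le_normalizer, y, hy, hNy, hF⟩
  rw [m'.card_P]
  exact ((Nat.coprime_primes hq hp).2 hqp.ne).pow_left p

end Cfsg.Agent.OddOrder.PF.S14
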