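import Cfsg.Agent.Lib.OddOrder.PF.S14_Tilde
import Cfsg.Agent.Lib.OddOrder.PF.TypeOneCoherence
import Cfsg.Agent.Lib.OddOrder.DadeSeven
import Cfsg.Agent.Lib.Char.Linear

/-!
Induction through a TI-set: for `f` on `H ≤ S` whose induction to `S` lives on a Dade support with
trivial twisting groups, the inductions to `G` and to `S` have the same inner products and values.
-/

set_option autoImplicit false
set_option linter.style.haveILetI false
set_option linter.unusedSectionVars false

namespace Cfsg.Agent.OddOrder.PF.S14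

open Cfsg Cfsg.Agent.OddOrder Cfsg.Agent
open scoped ComplexConjugate

universe u
variable {G : Type u} [Group G]

/-- A function on `H` read on the copy of `H` inside `S`. -/
def subOf {H : Subgroup G} (S : Subgroup G) (f : ↥H → ℂ) : ↥(H.subgroupOf S) → ℂ :=
  fun x => f ⟨((x : S) : G), x.2⟩

/-- Induction from `H` to `S`. -/
noncomputable def indTo (S H : Subgroup G) [Fintype S] (f : ↥H → ℂ) : ↥S → ℂ :=
  indFun (H.subgroupOf S) (subOf S f)

theorem extendByZero_subOf {S H : Subgroup G} (f : ↥H → ℂ) (x : S) :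
    extendByZero (H.subgroupOf S) (subOf S f) x = extendByZero H f (x : G) := by
  by_cases hx : (x : G) ∈ H
  · rw [Char.extendByZero_of_mem _ _ hx,
      Char.extendByZero_of_mem _ _ (show x ∈ H.subgroupOf S from hx)]
    rfl
  · rw [Char.extendByZero_of_notMem _ _ hx,
      Char.extendByZero_of_notMem _ _ (show x ∉ H.subgroupOf S from hx)]

theorem extendByZero_conj_fun {H : Subgroup G} (f : ↥H → ℂ) (g : G) :
    conj (extendByZero H f g) = extendByZero H (fun h => conj (f h)) g := by
  by_cases hx : g ∈ H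
  · rw [Char.extendByZero_of_mem _ _ hx, Char.extendByZero_of_mem _ _ hx]
  · rw [Char.extendByZero_of_notMem _ _ hx, Char.extendByZero_of_notMem _ _ hx, map_zero]

variable {S H : Subgroup G} [Fintype S]

theorem card_subgroupOf_eq (hHS : H ≤ S) : Nat.card ↥(H.subgroupOf S) = Nat.card H :=
  Nat.card_congr (Subgroup.subgroupOfEquivOfLe hHS).toEquiv

theorem indTo_apply (hHS : H ≤ S) (f : ↥H → ℂ) (g : S) :
    indTo S H f g = (Nat.card H : ℂ)⁻¹ * ∑ s : S, extendByZero H f ((s : G)⁻¹ * g * s) := by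
  rw [indTo, indFun, card_subgroupOf_eq hHS]
  congr 1
  exact Finset.sum_congr rfl fun s _ => by rw [extendByZero_subOf]; rfl

theorem isClassFunction_indTo (f : ↥H → ℂ) : IsClassFunction S (indTo S H f) :=
  Char.isClassFunction_indFun _ _

theorem indTo_sub (f f' : ↥H → ℂ) : indTo S H (f - f') = indTo S H f - indTo S H f' := by
  rw [indTo, indTo, indTo, ← Char.indFun_sub]; rfl

theorem indTo_conj (f : ↥H → ℂ) :
    conjFun (indTo S H f) = indTo S H (fun h => conj (f h)) :=
  Char.conj_indFun _ _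

theorem indTo_apply_one (hHS : H ≤ S) (f : ↥H → ℂ) :
    indTo S H f 1 = (H.relIndex S : ℂ) * f 1 := by
  rw [indTo, Char.indFun_apply_one]; rfl

theorem isGeneralized_indTo {f : ↥H → ℂ} (hHS : H ≤ S) (hf : IsGeneralizedCharacter H f) :
    IsGeneralizedCharacter S (indTo S H f) :=
  Char.isGeneralizedCharacter_indFun _
    (Char.IsGeneralizedCharacter.comp hf (Subgroup.subgroupOfEquivOfLe hHS).toMonoidHom)

/-- `indTo` vanishes at elements without a conjugate where `f` is non-zero. -/
theorem indTo_eq_zero (hHS : H ≤ S) (f : ↥H → ℂ) (g : S)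
    (h : ∀ s : S, ∀ hs : (s : G)⁻¹ * g * s ∈ H, f ⟨_, hs⟩ = 0) : indTo S H f g = 0 := by
  rw [indTo_apply hHS, Finset.sum_eq_zero, mul_zero]
  intro s _
  by_cases hs : (s : G)⁻¹ * g * s ∈ H
  · rw [Char.extendByZero_of_mem _ _ hs, h s hs]
  · exact Char.extendByZero_of_notMem _ _ hs

variable [Fintype G]

/-- Transitivity of induction. -/
theorem indFun_indTo (hHS : H ≤ S) (f : ↥H → ℂ) : indFun S (indTo S H f) = indFun H f := by
  classical
  funext g
  have hS : (Nat.card S : ℂ) ≠ 0 := Nat.cast_ne_zero.2 Nat.card_pos.ne'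
  have key : ∀ y : G, extendByZero S (indTo S H f) (y⁻¹ * g * y) =
      (Nat.card H : ℂ)⁻¹ * ∑ s : S, extendByZero H f ((y * s)⁻¹ * g * (y * s)) := by
    intro y
    by_cases hy : y⁻¹ * g * y ∈ S
    · rw [Char.extendByZero_of_mem _ _ hy, indTo_apply hHS]
      congr 1
      exact Finset.sum_congr rfl fun s _ => congrArg _ (by simp; group)
    · rw [Char.extendByZero_of_notMem _ _ hy, Finset.sum_eq_zero, mul_zero]
      intro s _
      refine Char.extendByZero_of_notMem _ _ fun h => hy ?_
      have := S.mul_mem (S.mul_mem s.2 (hHS h)) (S.inv_mem s.2)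
      simpa [mul_assoc] using this
  simp only [indFun, key, ← Finset.mul_sum]
  have e : ∀ s : S, ∑ y : G, extendByZero H f ((y * s)⁻¹ * g * (y * s)) =
      ∑ y : G, extendByZero H f (y⁻¹ * g * y) := fun s =>
    Equiv.sum_comp (Equiv.mulRight (s : G)) fun y => extendByZero H f (y⁻¹ * g * y)
  rw [Finset.sum_comm, Finset.sum_congr rfl fun s _ => e s]
  rw [Finset.sum_const, Finset.card_univ, nsmul_eq_mul, ← Nat.card_eq_fintype_card]
  field_simp

variable {X : Set G} (hD : DadeHypothesis X S (fun _ => ⊥))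
include hD

theorem indFun_eq_dade (hHS : H ≤ S) (f : ↥H → ℂ)
    (hv : ∀ x : S, (x : G) ∉ X → indTo S H f x = 0) :
    indFun H f = dadeIsometry X S (fun _ => ⊥) (indTo S H f) := by
  rw [dadeIsometry_eq_indFun hD (fun _ _ => rfl) (isClassFunction_indTo f) hv, indFun_indTo hHS]

theorem indFun_apply_of_mem (hHS : H ≤ S) (f : ↥H → ℂ)
    (hv : ∀ x : S, (x : G) ∉ X → indTo S H f x = 0) {x : S} (hx : (x : G) ∈ X) :
    indFun H f x = indTo S H f x := by
  rw [indFun_eq_dade hD hHS f hv]
  exact dadeIsometry_apply hD (isClassFunction_indTo f) hx (x := 1) (one_mem _) (by simp)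

theorem indFun_eq_zero_of_notMem (hHS : H ≤ S) (f : ↥H → ℂ)
    (hv : ∀ x : S, (x : G) ∉ X → indTo S H f x = 0) {g : G} (hg : g ∉ conjSet X) :
    indFun H f g = 0 := by
  rw [indFun_eq_dade hD hHS f hv]
  refine dadeIsometry_eq_zero (fun h => hg ?_) _
  rw [← dadeUnion_bot_eq]
  exact h

theorem classInner_indFun_ti {H' : Subgroup G} (hHS : H ≤ S) (hHS' : H' ≤ S) (f : ↥H → ℂ)
    (f' : ↥H' → ℂ) (hv : ∀ x : S, (x : G) ∉ X → indTo S H f x = 0)
    (hv' : ∀ x : S, (x : G) ∉ X → indTo S H' f' x = 0) :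
    classInner (indFun H f) (indFun H' f') = classInner (indTo S H f) (indTo S H' f') := by
  rw [indFun_eq_dade hD hHS f hv, indFun_eq_dade hD hHS' f' hv']
  exact PF.classInner_dade_dade hD (isClassFunction_indTo f) hv (isClassFunction_indTo f')

end Cfsg.Agent.OddOrder.PF.S14
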