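import Cfsg.Agent.Lib.OddOrder.PF.S14_Cases
import Cfsg.Agent.Lib.OddOrder.PF.S14_Cover
import Cfsg.Agent.Lib.OddOrder.PF.S14_Finish
import Cfsg.Agent.Lib.OddOrder.PF.S13_SupportII
import Cfsg.Agent.Lib.OddOrder.PF.S13_Count
import Cfsg.Agent.Lib.OddOrder.PF.S12_Frobenius
import Cfsg.Agent.Lib.OddOrder.PF.S11_Type
import Cfsg.Agent.Lib.OddOrder.PF.S10_NoTypeV

/-!
Peterfalvi 14: the final configuration of the odd order theorem, from `BGFacts`.
-/

set_option autoImplicit false
set_option linter.style.haveILetI false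
set_option linter.unusedSectionVars false

namespace Cfsg.Agent.OddOrder.PF.S14

open Cfsg Cfsg.Agent.OddOrder Cfsg.Agent
open scoped ComplexConjugate

universe u

variable {G : Type u} [Group G] [Fintype G]

/-- A bridge for `T`. -/
theorem exists_companion (hG : IsMinSimpleOddOrder G) (B : BGFacts G)
    (hfrob : ∀ M : Subgroup G, IsCoatom M → IsOfTypeI' M → ∀ x ∈ fittingHallOf M, x ≠ 1 →
      M ⊓ Subgroup.centralizer ({x} : Set G) ≤ fittingHallOf M)
    {S T W₁ W₂ U V : Subgroup G} {p q : ℕ} (P : TypePair S T W₁ W₂ U V)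
    (m : Member S W₁ U W₂ p q) (m' : Member T W₂ V W₁ q p)
    (hT : IsOfTypeII T ∨ IsOfTypeIII T)
    (hN : Subgroup.normalizer (W₂ : Set G) = fittingHallOf S ⊔ W₁)
    {L : Subgroup G} (hL : IsCoatom L) (hI : IsOfTypeI' L) :
    ∃ (κ : Type u) (_ : Fintype κ) (f : κ → G → ℂ) (st : κ → κ) (Y : Set G) (w : κ → ℕ) (z : κ)
      (β : G → ℂ) (e : ℕ), Companion f st Y w z β e (p * q) (Nat.card V) (conjSet m.supp)
        (↑(dadeUnion ((fittingHallOf L : Set G) \ {1}) (supportR L)) : Set G)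
        (∃ g : G, V.map (MulAut.conj g).toMonoidHom ≤ fittingHallOf L) := by
  classical
  have hLσ : (fittingHallOf L : Set G) \ {1} ⊆ (sigmaCore L : Set G) \ {1} := by
    rw [sigmaCore_eq_fittingHallOf_of_typeI B hL hI]
  rcases hT with hII | hIII
  · obtain ⟨X, hX, hXI, hXF, hVX, hdT, hdS, hidx⟩ :=
      exists_supportData hG B hfrob P.swap m' m hII hN
    haveI : Fintype X := Fintype.ofFinite _
    obtain ⟨τ₁, ζ, hS, hirr, hbig⟩ := typeI_cohSetting hG B hX hXI hXF
    obtain ⟨κ, hκ, f, st, w, z, hB, -, -, -, hsum⟩ := bridge_of_cohSetting hS hG.1 hirr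
    have he : (fittingHall X).index ≤ p * q := by
      rcases hidx with ⟨h, -⟩ | ⟨y, -, h, -⟩
      · rw [h]; exact Nat.le_mul_of_pos_right p m.hq.pos
      · rw [h, mul_comm]
    rw [card_fittingHallOf] at hbig
    have hN2 : 2 ≤ ∑ i, w i ^ 2 := by
      by_contra hlt
      have h1 := Nat.mul_le_mul_right (fittingHall X).index (show ∑ i, w i ^ 2 ≤ 1 by omega)
      rw [hsum, one_mul] at h1
      have : 0 < (fittingHall X).index := Nat.pos_of_ne_zero Subgroup.index_ne_zero_of_finite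
      omega
    refine ⟨κ, hκ, f, st, _, w, z, _, _,
      { bridge := hB, e_le := he, two_le := hN2, v_le := ?_, disjoint := ?_, cases := ?_ }⟩
    · have h1 := Subgroup.card_le_of_le hVX
      rw [card_fittingHallOf] at h1
      rw [mul_comm, hsum]
      omega
    · rw [dadeUnion_supportR_eq]; exact hdS
    · by_cases hc : ∃ g : G, X = L.map (MulAut.conj g).toMonoidHom
      · obtain ⟨g, hg⟩ := hc
        refine Or.inr ⟨g⁻¹, ?_⟩
        rw [hg, ← fittingHallOf_map] at hVX
        exact (Subgroup.map_mono hVX).trans_eq (map_conj_inv g _)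
      · refine Or.inl ?_
        rw [dadeUnion_supportR_eq, dadeUnion_supportR_eq]
        refine disjoint_tilde B hL hX (fun g hg => hc ⟨g, hg⟩) hLσ ?_
        rw [sigmaCore_eq_fittingHallOf_of_typeI B hX hXI]
  · obtain ⟨κ, hκ, f, st, w, z, β, hB, -, hsum, hσ, hdV⟩ := typeIII_bridge hG B m' hIII
    have hA : (↑(⁅T, T⁆ : Subgroup G) : Set G) \ {1} ⊆ (sigmaCore T : Set G) \ {1} :=
      Set.sdiff_subset_sdiff_left hσ
    have hv : Nat.card V = p * (∑ i, w i ^ 2) + 1 := by
      have := Nat.card_pos (α := V)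
      rw [mul_comm, hsum]
      omega
    refine ⟨κ, hκ, f, st, _, w, z, β, p,
      { bridge := hB, e_le := Nat.le_mul_of_pos_right p m.hq.pos, two_le := ?_, v_le := hv.le,
        disjoint := ?_, cases := Or.inl ?_ }⟩
    · by_contra hlt
      have hvo : Odd (Nat.card V) := m.odd.of_dvd_nat V.card_subgroup_dvd_card
      have hv1 := m'.uAct.one_lt_card_U
      rcases (show (∑ i, w i ^ 2) = 0 ∨ (∑ i, w i ^ 2) = 1 by omega) with h | h
      · rw [h, mul_zero] at hv; omega
      · rw [hv, h, mul_one] at hvo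
        exact (Nat.not_even_iff_odd.2 hvo) (m.p_odd.add_one)
    · refine Disjoint.mono_right (m.conjSet_supp B) (Disjoint.union_right ?_ ?_)
      · exact (disjoint_tilde B P.hS P.hT (P.notConj B) (m.sdiff_subset_sigma B) hA).symm.mono
          (conjSet_subset_tildeOf _ _) (conjSet_subset_tildeOf _ _)
      · rw [setV_symm]; exact hdV
    · rw [dadeUnion_supportR_eq]
      exact (disjoint_tilde B hL P.hT (m'.notConj_typeI B hI).2 hLσ hA).mono_right
        (conjSet_subset_tildeOf _ _)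

/-- Peterfalvi (14): the final configuration. -/
theorem finalConfiguration (hG : IsMinSimpleOddOrder G) (B : BGFacts G)
    {S T W₁ W₂ U V : Subgroup G} (P : TypePair S T W₁ W₂ U V)
    (hqp : Nat.card W₁ < Nat.card W₂) :
    (Nat.card W₁).Prime ∧ (Nat.card W₂).Prime ∧
      IsElementaryAbelian (Nat.card W₂) (fittingHallOf S) ∧
      Nat.card (fittingHallOf S) = Nat.card W₂ ^ Nat.card W₁ ∧ IsCyclic U ∧
      Nat.card U * (Nat.card W₂ - 1) = Nat.card W₂ ^ Nat.card W₁ - 1 ∧
      (∀ u ∈ U, u ≠ 1 → ∀ x ∈ fittingHallOf S, u * x = x * u → x = 1) ∧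
      Nat.Coprime ((Nat.card W₂ ^ Nat.card W₁ - 1) / (Nat.card W₂ - 1)) (Nat.card W₂ - 1) ∧
      U ≤ Subgroup.normalizer (fittingHallOf S : Set G) ∧
      (Nat.card (fittingHallOf T)).Coprime (Nat.card W₂) ∧
      IsElementaryAbelian (Nat.card W₁) (fittingHallOf T) ∧
      W₂ ≤ Subgroup.normalizer (fittingHallOf T : Set G) ∧
      ∃ y ∈ fittingHallOf T,
        W₂.map (MulAut.conj y).toMonoidHom ≤ Subgroup.normalizer (U : Set G) ∧
        ∃ (F : Type) (_ : Field F) (_ : Fintype F) (f : G → F) (ψ : G → F),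
          Fintype.card F = Nat.card W₂ ^ Nat.card W₁ ∧
          Set.BijOn f (fittingHallOf S : Set G) Set.univ ∧
          (∀ x ∈ fittingHallOf S, ∀ x' ∈ fittingHallOf S, f (x * x') = f x + f x') ∧
          (∀ u ∈ U, ψ u ≠ 0 ∧ ∀ x ∈ fittingHallOf S, f (u * x * u⁻¹) = ψ u * f x) ∧
          (∀ u ∈ U, ∀ u' ∈ U, ψ (u * u') = ψ u * ψ u') ∧ Set.InjOn ψ (U : Set G) ∧
          (∀ x ∈ fittingHallOf S, x ∈ W₂ ↔ f x ^ Nat.card W₂ = f x) := by
  classical
  -- the inputs
  have hV := noTypeV hG B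
  have hPP := pairPrimes hG B
  have h3 := typeIIIOnly hG B (noCoherence345 hG B) hPP
  have hK := typeIIIKernel hG B (noCoherence345 hG B) hPP
  have hC := typeIIKernel hG B hV hPP h3 hK
  have hPK := pairKernel hG B hV hPP h3 hK
  have hfrob := typeI_frobenius hG B hPK
  have h47 : ∀ S T W₁ W₂ U V : Subgroup G, TypePair S T W₁ W₂ U V →
      U ⊓ Subgroup.centralizer (fittingHallOf S : Set G) = ⊥ := fun _ _ _ _ _ _ P =>
    pairC_eq_bot B hV h3 hK hC P
  have m := member_of_pair hG B hPP hPK h3 hV h47 P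
  have m' := member_of_pair hG B hPP hPK h3 hV h47 P.swap
  have hSII := (structure_of_pair hG B hV hPP h3 hK P).2.1 hqp
  have hN₁ : Subgroup.normalizer (W₁ : Set G) = fittingHallOf T ⊔ W₂ :=
    (normalizer_W₁_of_pair hG B hV hPP h3 hK hC P).1.trans
      (normalizer_W₁_of_pair hG B hV hPP h3 hK hC P).2
  have hN₂ : Subgroup.normalizer (W₂ : Set G) = fittingHallOf S ⊔ W₁ :=
    (normalizer_W₁_of_pair hG B hV hPP h3 hK hC P.swap).1.trans
      (normalizer_W₁_of_pair hG B hV hPP h3 hK hC P.swap).2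
  set p := Nat.card W₂
  set q := Nat.card W₁
  obtain ⟨η, hη⟩ := exists_isCyclicTIFamily m.hW m.hodd
  haveI := (ann_facts m.hW).1
  haveI : Fintype (Ann W₁ W₂ W₁) := Fintype.ofFinite _
  haveI : Fintype (Ann W₁ W₂ W₂) := Fintype.ofFinite _
  obtain ⟨M, hM⟩ : ∃ M, (p - 1) * M = p ^ q - 1 :=
    ⟨∑ i ∈ Finset.range q, p ^ i, by rw [mul_comm, geom_sum_mul_of_one_le m.hp.one_lt.le]⟩
  -- the maximal subgroup over `N(U)`
  obtain ⟨L, hL, hI, hFr, hUH, hdS, hdT, hcases⟩ := exists_supportData hG B hfrob P m m' hSII hN₁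
  haveI : Fintype L := Fintype.ofFinite _
  obtain ⟨τ₁, ζ, hS, hirr, hbig⟩ := typeI_cohSetting hG B hL hI hFr
  obtain ⟨ι, _, f, st, w, z, hB, hfz, -, hsurj, hsum⟩ := bridge_of_cohSetting hS hG.1 hirr
  rw [← dadeUnion_supportR_eq] at hdS hdT
  rw [← card_fittingHallOf] at hsum
  have hh0 := Nat.card_pos (α := fittingHallOf L)
  have hN2 : 2 ≤ ∑ i, w i ^ 2 := by
    by_contra hlt
    have h1 := Nat.mul_le_mul_right (fittingHall L).index (show ∑ i, w i ^ 2 ≤ 1 by omega)
    rw [hsum, one_mul] at h1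
    have : 0 < (fittingHall L).index := Nat.pos_of_ne_zero Subgroup.index_ne_zero_of_finite
    omega
  have hLn : L ≤ Subgroup.normalizer (fittingHallOf L : Set G) := le_normalizer_map_subtype _
  rcases hcases with ⟨hidx, hsup⟩ | ⟨y, hy, hidx, hyL, hyH⟩
  · -- the complement is `W₁`
    exfalso
    rw [hidx] at hB hsum
    obtain ⟨d, d', hrow, hcol, hdeven, -, -⟩ := m.exists_coeffs m' B hη hB hdS hdT
    have hd := even_of_bessel_small hqp (m.bessel_eta B hη hB hdS hrow hcol hN2).1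
    have hle := hdeven hd
    rw [mul_comm, hsum] at hle
    have hUeq : U = fittingHallOf L := Subgroup.eq_of_le_of_card_ge hUH (by omega)
    have hLS : L ≤ S := by rw [hsup, ← hUeq]; exact sup_le m.U_le m.W₁_le
    rcases hL.le_iff.1 hLS with h | h
    · exact m.coatom.1 h
    · exact m.not_typeI (h ▸ hI)
  rw [hidx] at hB hsum
  have hE : Nat.card (W₂.map (MulAut.conj y).toMonoidHom : Subgroup G) = p :=
    Subgroup.card_map_of_injective (MulAut.conj y).injective
  obtain ⟨κ, _, f', st', Y', w', z', β', e', hCo⟩ :=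
    exists_companion hG B hfrob P m m' (structure_of_pair hG B hV hPP h3 hK P.swap).1 hN₂ hL hI
  obtain ⟨hu, hcase⟩ := m.full_and_cases m' B hG hη hqp hUH hS hB hfz hsurj hidx
    (card_fittingHallOf L).symm (by rw [mul_comm (p * q), hsum]; omega) hN2 hdS hdT (P.notConj B) hCo hM
    fun hc => (congr_one_and_normalizes hFr hUH hyL hyH hE hc).2
  refine conclusion hG P m m' hqp hM hu hy ?_
  rcases hcase with e | hc
  · exact e ▸ hyL.trans hLn
  · exact (congr_one_and_normalizes hFr hUH hyL hyH hE hc).1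

end Cfsg.Agent.OddOrder.PF.S14
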