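import Cfsg.Agent.Lib.OddOrder.PF.S14_MemberChar

/-!
The bridge of a member `S` of a pair (Peterfalvi 14): `β = Ind (1 - χ ψ₀)` from `P W₁`, against the
row `η ψ`, `ψ ≠ 1`, of the cyclic family; and the differences of columns as inductions from `P`.
-/

set_option autoImplicit false
set_option linter.style.haveILetI false
set_option linter.unusedSectionVars false

namespace Cfsg.Agent.OddOrder.PF.S14

open Cfsg Cfsg.Agent.OddOrder Cfsg.Agent
open scoped ComplexConjugate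

universe u

variable {G : Type u} [Group G] [Fintype G]

/-- The non-trivial members of `Ann`. -/
abbrev Row (W₁ W₂ : Subgroup G) : Type u := {ψ : Ann W₁ W₂ W₁ // ψ ≠ annOne W₁ W₂ W₁}

omit [Fintype G] in
theorem annOne_mul {W₁ W₂ X : Subgroup G} (ω : ↥(W₁ ⊔ W₂) →* ℂˣ) :
    (annOne W₁ W₂ X).1 * ω = ω := MonoidHom.ext fun w => one_mul (ω w)

namespace Member

variable {S W₁ U W₂ : Subgroup G} {p q : ℕ} (m : Member S W₁ U W₂ p q)
include m

theorem hW : IsSelfNormalizingCyclic W₁ W₂ := m.typeP.selfNormalizing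

theorem hodd : Odd (Nat.card ↥(W₁ ⊔ W₂)) := m.odd.of_dvd_nat (W₁ ⊔ W₂).card_subgroup_dvd_card

theorem lamP_mul_ann (φ : Ann W₁ W₂ W₂) (ψ : Ann W₁ W₂ W₁) :
    m.lamP (φ.1 * ψ.1) = m.lamP ψ.1 := by
  rw [m.lamP_mul, m.lamP_ann]; exact MonoidHom.ext fun _ => one_mul _

theorem agree (φ : Ann W₁ W₂ W₂) (ψ ψ' : Ann W₁ W₂ W₁) (w : ↥(W₁ ⊔ W₂)) (hw : (w : G) ∈ W₁) :
    (φ.1 * ψ.1) w = (φ.1 * ψ'.1) w := by
  rw [MonoidHom.mul_apply, MonoidHom.mul_apply, ψ.2 w hw, ψ'.2 w hw]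

theorem agree_one (ψ : Ann W₁ W₂ W₁) (w : ↥(W₁ ⊔ W₂)) (hw : (w : G) ∈ W₁) :
    (1 : ↥(W₁ ⊔ W₂) →* ℂˣ) w = ψ.1 w := (ψ.2 w hw).symm

variable {η : (↥(W₁ ⊔ W₂) →* ℂˣ) → (G → ℂ)}

theorem gen_K (ω ω' : ↥(W₁ ⊔ W₂) →* ℂˣ) :
    IsGeneralizedCharacter G (indFun (fittingHallOf S ⊔ W₁) (homC (m.chi ω) - homC (m.chi ω'))) :=
  Char.isGeneralizedCharacter_indFun _
    (Char.IsGeneralizedCharacter.sub (isGeneralized_homC _) (isGeneralized_homC _))

/-- The difference of two members of a row, as an induced function. -/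
theorem indK_sub_eq (B : BGFacts G) (hη : IsCyclicTIFamily W₁ W₂ η) (φ : Ann W₁ W₂ W₂)
    {ψ ψ' : Ann W₁ W₂ W₁} (hψ : ψ ≠ annOne W₁ W₂ W₁) (hψ' : ψ' ≠ annOne W₁ W₂ W₁) :
    indFun (fittingHallOf S ⊔ W₁) (homC (m.chi (φ.1 * ψ.1)) - homC (m.chi (φ.1 * ψ'.1))) =
      η (φ.1 * ψ.1) - η (φ.1 * ψ'.1) := by
  classical
  haveI : Fintype S := Fintype.ofFinite _
  haveI : Fintype U := Fintype.ofFinite _
  rcases eq_or_ne ψ ψ' with rfl | hne
  · rw [sub_self, sub_self, Char.indFun_zero]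
  have hD := m.dade_supp B
  have h12 : φ.1 * ψ.1 ≠ φ.1 * ψ'.1 := fun e => hne (mul_inj m.hW e).2
  have hl : m.lamP (φ.1 * ψ.1) ≠ 1 := by
    rw [m.lamP_mul_ann]; exact fun h => hψ ((m.lamP_eq_one_iff ψ).1 h)
  have hl' : m.lamP (φ.1 * ψ'.1) ≠ 1 := by
    rw [m.lamP_mul_ann]; exact fun h => hψ' ((m.lamP_eq_one_iff ψ').1 h)
  have hv : ∀ x : S, (x : G) ∉ m.supp → indTo S (fittingHallOf S ⊔ W₁)
      (homC (m.chi (φ.1 * ψ.1)) - homC (m.chi (φ.1 * ψ'.1))) x = 0 :=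
    fun x hx => m.vanish_K (m.agree φ ψ ψ') hx
  have h := eq_eta_sub m.hW m.hodd hη (m.gen_K (φ.1 * ψ.1) (φ.1 * ψ'.1)) ?_ (δ := 1) (Or.inl rfl)
    h12 (m.agree φ ψ ψ') fun w h1 h2 => ?_
  · rw [h]; simp
  · rw [classInner_indFun_ti hD m.K_le m.K_le _ _ hv hv, indTo_sub, Char.classInner_sub_left,
      Char.classInner_sub_right, Char.classInner_sub_right, m.ip_K_eq (Or.inl hl),
      m.ip_K_eq (Or.inl hl), m.ip_K_eq (Or.inl hl'), m.ip_K_eq (Or.inl hl')]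
    simp [h12, h12.symm]
    norm_num
  · have hwS : (w : G) ∈ S := m.K_le (m.W_le w.2)
    have hws : ((⟨w, hwS⟩ : ↥S) : G) ∈ m.supp :=
      Or.inr ⟨1, one_mem _, w, w.2, h1, h2, by simp⟩
    rw [indFun_apply_of_mem hD m.K_le _ hv (x := ⟨w, hwS⟩) hws, indTo_sub, Pi.sub_apply,
      m.indTo_K_apply, m.indTo_K_apply, Int.cast_one, one_mul]
    have hwP : (w : G) ∉ fittingHallOf S := fun h => h2 (m.W_inf_P w.2 h)
    have key : ∀ ω : ↥(W₁ ⊔ W₂) →* ℂˣ, ∑ u : U, extendByZero (fittingHallOf S ⊔ W₁)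
        (homC (m.chi ω)) ((u : G)⁻¹ * (w : G) * u) = (ω w : ℂ) := by
      intro ω
      rw [Finset.sum_eq_single (1 : U) (fun u _ hu => ?_) fun h => absurd (Finset.mem_univ _) h]
      · simp only [Subgroup.coe_one, inv_one, one_mul, mul_one]
        rw [Char.extendByZero_of_mem _ _ (m.W_le w.2), homC_apply,
          m.chi_of_mem ω (k := ⟨w, m.W_le w.2⟩) w.2]
      · refine Char.extendByZero_of_notMem _ _ fun h => hu (Subtype.ext ?_)
        exact (m.mem_P_or_eq_one u.2 (m.W_le w.2) h).resolve_left hwP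
    rw [key, key]

/-- The difference of two columns, as induced from `P`. -/
theorem indP_sub_eq (B : BGFacts G) (hη : IsCyclicTIFamily W₁ W₂ η) [Fintype (Ann W₁ W₂ W₂)]
    {ψ ψ' : Ann W₁ W₂ W₁} (hψ : ψ ≠ annOne W₁ W₂ W₁) (hψ' : ψ' ≠ annOne W₁ W₂ W₁) :
    indFun (fittingHallOf S) (homC (m.lamP ψ.1) - homC (m.lamP ψ'.1)) =
      etaCol η ψ - etaCol η ψ' := by
  rw [Char.indFun_sub, ← m.indFun_sum_chi ψ, ← m.indFun_sum_chi ψ', Char.indFun_sum,
    Char.indFun_sum, ← Finset.sum_sub_distrib, etaCol, etaCol, ← Finset.sum_sub_distrib]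
  refine Finset.sum_congr rfl fun φ _ => ?_
  rw [← Char.indFun_sub]
  exact m.indK_sub_eq B hη φ hψ hψ'

/-- The function `β` of `S`. -/
noncomputable def betaFun (ψ₀ : Ann W₁ W₂ W₁) : G → ℂ :=
  indFun (fittingHallOf S ⊔ W₁) (homC (m.chi 1) - homC (m.chi ψ₀.1))

theorem conj_ind_sub {H : Subgroup G} (a b : ↥H →* ℂˣ) :
    conjFun (indFun H (homC a - homC b)) = indFun H (homC a⁻¹ - homC b⁻¹) := by
  funext g
  have h := congrFun (Char.conj_indFun H (homC a - homC b)) g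
  simp only [conjFun] at h ⊢
  rw [h]
  exact congrFun (congrArg (indFun H) (funext fun x => by
    simp [conj_homC])) g

theorem st_ne {ψ : Ann W₁ W₂ W₁} (hψ : ψ ≠ annOne W₁ W₂ W₁) : annInv ψ ≠ annOne W₁ W₂ W₁ := by
  obtain ⟨hi, h1, -⟩ := annInv_spec (W₁ := W₁) (W₂ := W₂) m.hodd (U := W₁)
  exact fun e => hψ (by rw [← hi ψ, e, h1])

/-- The conjugation on the row. -/
def rowInv (ψ : Row W₁ W₂) : Row W₁ W₂ := ⟨annInv ψ.1, m.st_ne ψ.2⟩

theorem rowFamily (B : BGFacts G) (hη : IsCyclicTIFamily W₁ W₂ η) :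
    ConjFamily (fun ψ : Row W₁ W₂ => η ψ.1.1) m.rowInv (conjSet m.supp) where
  signed ψ := hη.irr_or_neg _
  orth ψ ψ' h := by
    rw [hη.orthonormal, if_neg fun e => h (Subtype.ext (Subtype.ext e))]
  st_st ψ := Subtype.ext ((annInv_spec m.hodd).1 ψ.1)
  st_ne ψ h := ψ.2 ((annInv_spec m.hodd).2.2 ψ.1 (congrArg Subtype.val h))
  conj_eq ψ := conj_eta m.hW m.hodd hη ψ.1.1
  supp ψ g hg := by
    haveI : Fintype S := Fintype.ofFinite _
    have h := m.indK_sub_eq B hη (annOne W₁ W₂ W₂) ψ.2 (m.rowInv ψ).2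
    have h0 := indFun_eq_zero_of_notMem (m.dade_supp B) m.K_le _
      (fun x hx => m.vanish_K (m.agree (annOne W₁ W₂ W₂) ψ.1 (m.rowInv ψ).1) hx) hg
    rw [h] at h0
    simpa only [annOne_mul, Pi.sub_apply] using h0

theorem q_dvd : q ∣ Nat.card U - 1 :=
  (Nat.modEq_iff_dvd' Nat.card_pos).1 m.uAct.card_U_modEq.symm

/-- The bridge of a member. -/
theorem bridge (B : BGFacts G) (hη : IsCyclicTIFamily W₁ W₂ η) [Fintype (Row W₁ W₂)]
    (z : Row W₁ W₂) :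
    Bridge (fun ψ : Row W₁ W₂ => η ψ.1.1) m.rowInv (conjSet m.supp) (fun _ => 1) z
      (m.betaFun z.1) ((Nat.card U - 1) / q + 1) := by
  classical
  haveI : Fintype S := Fintype.ofFinite _
  have hD := m.dade_supp B
  have hv : ∀ x : S, (x : G) ∉ m.supp →
      indTo S (fittingHallOf S ⊔ W₁) (homC (m.chi 1) - homC (m.chi z.1.1)) x = 0 :=
    fun x hx => m.vanish_K (m.agree_one z.1) hx
  have hl : ∀ ψ : Row W₁ W₂, m.lamP ψ.1.1 ≠ 1 := fun ψ h => ψ.2 ((m.lamP_eq_one_iff _).1 h)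
  have hne : ∀ ψ : Row W₁ W₂, (1 : ↥(W₁ ⊔ W₂) →* ℂˣ) ≠ ψ.1.1 := fun ψ h => hl ψ (by
    rw [← h, m.lamP_one])
  have hrow : ∀ ψ ψ' : Row W₁ W₂, indFun (fittingHallOf S ⊔ W₁)
      (homC (m.chi ψ.1.1) - homC (m.chi ψ'.1.1)) = η ψ.1.1 - η ψ'.1.1 := fun ψ ψ' => by
    simpa only [annOne_mul] using m.indK_sub_eq B hη (annOne W₁ W₂ W₂) ψ.2 ψ'.2
  have hvr : ∀ ψ ψ' : Row W₁ W₂, ∀ x : S, (x : G) ∉ m.supp →
      indTo S (fittingHallOf S ⊔ W₁) (homC (m.chi ψ.1.1) - homC (m.chi ψ'.1.1)) x = 0 :=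
    fun ψ ψ' x hx => m.vanish_K (fun w hw => (ψ.1.2 w hw).trans (ψ'.1.2 w hw).symm) hx
  refine
    { toConjFamily := m.rowFamily B hη
      w_z := rfl
      diff := fun ψ g hg => ?_
      gen := m.gen_K _ _
      vanish := fun g hg => indFun_eq_zero_of_notMem hD m.K_le _ hv hg
      beta_one := ?_
      beta_norm := ?_
      coef := ?_
      beta_conj := ?_ }
  · have h0 := indFun_eq_zero_of_notMem hD m.K_le _ (hvr ψ z) hg
    rw [hrow, Pi.sub_apply, sub_eq_zero] at h0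
    simpa using h0
  · haveI : Fintype ↥(fittingHallOf S ⊔ W₁) := Fintype.ofFinite _
    rw [betaFun, Char.classInner_indFun _ _ (fun _ _ => rfl),
      show (fun h : ↥(fittingHallOf S ⊔ W₁) => (1 : ℂ)) = homC (m.chi 1) from funext fun h => by
        simp [homC, chi], Char.classInner_sub_left, classInner_homC, classInner_homC,
      if_pos rfl, if_neg (fun e => hne z (m.chi_injective e).symm), sub_zero]
  · rw [betaFun, classInner_indFun_ti hD m.K_le m.K_le _ _ hv hv, indTo_sub,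
      Char.classInner_sub_left, Char.classInner_sub_right, Char.classInner_sub_right, m.ip_K_one,
      m.ip_K_eq (Or.inr (hl z)), m.ip_K_eq (Or.inl (hl z)), m.ip_K_eq (Or.inl (hl z)),
      if_neg (hne z), if_neg (hne z).symm, if_pos rfl]
    obtain ⟨k, hk⟩ := m.q_dvd
    have hu : (Nat.card U : ℂ) = q * k + 1 := by
      have h1 := Nat.card_pos (α := U)
      exact_mod_cast (show Nat.card U = q * k + 1 by omega)
    rw [hk, Nat.mul_div_cancel_left _ m.hq.pos, hu]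
    have hq : (q : ℂ) ≠ 0 := Nat.cast_ne_zero.2 m.hq.ne_zero
    push_cast
    field_simp
    ring
  · obtain ⟨a, ha⟩ := Char.IsGeneralizedCharacter.exists_int_classInner
      (θ := m.betaFun z.1) (η := η z.1.1) (m.gen_K _ _) (eta_isGeneralized hη _)
    refine ⟨a + 1, fun ψ => ?_⟩
    rcases eq_or_ne ψ z with rfl | hψz
    · rw [if_pos rfl, ha]; push_cast; ring
    · rw [if_neg hψz]
      have h := classInner_indFun_ti hD m.K_le m.K_le _ _ hv (hvr z ψ)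
      rw [hrow, indTo_sub, indTo_sub, Char.classInner_sub_right, Char.classInner_sub_left,
        Char.classInner_sub_right, Char.classInner_sub_right, m.ip_K_eq (Or.inr (hl z)),
        m.ip_K_eq (Or.inr (hl ψ)), m.ip_K_eq (Or.inl (hl z)), m.ip_K_eq (Or.inl (hl z)),
        if_neg (hne z), if_neg (hne ψ), if_pos rfl, if_neg fun e => hψz (Subtype.ext (Subtype.ext e)).symm] at h
      rw [show classInner (indFun (fittingHallOf S ⊔ W₁) (homC (m.chi 1) - homC (m.chi z.1.1)))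
        (η z.1.1) = a from ha] at h
      show classInner (m.betaFun z.1) (η ψ.1.1) = _
      rw [betaFun]
      push_cast
      linear_combination -h
  · rw [betaFun, m.conj_ind_sub, show η z.1.1 - η (m.rowInv z).1.1 = _ from (hrow z (m.rowInv z)).symm,
      ← Char.indFun_add]
    refine congrArg _ ?_
    rw [show (m.chi 1)⁻¹ = m.chi 1 from MonoidHom.ext fun x => by simp [chi],
      show (m.chi z.1.1)⁻¹ = m.chi (m.rowInv z).1.1 from rfl]
    abel

end Member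

end Cfsg.Agent.OddOrder.PF.S14
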