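import Cfsg.Agent.Lib.OddOrder.PF.S14_MemberLam
import Cfsg.Agent.Lib.OddOrder.PF.S14_Induce
import Cfsg.Agent.Lib.OddOrder.PF.S14_Bridge

/-!
The characters of `S` induced from `P` and from `P W₁` and their inductions to `G` (Peterfalvi 14):
the differences of the latter are differences of the cyclic family, and `Ind (1 - χ ψ₀)` is a
bridge from `1` to the row of that family.
-/

set_option autoImplicit false
set_option linter.style.haveILetI false
set_option linter.unusedSectionVars false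

namespace Cfsg.Agent.OddOrder.PF.S14

open Cfsg Cfsg.Agent.OddOrder Cfsg.Agent
open scoped ComplexConjugate

universe u

/-- A homomorphism to `ℂˣ` as a function to `ℂ`. -/
def homC {H : Type*} [Group H] (a : H →* ℂˣ) : H → ℂ := fun x => (a x : ℂ)

theorem homC_apply {H : Type*} [Group H] (a : H →* ℂˣ) (x : H) : homC a x = (a x : ℂ) := rfl

open Classical in
theorem classInner_homC {H : Type*} [Group H] [Fintype H] (a b : H →* ℂˣ) :
    classInner (homC a) (homC b) = if a = b then 1 else 0 := by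
  refine (Char.classInner_irr (Char.linIrr ((Units.coeHom ℂ).comp a))
    (Char.linIrr ((Units.coeHom ℂ).comp b))).trans ?_
  by_cases h : a = b
  · rw [if_pos h, h, if_pos rfl]
  · rw [if_neg h, if_neg fun e => h (MonoidHom.ext fun x => Units.ext ?_)]
    exact congrFun (congrArg Subtype.val e) x

theorem isGeneralized_homC {H : Type*} [Group H] [Finite H] (a : H →* ℂˣ) :
    IsGeneralizedCharacter H (homC a) :=
  Char.irr_isGeneralized (Char.linIrr ((Units.coeHom ℂ).comp a))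

theorem conj_homC {H : Type*} [Group H] [Finite H] (a : H →* ℂˣ) (x : H) :
    conj (homC a x) = homC a⁻¹ x := by
  have h : (a x : ℂ) ^ orderOf x = 1 := by
    rw [← Units.val_pow_eq_pow_val, ← map_pow, pow_orderOf_eq_one, map_one, Units.val_one]
  rw [homC_apply, homC_apply, MonoidHom.inv_apply, Units.val_inv_eq_inv_val]
  exact (Complex.inv_eq_conj (Complex.norm_eq_one_of_pow_eq_one h (orderOf_pos x).ne')).symm

variable {G : Type u} [Group G] [Fintype G]

namespace Member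

variable {S W₁ U W₂ : Subgroup G} {p q : ℕ} (m : Member S W₁ U W₂ p q)
include m

theorem exists_ann_lamP (ω : ↥(W₁ ⊔ W₂) →* ℂˣ) :
    ∃ ψ : Ann W₁ W₂ W₁, m.lamP ω = m.lamP ψ.1 := by
  obtain ⟨φ, ψ, hφ, hψ, rfl⟩ := exists_eq_mul m.typeP.selfNormalizing ω
  exact ⟨⟨ψ, hψ⟩, by rw [m.lamP_mul, m.lamP_ann ⟨φ, hφ⟩]; exact MonoidHom.ext fun _ => one_mul _⟩

theorem chi_injective : Function.Injective m.chi := fun ω ω' h => MonoidHom.ext fun w => by
  have e := congrArg (fun f : ↥(fittingHallOf S ⊔ W₁) →* ℂˣ => f ⟨w, m.W_le w.2⟩) h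
  simpa only [m.chi_of_mem _ (k := ⟨w, m.W_le w.2⟩) w.2] using e

theorem W_inf_P {x : G} (hW : x ∈ W₁ ⊔ W₂) (hP : x ∈ fittingHallOf S) : x ∈ W₂ := by
  obtain ⟨a, ha, b, hb, rfl⟩ := m.exists_mul_W hW
  have h1 := mul_mem hP (inv_mem (m.W₂_le hb))
  rw [mul_inv_cancel_right] at h1
  rwa [show a = 1 from by_contra fun h => m.not_mem_P_of_W₁ ha h h1, one_mul]

theorem U_inf_K {a : G} (ha : a ∈ U) (h : a ∈ fittingHallOf S ⊔ W₁) : a = 1 := by
  rw [sup_comm] at h
  obtain ⟨z, hz, v, hv, e⟩ := (Coprime.mem_sup_iff_of_le_normalizer'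
    (m.W₁_le.trans m.S_le_normalizer)).1 h
  have hv' : v ∈ (⁅S, S⁆ : Subgroup G) ⊓ W₁ := by
    refine ⟨?_, hv⟩
    have := mul_mem (inv_mem (m.P_le_commutator hz)) (m.typeP.U_compl.2.1 ha)
    rwa [← e, inv_mul_cancel_left] at this
  rw [m.typeP.W₁_compl.2.2.1, Subgroup.mem_bot] at hv'
  rw [hv', mul_one] at e
  have h1 : a ∈ fittingHallOf S ⊓ U := ⟨e ▸ hz, ha⟩
  rwa [m.typeP.U_compl.2.2.1, Subgroup.mem_bot] at h1

theorem mem_P_or_eq_one {u k : G} (hu : u ∈ U) (hk : k ∈ fittingHallOf S ⊔ W₁)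
    (h : u⁻¹ * k * u ∈ fittingHallOf S ⊔ W₁) : k ∈ fittingHallOf S ∨ u = 1 := by
  rw [sup_comm] at hk
  obtain ⟨z, hz, w, hw, rfl⟩ := (Coprime.mem_sup_iff_of_le_normalizer'
    (m.W₁_le.trans m.S_le_normalizer)).1 hk
  rcases eq_or_ne w 1 with rfl | hw1
  · exact Or.inl (by rwa [mul_one])
  have hz' : u⁻¹ * z * u ∈ fittingHallOf S := by
    simpa using conj_mem_of_le_normalizer m.S_le_normalizer (S.inv_mem (m.U_le hu)) hz
  have h1 : u⁻¹ * w * u ∈ fittingHallOf S ⊔ W₁ := by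
    have := mul_mem (inv_mem (Subgroup.mem_sup_left (T := W₁) hz')) h
    convert this using 1
    group
  have h2 : w⁻¹ * (u⁻¹ * w * u) ∈ U := by
    have := mul_mem (conj_mem_of_le_normalizer m.typeP.U_normal (inv_mem hw) (inv_mem hu)) hu
    simpa [mul_assoc] using this
  have h3 := m.U_inf_K h2 (mul_mem (inv_mem (Subgroup.mem_sup_right hw)) h1)
  refine Or.inr (m.fpf hw hw1 hu ?_)
  calc w * u = u * (u⁻¹ * w * u) := by group
    _ = u * w := by rw [← inv_mul_eq_one.1 h3]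

theorem K_le : fittingHallOf S ⊔ W₁ ≤ S := sup_le m.P_le m.W₁_le

theorem indFun_act (s : ↥S) (a : ↥(fittingHallOf S) →* ℂˣ) :
    indFun (fittingHallOf S) (homC (m.act s a)) = indFun (fittingHallOf S) (homC a) := by
  classical
  have key : ∀ z : G, extendByZero (fittingHallOf S) (homC (m.act s a)) z =
      extendByZero (fittingHallOf S) (homC a) ((s : G)⁻¹ * z * s) := by
    intro z
    by_cases hz : z ∈ fittingHallOf S
    · have hz' : (s : G)⁻¹ * z * s ∈ fittingHallOf S := by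
        simpa using conj_mem_of_le_normalizer m.S_le_normalizer (S.inv_mem s.2) hz
      rw [Char.extendByZero_of_mem _ _ hz, Char.extendByZero_of_mem _ _ hz', homC_apply, homC_apply,
        m.act_apply]
      refine congrArg (fun x => ((a x : ℂˣ) : ℂ)) (Subtype.ext ?_)
      rw [m.coe_conjP]; simp
    · rw [Char.extendByZero_of_notMem _ _ hz, Char.extendByZero_of_notMem _ _ fun h => hz ?_]
      simpa [mul_assoc] using conj_mem_of_le_normalizer m.S_le_normalizer s.2 h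
  funext g
  simp only [indFun, key]
  congr 1
  exact Fintype.sum_equiv (Equiv.mulRight (s : G)) _ _ fun x => by simp [mul_assoc]

theorem sum_chi [Fintype (Ann W₁ W₂ W₂)] (ψ : Ann W₁ W₂ W₁) (k : ↥(fittingHallOf S ⊔ W₁)) :
    ∑ φ : Ann W₁ W₂ W₂, homC (m.chi (φ.1 * ψ.1)) k =
      (q : ℂ) * extendByZero (fittingHallOf S) (homC (m.lamP ψ.1)) k := by
  classical
  have hW := m.typeP.selfNormalizing
  have hc : Fintype.card (Ann W₁ W₂ W₂) = q := by
    rw [← Nat.card_eq_fintype_card, (ann_facts hW).2.1, m.q_eq]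
  have e : ∀ φ : Ann W₁ W₂ W₂, homC (m.chi (φ.1 * ψ.1)) k =
      (φ.1 (m.retr k) : ℂ) * (ψ.1 (m.retr k) : ℂ) := fun φ => by
    rw [homC_apply, chi, MonoidHom.comp_apply, MonoidHom.mul_apply, Units.val_mul]
  simp only [e, ← Finset.sum_mul]
  by_cases hk : (k : G) ∈ fittingHallOf S
  · rw [Char.extendByZero_of_mem _ _ hk, Finset.sum_congr rfl fun φ _ => by
      rw [φ.2 _ (m.retr_mem_W₂ hk), Units.val_one]]
    rw [Finset.sum_const, Finset.card_univ, hc, nsmul_one]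
    rfl
  · rw [Char.extendByZero_of_notMem _ _ hk, mul_zero]
    suffices h0 : ∑ φ : Ann W₁ W₂ W₂, (φ.1 (m.retr k) : ℂ) = 0 by rw [h0, zero_mul]
    have hk' : (k : G) ∈ W₁ ⊔ fittingHallOf S := (sup_comm (fittingHallOf S) W₁).le k.2
    obtain ⟨z, hz, w, hw, ek⟩ := (Coprime.mem_sup_iff_of_le_normalizer'
      (m.W₁_le.trans m.S_le_normalizer)).1 hk'
    have hw1 : w ≠ 1 := fun h => hk (by rw [← ek, h, mul_one]; exact hz)
    set kz : ↥(fittingHallOf S ⊔ W₁) := ⟨z, Subgroup.mem_sup_left hz⟩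
    set kw : ↥(fittingHallOf S ⊔ W₁) := ⟨w, Subgroup.mem_sup_right hw⟩
    set ww : ↥(W₁ ⊔ W₂) := ⟨w, Subgroup.mem_sup_left hw⟩
    have hr : m.retr k = m.retr kz * ww := by
      rw [show k = kz * kw from Subtype.ext ek.symm, map_mul]
      exact congrArg _ (Subtype.ext (m.retr_of_mem (k := kw) (Subgroup.mem_sup_left hw)))
    have hval : ∀ φ : Ann W₁ W₂ W₂, φ.1 (m.retr k) = φ.1 ww := fun φ => by
      rw [hr, map_mul, φ.2 _ (m.retr_mem_W₂ (k := kz) hz), one_mul]
    simp only [hval]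
    haveI : IsCyclic W₁ := m.typeP.W₁_cyclic
    letI : CommGroup W₁ := IsCyclic.commGroup
    let r : Ann W₁ W₂ W₂ → (↥W₁ →* ℂˣ) := fun φ => φ.1.comp (Subgroup.inclusion le_sup_left)
    have hinj : Function.Injective r := fun φ φ' e => Subtype.ext (hom_ext_W
      (fun v hv => congrArg (fun l : ↥W₁ →* ℂˣ => l ⟨(v : G), hv⟩) e)
      fun v hv => (φ.2 v hv).trans (φ'.2 v hv).symm)
    obtain ⟨l, hl⟩ := CommGroup.exists_apply_ne_one_of_hasEnoughRootsOfUnity W₁ ℂ
      (a := ⟨w, hw⟩) fun h => hw1 (congrArg Subtype.val h)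
    obtain ⟨φ0, hφ0⟩ := (hinj.bijective_of_nat_card_le (le_of_eq (by
      rw [(ann_facts hW).2.1, CommGroup.card_monoidHom_of_hasEnoughRootsOfUnity]))).2 l
    have hne : (φ0.1 ww : ℂ) ≠ 1 := fun h => hl (by
      rw [← hφ0]; exact Units.ext h)
    let M : Ann W₁ W₂ W₂ → Ann W₁ W₂ W₂ := fun φ =>
      ⟨φ0.1 * φ.1, fun v hv => by rw [MonoidHom.mul_apply, φ0.2 v hv, φ.2 v hv, one_mul]⟩
    have hM : Function.Injective M := fun φ φ' e => Subtype.ext (MonoidHom.ext fun v =>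
      mul_left_cancel (congrArg (fun l : Ann W₁ W₂ W₂ => l.1 v) e))
    have hs : (φ0.1 ww : ℂ) * ∑ φ : Ann W₁ W₂ W₂, (φ.1 ww : ℂ) =
        ∑ φ : Ann W₁ W₂ W₂, (φ.1 ww : ℂ) := by
      rw [Finset.mul_sum]
      exact Fintype.sum_equiv (Equiv.ofBijective M (Finite.injective_iff_bijective.1 hM)) _ _
        fun φ => (Units.val_mul _ _).symm
    by_contra h0
    exact hne (mul_right_cancel₀ h0 (hs.trans (one_mul _).symm))

theorem indFun_sum_chi [Fintype (Ann W₁ W₂ W₂)] (ψ : Ann W₁ W₂ W₁) :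
    indFun (fittingHallOf S ⊔ W₁) (∑ φ : Ann W₁ W₂ W₂, homC (m.chi (φ.1 * ψ.1))) =
      indFun (fittingHallOf S) (homC (m.lamP ψ.1)) := by
  classical
  funext g
  have e : ∀ z : G, extendByZero (fittingHallOf S ⊔ W₁)
      (∑ φ : Ann W₁ W₂ W₂, homC (m.chi (φ.1 * ψ.1))) z =
        (q : ℂ) * extendByZero (fittingHallOf S) (homC (m.lamP ψ.1)) z := by
    intro z
    by_cases hz : z ∈ fittingHallOf S ⊔ W₁
    · rw [Char.extendByZero_of_mem _ _ hz, Finset.sum_apply, m.sum_chi]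
    · rw [Char.extendByZero_of_notMem _ _ hz,
        Char.extendByZero_of_notMem _ _ fun h => hz (Subgroup.mem_sup_left h), mul_zero]
  simp only [indFun, e, ← Finset.mul_sum, m.card_K, m.card_P]
  push_cast
  have hp : (p : ℂ) ^ q ≠ 0 := pow_ne_zero _ (Nat.cast_ne_zero.2 m.hp.ne_zero)
  have hq : (q : ℂ) ≠ 0 := Nat.cast_ne_zero.2 m.hq.ne_zero
  field_simp

variable [Fintype S]

/-- Inner products of the inductions of linear characters of `P`. -/
theorem ip_P (a b : ↥(fittingHallOf S) →* ℂˣ) :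
    classInner (indTo S (fittingHallOf S) (homC a)) (indTo S (fittingHallOf S) (homC b)) =
      (Nat.card {s : ↥S // m.act s b = a} : ℂ) / (p : ℂ) ^ q := by
  classical
  haveI : Fintype ↥((fittingHallOf S).subgroupOf S) := Fintype.ofFinite _
  let e := Subgroup.subgroupOfEquivOfLe m.P_le
  have hres : (fun h : ↥((fittingHallOf S).subgroupOf S) => indTo S (fittingHallOf S) (homC b) h) =
      ((p : ℂ) ^ q)⁻¹ • ∑ s : ↥S, homC ((m.act s b).comp e.toMonoidHom) := by
    funext h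
    rw [indTo_apply m.P_le, Pi.smul_apply, Finset.sum_apply, m.card_P, smul_eq_mul]
    push_cast
    congr 1
    refine Finset.sum_congr rfl fun s _ => ?_
    have hmem : ((s : G))⁻¹ * ((h : S) : G) * s ∈ (fittingHallOf S) := by
      simpa using conj_mem_of_le_normalizer m.S_le_normalizer (S.inv_mem s.2) h.2
    rw [Char.extendByZero_of_mem _ _ hmem, homC_apply, homC_apply]
    show _ = ((b (m.conjP s⁻¹ (e h)) : ℂˣ) : ℂ)
    refine congrArg (fun x => ((b x : ℂˣ) : ℂ)) (Subtype.ext ?_)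
    rw [m.coe_conjP]; simp [e]
  rw [show indTo S (fittingHallOf S) (homC a) = indFun ((fittingHallOf S).subgroupOf S) (homC (a.comp e.toMonoidHom)) from rfl,
    Char.classInner_indFun _ _ (isClassFunction_indTo _), hres, Char.classInner_smul_right,
    Char.classInner_sum_right, map_inv₀, map_pow, Complex.conj_natCast]
  have hiff : ∀ s : ↥S, a.comp e.toMonoidHom = (m.act s b).comp e.toMonoidHom ↔ m.act s b = a :=
    fun s => by rw [MonoidHom.cancel_right e.surjective, eq_comm]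
  simp only [classInner_homC, hiff]
  rw [Finset.sum_boole, div_eq_inv_mul, Nat.card_eq_fintype_card, Fintype.card_subtype]

theorem ip_P_free {a : ↥(fittingHallOf S) →* ℂˣ} (ha : m.Free a) :
    classInner (indTo S (fittingHallOf S) (homC a)) (indTo S (fittingHallOf S) (homC a)) = 1 := by
  rw [m.ip_P, show Nat.card {s : ↥S // m.act s a = a} = Nat.card (fittingHallOf S) from
    Nat.card_congr
      { toFun := fun s => ⟨(s.1 : G), m.mem_P_of_fixed ha s.2⟩
        invFun := fun x => ⟨⟨x, m.P_le x.2⟩, m.act_of_mem_P (s := ⟨x, m.P_le x.2⟩) x.2 a⟩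
        left_inv := fun s => rfl
        right_inv := fun x => rfl }, m.card_P, Nat.cast_pow,
    div_self (pow_ne_zero _ (Nat.cast_ne_zero.2 m.hp.ne_zero))]

theorem ip_P_mu {ψ : Ann W₁ W₂ W₁} (hψ : ψ ≠ annOne W₁ W₂ W₁) :
    classInner (indTo S (fittingHallOf S) (homC (m.lamP ψ.1)))
      (indTo S (fittingHallOf S) (homC (m.lamP ψ.1))) = q := by
  rw [m.ip_P, show Nat.card {s : ↥S // m.act s (m.lamP ψ.1) = m.lamP ψ.1} =
      Nat.card ↥(fittingHallOf S ⊔ W₁) from Nat.card_congr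
      { toFun := fun s => ⟨(s.1 : G), (m.fixed_lamP hψ).1 s.2⟩
        invFun := fun x => ⟨⟨x, m.K_le x.2⟩, (m.fixed_lamP hψ).2 x.2⟩
        left_inv := fun s => rfl
        right_inv := fun x => rfl }, m.card_K, Nat.cast_mul, Nat.cast_pow, mul_comm,
    mul_div_assoc, div_self (pow_ne_zero _ (Nat.cast_ne_zero.2 m.hp.ne_zero)), mul_one]

theorem ip_P_eq_zero {a b : ↥(fittingHallOf S) →* ℂˣ} (h : ∀ s : ↥S, m.act s b ≠ a) :
    classInner (indTo S (fittingHallOf S) (homC a)) (indTo S (fittingHallOf S) (homC b)) = 0 := by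
  haveI : IsEmpty {s : ↥S // m.act s b = a} := ⟨fun s => h s.1 s.2⟩
  rw [m.ip_P, Nat.card_of_isEmpty, Nat.cast_zero, zero_div]

theorem vanish_P (a b : ↥(fittingHallOf S) →* ℂˣ) {x : ↥S}
    (hx : (x : G) ∉ ((fittingHallOf S : Set G) \ {1})) :
    indTo S (fittingHallOf S) (homC a - homC b) x = 0 := by
  refine indTo_eq_zero m.P_le _ x fun s hs => ?_
  have hx1 : (x : G) = 1 := by
    by_contra h1
    refine hx ⟨?_, h1⟩
    have := conj_mem_of_le_normalizer m.S_le_normalizer s.2 hs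
    simpa [mul_assoc] using this
  have h0 : (⟨_, hs⟩ : ↥(fittingHallOf S)) = 1 := Subtype.ext (by simp [hx1])
  rw [h0, Pi.sub_apply, homC_apply, homC_apply, map_one, map_one, sub_self]

theorem indTo_K_apply [Fintype U] (χ : ↥(fittingHallOf S ⊔ W₁) →* ℂˣ) (g : ↥S) :
    indTo S (fittingHallOf S ⊔ W₁) (homC χ) g = ∑ u : U,
      extendByZero (fittingHallOf S ⊔ W₁) (homC χ) ((u : G)⁻¹ * g * u) := by
  classical
  haveI : Fintype ↥(fittingHallOf S ⊔ W₁) := Fintype.ofFinite _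
  let f : ↥U × ↥(fittingHallOf S ⊔ W₁) → ↥S := fun z => ⟨z.1 * z.2, S.mul_mem (m.U_le z.1.2) (m.K_le z.2.2)⟩
  have hinj : Function.Injective f := by
    rintro ⟨u, k⟩ ⟨u', k'⟩ h
    have h' : (u : G) * k = u' * k' := congrArg Subtype.val h
    have h1 : (u' : G)⁻¹ * u = k' * (k : G)⁻¹ := by
      rw [eq_mul_inv_iff_mul_eq, mul_assoc, h', inv_mul_cancel_left]
    have h2 := m.U_inf_K (mul_mem (inv_mem u'.2) u.2) (h1 ▸ mul_mem k'.2 (inv_mem k.2))
    obtain rfl : u' = u := Subtype.ext (inv_mul_eq_one.1 h2)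
    exact Prod.ext rfl (Subtype.ext (mul_left_cancel h'))
  have hbij : Function.Bijective f := hinj.bijective_of_nat_card_le (le_of_eq (by
    rw [Nat.card_prod, m.card_S, m.card_K]; ring))
  have key : ∀ (z : G) (k : ↥(fittingHallOf S ⊔ W₁)), extendByZero (fittingHallOf S ⊔ W₁) (homC χ) ((k : G)⁻¹ * z * k) =
      extendByZero (fittingHallOf S ⊔ W₁) (homC χ) z := by
    intro z k
    by_cases hz : z ∈ (fittingHallOf S ⊔ W₁)
    · rw [Char.extendByZero_of_mem _ _ hz,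
        Char.extendByZero_of_mem _ _ (mul_mem (mul_mem (inv_mem k.2) hz) k.2)]
      show ((χ (k⁻¹ * ⟨z, hz⟩ * k) : ℂˣ) : ℂ) = _
      rw [map_mul, map_mul, map_inv, mul_comm, mul_inv_cancel_left]
      rfl
    · rw [Char.extendByZero_of_notMem _ _ hz, Char.extendByZero_of_notMem _ _ fun h => hz ?_]
      simpa [mul_assoc] using mul_mem (mul_mem k.2 h) (inv_mem k.2)
  rw [indTo_apply m.K_le, ← hbij.sum_comp, Fintype.sum_prod_type]
  have e : ∀ (u : U) (k : ↥(fittingHallOf S ⊔ W₁)), extendByZero (fittingHallOf S ⊔ W₁) (homC χ) ((f (u, k) : G)⁻¹ * g * (f (u, k) : G)) =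
      extendByZero (fittingHallOf S ⊔ W₁) (homC χ) ((u : G)⁻¹ * g * u) := fun u k => by
    rw [← key ((u : G)⁻¹ * g * u) k]
    exact congrArg _ (by simp [f, mul_assoc])
  simp only [e, Finset.sum_const, Finset.card_univ, nsmul_eq_mul, ← Finset.mul_sum,
    ← Nat.card_eq_fintype_card]
  rw [← mul_assoc, inv_mul_cancel₀ (Nat.cast_ne_zero.2 Nat.card_pos.ne'), one_mul]

open Classical in
/-- Inner products of the inductions of the characters of `P W₁`. -/
theorem ip_K (ω ω' : ↥(W₁ ⊔ W₂) →* ℂˣ) :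
    classInner (indTo S (fittingHallOf S ⊔ W₁) (homC (m.chi ω)))
      (indTo S (fittingHallOf S ⊔ W₁) (homC (m.chi ω'))) =
      (if ω = ω' then 1 else 0) + (q : ℂ)⁻¹ * (Nat.card
        {u : U // (u : G) ≠ 1 ∧ m.act ⟨u, m.U_le u.2⟩ (m.lamP ω') = m.lamP ω} : ℂ) := by
  haveI : Fintype U := Fintype.ofFinite _
  haveI : Fintype ↥(fittingHallOf S ⊔ W₁) := Fintype.ofFinite _
  haveI : Fintype (fittingHallOf S) := Fintype.ofFinite _
  haveI : Fintype ↥((fittingHallOf S ⊔ W₁).subgroupOf S) := Fintype.ofFinite _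
  let e := Subgroup.subgroupOfEquivOfLe m.K_le
  let F : U → (↥(fittingHallOf S ⊔ W₁) → ℂ) := fun u k =>
    extendByZero (fittingHallOf S ⊔ W₁) (homC (m.chi ω')) ((u : G)⁻¹ * k * u)
  have h0 : classInner (indTo S (fittingHallOf S ⊔ W₁) (homC (m.chi ω))) (indTo S (fittingHallOf S ⊔ W₁) (homC (m.chi ω'))) =
      ∑ u : U, (Nat.card ↥(fittingHallOf S ⊔ W₁) : ℂ)⁻¹ * ∑ k : ↥(fittingHallOf S ⊔ W₁), homC (m.chi ω) k * conj (F u k) := by
    rw [show indTo S (fittingHallOf S ⊔ W₁) (homC (m.chi ω)) = indFun ((fittingHallOf S ⊔ W₁).subgroupOf S) (subOf S (homC (m.chi ω))) from rfl,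
      Char.classInner_indFun _ _ (isClassFunction_indTo _), classInner, card_subgroupOf_eq m.K_le,
      ← Finset.mul_sum]
    congr 1
    rw [Finset.sum_comm]
    refine Fintype.sum_equiv e.toEquiv _ _ fun h => ?_
    rw [m.indTo_K_apply, map_sum, Finset.mul_sum]
    rfl
  rw [h0, ← Finset.add_sum_erase _ _ (Finset.mem_univ (1 : U))]
  congr 1
  · have hF : F 1 = homC (m.chi ω') := by
      funext k
      simp only [F, Subgroup.coe_one, inv_one, one_mul, mul_one]
      exact Char.extendByZero_coe _ _ k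
    rw [hF]
    show classInner (homC (m.chi ω)) (homC (m.chi ω')) = _
    rw [classInner_homC]
    exact if_congr m.chi_injective.eq_iff rfl rfl
  · have hu : ∀ u ∈ Finset.univ.erase (1 : U),
        (Nat.card ↥(fittingHallOf S ⊔ W₁) : ℂ)⁻¹ * ∑ k : ↥(fittingHallOf S ⊔ W₁), homC (m.chi ω) k * conj (F u k) =
          (q : ℂ)⁻¹ * if m.act ⟨u, m.U_le u.2⟩ (m.lamP ω') = m.lamP ω then 1 else 0 := by
      intro u hu
      have hu1 : (u : G) ≠ 1 := fun h => (Finset.mem_erase.1 hu).1 (Subtype.ext h)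
      have hsum : ∑ k : ↥(fittingHallOf S ⊔ W₁), homC (m.chi ω) k * conj (F u k) = ∑ x : ↥(fittingHallOf S),
          homC (m.lamP ω) x * conj (homC (m.act ⟨u, m.U_le u.2⟩ (m.lamP ω')) x) := by
        refine (Fintype.sum_of_injective (Subgroup.inclusion (le_sup_left : (fittingHallOf S) ≤ (fittingHallOf S ⊔ W₁)))
          (Subgroup.inclusion_injective _) _ _ (fun k hk => ?_) fun x => ?_).symm
        · simp only [F]
          by_cases hm : (u : G)⁻¹ * k * u ∈ (fittingHallOf S ⊔ W₁)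
          · refine absurd ?_ hk
            rcases m.mem_P_or_eq_one u.2 k.2 hm with h | h
            · exact ⟨⟨k, h⟩, rfl⟩
            · exact absurd h hu1
          · rw [Char.extendByZero_of_notMem _ _ hm, map_zero, mul_zero]
        · simp only [F]
          have hx' : (u : G)⁻¹ * (x : G) * u ∈ (fittingHallOf S) := by
            simpa using conj_mem_of_le_normalizer m.S_le_normalizer
              (S.inv_mem (m.U_le u.2)) x.2
          rw [Char.extendByZero_of_mem _ _ (show (u : G)⁻¹ * ((Subgroup.inclusion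
            (le_sup_left : (fittingHallOf S) ≤ (fittingHallOf S ⊔ W₁)) x : ↥(fittingHallOf S ⊔ W₁)) : G) * u ∈ (fittingHallOf S ⊔ W₁) from Subgroup.mem_sup_left hx')]
          simp only [homC_apply, m.act_apply]
          congr 2
          refine congrArg (fun z => ((m.chi ω' z : ℂˣ) : ℂ)) (Subtype.ext ?_)
          show ((m.conjP _ x : ↥(fittingHallOf S)) : G) = (u : G)⁻¹ * x * u
          rw [m.coe_conjP]; simp
      have hci := classInner_homC (m.lamP ω) (m.act ⟨u, m.U_le u.2⟩ (m.lamP ω'))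
      rw [classInner, m.card_P, Nat.cast_pow, inv_mul_eq_iff_eq_mul₀
        (pow_ne_zero _ (Nat.cast_ne_zero.2 m.hp.ne_zero))] at hci
      rw [hsum, hci, m.card_K, Nat.cast_mul, Nat.cast_pow, mul_inv, mul_comm ((p : ℂ) ^ q)⁻¹,
        mul_assoc, ← mul_assoc ((p : ℂ) ^ q)⁻¹,
        inv_mul_cancel₀ (pow_ne_zero _ (Nat.cast_ne_zero.2 m.hp.ne_zero)), one_mul]
      exact congrArg _ (if_congr eq_comm rfl rfl)
    rw [Finset.sum_congr rfl hu, ← Finset.mul_sum, Finset.sum_boole, Nat.card_eq_fintype_card,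
      Fintype.card_subtype]
    rw [show Finset.filter (fun u : U => m.act ⟨u, m.U_le u.2⟩ (m.lamP ω') = m.lamP ω)
      (Finset.univ.erase (1 : U)) = Finset.filter (fun u : U => (u : G) ≠ 1 ∧
        m.act ⟨u, m.U_le u.2⟩ (m.lamP ω') = m.lamP ω) Finset.univ from Finset.ext fun u => by
      rw [Finset.mem_filter, Finset.mem_filter, Finset.mem_erase, ne_eq, ne_eq,
        ← Subtype.coe_injective.eq_iff (a := u), Subgroup.coe_one]
      tauto]

open Classical in
theorem ip_K_eq {ω ω' : ↥(W₁ ⊔ W₂) →* ℂˣ} (h : m.lamP ω ≠ 1 ∨ m.lamP ω' ≠ 1) :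
    classInner (indTo S (fittingHallOf S ⊔ W₁) (homC (m.chi ω)))
      (indTo S (fittingHallOf S ⊔ W₁) (homC (m.chi ω'))) = if ω = ω' then 1 else 0 := by
  haveI : IsEmpty {u : U // (u : G) ≠ 1 ∧ m.act ⟨u, m.U_le u.2⟩ (m.lamP ω') = m.lamP ω} := by
    refine ⟨fun ⟨u, hu1, hu⟩ => ?_⟩
    obtain ⟨ψ, hψ⟩ := m.exists_ann_lamP ω
    obtain ⟨ψ', hψ'⟩ := m.exists_ann_lamP ω'
    have hne : ψ' ≠ annOne W₁ W₂ W₁ := by
      intro e
      rw [(show m.lamP ω' = 1 by rw [hψ', e]; exact m.lamP_one)] at h hu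
      rw [m.act_one] at hu
      exact h.elim (fun h => h hu.symm) fun h => h rfl
    refine hu1 (m.mu_unique (ψ := ψ') (ψ' := ψ) u.2 (one_mem U) hne ?_).1
    rw [← hψ', hu, hψ]
    exact (m.act_of_mem_P (s := ⟨1, m.U_le (one_mem U)⟩) (one_mem _) _).symm
  rw [m.ip_K, Nat.card_of_isEmpty, Nat.cast_zero, mul_zero, add_zero]

theorem ip_K_one :
    classInner (indTo S (fittingHallOf S ⊔ W₁) (homC (m.chi 1)))
      (indTo S (fittingHallOf S ⊔ W₁) (homC (m.chi 1))) =
      1 + (q : ℂ)⁻¹ * ((Nat.card U : ℂ) - 1) := by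
  classical
  haveI : Fintype U := Fintype.ofFinite _
  have hc : Nat.card {u : U // (u : G) ≠ 1 ∧ m.act ⟨u, m.U_le u.2⟩ (m.lamP 1) = m.lamP 1} =
      Nat.card U - 1 := by
    rw [Nat.card_congr (Equiv.subtypeEquivRight (q := fun u : U => u ≠ 1) fun u =>
      ⟨fun h e => h.1 (congrArg Subtype.val e), fun h => ⟨fun e => h (Subtype.ext e), by
        rw [m.lamP_one, m.act_one]⟩⟩), Nat.card_eq_fintype_card, Fintype.card_subtype_compl,
      Fintype.card_subtype_eq, Nat.card_eq_fintype_card]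
  rw [m.ip_K, if_pos rfl, hc, Nat.cast_sub Nat.card_pos, Nat.cast_one]

theorem vanish_K {ω ω' : ↥(W₁ ⊔ W₂) →* ℂˣ}
    (hag : ∀ w : ↥(W₁ ⊔ W₂), (w : G) ∈ W₁ → ω w = ω' w) {x : ↥S} (hx : (x : G) ∉ m.supp) :
    indTo S (fittingHallOf S ⊔ W₁) (homC (m.chi ω) - homC (m.chi ω')) x = 0 := by
  refine indTo_eq_zero m.K_le _ x fun s hs => ?_
  set K := fittingHallOf S ⊔ W₁
  have hns : ((s : G))⁻¹ * x * s ∉ m.supp := by
    intro h
    refine hx ?_
    rcases h with h | ⟨l, hl, w, hw, h1, h2, e⟩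
    · refine Or.inl ⟨?_, fun e => h.2 (by rw [Set.mem_singleton_iff.1 e]; simp)⟩
      simpa [mul_assoc] using conj_mem_of_le_normalizer m.S_le_normalizer s.2 h.1
    · refine Or.inr ⟨s * l, S.mul_mem s.2 hl, w, hw, h1, h2, ?_⟩
      calc (x : G) = s * ((s : G)⁻¹ * x * s) * (s : G)⁻¹ := by group
        _ = _ := by rw [e]; group
  suffices H : ∀ (k : G) (hk : k ∈ K), k ∉ m.supp →
      (homC (m.chi ω) - homC (m.chi ω')) ⟨k, hk⟩ = 0 from H _ hs hns
  clear hns hs
  intro k hs hns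
  rw [Pi.sub_apply, homC_apply, homC_apply, sub_eq_zero, Units.val_inj]
  have hk := hs
  change k ∈ fittingHallOf S ⊔ W₁ at hk
  rw [sup_comm] at hk
  obtain ⟨z, hz, w, hw, ek⟩ := (Coprime.mem_sup_iff_of_le_normalizer'
    (m.W₁_le.trans m.S_le_normalizer)).1 hk
  subst ek
  rcases eq_or_ne w 1 with rfl | hw1
  · have hz1 : z = 1 := by_contra fun h1 => hns (Or.inl
      ⟨by rwa [mul_one], by rw [mul_one]; exact h1⟩)
    rw [show (⟨z * 1, hs⟩ : ↥K) = 1 from Subtype.ext (by show z * 1 = (1 : G); rw [mul_one]; exact hz1), map_one, map_one]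
  · obtain ⟨y, hy, c, hc, e⟩ := m.conj_P_W hz hw hw1
    let ky : ↥K := ⟨y, Subgroup.mem_sup_left hy⟩
    have hcw : c * w ∈ W₁ ⊔ W₂ := mul_mem (Subgroup.mem_sup_right hc) (Subgroup.mem_sup_left hw)
    have hval : ∀ ω : ↥(W₁ ⊔ W₂) →* ℂˣ, m.chi ω ⟨z * w, hs⟩ = ω ⟨c * w, hcw⟩ := fun ω => by
      rw [← m.chi_of_mem ω (k := ⟨c * w, m.W_le hcw⟩) hcw,
        show (⟨c * w, m.W_le hcw⟩ : ↥K) = ky * ⟨z * w, hs⟩ * ky⁻¹ from Subtype.ext e.symm,
        map_mul, map_mul, map_inv, mul_comm, inv_mul_cancel_left]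
    rw [hval, hval]
    rcases eq_or_ne c 1 with rfl | hc1
    · exact hag _ (by simpa using hw)
    · refine absurd (Or.inr ⟨y⁻¹, S.inv_mem (m.P_le hy), c * w, hcw, fun h => hc1 ?_,
        fun h => hw1 ?_, by rw [← e]; group⟩) hns
      · have h1 : c ∈ W₁ ⊓ W₂ := ⟨(W₁.mul_mem_cancel_right hw).1 h, hc⟩
        rwa [m.typeP.selfNormalizing.2.2.1, Subgroup.mem_bot] at h1
      · have h1 : w ∈ W₁ ⊓ W₂ := ⟨hw, (W₂.mul_mem_cancel_left hc).1 h⟩
        rwa [m.typeP.selfNormalizing.2.2.1, Subgroup.mem_bot] at h1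

end Member

end Cfsg.Agent.OddOrder.PF.S14
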