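import Cfsg.Agent.Lib.OddOrder.PF.S14_Member
import Cfsg.Agent.Lib.OddOrder.PF.S10_Bridge

/-!
The linear characters of `P = S_F` under the action of `S` (Peterfalvi 14): the retraction of
`P W₁` onto `W = W₁ × W₂`, the characters fixed by `W₁`, and the stabilisers of the regular ones.
-/

set_option autoImplicit false
set_option linter.style.haveILetI false
set_option linter.unusedSectionVars false

namespace Cfsg.Agent.OddOrder.PF.S14

open Cfsg Cfsg.Agent.OddOrder Cfsg.Agent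

universe u
variable {G : Type u} [Group G] [Finite G]

/-- A normal complement gives a retraction. -/
theorem exists_retraction {K : Type*} [Group K] [Finite K] {N H : Subgroup K} [N.Normal]
    (hd : N ⊓ H = ⊥) (hc : Nat.card N * Nat.card H = Nat.card K) :
    ∃ π : K →* H, (∀ h : H, π h = h) ∧ ∀ k : K, k * ((π k : K))⁻¹ ∈ N := by
  let g : H →* K ⧸ N := (QuotientGroup.mk' N).comp H.subtype
  have hinj : Function.Injective g := by
    refine (injective_iff_map_eq_one g).2 fun h hh => Subtype.ext ?_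
    have : (h : K) ∈ N ⊓ H := ⟨(QuotientGroup.eq_one_iff _).1 hh, h.2⟩
    rwa [hd, Subgroup.mem_bot] at this
  have hbij : Function.Bijective g := by
    refine hinj.bijective_of_nat_card_le (le_of_eq (Nat.eq_of_mul_eq_mul_left (Nat.card_pos (α := N)) ?_))
    rw [hc, mul_comm]
    exact (Subgroup.card_eq_card_quotient_mul_card_subgroup N).symm
  let π : K →* H := (MulEquiv.ofBijective g hbij).symm.toMonoidHom.comp (QuotientGroup.mk' N)
  refine ⟨π, fun h => (MulEquiv.symm_apply_apply (MulEquiv.ofBijective g hbij) h), fun k => ?_⟩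
  have h1 : g (π k) = QuotientGroup.mk' N k := (MulEquiv.ofBijective g hbij).apply_symm_apply _
  refine (QuotientGroup.eq_one_iff _).1 ?_
  rw [QuotientGroup.mk_mul, QuotientGroup.mk_inv]
  exact mul_inv_eq_one.2 h1.symm

omit [Finite G] in
theorem hom_ext_W {W₁ W₂ : Subgroup G} {ω ω' : ↥(W₁ ⊔ W₂) →* ℂˣ}
    (h1 : ∀ w : ↥(W₁ ⊔ W₂), (w : G) ∈ W₁ → ω w = ω' w)
    (h2 : ∀ w : ↥(W₁ ⊔ W₂), (w : G) ∈ W₂ → ω w = ω' w) : ω = ω' := by
  have hle : W₁ ⊔ W₂ ≤ (ω.eqLocus ω').map (W₁ ⊔ W₂).subtype := sup_le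
    (fun w hw => ⟨⟨w, Subgroup.mem_sup_left hw⟩, h1 _ hw, rfl⟩)
    (fun w hw => ⟨⟨w, Subgroup.mem_sup_right hw⟩, h2 _ hw, rfl⟩)
  refine MonoidHom.ext fun w => ?_
  obtain ⟨w', hw', e⟩ := hle w.2
  rw [← show w' = w from Subtype.ext e]
  exact hw'

omit [Finite G] in
theorem inv_inv_hom {K : Type*} [Group K] (f : K →* ℂˣ) : f⁻¹⁻¹ = f :=
  MonoidHom.ext fun x => inv_inv (f x)

namespace Member

variable {S W₁ U W₂ : Subgroup G} {p q : ℕ} (m : Member S W₁ U W₂ p q)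
include m

omit [Finite G] in
/-- Conjugation by elements of `S` on `P`. -/
def conjP : ↥S →* MulAut ↥(fittingHallOf S) :=
  (fittingHallOf S).normalizerMonoidHom.comp (Subgroup.inclusion m.S_le_normalizer)

omit [Finite G] in
theorem coe_conjP (s : ↥S) (x : ↥(fittingHallOf S)) :
    ((m.conjP s x : ↥(fittingHallOf S)) : G) = (s : G) * x * (s : G)⁻¹ := rfl

omit [Finite G] in
/-- The action of `S` on the linear characters of `P`. -/
def act : ↥S →* Equiv.Perm (↥(fittingHallOf S) →* ℂˣ) where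
  toFun s :=
    { toFun := fun lam => lam.comp (m.conjP s⁻¹).toMonoidHom
      invFun := fun lam => lam.comp (m.conjP s).toMonoidHom
      left_inv := fun lam => MonoidHom.ext fun x => by simp
      right_inv := fun lam => MonoidHom.ext fun x => by simp }
  map_one' := Equiv.ext fun lam => MonoidHom.ext fun x => by simp
  map_mul' a b := Equiv.ext fun lam => MonoidHom.ext fun x => by simp [mul_inv_rev]

omit [Finite G] in
theorem act_apply (s : ↥S) (lam : ↥(fittingHallOf S) →* ℂˣ) (x : ↥(fittingHallOf S)) :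
    m.act s lam x = lam (m.conjP s⁻¹ x) := rfl

omit [Finite G] in
theorem act_mul_apply (s t : ↥S) (lam : ↥(fittingHallOf S) →* ℂˣ) :
    m.act (s * t) lam = m.act s (m.act t lam) := by rw [map_mul]; rfl

omit [Finite G] in
theorem act_one (s : ↥S) : m.act s 1 = 1 := MonoidHom.ext fun _ => rfl

omit [Finite G] in
theorem act_inv (s : ↥S) (lam : ↥(fittingHallOf S) →* ℂˣ) : m.act s lam⁻¹ = (m.act s lam)⁻¹ :=
  MonoidHom.ext fun _ => rfl

omit [Finite G] in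
theorem act_of_mem_P {s : ↥S} (hs : (s : G) ∈ fittingHallOf S)
    (lam : ↥(fittingHallOf S) →* ℂˣ) : m.act s lam = lam := by
  haveI := m.elem.1
  refine MonoidHom.ext fun x => ?_
  rw [m.act_apply]
  refine congrArg lam (Subtype.ext ?_)
  rw [m.coe_conjP, Subgroup.coe_inv, inv_inv]
  have e : (s : G) * x = x * s := congrArg Subtype.val (mul_comm' (⟨s, hs⟩ : ↥(fittingHallOf S)) x)
  rw [mul_assoc, ← e, inv_mul_cancel_left]

omit [Finite G] in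
theorem exists_decomp {s : G} (hs : s ∈ S) :
    ∃ x ∈ fittingHallOf S, ∃ a ∈ U, ∃ w ∈ W₁, s = x * a * w := by
  obtain ⟨d, hd, w, hw, rfl⟩ := m.typeP.W₁_compl.2.2.2 s hs
  obtain ⟨x, hx, a, ha, rfl⟩ := m.typeP.U_compl.2.2.2 d hd
  exact ⟨x, hx, a, ha, w, hw, rfl⟩

omit [Finite G] in
theorem conjP_conj (s : ↥S) (x : ↥(fittingHallOf S)) (lam : ↥(fittingHallOf S) →* ℂˣ) :
    lam (m.conjP s x) = m.act s⁻¹ lam x := by rw [m.act_apply, inv_inv]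

omit [Finite G] in
theorem regular_iff {lam : ↥(fittingHallOf S) →* ℂˣ} : RegularChar (fittingHallOf S) U lam ↔
    ∀ (a : G) (ha : a ∈ U), m.act ⟨a, m.U_le ha⟩ lam = lam → a = 1 := by
  refine ⟨fun h a ha hfix => ?_, fun h a ha hfix => ?_⟩
  · refine inv_eq_one.1 (h a⁻¹ (inv_mem ha) fun y hy hxy => ?_)
    conv_rhs => rw [← hfix]
    exact congrArg lam (Subtype.ext (by
      simp only [MulEquiv.coe_toMonoidHom, m.coe_conjP]; simp))
  · refine inv_eq_one.1 (h a⁻¹ (inv_mem ha) (MonoidHom.ext fun y => ?_))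
    refine Eq.trans ?_ (hfix y y.2 (conj_mem_of_le_normalizer (m.U_le.trans m.S_le_normalizer) ha y.2))
    exact congrArg lam (Subtype.ext (by simp only [MulEquiv.coe_toMonoidHom, m.coe_conjP]; simp))

omit [Finite G] in
theorem regular_ne_one {lam : ↥(fittingHallOf S) →* ℂˣ}
    (h : RegularChar (fittingHallOf S) U lam) : lam ≠ 1 := by
  rintro rfl
  exact m.U_ne ((Subgroup.eq_bot_iff_forall _).2 fun a ha => h a ha fun _ _ _ => rfl)

omit [Finite G] in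
theorem regular_inv {lam : ↥(fittingHallOf S) →* ℂˣ}
    (h : RegularChar (fittingHallOf S) U lam) : RegularChar (fittingHallOf S) U lam⁻¹ :=
  fun a ha hfix => h a ha fun y hy hxy => inv_injective (hfix y hy hxy)

omit [Finite G] in
theorem regular_act {lam : ↥(fittingHallOf S) →* ℂˣ}
    (h : RegularChar (fittingHallOf S) U lam) (s : ↥S) :
    RegularChar (fittingHallOf S) U (m.act s lam) := by
  haveI := m.U_comm
  rw [m.regular_iff] at h ⊢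
  intro a ha hfix
  obtain ⟨x, hx, b, hb, w, hw, e⟩ := m.exists_decomp s.2
  have hs : s = ⟨x, m.P_le hx⟩ * (⟨b, m.U_le hb⟩ * ⟨w, m.W₁_le hw⟩) :=
    Subtype.ext (by rw [e]; exact mul_assoc _ _ _)
  rw [hs, m.act_mul_apply, m.act_of_mem_P (s := ⟨x, m.P_le hx⟩) hx] at hfix
  set t : ↥S := ⟨b, m.U_le hb⟩ * ⟨w, m.W₁_le hw⟩ with ht
  have hc : m.act (t⁻¹ * ⟨a, m.U_le ha⟩ * t) lam = lam := by
    rw [m.act_mul_apply, m.act_mul_apply, hfix, ← m.act_mul_apply, inv_mul_cancel, map_one]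
    rfl
  have hab : b⁻¹ * a * b = a := by
    have e1 : a * b = b * a := congrArg Subtype.val (mul_comm' (⟨a, ha⟩ : U) ⟨b, hb⟩)
    rw [mul_assoc, e1, inv_mul_cancel_left]
  have hmem : w⁻¹ * a * w ∈ U := by
    simpa using conj_mem_of_le_normalizer m.typeP.U_normal (inv_mem hw) ha
  have h1 := h (w⁻¹ * a * w) hmem (by
    convert hc using 3
    refine Subtype.ext ?_
    simp only [ht, mul_inv_rev, Subgroup.coe_mul, Subgroup.coe_inv]
    conv_lhs => rw [← hab]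
    group)
  have h2 := congrArg (fun z => w * z * w⁻¹) h1
  simpa [mul_assoc] using h2

/-! ### The retraction of `P W₁` onto `W` -/

omit [Finite G] in
theorem W_le : W₁ ⊔ W₂ ≤ fittingHallOf S ⊔ W₁ :=
  sup_le le_sup_right (m.W₂_le.trans le_sup_left)

omit [Finite G] in
theorem P_inf_W₁ : fittingHallOf S ⊓ W₁ = ⊥ :=
  le_bot_iff.1 (m.typeP.W₁_compl.2.2.1 ▸ inf_le_inf_right _ m.P_le_commutator)

theorem card_K : Nat.card ↥(fittingHallOf S ⊔ W₁) = p ^ q * q := by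
  rw [sup_comm, Coprime.card_sup_of_le_normalizer (m.W₁_le.trans m.S_le_normalizer)
    (inf_comm W₁ _ ▸ m.P_inf_W₁), m.q_eq, m.card_P, mul_comm]

theorem card_W : Nat.card ↥(W₁ ⊔ W₂) = q * p := by
  have hn : W₁ ≤ Subgroup.normalizer (W₂ : Set G) := le_normalizer_of_conj fun w hw c hc => by
    rwa [m.typeP.selfNormalizing.2.2.2.1 w hw c hc, mul_inv_cancel_right]
  rw [Coprime.card_sup_of_le_normalizer hn m.typeP.selfNormalizing.2.2.1, m.q_eq, m.p_eq]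

omit [Finite G] in
theorem exists_mul_W {x : G} (hx : x ∈ W₁ ⊔ W₂) : ∃ a ∈ W₁, ∃ b ∈ W₂, x = a * b := by
  have hn : W₁ ≤ Subgroup.normalizer (W₂ : Set G) := le_normalizer_of_conj fun w hw c hc => by
    rwa [m.typeP.selfNormalizing.2.2.2.1 w hw c hc, mul_inv_cancel_right]
  obtain ⟨a, ha, b, hb, e⟩ := (Coprime.mem_sup_iff_of_le_normalizer hn).1 hx
  exact ⟨a, ha, b, hb, e.symm⟩

theorem exists_retr : ∃ π : ↥(fittingHallOf S ⊔ W₁) →* ↥(W₁ ⊔ W₂),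
    (∀ k : ↥(fittingHallOf S ⊔ W₁), (k : G) ∈ W₁ ⊔ W₂ → (π k : G) = k) ∧
      ∃ w ∈ W₁, ∀ k : ↥(fittingHallOf S ⊔ W₁), ∃ y ∈ fittingHallOf S,
        (k : G) = y * (w * y⁻¹ * w⁻¹) * π k := by
  haveI := m.elem.1
  set P := fittingHallOf S
  obtain ⟨w, hw, hw1⟩ := (Subgroup.bot_or_exists_ne_one W₁).resolve_left m.typeP.W₁_ne
  have hwn : ∀ x ∈ P, w * x * w⁻¹ ∈ P := fun x hx =>
    conj_mem_of_le_normalizer (m.W₁_le.trans m.S_le_normalizer) hw hx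
  have hcomm : ∀ a ∈ P, ∀ b ∈ P, a * b = b * a := fun a ha b hb =>
    congrArg Subtype.val (mul_comm' (⟨a, ha⟩ : P) ⟨b, hb⟩)
  let f : P →* P :=
    { toFun := fun x => ⟨(x : G) * (w * (x : G)⁻¹ * w⁻¹), mul_mem x.2 (hwn _ (inv_mem x.2))⟩
      map_one' := Subtype.ext (by simp)
      map_mul' := fun x y => Subtype.ext (by
        simp only [Subgroup.coe_mul, mul_inv_rev]
        have h1 : (y : G) * (w * (x : G)⁻¹ * w⁻¹) = w * (x : G)⁻¹ * w⁻¹ * y :=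
          hcomm _ y.2 _ (hwn _ (inv_mem x.2))
        have h2 : (y : G)⁻¹ * (x : G)⁻¹ = (x : G)⁻¹ * (y : G)⁻¹ :=
          hcomm _ (inv_mem y.2) _ (inv_mem x.2)
        calc (x : G) * y * (w * ((y : G)⁻¹ * (x : G)⁻¹) * w⁻¹)
            = x * (y * (w * (x : G)⁻¹ * w⁻¹)) * (w * (y : G)⁻¹ * w⁻¹) := by rw [h2]; group
          _ = _ := by rw [h1]; group) }
  have hker : Nat.card f.ker = p := by
    rw [← m.p_eq]
    refine Nat.card_congr
      { toFun := fun x => ⟨(x.1 : G), ?_⟩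
        invFun := fun c => ⟨⟨c, m.W₂_le c.2⟩, ?_⟩
        left_inv := fun x => rfl
        right_inv := fun c => rfl }
    · rw [← m.cent_P_W hw hw1]
      refine ⟨x.1.2, Subgroup.mem_centralizer_singleton_iff.2 ?_⟩
      have hx : (x.1 : G) * (w * (x.1 : G)⁻¹ * w⁻¹) = 1 := congrArg Subtype.val x.2
      calc (x.1 : G) * w = (x.1 : G) * (w * (x.1 : G)⁻¹ * w⁻¹) * (w * x.1) := by group
        _ = w * x.1 := by rw [hx, one_mul]
    · have hc : w * (c : G)⁻¹ = (c : G)⁻¹ * w :=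
        m.typeP.selfNormalizing.2.2.2.1 w hw _ (inv_mem c.2)
      exact Subtype.ext (show (c : G) * (w * (c : G)⁻¹ * w⁻¹) = 1 by rw [hc]; group)
  have hrange : Nat.card f.range * p = p ^ q := by
    have h := f.ker.card_mul_index
    rw [Subgroup.index_ker, hker, m.card_P] at h
    rw [← h, mul_comm]
  set N₀ : Subgroup G := f.range.map P.subtype with hN₀
  have hN₀P : N₀ ≤ P := Subgroup.map_subtype_le _
  have hmem : ∀ z, z ∈ N₀ ↔ ∃ y ∈ P, y * (w * y⁻¹ * w⁻¹) = z := fun z =>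
    ⟨fun ⟨_, ⟨y, rfl⟩, e⟩ => ⟨y, y.2, e⟩, fun ⟨y, hy, e⟩ => ⟨f ⟨y, hy⟩, ⟨_, rfl⟩, e⟩⟩
  have hdW₂ : ∀ z ∈ N₀, z ∈ W₂ → z = 1 := by
    intro z hz hz2
    obtain ⟨y, hy, e⟩ := (hmem z).1 hz
    have hwz : w * z = z * w := m.typeP.selfNormalizing.2.2.2.1 w hw z hz2
    have h1 : w * y * w⁻¹ = z⁻¹ * y := by
      rw [← e]; group
    have hpow : ∀ i : ℕ, w ^ i * y * (w ^ i)⁻¹ = (z⁻¹) ^ i * y := by
      intro i
      induction i with
      | zero => simp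
      | succ i ih =>
        have hz' : w * (z⁻¹) ^ i * w⁻¹ = (z⁻¹) ^ i := by
          rw [((Commute.inv_right (show Commute w z from hwz)).pow_right i).eq, mul_inv_cancel_right]
        calc w ^ (i + 1) * y * (w ^ (i + 1))⁻¹ = w * (w ^ i * y * (w ^ i)⁻¹) * w⁻¹ := by
              rw [pow_succ']; group
          _ = (w * (z⁻¹) ^ i * w⁻¹) * (w * y * w⁻¹) := by rw [ih]; group
          _ = _ := by rw [hz', h1, pow_succ, mul_assoc]
    have hwq : w ^ q = 1 := by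
      rw [← m.q_eq]; exact congrArg Subtype.val (pow_card_eq_one' (x := (⟨w, hw⟩ : W₁)))
    have hq0 := hpow q
    rw [hwq, one_mul, inv_one, mul_one, eq_comm, mul_eq_right, inv_pow, inv_eq_one] at hq0
    have hp0 : z ^ p = 1 := by
      rw [← m.p_eq]; exact congrArg Subtype.val (pow_card_eq_one' (x := (⟨z, hz2⟩ : W₂)))
    exact orderOf_eq_one_iff.1 (Nat.eq_one_of_dvd_coprimes
      ((Nat.coprime_primes m.hp m.hq).2 m.p_ne_q) (orderOf_dvd_of_pow_eq_one hp0)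
      (orderOf_dvd_of_pow_eq_one hq0))
  have hNK : P ⊔ W₁ ≤ Subgroup.normalizer (N₀ : Set G) := by
    refine sup_le (le_normalizer_of_conj fun x hx z hz => ?_)
      (le_normalizer_of_conj fun v hv z hz => ?_)
    · rwa [hcomm x hx z (hN₀P hz), mul_inv_cancel_right]
    · obtain ⟨y, hy, rfl⟩ := (hmem z).1 hz
      have hvw : v * w = w * v := by
        haveI : IsCyclic W₁ := m.typeP.W₁_cyclic
        letI : CommGroup W₁ := IsCyclic.commGroup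
        exact congrArg Subtype.val (mul_comm (⟨v, hv⟩ : W₁) ⟨w, hw⟩)
      refine (hmem _).2 ⟨v * y * v⁻¹,
        conj_mem_of_le_normalizer (m.W₁_le.trans m.S_le_normalizer) hv hy, ?_⟩
      have e1 : v⁻¹ * w * v = w := by rw [mul_assoc, ← hvw, inv_mul_cancel_left]
      have e2 : v⁻¹ * w⁻¹ * v = w⁻¹ := by
        calc v⁻¹ * w⁻¹ * v = (v⁻¹ * w * v)⁻¹ := by group
          _ = w⁻¹ := by rw [e1]
      calc v * y * v⁻¹ * (w * (v * y * v⁻¹)⁻¹ * w⁻¹)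
          = v * (y * (v⁻¹ * w * v) * y⁻¹ * (v⁻¹ * w⁻¹ * v)) * v⁻¹ := by group
        _ = v * (y * (w * y⁻¹ * w⁻¹)) * v⁻¹ := by rw [e1, e2]; group
  set N : Subgroup ↥(P ⊔ W₁) := N₀.subgroupOf (P ⊔ W₁) with hN
  set H : Subgroup ↥(P ⊔ W₁) := (W₁ ⊔ W₂).subgroupOf (P ⊔ W₁) with hH
  haveI : N.Normal := ⟨fun n hn g => conj_mem_of_le_normalizer hNK g.2 hn⟩
  have hd : N ⊓ H = ⊥ := by
    refine (Subgroup.eq_bot_iff_forall _).2 fun z ⟨hzN, hzH⟩ => Subtype.ext ?_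
    obtain ⟨a, ha, b, hb, e⟩ := m.exists_mul_W hzH
    have hb' : a ∈ P ⊓ W₁ := ⟨by
      have h1 : (P ⊔ W₁).subtype z * b⁻¹ ∈ P := mul_mem (hN₀P hzN) (inv_mem (m.W₂_le hb))
      rwa [e, mul_inv_cancel_right] at h1, ha⟩
    rw [m.P_inf_W₁, Subgroup.mem_bot] at hb'
    rw [hb', one_mul] at e
    exact hdW₂ _ hzN (by show (P ⊔ W₁).subtype z ∈ W₂; rw [e]; exact hb)
  have hc : Nat.card N * Nat.card H = Nat.card ↥(P ⊔ W₁) := by
    rw [Nat.card_congr (Subgroup.subgroupOfEquivOfLe (hN₀P.trans le_sup_left)).toEquiv,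
      Nat.card_congr (Subgroup.subgroupOfEquivOfLe m.W_le).toEquiv, m.card_W, m.card_K,
      Subgroup.card_map_of_injective P.subtype_injective, ← hrange]
    ring
  obtain ⟨π, hπ1, hπ2⟩ := exists_retraction hd hc
  let e : H ≃* ↥(W₁ ⊔ W₂) := Subgroup.subgroupOfEquivOfLe m.W_le
  refine ⟨e.toMonoidHom.comp π, fun k hk => ?_, w, hw, fun k => ?_⟩
  · show (((π k : ↥(P ⊔ W₁))) : G) = k
    rw [hπ1 ⟨k, hk⟩]
  · obtain ⟨y, hy, e'⟩ := (hmem _).1 (hπ2 k)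
    refine ⟨y, hy, ?_⟩
    rw [e']
    show (k : G) = ((k : G) * (((π k : ↥(P ⊔ W₁)) : G))⁻¹) * _
    show (k : G) = ((k : G) * (((π k : ↥(P ⊔ W₁)) : G))⁻¹) * ((π k : ↥(P ⊔ W₁)) : G)
    exact (inv_mul_cancel_right _ _).symm

/-- The retraction of `P W₁` onto `W`. -/
noncomputable def retr : ↥(fittingHallOf S ⊔ W₁) →* ↥(W₁ ⊔ W₂) := m.exists_retr.choose

theorem retr_of_mem {k : ↥(fittingHallOf S ⊔ W₁)} (hk : (k : G) ∈ W₁ ⊔ W₂) :
    (m.retr k : G) = k :=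
  m.exists_retr.choose_spec.1 k hk

/-- The character of `P W₁` lifted from one of `W`. -/
noncomputable def chi (ω : ↥(W₁ ⊔ W₂) →* ℂˣ) : ↥(fittingHallOf S ⊔ W₁) →* ℂˣ := ω.comp m.retr

/-- Its restriction to `P`. -/
noncomputable def lamP (ω : ↥(W₁ ⊔ W₂) →* ℂˣ) : ↥(fittingHallOf S) →* ℂˣ :=
  (m.chi ω).comp (Subgroup.inclusion le_sup_left)

theorem chi_of_mem (ω : ↥(W₁ ⊔ W₂) →* ℂˣ) {k : ↥(fittingHallOf S ⊔ W₁)}
    (hk : (k : G) ∈ W₁ ⊔ W₂) : m.chi ω k = ω ⟨k, hk⟩ :=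
  congrArg ω (Subtype.ext (m.retr_of_mem hk))

theorem retr_mem_W₂ {k : ↥(fittingHallOf S ⊔ W₁)} (hk : (k : G) ∈ fittingHallOf S) :
    (m.retr k : G) ∈ W₂ := by
  obtain ⟨w, hw, h⟩ := m.exists_retr.choose_spec.2
  obtain ⟨y, hy, e⟩ := h k
  set c : ↥(W₁ ⊔ W₂) := m.retr k
  obtain ⟨a, ha, b, hb, e'⟩ := m.exists_mul_W c.2
  have hP : (c : G) ∈ fittingHallOf S := by
    have h1 : y * (w * y⁻¹ * w⁻¹) ∈ fittingHallOf S := mul_mem hy
      (conj_mem_of_le_normalizer (m.W₁_le.trans m.S_le_normalizer) hw (inv_mem hy))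
    have h2 := mul_mem (inv_mem h1) hk
    rwa [e, inv_mul_cancel_left] at h2
  have ha1 : a ∈ fittingHallOf S ⊓ W₁ := by
    refine ⟨?_, ha⟩
    have h3 := mul_mem hP (inv_mem (m.W₂_le hb))
    rwa [e', mul_inv_cancel_right] at h3
  rw [m.P_inf_W₁, Subgroup.mem_bot] at ha1
  rwa [e', ha1, one_mul]

theorem lamP_mul (ω ω' : ↥(W₁ ⊔ W₂) →* ℂˣ) : m.lamP (ω * ω') = m.lamP ω * m.lamP ω' := rfl

theorem lamP_inv (ω : ↥(W₁ ⊔ W₂) →* ℂˣ) : m.lamP ω⁻¹ = (m.lamP ω)⁻¹ := rfl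

theorem lamP_ann (φ : Ann W₁ W₂ W₂) : m.lamP φ.1 = 1 :=
  MonoidHom.ext fun x => φ.2 _ (m.retr_mem_W₂ x.2)

theorem lamP_apply_W₂ (ω : ↥(W₁ ⊔ W₂) →* ℂˣ) {c : ↥(W₁ ⊔ W₂)} (hc : (c : G) ∈ W₂) :
    m.lamP ω ⟨c, m.W₂_le hc⟩ = ω c :=
  m.chi_of_mem ω (k := Subgroup.inclusion le_sup_left ⟨(c : G), m.W₂_le hc⟩) c.2

theorem lamP_injective : Function.Injective fun ψ : Ann W₁ W₂ W₁ => m.lamP ψ.1 := by
  intro ψ ψ' h
  refine Subtype.ext (hom_ext_W (fun w hw => (ψ.2 w hw).trans (ψ'.2 w hw).symm) fun w hw => ?_)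
  rw [← m.lamP_apply_W₂ ψ.1 hw, ← m.lamP_apply_W₂ ψ'.1 hw]
  exact congrArg (fun l : ↥(fittingHallOf S) →* ℂˣ => l ⟨w, m.W₂_le hw⟩) h

theorem lamP_one : m.lamP 1 = 1 := rfl

theorem lamP_eq_one_iff (ψ : Ann W₁ W₂ W₁) : m.lamP ψ.1 = 1 ↔ ψ = annOne W₁ W₂ W₁ :=
  ⟨fun h => m.lamP_injective (h.trans m.lamP_one.symm), fun h => by rw [h]; rfl⟩

theorem act_lamP {w : G} (hw : w ∈ W₁) (ω : ↥(W₁ ⊔ W₂) →* ℂˣ) :
    m.act ⟨w, m.W₁_le hw⟩ (m.lamP ω) = m.lamP ω := by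
  refine MonoidHom.ext fun x => ?_
  let kw : ↥(fittingHallOf S ⊔ W₁) := ⟨w, Subgroup.mem_sup_right hw⟩
  let kx : ↥(fittingHallOf S ⊔ W₁) := Subgroup.inclusion le_sup_left x
  have e : Subgroup.inclusion le_sup_left (m.conjP (⟨w, m.W₁_le hw⟩ : ↥S)⁻¹ x) =
      kw⁻¹ * kx * kw := Subtype.ext (by
      show ((m.conjP _ x : ↥(fittingHallOf S)) : G) = _
      rw [m.coe_conjP]; simp [kw, kx])
  show m.chi ω (Subgroup.inclusion le_sup_left (m.conjP _ x)) = m.chi ω kx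
  rw [e, map_mul, map_mul, mul_comm, ← mul_assoc, ← map_mul, mul_inv_cancel, map_one, one_mul]

theorem act_eq_of_fixed {w : G} (hw : w ∈ W₁) (hw1 : w ≠ 1)
    {lam : ↥(fittingHallOf S) →* ℂˣ} (h : m.act ⟨w, m.W₁_le hw⟩ lam = lam) {v : G} (hv : v ∈ W₁) :
    m.act ⟨v, m.W₁_le hv⟩ lam = lam := by
  haveI := Fact.mk m.hq
  obtain ⟨n, hn⟩ : ∃ n : ℕ, (⟨w, hw⟩ : W₁) ^ n = ⟨v, hv⟩ :=
    mem_powers_iff_mem_zpowers.2 (mem_zpowers_of_prime_card m.q_eq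
      (fun e => hw1 (congrArg Subtype.val e)))
  have e : (⟨v, m.W₁_le hv⟩ : ↥S) = ⟨w, m.W₁_le hw⟩ ^ n :=
    Subtype.ext (by simpa using (congrArg Subtype.val hn).symm)
  rw [e, map_pow]
  clear hn e
  induction n with
  | zero => rfl
  | succ n ih => rw [pow_succ, Equiv.Perm.mul_apply, h, ih]

/-- The characters of `P` fixed by `W₁` come from `W`. -/
theorem exists_lamP {lam : ↥(fittingHallOf S) →* ℂˣ} {w : G} (hw : w ∈ W₁) (hw1 : w ≠ 1)
    (h : m.act ⟨w, m.W₁_le hw⟩ lam = lam) : ∃ ψ : Ann W₁ W₂ W₁, lam = m.lamP ψ.1 := by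
  classical
  obtain ⟨hfin, -, hc2, -⟩ := ann_facts m.typeP.selfNormalizing
  haveI := m.typeP.selfNormalizing.2.2.2.2.1
  haveI : IsCyclic W₂ := isCyclic_of_injective _
    (Subgroup.inclusion_injective (le_sup_right : W₂ ≤ W₁ ⊔ W₂))
  letI : CommGroup W₂ := IsCyclic.commGroup
  let r : Ann W₁ W₂ W₁ → (↥W₂ →* ℂˣ) := fun ψ => ψ.1.comp (Subgroup.inclusion le_sup_right)
  have hinj : Function.Injective r := fun ψ ψ' e => Subtype.ext (hom_ext_W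
    (fun v hv => (ψ.2 v hv).trans (ψ'.2 v hv).symm) fun v hv => by
      exact congrArg (fun l : ↥W₂ →* ℂˣ => l ⟨(v : G), hv⟩) e)
  obtain ⟨ψ, hψ⟩ := (hinj.bijective_of_nat_card_le (le_of_eq (by
    rw [hc2, CommGroup.card_monoidHom_of_hasEnoughRootsOfUnity]))).2
    (lam.comp (Subgroup.inclusion m.W₂_le))
  refine ⟨ψ, MonoidHom.ext fun x => ?_⟩
  obtain ⟨v, hv, hsp⟩ := m.exists_retr.choose_spec.2
  set kx : ↥(fittingHallOf S ⊔ W₁) := Subgroup.inclusion le_sup_left x with hkx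
  obtain ⟨y, hy, e⟩ := hsp kx
  have hc := m.retr_mem_W₂ (k := kx) x.2
  set c : ↥(fittingHallOf S) := ⟨(m.retr kx : G), m.W₂_le hc⟩ with hcdef
  set z : ↥(fittingHallOf S) := ⟨y, hy⟩ with hz
  have hx : x = z * m.conjP ⟨v, m.W₁_le hv⟩ z⁻¹ * c := Subtype.ext (by
    rw [Subgroup.coe_mul, Subgroup.coe_mul, m.coe_conjP]
    exact e)
  have hfix : lam (m.conjP ⟨v, m.W₁_le hv⟩ z⁻¹) = lam z⁻¹ := by
    have hv' := m.act_eq_of_fixed hw hw1 h (inv_mem hv)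
    rw [m.conjP_conj]
    exact congrArg (fun l : ↥(fittingHallOf S) →* ℂˣ => l z⁻¹) hv'
  rw [hx, map_mul, map_mul, hfix, ← map_mul, mul_inv_cancel, map_one, one_mul]
  have h1 : ψ.1 (m.retr kx) = lam c := by
    exact congrArg (fun l : ↥W₂ →* ℂˣ => l ⟨_, hc⟩) hψ
  rw [← h1, ← hx]
  rfl

/-- A non-trivial character fixed by `W₁` is regular. -/
theorem regular_lamP {ψ : Ann W₁ W₂ W₁} (hψ : ψ ≠ annOne W₁ W₂ W₁) :
    RegularChar (fittingHallOf S) U (m.lamP ψ.1) := by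
  haveI := m.elem.1
  haveI := m.U_comm
  rw [m.regular_iff]
  intro a ha hfix
  set P := fittingHallOf S
  set lam := m.lamP ψ.1
  let Y : Set G := {a | ∃ ha : a ∈ U, m.act ⟨a, m.U_le ha⟩ lam = lam}
  let D : Subgroup G := Subgroup.closure
    {z | ∃ a ∈ Y, ∃ x ∈ P, z = a * x * a⁻¹ * x⁻¹}
  have hDle : D ≤ lam.ker.map P.subtype := by
    refine (Subgroup.closure_le _).2 ?_
    rintro z ⟨b, ⟨hb, hbfix⟩, x, hx, rfl⟩
    refine ⟨m.conjP ⟨b, m.U_le hb⟩ ⟨x, hx⟩ * (⟨x, hx⟩ : P)⁻¹, ?_, rfl⟩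
    rw [SetLike.mem_coe, MonoidHom.mem_ker, map_mul, map_inv, mul_inv_eq_one, m.conjP_conj,
      map_inv]
    exact congrArg (fun l : ↥P →* ℂˣ => l ⟨x, hx⟩) ((Equiv.symm_apply_eq _).2 hbfix.symm)
  have hDn : ∀ H : Subgroup G, H ≤ Subgroup.normalizer (P : Set G) →
      (∀ g ∈ H, ∀ b ∈ Y, g * b * g⁻¹ ∈ Y) → H ≤ Subgroup.normalizer (D : Set G) := by
    intro H hH hY
    refine le_normalizer_of_conj fun g hg z hz => ?_
    have : z ∈ D.comap (MulAut.conj g).toMonoidHom := by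
      refine (Subgroup.closure_le _).2 ?_ hz
      rintro z ⟨b, hb, x, hx, rfl⟩
      exact Subgroup.subset_closure ⟨g * b * g⁻¹, hY g hg b hb, g * x * g⁻¹,
        conj_mem_of_le_normalizer hH hg hx, by simp [MulAut.conj_apply]; group⟩
    exact this
  have hUD : U ≤ Subgroup.normalizer (D : Set G) := hDn U (m.U_le.trans m.S_le_normalizer)
    fun g hg b hb => by
      obtain ⟨hb, -⟩ := id hb
      have e : g * b = b * g := congrArg Subtype.val (mul_comm' (⟨g, hg⟩ : U) ⟨b, hb⟩)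
      rw [e, mul_inv_cancel_right]
      assumption
  have hWD : W₁ ≤ Subgroup.normalizer (D : Set G) := hDn W₁ (m.W₁_le.trans m.S_le_normalizer)
    fun g hg b ⟨hb, hbfix⟩ => by
      refine ⟨conj_mem_of_le_normalizer m.typeP.U_normal hg hb, ?_⟩
      have e : (⟨g * b * g⁻¹, m.U_le (conj_mem_of_le_normalizer m.typeP.U_normal hg hb)⟩ : ↥S) =
          ⟨g, m.W₁_le hg⟩ * ⟨b, m.U_le hb⟩ * ⟨g⁻¹, m.W₁_le (inv_mem hg)⟩ := Subtype.ext rfl
      rw [e, m.act_mul_apply, m.act_mul_apply, m.act_lamP (inv_mem hg), hbfix, m.act_lamP hg]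
  rcases m.irred_aux.2 D (hDle.trans (Subgroup.map_subtype_le _)) hUD hWD with h | h
  · refine m.faithful ha fun x hx => ?_
    have hz : a * x * a⁻¹ * x⁻¹ ∈ D := Subgroup.subset_closure ⟨a, ⟨ha, hfix⟩, x, hx, rfl⟩
    rw [h, Subgroup.mem_bot, mul_inv_eq_one] at hz
    exact mul_inv_eq_iff_eq_mul.1 hz
  · refine absurd ((m.lamP_eq_one_iff ψ).1 (MonoidHom.ext fun x => ?_)) hψ
    obtain ⟨x', hx', e⟩ := hDle (h.ge x.2)
    rw [← show x' = x from Subtype.ext e]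
    exact hx'

omit [Finite G] in
theorem not_mem_P_of_W₁ {w : G} (hw : w ∈ W₁) (hw1 : w ≠ 1) : w ∉ fittingHallOf S := fun h => by
  have : w ∈ fittingHallOf S ⊓ W₁ := ⟨h, hw⟩
  rw [m.P_inf_W₁, Subgroup.mem_bot] at this
  exact hw1 this

/-- Conjugate to a character fixed by `W₁`. -/
def MuType (lam : ↥(fittingHallOf S) →* ℂˣ) : Prop :=
  ∃ (a : G) (ha : a ∈ U) (ψ : Ann W₁ W₂ W₁), ψ ≠ annOne W₁ W₂ W₁ ∧
    lam = m.act ⟨a, m.U_le ha⟩ (m.lamP ψ.1)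

/-- Regular and not conjugate to a character fixed by `W₁`. -/
def Free (lam : ↥(fittingHallOf S) →* ℂˣ) : Prop :=
  RegularChar (fittingHallOf S) U lam ∧ ¬ m.MuType lam

theorem mem_P_of_fixed {lam : ↥(fittingHallOf S) →* ℂˣ} (hl : m.Free lam) {s : ↥S}
    (h : m.act s lam = lam) : (s : G) ∈ fittingHallOf S := by
  obtain ⟨x, hx, a, ha, w, hw, e⟩ := m.exists_decomp s.2
  have hs : s = ⟨x, m.P_le hx⟩ * ⟨a * w, S.mul_mem (m.U_le ha) (m.W₁_le hw)⟩ :=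
    Subtype.ext (by rw [e]; exact mul_assoc _ _ _)
  rw [hs, m.act_mul_apply, m.act_of_mem_P (s := ⟨x, m.P_le hx⟩) hx] at h
  by_cases hw1 : w = 1
  · subst hw1
    have ha1 := (m.regular_iff.1 hl.1) a ha (by simpa using h)
    rw [e, ha1, mul_one, mul_one]
    exact hx
  · exfalso
    obtain ⟨y, hy, e'⟩ := m.conj_U_W ha hw hw1
    have hfix : m.act ⟨w, m.W₁_le hw⟩ (m.act ⟨y, m.U_le hy⟩ lam) = m.act ⟨y, m.U_le hy⟩ lam := by
      conv_rhs => rw [← h]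
      rw [← m.act_mul_apply, ← m.act_mul_apply]
      refine congrArg (fun t : ↥S => m.act t lam) (Subtype.ext ?_)
      show w * y = y * (a * w)
      calc w * y = y * (a * w) * y⁻¹ * y := by rw [e']
        _ = y * (a * w) := inv_mul_cancel_right _ _
    obtain ⟨ψ, hψ⟩ := m.exists_lamP hw hw1 hfix
    have hψ1 : ψ ≠ annOne W₁ W₂ W₁ := fun e0 =>
      m.regular_ne_one (m.regular_act hl.1 ⟨y, m.U_le hy⟩) (by rw [hψ, (m.lamP_eq_one_iff ψ).2 e0])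
    refine hl.2 ⟨y⁻¹, inv_mem hy, ψ, hψ1, ?_⟩
    rw [← hψ, ← m.act_mul_apply, show (⟨y⁻¹, m.U_le (inv_mem hy)⟩ : ↥S) * ⟨y, m.U_le hy⟩ = 1 from
      Subtype.ext (inv_mul_cancel y), map_one]
    rfl

theorem mu_unique {a b : G} (ha : a ∈ U) (hb : b ∈ U) {ψ ψ' : Ann W₁ W₂ W₁}
    (hψ : ψ ≠ annOne W₁ W₂ W₁)
    (h : m.act ⟨a, m.U_le ha⟩ (m.lamP ψ.1) = m.act ⟨b, m.U_le hb⟩ (m.lamP ψ'.1)) :
    a = b ∧ ψ = ψ' := by
  obtain ⟨w, hw, hw1⟩ := (Subgroup.bot_or_exists_ne_one W₁).resolve_left m.typeP.W₁_ne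
  set A : ↥S := ⟨a, m.U_le ha⟩
  set B : ↥S := ⟨b, m.U_le hb⟩
  set Wg : ↥S := ⟨w, m.W₁_le hw⟩
  set c : ↥S := B⁻¹ * A
  have hc : m.act c (m.lamP ψ.1) = m.lamP ψ'.1 := by
    rw [m.act_mul_apply, h, ← m.act_mul_apply, inv_mul_cancel, map_one]; rfl
  have hfix : m.act (c⁻¹ * Wg * c * Wg⁻¹) (m.lamP ψ.1) = m.lamP ψ.1 := by
    rw [m.act_mul_apply, show Wg⁻¹ = ⟨w⁻¹, m.W₁_le (inv_mem hw)⟩ from Subtype.ext rfl,
      m.act_lamP (inv_mem hw), m.act_mul_apply, m.act_mul_apply, hc, m.act_lamP hw, ← hc,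
      ← m.act_mul_apply, inv_mul_cancel, map_one]
    rfl
  have hmem : ((c⁻¹ * Wg * c * Wg⁻¹ : ↥S) : G) ∈ U := by
    have e : ((c⁻¹ * Wg * c * Wg⁻¹ : ↥S) : G) = (b⁻¹ * a)⁻¹ * (w * (b⁻¹ * a) * w⁻¹) := by
      simp [c, A, B, Wg, mul_assoc]
    rw [e]
    exact mul_mem (inv_mem (mul_mem (inv_mem hb) ha))
      (conj_mem_of_le_normalizer m.typeP.U_normal hw (mul_mem (inv_mem hb) ha))
  have h1 := (m.regular_iff.1 (m.regular_lamP hψ)) _ hmem hfix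
  have h2 : w * (b⁻¹ * a) = b⁻¹ * a * w := by
    have h1' : (b⁻¹ * a)⁻¹ * (w * (b⁻¹ * a) * w⁻¹) = 1 := by
      rw [← h1]; simp [c, A, B, Wg, mul_assoc]
    exact mul_inv_eq_iff_eq_mul.1 (inv_mul_eq_one.1 h1').symm
  obtain rfl : b = a := inv_mul_eq_one.1 (m.fpf hw hw1 (mul_mem (inv_mem hb) ha) h2)
  exact ⟨rfl, m.lamP_injective ((m.act ⟨_, m.U_le ha⟩).injective h)⟩

theorem fixed_lamP {ψ : Ann W₁ W₂ W₁} (hψ : ψ ≠ annOne W₁ W₂ W₁) {s : ↥S} :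
    m.act s (m.lamP ψ.1) = m.lamP ψ.1 ↔ (s : G) ∈ fittingHallOf S ⊔ W₁ := by
  obtain ⟨x, hx, a, ha, w, hw, e⟩ := m.exists_decomp s.2
  have hs : s = ⟨x, m.P_le hx⟩ * (⟨a, m.U_le ha⟩ * ⟨w, m.W₁_le hw⟩) :=
    Subtype.ext (by rw [e]; exact mul_assoc _ _ _)
  have hact : m.act s (m.lamP ψ.1) = m.act ⟨a, m.U_le ha⟩ (m.lamP ψ.1) := by
    rw [hs, m.act_mul_apply, m.act_of_mem_P (s := ⟨x, m.P_le hx⟩) hx, m.act_mul_apply,
      m.act_lamP hw]
  rw [hact]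
  refine ⟨fun h => ?_, fun h => ?_⟩
  · rw [e, (m.regular_iff.1 (m.regular_lamP hψ)) a ha h, mul_one]
    exact mul_mem (Subgroup.mem_sup_left hx) (Subgroup.mem_sup_right hw)
  · have h1 : a ∈ fittingHallOf S ⊔ W₁ := by
      have := mul_mem (mul_mem (inv_mem (Subgroup.mem_sup_left hx)) h)
        (inv_mem (Subgroup.mem_sup_right (S := fittingHallOf S) hw))
      rwa [e, mul_assoc x, inv_mul_cancel_left, mul_inv_cancel_right] at this
    rw [sup_comm] at h1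
    obtain ⟨z, hz, v, hv, e'⟩ := (Coprime.mem_sup_iff_of_le_normalizer'
      (m.W₁_le.trans m.S_le_normalizer)).1 h1
    have hv' : v ∈ (⁅S, S⁆ : Subgroup G) ⊓ W₁ := by
      refine ⟨?_, hv⟩
      have := mul_mem (inv_mem (m.P_le_commutator hz)) (m.typeP.U_compl.2.1 ha)
      rwa [← e', inv_mul_cancel_left] at this
    rw [m.typeP.W₁_compl.2.2.1, Subgroup.mem_bot] at hv'
    rw [hv', mul_one] at e'
    exact m.act_of_mem_P (s := ⟨a, m.U_le ha⟩) (e' ▸ hz) _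

theorem act_ne_inv {lam : ↥(fittingHallOf S) →* ℂˣ} (hl : RegularChar (fittingHallOf S) U lam)
    (s : ↥S) : m.act s lam ≠ lam⁻¹ := by
  intro h
  have h2 : m.act (s ^ 2) lam = lam := by
    rw [pow_two, m.act_mul_apply, h, m.act_inv, h, inv_inv_hom]
  obtain ⟨k, hk⟩ : Odd (Nat.card S) := m.odd.of_dvd_nat S.card_subgroup_dvd_card
  have h1 : s = (s ^ 2) ^ (k + 1) := by
    rw [← pow_mul, show 2 * (k + 1) = Nat.card S + 1 by omega, pow_succ, pow_card_eq_one', one_mul]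
  have hfix : m.act s lam = lam := by
    rw [h1, map_pow]
    generalize k + 1 = n
    induction n with
    | zero => rfl
    | succ n ih => rw [pow_succ, Equiv.Perm.mul_apply, h2, ih]
  have hsq : ∀ x, lam x = (lam x)⁻¹ := fun x =>
    congrArg (fun l : ↥(fittingHallOf S) →* ℂˣ => l x) (hfix.symm.trans h)
  refine m.regular_ne_one hl (MonoidHom.ext fun x => ?_)
  have h2' : lam x ^ 2 = 1 := by rw [pow_two]; exact mul_eq_one_iff_eq_inv.2 (hsq x)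
  have hp : lam x ^ p = 1 := by rw [← map_pow, show x ^ p = 1 from Subtype.ext (m.elem.2 _ x.2), map_one]
  obtain ⟨j, hj⟩ := m.p_odd
  rwa [hj, pow_succ, pow_mul, h2', one_pow, one_mul] at hp

theorem mu_inv {lam : ↥(fittingHallOf S) →* ℂˣ} (h : m.MuType lam) : m.MuType lam⁻¹ := by
  obtain ⟨a, ha, ψ, hψ, rfl⟩ := h
  have hodd : Odd (Nat.card ↥(W₁ ⊔ W₂)) := m.odd.of_dvd_nat (W₁ ⊔ W₂).card_subgroup_dvd_card
  obtain ⟨hi, h1, -⟩ := annInv_spec (W₁ := W₁) (W₂ := W₂) hodd (U := W₁)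
  refine ⟨a, ha, annInv ψ, fun e => hψ (by rw [← hi ψ, e, h1]), ?_⟩
  rw [show (annInv ψ).1 = ψ.1⁻¹ from rfl, m.lamP_inv, m.act_inv]

theorem free_inv {lam : ↥(fittingHallOf S) →* ℂˣ} (h : m.Free lam) : m.Free lam⁻¹ :=
  ⟨m.regular_inv h.1, fun h' => h.2 (by have := m.mu_inv h'; rwa [inv_inv_hom] at this)⟩

theorem mu_act {lam : ↥(fittingHallOf S) →* ℂˣ} (h : m.MuType lam) (s : ↥S) :
    m.MuType (m.act s lam) := by
  obtain ⟨a, ha, ψ, hψ, rfl⟩ := h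
  rw [← m.act_mul_apply]
  obtain ⟨x, hx, b, hb, w, hw, e⟩ := m.exists_decomp (s * ⟨a, m.U_le ha⟩).2
  refine ⟨b, hb, ψ, hψ, ?_⟩
  have hs : s * ⟨a, m.U_le ha⟩ = ⟨x, m.P_le hx⟩ * (⟨b, m.U_le hb⟩ * ⟨w, m.W₁_le hw⟩) :=
    Subtype.ext (by rw [e]; exact mul_assoc _ _ _)
  rw [hs, m.act_mul_apply, m.act_of_mem_P (s := ⟨x, m.P_le hx⟩) hx, m.act_mul_apply,
    m.act_lamP hw]

theorem free_act {lam : ↥(fittingHallOf S) →* ℂˣ} (h : m.Free lam) (s : ↥S) :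
    m.Free (m.act s lam) :=
  ⟨m.regular_act h.1 s, fun h' => h.2 (by
    have := m.mu_act h' s⁻¹
    rwa [← m.act_mul_apply, inv_mul_cancel, map_one] at this)⟩

end Member

end Cfsg.Agent.OddOrder.PF.S14
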