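import Cfsg.Agent.Lib.OddOrder.PF.S14_MemberBridge
import Cfsg.Agent.Lib.OddOrder.PF.S10_Grid

/-!
The inductions of the regular characters of `P` (Peterfalvi 14): for a free character `λ` and a row
index `j` the function `Ind (λ - λ_j)` has coefficients `-[ψ = j]` on the cyclic family, or `p = 3`;
hence the signed irreducible characters of the regular family and the mass of `η` on `P`.
-/

set_option autoImplicit false
set_option linter.style.haveILetI false
set_option linter.unusedSectionVars false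

namespace Cfsg.Agent.OddOrder.PF.S14

open Cfsg Cfsg.Agent.OddOrder Cfsg.Agent
open scoped ComplexConjugate

universe u

variable {G : Type u} [Group G] [Fintype G]

/-- Additive integer tables differing by columns have one of two forms. -/
theorem table_forms {ι κ : Type*} [Fintype ι] [Fintype κ] [DecidableEq κ] [Nonempty ι]
    (hκ : 3 ≤ Fintype.card κ) (o : κ) (i₀ : ι) (C : κ → ι → κ → ℤ)
    (hadd : ∀ j, j ≠ o → ∀ i i' l l', C j i l + C j i' l' = C j i l' + C j i' l)
    (h0 : ∀ j, j ≠ o → C j i₀ o = 0)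
    (hsq : ∀ j, j ≠ o → ∑ i, ∑ l, C j i l ^ 2 ≤ (Fintype.card ι : ℤ))
    (hrel : ∀ j j', j ≠ o → j' ≠ o → ∀ i l,
      C j' i l = C j i l + (if l = j then 1 else 0) - (if l = j' then 1 else 0)) :
    (∀ j, j ≠ o → ∀ i l, C j i l = -(if l = j then 1 else 0)) ∨
      (Fintype.card κ = 3 ∧ ∀ j, j ≠ o → ∀ i l,
        C j i l = (if l = o then 0 else 1) - (if l = j then 1 else 0)) := by
  classical
  have two : ∀ j : κ, ∃ j', j' ≠ o ∧ j' ≠ j := by
    intro j
    obtain ⟨c, -, hc⟩ := Finset.exists_mem_notMem_of_card_lt_card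
      (show ({o, j} : Finset κ).card < (Finset.univ : Finset κ).card from
        lt_of_le_of_lt Finset.card_le_two (by rw [Finset.card_univ]; omega))
    simp only [Finset.mem_insert, Finset.mem_singleton, not_or] at hc
    exact ⟨c, hc⟩
  have hcol : ∀ j, j ≠ o → ∃ l₀, l₀ ≠ o ∧ ∃ ε : ℤ, (ε = 1 ∨ ε = -1) ∧
      ∀ i l, C j i l = if l = l₀ then ε else 0 := by
    intro j hj
    rcases additive_rows_or_column hκ (C j) (hadd j hj) (hsq j hj) with hrow | ⟨l₀, ε, hε, h⟩
    · exfalso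
      obtain ⟨j', hj', hne⟩ := two j
      have hge : ∀ i ∈ (Finset.univ : Finset ι), (2 : ℤ) ≤ ∑ l, C j' i l ^ 2 := by
        intro i _
        have hs := Finset.sum_le_sum_of_subset_of_nonneg (f := fun l => C j' i l ^ 2)
          (Finset.subset_univ {j, j'}) fun l _ _ => sq_nonneg _
        rw [Finset.sum_pair hne.symm, hrel j j' hj hj', hrel j j' hj hj', if_pos rfl,
          if_neg hne.symm, if_neg hne, if_pos rfl, hrow i j' j] at hs
        nlinarith [hs, sq_nonneg (C j i j)]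
      have h1 := Finset.sum_le_sum hge
      rw [Finset.sum_const, Finset.card_univ, nsmul_eq_mul] at h1
      have h2 := hsq j' hj'
      have h3 : (0 : ℤ) < (Fintype.card ι : ℤ) := by exact_mod_cast Fintype.card_pos
      linarith
    · refine ⟨l₀, fun e => ?_, ε, hε, h⟩
      have := h0 j hj
      rw [h, if_pos e.symm] at this
      omega
  by_cases hA : ∃ j, j ≠ o ∧ ∀ i l, C j i l = -(if l = j then 1 else 0)
  · obtain ⟨j, hj, hC⟩ := hA
    refine Or.inl fun j' hj' i l => ?_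
    rw [hrel j j' hj hj', hC]
    ring
  push Not at hA
  have key : ∀ j, j ≠ o → ∃ l₀, (∀ j', j' ≠ o → j' ≠ j → j' = l₀) ∧
      ∀ i l, C j i l = if l = l₀ then 1 else 0 := by
    intro j hj
    obtain ⟨l₀, -, ε, hε, h⟩ := hcol j hj
    have hl : l₀ ≠ j := by
      intro e
      obtain ⟨j', hj', hne⟩ := two j
      obtain ⟨l₁, -, ε', -, h'⟩ := hcol j' hj'
      obtain ⟨i, l, hil⟩ := hA j hj
      refine hil ?_
      have hh := hrel j j' hj hj' i₀ j'
      rw [h, h', e, if_neg hne, if_neg hne, if_pos rfl] at hh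
      have hh2 := hrel j j' hj hj' i₀ j
      rw [h, h', e, if_pos rfl, if_pos rfl, if_neg hne.symm] at hh2
      have hl1 : l₁ = j' := by
        by_contra hc
        rw [if_neg (Ne.symm hc)] at hh
        omega
      rw [hl1, if_neg hne.symm] at hh2
      rw [h, e]
      split_ifs <;> omega
    have hthis : ∀ j', j' ≠ o → j' ≠ j → j' = l₀ ∧ ε = 1 := by
      intro j' hj' hne
      obtain ⟨l₁, -, ε', hε', h'⟩ := hcol j' hj'
      have hh := hrel j j' hj hj' i₀ j
      rw [h, h', if_neg hl.symm, if_pos rfl, if_neg hne.symm] at hh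
      have hl1 : j = l₁ := by
        by_contra hc
        rw [if_neg hc] at hh
        omega
      have hh2 := hrel j j' hj hj' i₀ j'
      rw [h, h', if_neg (hl1 ▸ hne), if_neg hne, if_pos rfl] at hh2
      by_cases hc : j' = l₀
      · rw [if_pos hc] at hh2
        exact ⟨hc, by omega⟩
      · rw [if_neg hc] at hh2
        omega
    obtain ⟨j', hj', hne⟩ := two j
    exact ⟨l₀, fun j' h1 h2 => (hthis j' h1 h2).1, fun i l => by rw [h, (hthis j' hj' hne).2]⟩
  obtain ⟨c, hco, -⟩ := two o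
  obtain ⟨lc, hlc, -⟩ := key c hco
  have hsub : (Finset.univ : Finset κ) ⊆ {o, c, lc} := fun x _ => by
    simp only [Finset.mem_insert, Finset.mem_singleton]
    by_cases h1 : x = o
    · exact Or.inl h1
    by_cases h2 : x = c
    · exact Or.inr (Or.inl h2)
    exact Or.inr (Or.inr (hlc x h1 h2))
  have hcard : Fintype.card κ = 3 := by
    have h1 := Finset.card_le_card hsub
    have h2 : ({o, c, lc} : Finset κ).card ≤ 3 := Finset.card_le_three
    rw [Finset.card_univ] at h1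
    omega
  refine Or.inr ⟨hcard, fun j hj i l => ?_⟩
  obtain ⟨l₀, hl₀, h⟩ := key j hj
  obtain ⟨j', hj', hne⟩ := two j
  have e : j' = l₀ := hl₀ j' hj' hne
  rw [h]
  by_cases h1 : l = o
  · rw [if_pos h1, if_neg (fun e' => hj' (e.trans (e'.symm.trans h1))),
      if_neg (fun e' => hj (e'.symm.trans h1))]
    ring
  by_cases h2 : l = j
  · rw [if_neg h1, if_pos h2, if_neg (fun e' => hne (e.trans (e'.symm.trans h2)))]
    ring
  · rw [if_neg h1, if_neg h2, if_pos (hl₀ l h1 h2)]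
    ring

namespace Member

variable {S W₁ U W₂ : Subgroup G} {p q : ℕ} (m : Member S W₁ U W₂ p q)
include m

theorem gen_P (a b : ↥(fittingHallOf S) →* ℂˣ) :
    IsGeneralizedCharacter G (indFun (fittingHallOf S) (homC a - homC b)) :=
  Char.isGeneralizedCharacter_indFun _
    (Char.IsGeneralizedCharacter.sub (isGeneralized_homC _) (isGeneralized_homC _))

theorem classInner_one_P (a b : ↥(fittingHallOf S) →* ℂˣ) (ha : a ≠ 1) (hb : b ≠ 1) :
    classInner (indFun (fittingHallOf S) (homC a - homC b)) (fun _ => (1 : ℂ)) = 0 := by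
  haveI : Fintype ↥(fittingHallOf S) := Fintype.ofFinite _
  rw [Char.classInner_indFun _ _ (fun _ _ => rfl),
    show (fun h : ↥(fittingHallOf S) => (1 : ℂ)) = homC (1 : ↥(fittingHallOf S) →* ℂˣ) from
      funext fun h => by simp [homC],
    Char.classInner_sub_left, classInner_homC, classInner_homC, if_neg ha, if_neg hb, sub_zero]

/-- The type `Ind (λ - λ_j)`. -/
noncomputable def phiFun (a : ↥(fittingHallOf S) →* ℂˣ) (j : Ann W₁ W₂ W₁) : G → ℂ :=
  indFun (fittingHallOf S) (homC a - homC (m.lamP j.1))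

variable (B : BGFacts G) (hG : IsMinSimpleOddOrder G)
include B hG

theorem zero_off (a b : ↥(fittingHallOf S) →* ℂˣ) {g : G}
    (hg : g ∉ conjSet ((fittingHallOf S : Set G) \ {1})) :
    indFun (fittingHallOf S) (homC a - homC b) g = 0 := by
  haveI : Fintype S := Fintype.ofFinite _
  exact indFun_eq_zero_of_notMem (m.dade_P B) m.P_le _ (fun x hx => m.vanish_P a b hx) hg

theorem vanishV_P (a b : ↥(fittingHallOf S) →* ℂˣ) :
    VanishV W₁ W₂ (indFun (fittingHallOf S) (homC a - homC b)) :=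
  ⟨m.gen_P a b, fun w h1 h2 => m.zero_off B hG a b fun h =>
    Set.disjoint_left.1 (m.disjoint_P_V B hG) h
      (subset_conjSet _ ⟨w.2, not_or.2 ⟨h1, h2⟩⟩)⟩

theorem inner_PP [Fintype S] (a b a' b' : ↥(fittingHallOf S) →* ℂˣ) :
    classInner (indFun (fittingHallOf S) (homC a - homC b))
      (indFun (fittingHallOf S) (homC a' - homC b')) =
      classInner (indTo S (fittingHallOf S) (homC a)) (indTo S (fittingHallOf S) (homC a')) -
      classInner (indTo S (fittingHallOf S) (homC b)) (indTo S (fittingHallOf S) (homC a')) -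
      (classInner (indTo S (fittingHallOf S) (homC a)) (indTo S (fittingHallOf S) (homC b')) -
      classInner (indTo S (fittingHallOf S) (homC b)) (indTo S (fittingHallOf S) (homC b'))) := by
  rw [classInner_indFun_ti (m.dade_P B) m.P_le m.P_le _ _ (fun x hx => m.vanish_P a b hx)
    (fun x hx => m.vanish_P a' b' hx), indTo_sub, indTo_sub, Char.classInner_sub_right,
    Char.classInner_sub_left, Char.classInner_sub_left]

omit B hG in
theorem act_lamP_ne {a : ↥(fittingHallOf S) →* ℂˣ} (ha : m.Free a) {j : Ann W₁ W₂ W₁}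
    (hj : j ≠ annOne W₁ W₂ W₁) (s : ↥S) : m.act s (m.lamP j.1) ≠ a ∧ m.act s a ≠ m.lamP j.1 := by
  have h1 : ∀ s : ↥S, m.act s (m.lamP j.1) ≠ a := by
    intro s e
    refine ha.2 (e ▸ m.mu_act ⟨1, one_mem U, j, hj, ?_⟩ s)
    exact (m.act_of_mem_P (s := ⟨1, m.U_le (one_mem U)⟩) (one_mem _) _).symm
  refine ⟨h1 s, fun e => h1 s⁻¹ ?_⟩
  rw [← e, ← m.act_mul_apply, inv_mul_cancel, map_one]
  rfl

omit B hG in
theorem lamP_conj_eq {j j' : Ann W₁ W₂ W₁} (hj : j ≠ annOne W₁ W₂ W₁) {s : ↥S}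
    (h : m.act s (m.lamP j.1) = m.lamP j'.1) : j = j' := by
  obtain ⟨x, hx, b, hb, w, hw, e⟩ := m.exists_decomp s.2
  have hs : s = ⟨x, m.P_le hx⟩ * (⟨b, m.U_le hb⟩ * ⟨w, m.W₁_le hw⟩) :=
    Subtype.ext (by rw [e]; exact mul_assoc _ _ _)
  rw [hs, m.act_mul_apply, m.act_of_mem_P (s := ⟨x, m.P_le hx⟩) hx, m.act_mul_apply,
    m.act_lamP hw] at h
  exact (m.mu_unique hb (one_mem U) hj (h.trans
    (m.act_of_mem_P (s := ⟨1, m.U_le (one_mem U)⟩) (one_mem _) _).symm)).2

open Classical in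
theorem inner_phi {a a' : ↥(fittingHallOf S) →* ℂˣ} (ha : m.Free a) (ha' : m.Free a')
    {j j' : Ann W₁ W₂ W₁} (hj : j ≠ annOne W₁ W₂ W₁) (hj' : j' ≠ annOne W₁ W₂ W₁) [Fintype S] :
    classInner (m.phiFun a j) (m.phiFun a' j') =
      classInner (indTo S (fittingHallOf S) (homC a)) (indTo S (fittingHallOf S) (homC a')) +
        (if j' = j then (q : ℂ) else 0) := by
  rw [phiFun, phiFun, m.inner_PP B hG, m.ip_P_eq_zero fun s => (m.act_lamP_ne ha' hj s).2,
    m.ip_P_eq_zero fun s => (m.act_lamP_ne ha hj' s).1]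
  by_cases h : j' = j
  · subst h
    rw [if_pos rfl, m.ip_P_mu hj]
    ring
  · rw [if_neg h, m.ip_P_eq_zero fun s e => h (m.lamP_conj_eq hj' e)]
    ring

theorem phi_add {η : (↥(W₁ ⊔ W₂) →* ℂˣ) → (G → ℂ)} (hη : IsCyclicTIFamily W₁ W₂ η)
    [Fintype (Ann W₁ W₂ W₂)] (a : ↥(fittingHallOf S) →* ℂˣ)
    {j j' : Ann W₁ W₂ W₁} (hj : j ≠ annOne W₁ W₂ W₁) (hj' : j' ≠ annOne W₁ W₂ W₁) :
    m.phiFun a j' = m.phiFun a j + (etaCol η j - etaCol η j') := by
  rw [← m.indP_sub_eq B hη hj hj', phiFun, phiFun, ← Char.indFun_add]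
  congr 1
  abel

variable {η : (↥(W₁ ⊔ W₂) →* ℂˣ) → (G → ℂ)}

/-- The coefficients of `Ind (a - b)` on the cyclic family vanish for free `a`, `b`. -/
theorem free_sub_orth (hη : IsCyclicTIFamily W₁ W₂ η) {a b : ↥(fittingHallOf S) →* ℂˣ}
    (ha : m.Free a) (hb : m.Free b) (ω : ↥(W₁ ⊔ W₂) →* ℂˣ) :
    classInner (indFun (fittingHallOf S) (homC a - homC b)) (η ω) = 0 := by
  classical
  haveI : Fintype S := Fintype.ofFinite _
  by_cases h : ∃ s : ↥S, m.act s a = b
  · obtain ⟨s, rfl⟩ := h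
    rw [Char.indFun_sub, m.indFun_act, sub_self]
    simp [classInner]
  push Not at h
  refine eta_orth_of_norm_le_two m.hW m.hodd hη (m.gen_P a b) (N := 2) ?_ le_rfl
    (m.vanishV_P B hG a b).zero ω
  rw [m.inner_PP B hG, m.ip_P_free ha, m.ip_P_free hb, m.ip_P_eq_zero fun s => h s,
    m.ip_P_eq_zero fun s e => h s⁻¹ (by rw [← e, ← m.act_mul_apply, inv_mul_cancel, map_one]; rfl)]
  push_cast
  ring

open Classical in
theorem exists_rows_free (hη : IsCyclicTIFamily W₁ W₂ η) [Fintype (Ann W₁ W₂ W₁)]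
    [Fintype (Ann W₁ W₂ W₂)] {a : ↥(fittingHallOf S) →* ℂˣ} (ha : m.Free a)
    {j : Ann W₁ W₂ W₁} (hj : j ≠ annOne W₁ W₂ W₁) :
    ∃ C : Ann W₁ W₂ W₂ → Ann W₁ W₂ W₁ → ℤ,
      (∀ i i' l l', C i l + C i' l' = C i l' + C i' l) ∧
      (∀ φ ψ, classInner (m.phiFun a j) (η (φ.1 * ψ.1)) = C φ ψ) ∧
      ∑ φ, ∑ ψ, C φ ψ ^ 2 ≤ (q : ℤ) := by
  haveI : Fintype S := Fintype.ofFinite _
  have hai : m.Free a⁻¹ := m.free_inv ha
  obtain ⟨M, hM, hMc⟩ := exists_table hη (m.vanishV_P B hG a (m.lamP j.1)).gen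
    (m.vanishV_P B hG a (m.lamP j.1)).zero
  set θ := m.phiFun a j with hθ
  set D := indFun (fittingHallOf S) (homC a - homC a⁻¹) with hD
  have hne : ∀ s : ↥S, m.act s a⁻¹ ≠ a := fun s e => by
    refine m.act_ne_inv ha.1 s⁻¹ ?_
    conv_lhs => rw [← e]
    rw [← m.act_mul_apply, inv_mul_cancel, map_one]
    rfl
  have h1 : classInner θ θ = ((q : ℤ) + 1 : ℤ) := by
    rw [hθ, m.inner_phi B hG ha ha hj hj, m.ip_P_free ha, if_pos rfl]
    push_cast
    ring
  have h2 : classInner D D = ((2 : ℕ) : ℂ) := by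
    rw [hD, m.inner_PP B hG, m.ip_P_free ha, m.ip_P_free hai, m.ip_P_eq_zero (m.act_ne_inv ha.1),
      m.ip_P_eq_zero hne]
    push_cast
    ring
  have h3 : classInner θ D = ((1 : ℤ) : ℂ) := by
    rw [hθ, hD, phiFun, m.inner_PP B hG, m.ip_P_free ha,
      m.ip_P_eq_zero fun s => (m.act_lamP_ne ha hj s).2, m.ip_P_eq_zero hne,
      m.ip_P_eq_zero fun s => (m.act_lamP_ne hai hj s).2]
    push_cast
    ring
  have h4 : ∀ ω, classInner D (η ω) = 0 := fun ω => m.free_sub_orth B hG hη ha hai ω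
  let v : (Ann W₁ W₂ W₁ × Ann W₁ W₂ W₂) ⊕ Unit → G → ℂ :=
    Sum.elim (fun s => η (s.2.1 * s.1.1)) fun _ => D
  let n : (Ann W₁ W₂ W₁ × Ann W₁ W₂ W₂) ⊕ Unit → ℕ := Sum.elim (fun _ => 1) fun _ => 2
  let c : (Ann W₁ W₂ W₁ × Ann W₁ W₂ W₂) ⊕ Unit → ℤ :=
    Sum.elim (fun s => M s.1 s.2) fun _ => 1
  have hb := bessel_int Finset.univ v n
    (fun i _ => by rcases i with i | i <;> simp [n])
    (by
      rintro (s | s) - (t | t) - <;> simp only [v, n, Sum.elim_inl, Sum.elim_inr]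
      · rw [hη.orthonormal]
        by_cases hst : s = t
        · subst hst; simp
        · rw [if_neg fun e => hst (Prod.ext (mul_inj m.hW e).2 (mul_inj m.hW e).1),
            if_neg fun e => hst (Sum.inl.inj e)]
      · rw [← Char.conj_classInner, h4, map_zero, if_neg Sum.inl_ne_inr]
      · rw [h4, if_neg Sum.inr_ne_inl]
      · rw [h2]; simp)
    θ ((q : ℤ) + 1) h1 c
    (by
      rintro (s | s) - <;> simp only [v, c, Sum.elim_inl, Sum.elim_inr]
      · exact hMc _ _
      · exact h3)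
  simp only [Fintype.sum_sum_type, n, c, Sum.elim_inl, Sum.elim_inr, Fintype.sum_unique] at hb
  refine ⟨fun φ ψ => M ψ φ, fun i i' l l' => ?_, fun φ ψ => hMc ψ φ, ?_⟩
  · have := hM l l' i i'
    simp only
    omega
  · have hb' : ((∑ s : Ann W₁ W₂ W₁ × Ann W₁ W₂ W₂, M s.1 s.2 ^ 2 : ℤ) : ℝ) + 1 / 2 ≤
        ((q : ℤ) + 1 : ℤ) := by
      push_cast at hb ⊢
      norm_num at hb ⊢
      exact hb
    have hlt : ∑ s : Ann W₁ W₂ W₁ × Ann W₁ W₂ W₂, M s.1 s.2 ^ 2 < (q : ℤ) + 1 := by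
      by_contra hge
      have := Int.cast_le (R := ℝ).2 (not_lt.1 hge)
      push_cast at this hb'
      linarith
    show ∑ φ : Ann W₁ W₂ W₂, ∑ ψ : Ann W₁ W₂ W₁, M ψ φ ^ 2 ≤ (q : ℤ)
    rw [Finset.sum_comm]
    rw [Fintype.sum_prod_type] at hlt
    dsimp only at hlt
    omega

open Classical in
/-- The table of `Ind (λ - λ_j)`. -/
theorem phi_table (hη : IsCyclicTIFamily W₁ W₂ η) [Fintype (Ann W₁ W₂ W₁)] [Fintype (Ann W₁ W₂ W₂)] :
    (∀ a, m.Free a → ∀ j, j ≠ annOne W₁ W₂ W₁ → ∀ (φ : Ann W₁ W₂ W₂) (ψ : Ann W₁ W₂ W₁),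
      classInner (m.phiFun a j) (η (φ.1 * ψ.1)) = -(if ψ = j then 1 else 0)) ∨
    (p = 3 ∧ ∀ a, m.Free a → ∀ j, j ≠ annOne W₁ W₂ W₁ → ∀ (φ : Ann W₁ W₂ W₂) (ψ : Ann W₁ W₂ W₁),
      classInner (m.phiFun a j) (η (φ.1 * ψ.1)) =
        (if ψ = annOne W₁ W₂ W₁ then 0 else 1) - (if ψ = j then 1 else 0)) := by
  by_cases hex : ∃ a, m.Free a
  swap
  · exact Or.inl fun a ha => absurd ⟨a, ha⟩ hex
  obtain ⟨a₀, ha₀⟩ := hex
  have hcong : ∀ a, m.Free a → ∀ (j : Ann W₁ W₂ W₁) (ω : ↥(W₁ ⊔ W₂) →* ℂˣ),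
      classInner (m.phiFun a j) (η ω) = classInner (m.phiFun a₀ j) (η ω) := by
    intro a ha j ω
    have h := m.free_sub_orth B hG hη ha ha₀ ω
    rw [show homC a - homC a₀ = (homC a - homC (m.lamP j.1)) - (homC a₀ - homC (m.lamP j.1)) by abel,
      Char.indFun_sub, Char.classInner_sub_left, sub_eq_zero] at h
    exact h
  haveI : Nonempty (Ann W₁ W₂ W₂) := ⟨annOne W₁ W₂ W₂⟩
  choose C hadd hC hsq using fun (j : Ann W₁ W₂ W₁) (hj : j ≠ annOne W₁ W₂ W₁) =>
    m.exists_rows_free B hG hη ha₀ hj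
  let C' : Ann W₁ W₂ W₁ → Ann W₁ W₂ W₂ → Ann W₁ W₂ W₁ → ℤ := fun j φ ψ =>
    if hj : j ≠ annOne W₁ W₂ W₁ then C j hj φ ψ else 0
  have hC' : ∀ j, j ≠ annOne W₁ W₂ W₁ → ∀ φ ψ,
      classInner (m.phiFun a₀ j) (η (φ.1 * ψ.1)) = C' j φ ψ := fun j hj φ ψ => by
    simp only [C', dif_pos hj]; exact hC j hj φ ψ
  have hqc : Fintype.card (Ann W₁ W₂ W₂) = q := by
    rw [← Nat.card_eq_fintype_card, (ann_facts m.hW).2.1, m.q_eq]
  have hpc : Fintype.card (Ann W₁ W₂ W₁) = p := by
    rw [← Nat.card_eq_fintype_card, (ann_facts m.hW).2.2.1, m.p_eq]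
  rcases table_forms (hpc ▸ m.three_le.1) (annOne W₁ W₂ W₁) (annOne W₁ W₂ W₂) C'
    (fun j hj i i' l l' => by simp only [C', dif_pos hj]; exact hadd j hj i i' l l')
    (fun j hj => by
      have h := hC' j hj (annOne W₁ W₂ W₂) (annOne W₁ W₂ W₁)
      rw [mul_annOne, show (annOne W₁ W₂ W₂).1 = 1 from rfl, hη.map_one] at h
      rw [phiFun, m.classInner_one_P _ _ (m.regular_ne_one ha₀.1)
        (fun e => hj ((m.lamP_eq_one_iff j).1 e))] at h
      exact_mod_cast h.symm)
    (fun j hj => by simp only [C', dif_pos hj, hqc]; exact hsq j hj)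
    (fun j j' hj hj' φ ψ => by
      have h := hC' j' hj' φ ψ
      rw [m.phi_add B hG hη a₀ hj hj', Char.classInner_add_left, Char.classInner_sub_left,
        etaCol_coeff m.hW hη, etaCol_coeff m.hW hη, hC' j hj φ ψ] at h
      have h' : ((C' j φ ψ + ((if ψ = j then 1 else 0) - (if ψ = j' then 1 else 0)) : ℤ) : ℂ) =
          (C' j' φ ψ : ℂ) := by
        rw [← h]; push_cast; rfl
      have := Int.cast_inj.1 h'
      omega) with h | ⟨h3, h⟩
  · refine Or.inl fun a ha j hj φ ψ => ?_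
    rw [hcong a ha, hC' j hj, h j hj]
    push_cast
    rfl
  · refine Or.inr ⟨hpc ▸ h3, fun a ha j hj φ ψ => ?_⟩
    rw [hcong a ha, hC' j hj, h j hj]
    push_cast
    rfl

/-- The signed irreducible characters from the free characters, for `p > 3`. -/
theorem regularFamily (hp : p ≠ 3) (hη : IsCyclicTIFamily W₁ W₂ η)
    [Fintype (Ann W₁ W₂ W₁)] [Fintype (Ann W₁ W₂ W₂)] :
    ∃ (ι : Type u) (_ : Fintype ι) (f : ι → G → ℂ) (st : ι → ι),
      ConjFamily f st (conjSet ((fittingHallOf S : Set G) \ {1})) ∧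
      (∀ i k, ∀ g, g ∉ conjSet ((fittingHallOf S : Set G) \ {1}) → f i g = f k g) ∧
      (∀ i ω, classInner (f i) (η ω) = 0) ∧
      (∀ i, ∀ θ : G → ℂ, (∀ g ∈ conjSet ((fittingHallOf S : Set G) \ {1}), θ g = 0) →
        ∀ j, j ≠ annOne W₁ W₂ W₁ → classInner θ (f i) = classInner θ (etaCol η j)) ∧
      Nat.card U * (q * Fintype.card ι + (p - 1)) =
        Nat.card {a : ↥(fittingHallOf S) →* ℂˣ // RegularChar (fittingHallOf S) U a} := by
  classical
  haveI : Fintype S := Fintype.ofFinite _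
  have hW := m.hW
  have hodd := m.hodd
  haveI hfin : Finite (↥(fittingHallOf S) →* ℂˣ) := by
    haveI := m.elem.1
    letI : CommGroup (fittingHallOf S) :=
      { (inferInstance : Group (fittingHallOf S)) with mul_comm := mul_comm' }
    infer_instance
  have hpc : Fintype.card (Ann W₁ W₂ W₁) = p := by
    rw [← Nat.card_eq_fintype_card, (ann_facts hW).2.2.1, m.p_eq]
  obtain ⟨z, hz⟩ : ∃ z : Ann W₁ W₂ W₁, z ≠ annOne W₁ W₂ W₁ :=
    Fintype.exists_ne_of_one_lt_card (by rw [hpc]; exact m.hp.one_lt) _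
  rcases m.phi_table B hG hη with htab | ⟨h3, -⟩
  swap
  · exact absurd h3 hp
  let X := {a : ↥(fittingHallOf S) →* ℂˣ // m.Free a}
  let se : Setoid X :=
    { r := fun a b => ∃ s : ↥S, m.act s a.1 = b.1
      iseqv := by
        refine ⟨fun a => ⟨1, by rw [map_one]; rfl⟩, ?_, ?_⟩
        · rintro a b ⟨s, hs⟩
          exact ⟨s⁻¹, by rw [← hs, ← m.act_mul_apply, inv_mul_cancel, map_one]; rfl⟩
        · rintro a b c ⟨s, hs⟩ ⟨t, ht⟩
          exact ⟨t * s, by rw [m.act_mul_apply, hs, ht]⟩ }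
  haveI : Finite X := inferInstance
  haveI : Fintype (Quotient se) := Fintype.ofFinite _
  let F : X → G → ℂ := fun a => m.phiFun a.1 z + etaCol η z
  have hFsub : ∀ a b : X, F a - F b = indFun (fittingHallOf S) (homC a.1 - homC b.1) := fun a b => by
    simp only [F, add_sub_add_right_eq_sub, phiFun, ← Char.indFun_sub]
    congr 1
    abel
  have hFrel : ∀ a b : X, (∃ s : ↥S, m.act s a.1 = b.1) → F a = F b := by
    rintro a b ⟨s, hs⟩
    rw [← sub_eq_zero, hFsub, Char.indFun_sub, ← hs, m.indFun_act, sub_self]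
  have hcol : ∀ a : X, classInner (m.phiFun a.1 z) (etaCol η z) = -(q : ℂ) := fun a => by
    rw [etaCol, Char.classInner_sum_right, Finset.sum_congr rfl fun φ _ => htab a.1 a.2 z hz φ z,
      if_pos rfl, Finset.sum_const, Finset.card_univ, card_ann_two hW, m.q_eq, nsmul_eq_mul]
    ring
  have hFinner : ∀ a b : X, classInner (F a) (F b) =
      classInner (indTo S (fittingHallOf S) (homC a.1)) (indTo S (fittingHallOf S) (homC b.1)) := by
    intro a b
    have h' : classInner (etaCol η z) (m.phiFun b.1 z) = -(q : ℂ) := by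
      rw [← Char.conj_classInner, hcol b, map_neg, Complex.conj_natCast]
    simp only [F, Char.classInner_add_left, Char.classInner_add_right, hcol a, h',
      classInner_etaCol hW hη, if_pos rfl, if_true, m.q_eq, m.inner_phi B hG a.2 b.2 hz hz]
    ring
  have hFgen : ∀ a : X, IsGeneralizedCharacter G (F a) := fun a =>
    Char.IsGeneralizedCharacter.add (m.gen_P _ _)
      (Char.IsGeneralizedCharacter.sum _ fun φ _ => eta_isGeneralized hη _)
  have hFsigned : ∀ a : X, IsSignedIrr (F a) := fun a => by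
    obtain ⟨χ, h | h⟩ := Char.IsGeneralizedCharacter.irr_or_neg_of_norm_one (hFgen a)
      ((hFinner a a).trans (m.ip_P_free a.2))
    · exact Or.inl (h ▸ χ.2)
    · exact Or.inr (by rw [h, neg_neg]; exact χ.2)
  let inv' : X → X := fun a => ⟨a.1⁻¹, m.free_inv a.2⟩
  have hinv : ∀ a b : X, (∃ s : ↥S, m.act s a.1 = b.1) →
      ∃ s : ↥S, m.act s (inv' a).1 = (inv' b).1 := by
    rintro a b ⟨s, hs⟩
    refine ⟨s, ?_⟩
    show m.act s a.1⁻¹ = b.1⁻¹
    rw [← hs]
    exact m.act_inv s a.1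
  have hconj : ∀ a : X, conjFun (F a) = F (inv' a) := by
    intro a
    have h1 : conjFun (etaCol η z) = etaCol η (annInv z) := by
      funext g
      simp only [conjFun, etaCol, Finset.sum_apply, map_sum]
      refine Fintype.sum_equiv (Equiv.ofBijective annInv
        (Function.Involutive.bijective (annInv_spec hodd).1)) _ _ fun φ => ?_
      have := congrFun (conj_eta hW hodd hη (φ.1 * z.1)) g
      rw [this]
      exact congrArg (fun ω => η ω g) (MonoidHom.ext fun w => by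
        show (φ.1 w * z.1 w)⁻¹ = (φ.1 w)⁻¹ * (z.1 w)⁻¹
        exact mul_inv _ _)
    have h2 : m.phiFun a.1⁻¹ (annInv z) =
        conjFun (m.phiFun a.1 z) := by
      rw [phiFun, phiFun, m.conj_ind_sub, show (annInv z).1 = z.1⁻¹ from rfl, m.lamP_inv]
    have h3 := m.phi_add B hG hη a.1⁻¹ (m.st_ne hz) hz
    have h4 : conjFun (F a) = conjFun (m.phiFun a.1 z) + conjFun (etaCol η z) := by
      funext g; simp [F, conjFun]
    rw [h4, h1, ← h2]
    show _ = m.phiFun a.1⁻¹ z + etaCol η z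
    rw [h3]
    abel
  let f : Quotient se → G → ℂ := fun i => F i.out
  let st : Quotient se → Quotient se := fun i => Quotient.mk se (inv' i.out)
  have hout : ∀ a : X, ∃ s : ↥S, m.act s (Quotient.mk se a).out.1 = a.1 := fun a =>
    Quotient.exact (Quotient.out_eq (Quotient.mk se a))
  have hne : ∀ a : X, ∀ s : ↥S, m.act s a.1 ≠ (inv' a).1 := fun a s => m.act_ne_inv a.2.1 s
  refine ⟨Quotient se, inferInstance, f, st, ?_, ?_, ?_, ?_, ?_⟩
  · refine
      { signed := fun i => hFsigned _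
        orth := fun i k hik => (hFinner _ _).trans (m.ip_P_eq_zero fun s e =>
          hik (Quotient.out_equiv_out.1 ⟨s⁻¹, by
            rw [← e, ← m.act_mul_apply, inv_mul_cancel, map_one]; rfl⟩))
        st_st := fun i => ?_
        st_ne := fun i h => ?_
        conj_eq := fun i => (hconj _).trans (hFrel _ _ (hout (inv' i.out))).symm
        supp := fun i g hg => ?_ }
    · show Quotient.mk se (inv' (Quotient.mk se (inv' i.out)).out) = i
      refine Eq.trans (Quotient.sound (hinv _ _ (hout (inv' i.out)))) ?_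
      rw [show inv' (inv' i.out) = i.out from Subtype.ext (inv_inv_hom _), Quotient.out_eq]
    · obtain ⟨s, hs⟩ := hout (inv' i.out)
      rw [show (Quotient.mk se (inv' i.out)) = i from h] at hs
      exact hne _ s hs
    · show F i.out g - F (st i).out g = 0
      rw [← Pi.sub_apply, hFsub]
      exact m.zero_off B hG _ _ hg
  · intro i k g hg
    rw [← sub_eq_zero, ← Pi.sub_apply, show f i - f k = _ from hFsub _ _]
    exact m.zero_off B hG _ _ hg
  · intro i ω
    obtain ⟨φ, ψ, hφ, hψ, rfl⟩ := exists_eq_mul hW ω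
    show classInner (F i.out) (η ((⟨φ, hφ⟩ : Ann W₁ W₂ W₂).1 * (⟨ψ, hψ⟩ : Ann W₁ W₂ W₁).1)) = 0
    simp only [F, Char.classInner_add_left]
    rw [htab _ i.out.2 z hz ⟨φ, hφ⟩ ⟨ψ, hψ⟩]
    rw [show classInner (etaCol η z) (η (φ * ψ)) = _ from etaCol_coeff hW hη z ⟨φ, hφ⟩ ⟨ψ, hψ⟩]
    ring
  · intro i θ hθ j hj
    show classInner θ (F i.out) = _
    have e : F i.out = m.phiFun i.out.1 j + etaCol η j := by
      rw [m.phi_add B hG hη i.out.1 hz hj]
      simp only [F]
      abel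
    have h0 : classInner θ (m.phiFun i.out.1 j) = 0 :=
      classInner_eq_zero_of_disjoint (Y := (conjSet ((fittingHallOf S : Set G) \ {1}))ᶜ)
        disjoint_compl_left (fun g hg => hθ g (not_not.1 hg)) fun g hg => m.zero_off B hG _ _ hg
    rw [e, Char.classInner_add_right, h0, zero_add]
  · -- counting
    let Λ := {a : ↥(fittingHallOf S) →* ℂˣ // RegularChar (fittingHallOf S) U a}
    let Rw := {j : Ann W₁ W₂ W₁ // j ≠ annOne W₁ W₂ W₁}
    haveI : Fintype U := Fintype.ofFinite _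
    haveI : Fintype X := Fintype.ofFinite _
    let g : (U × Rw) ⊕ X → Λ := Sum.elim
      (fun z => ⟨m.act ⟨z.1, m.U_le z.1.2⟩ (m.lamP z.2.1.1),
        m.regular_act (m.regular_lamP z.2.2) _⟩)
      (fun a => ⟨a.1, a.2.1⟩)
    have hg : Function.Bijective g := by
      constructor
      · rintro (⟨a, j⟩ | a) (⟨b, k⟩ | b) e <;>
          simp only [g, Sum.elim_inl, Sum.elim_inr, Subtype.mk.injEq] at e
        · obtain ⟨h1, h2⟩ := m.mu_unique a.2 b.2 j.2 (congrArg Subtype.val e)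
          rw [Subtype.ext h1, Subtype.ext h2]
        · exact absurd ⟨a, a.2, j.1, j.2, (congrArg Subtype.val e).symm⟩ b.2.2
        · exact absurd ⟨b, b.2, k.1, k.2, congrArg Subtype.val e⟩ a.2.2
        · exact congrArg Sum.inr (Subtype.ext (congrArg (fun z : Λ => z.1) e))
      · rintro ⟨a, ha⟩
        by_cases hmu : m.MuType a
        · obtain ⟨b, hb, j, hj, rfl⟩ := hmu
          exact ⟨Sum.inl (⟨b, hb⟩, ⟨j, hj⟩), rfl⟩
        · exact ⟨Sum.inr ⟨a, ha, hmu⟩, rfl⟩
    have hX : Nat.card X = Fintype.card (Quotient se) * (Nat.card U * q) := by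
      letI : MulAction ↥S X :=
        { smul := fun s a => ⟨m.act s a.1, m.free_act a.2 s⟩
          one_smul := fun a => Subtype.ext (by show m.act 1 a.1 = a.1; rw [map_one]; rfl)
          mul_smul := fun s t a => Subtype.ext (m.act_mul_apply s t a.1) }
      have horb : ∀ a : X, Nat.card (MulAction.orbit ↥S a) = Nat.card U * q := by
        intro a
        have h := Nat.card_congr (MulAction.orbitProdStabilizerEquivGroup ↥S a)
        have hst : Nat.card (MulAction.stabilizer ↥S a) = Nat.card (fittingHallOf S) :=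
          Nat.card_congr
            { toFun := fun s => ⟨(s.1 : G), m.mem_P_of_fixed a.2 (congrArg Subtype.val s.2)⟩
              invFun := fun x => ⟨⟨x, m.P_le x.2⟩,
                Subtype.ext (m.act_of_mem_P (s := ⟨x, m.P_le x.2⟩) x.2 a.1)⟩
              left_inv := fun s => rfl
              right_inv := fun x => rfl }
        rw [Nat.card_prod, hst, m.card_P, m.card_S] at h
        exact Nat.eq_of_mul_eq_mul_right (pow_pos m.hp.pos q) (h.trans (by ring))
      rw [← Nat.card_congr (Equiv.sigmaFiberEquiv (Quotient.mk se)), Nat.card_sigma,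
        Finset.sum_congr rfl fun i _ => ?_, Finset.sum_const, Finset.card_univ, smul_eq_mul]
      rw [← horb i.out]
      refine Nat.card_congr (Equiv.subtypeEquivRight fun a => ?_)
      rw [MulAction.mem_orbit_iff]
      constructor
      · intro e
        obtain ⟨s, hs⟩ := hout a
        rw [e] at hs
        exact ⟨s, Subtype.ext hs⟩
      · rintro ⟨s, rfl⟩
        conv_rhs => rw [← Quotient.out_eq i]
        exact Quotient.sound ⟨s⁻¹, by
          show m.act s⁻¹ (m.act s i.out.1) = i.out.1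
          rw [← m.act_mul_apply, inv_mul_cancel, map_one]; rfl⟩
    have hRw : Nat.card Rw = p - 1 := by
      rw [Nat.card_eq_fintype_card, Fintype.card_subtype_compl, Fintype.card_subtype_eq, hpc]
    rw [← Nat.card_congr (Equiv.ofBijective g hg), Nat.card_sum, Nat.card_prod, hRw, hX]
    ring

/-- The mass of a non-trivial column of `η` on `P`. -/
theorem budget_P (hη : IsCyclicTIFamily W₁ W₂ η) [Fintype (Ann W₁ W₂ W₁)]
    [Fintype (Ann W₁ W₂ W₂)] [Fintype ↥(fittingHallOf S)] [DecidableEq ↥(fittingHallOf S)]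
    (φ : Ann W₁ W₂ W₂) {ψ : Ann W₁ W₂ W₁} (hψ : ψ ≠ annOne W₁ W₂ W₁) :
    (1 - (Nat.card U : ℝ) /
        Nat.card {a : ↥(fittingHallOf S) →* ℂˣ // RegularChar (fittingHallOf S) U a}) / q ≤
      (Nat.card S : ℝ)⁻¹ * ∑ x ∈ Finset.univ.erase (1 : ↥(fittingHallOf S)),
        Complex.normSq (η (φ.1 * ψ.1) x) := by
  classical
  haveI hfin : Finite (↥(fittingHallOf S) →* ℂˣ) := by
    haveI := m.elem.1
    letI : CommGroup (fittingHallOf S) :=
      { (inferInstance : Group (fittingHallOf S)) with mul_comm := mul_comm' }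
    infer_instance
  let Λ := {a : ↥(fittingHallOf S) →* ℂˣ // RegularChar (fittingHallOf S) U a}
  haveI : Fintype Λ := Fintype.ofFinite _
  haveI : Fintype U := Fintype.ofFinite _
  set χ : G → ℂ := η (φ.1 * ψ.1) with hχ
  have hχc : IsClassFunction G χ :=
    Char.IsGeneralizedCharacter.isClassFunction (eta_isGeneralized hη _)
  set R := Nat.card Λ with hR
  set u := Nat.card U with hu
  let f : ↥(fittingHallOf S) → ℂ := fun x => χ x
  let c : (↥(fittingHallOf S) →* ℂˣ) → ℂ := fun a => classInner f (homC a)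
  have hc : ∀ a b, c b - c a =
      conj (classInner (indFun (fittingHallOf S) (homC b - homC a)) χ) := fun a b => by
    rw [Char.conj_classInner, Char.classInner_indFun_right _ _ hχc, Char.classInner_sub_right]
  have hcact : ∀ (s : ↥S) a, c (m.act s a) = c a := fun s a => by
    rw [← sub_eq_zero, hc, Char.indFun_sub, m.indFun_act, sub_self]
    simp [classInner]
  have hpc : Fintype.card (Ann W₁ W₂ W₁) = p := by
    rw [← Nat.card_eq_fintype_card, (ann_facts m.hW).2.2.1, m.p_eq]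
  obtain ⟨b, hb, σ, hσ, hval⟩ : ∃ b : Ann W₁ W₂ W₁, b ≠ annOne W₁ W₂ W₁ ∧ ∃ σ : ℂ,
      Complex.normSq σ = 1 ∧ ∀ a : Λ, c (m.lamP b.1) - c a.1 =
        if ∃ s : U, m.act ⟨s, m.U_le s.2⟩ (m.lamP b.1) = a.1 then 0 else σ := by
    rcases m.phi_table B hG hη with htab | ⟨h3, htab⟩
    · refine ⟨ψ, hψ, 1, map_one _, fun a => ?_⟩
      by_cases hmu : m.MuType a.1
      · obtain ⟨s, hs, j, hj, e⟩ := hmu
        have hif : (∃ t : U, m.act ⟨t, m.U_le t.2⟩ (m.lamP ψ.1) = a.1) ↔ ψ = j :=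
          ⟨fun ⟨t, ht⟩ => (m.mu_unique t.2 hs hψ (ht.trans e)).2,
            fun h => ⟨⟨s, hs⟩, by rw [e, h]⟩⟩
        rw [if_congr hif rfl rfl, e, hcact, hc, m.indP_sub_eq B hη hψ hj, Char.classInner_sub_left,
          hχ, etaCol_coeff m.hW hη, etaCol_coeff m.hW hη, if_pos rfl]
        split_ifs <;> simp
      · rw [if_neg fun ⟨t, ht⟩ => hmu ⟨t, t.2, ψ, hψ, ht.symm⟩, ← neg_sub, hc, hχ,
          show classInner (indFun (fittingHallOf S) (homC a.1 - homC (m.lamP ψ.1))) _ = _ from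
            htab a.1 ⟨a.2, hmu⟩ ψ hψ φ ψ, if_pos rfl]
        simp
    · have hb := m.st_ne hψ
      have hbψ : annInv ψ ≠ ψ := fun h => hψ ((annInv_spec m.hodd).2.2 ψ h)
      refine ⟨annInv ψ, hb, -1, by simp, fun a => ?_⟩
      by_cases hmu : m.MuType a.1
      · obtain ⟨s, hs, j, hj, e⟩ := hmu
        have hif : (∃ t : U, m.act ⟨t, m.U_le t.2⟩ (m.lamP (annInv ψ).1) = a.1) ↔ annInv ψ = j :=
          ⟨fun ⟨t, ht⟩ => (m.mu_unique t.2 hs hb (ht.trans e)).2,
            fun h => ⟨⟨s, hs⟩, by rw [e, h]⟩⟩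
        rw [if_congr hif rfl rfl, e, hcact, hc, m.indP_sub_eq B hη hb hj, Char.classInner_sub_left,
          hχ, etaCol_coeff m.hW hη, etaCol_coeff m.hW hη, if_neg hbψ.symm]
        by_cases hj' : annInv ψ = j
        · subst hj'
          rw [if_pos rfl, if_neg hbψ.symm]
          simp
        · have hj3 : ψ = j := by
            by_contra hne
            have hsub : ({annOne W₁ W₂ W₁, ψ, annInv ψ, j} : Finset (Ann W₁ W₂ W₁)).card ≤ 3 :=
              (Finset.card_le_univ _).trans (by rw [hpc, h3])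
            rw [Finset.card_insert_of_notMem (by simp [hψ.symm, hb.symm, hj.symm]),
              Finset.card_insert_of_notMem (by simp [hbψ.symm, hne]),
              Finset.card_pair hj'] at hsub
            omega
          rw [if_neg hj', if_pos hj3]
          simp
      · rw [if_neg fun ⟨t, ht⟩ => hmu ⟨t, t.2, annInv ψ, hb, ht.symm⟩, ← neg_sub, hc, hχ,
          show classInner (indFun (fittingHallOf S) (homC a.1 - homC (m.lamP (annInv ψ).1))) _ = _
            from htab a.1 ⟨a.2, hmu⟩ (annInv ψ) hb φ ψ, if_neg hψ, if_neg hbψ.symm]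
        simp
  -- the test function
  let orb : U → Λ := fun s => ⟨m.act ⟨s, m.U_le s.2⟩ (m.lamP b.1),
    m.regular_act (m.regular_lamP hb) _⟩
  have horb : Function.Injective orb := fun s t e =>
    Subtype.ext (m.mu_unique s.2 t.2 hb (congrArg Subtype.val e)).1
  let O : Finset Λ := Finset.univ.image orb
  have hO : O.card = u := by
    rw [Finset.card_image_of_injective _ horb, Finset.card_univ, hu, Nat.card_eq_fintype_card]
  have hmemO : ∀ a : Λ, a ∈ O ↔ ∃ s : U, m.act ⟨s, m.U_le s.2⟩ (m.lamP b.1) = a.1 := fun a => by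
    simp only [O, Finset.mem_image, Finset.mem_univ, true_and]
    exact exists_congr fun s => ⟨fun h => congrArg Subtype.val h, fun h => Subtype.ext h⟩
  have hu0 : 0 < u := Nat.card_pos
  have huR : u ≤ R := by
    rw [hR, Nat.card_eq_fintype_card, ← hO]
    exact Finset.card_le_univ O
  have hR0 : 0 < R := lt_of_lt_of_le hu0 huR
  let k : Λ → ℝ := fun a => (if a ∈ O then (u : ℝ)⁻¹ else 0) - (R : ℝ)⁻¹
  let V : ↥(fittingHallOf S) → ℂ := fun x => ∑ a : Λ, (k a : ℂ) * homC a.1 x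
  have hcard : Fintype.card Λ = R := by rw [hR, Nat.card_eq_fintype_card]
  have hksum : ∑ a : Λ, k a = 0 := by
    simp only [k, Finset.sum_sub_distrib, Finset.sum_ite_mem, Finset.univ_inter, Finset.sum_const,
      hO, Finset.card_univ, hcard, nsmul_eq_mul]
    field_simp
    ring
  have hV1 : V 1 = 0 := by
    simp only [V, homC_apply, map_one, Units.val_one, mul_one]
    exact_mod_cast hksum
  have hVs : V = ∑ a : Λ, (k a : ℂ) • homC a.1 := by
    funext x
    simp [V]
  have hfV : classInner f V = σ * (((R : ℝ) - u) / R : ℝ) := by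
    rw [hVs, Char.classInner_sum_right, Finset.sum_congr rfl fun a _ => by
      rw [Char.classInner_smul_right, Complex.conj_ofReal],
      ← sub_eq_zero]
    have e : ∀ a : Λ, (k a : ℂ) * c a.1 =
        (k a : ℂ) * c (m.lamP b.1) - (k a : ℂ) * (if a ∈ O then 0 else σ) := fun a => by
      rw [← mul_sub, if_congr (hmemO a) rfl rfl, ← hval a, sub_sub_cancel]
    show ∑ a : Λ, (k a : ℂ) * c a.1 - _ = 0
    rw [Finset.sum_congr rfl fun a _ => e a, Finset.sum_sub_distrib, ← Finset.sum_mul,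
      ← Complex.ofReal_sum, hksum]
    have e2 : ∀ a : Λ, (k a : ℂ) * (if a ∈ O then 0 else σ) =
        if a ∈ O then 0 else -((R : ℂ)⁻¹ * σ) := fun a => by
      by_cases ha : a ∈ O <;> simp [k, ha]
    rw [Finset.sum_congr rfl fun a _ => e2 a, Finset.sum_ite, Finset.sum_const_zero, zero_add,
      Finset.sum_const, show (Finset.univ.filter fun a => a ∉ O) = Oᶜ from by ext; simp,
      Finset.card_compl, hO, hcard, nsmul_eq_mul, Nat.cast_sub huR]
    push_cast
    ring
  have hVV : classInner V V = ((((u : ℝ)⁻¹ - (R : ℝ)⁻¹) : ℝ) : ℂ) := by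
    rw [hVs]
    simp only [Char.classInner_sum_left, Char.classInner_sum_right, Char.classInner_smul_left,
      Char.classInner_smul_right, Complex.conj_ofReal, classInner_homC, Subtype.coe_injective.eq_iff,
      mul_ite, mul_one, mul_zero]
    rw [Finset.sum_congr rfl (g := fun a : Λ => ((k a * k a : ℝ) : ℂ)) fun a _ => by
      rw [Finset.sum_eq_single a (fun b _ hb => if_neg hb) fun h => absurd (Finset.mem_univ a) h,
        if_pos rfl, Complex.ofReal_mul], ← Complex.ofReal_sum]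
    congr 1
    have e3 : ∀ a : Λ, k a * k a =
        (if a ∈ O then ((u : ℝ)⁻¹) ^ 2 - 2 * (u : ℝ)⁻¹ * (R : ℝ)⁻¹ else 0) + ((R : ℝ)⁻¹) ^ 2 :=
      fun a => by simp only [k]; split_ifs <;> ring
    rw [Finset.sum_congr rfl fun a _ => e3 a, Finset.sum_add_distrib, Finset.sum_ite_mem,
      Finset.univ_inter, Finset.sum_const, Finset.sum_const, hO, Finset.card_univ, hcard,
      nsmul_eq_mul, nsmul_eq_mul]
    field_simp
    ring
  -- Cauchy
  have hP : (Nat.card ↥(fittingHallOf S) : ℝ) ≠ 0 := Nat.cast_ne_zero.2 Nat.card_pos.ne'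
  set E := Finset.univ.erase (1 : ↥(fittingHallOf S)) with hE
  have hsum1 : ∀ g : ↥(fittingHallOf S) → ℂ, g 1 = 0 → ∑ x, g x = ∑ x ∈ E, g x := fun g hg => by
    rw [← Finset.add_sum_erase _ _ (Finset.mem_univ (1 : ↥(fittingHallOf S))), hg, zero_add]
  have hn1 : (((R : ℝ) - u) / R) * Nat.card ↥(fittingHallOf S) ≤
      ∑ x ∈ E, ‖f x‖ * ‖V x‖ := by
    have h : ‖∑ x ∈ E, f x * conj (V x)‖ = ((R : ℝ) - u) / R * Nat.card ↥(fittingHallOf S) := by
      rw [← hsum1 _ (by rw [hV1, map_zero, mul_zero])]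
      have : ∑ x, f x * conj (V x) = (Nat.card ↥(fittingHallOf S) : ℂ) * classInner f V := by
        rw [classInner, ← mul_assoc, mul_inv_cancel₀ (Nat.cast_ne_zero.2 Nat.card_pos.ne'), one_mul]
      have hσ' : ‖σ‖ = 1 := by
        rw [← Real.sqrt_one, ← hσ, ← Complex.norm_def]
      rw [this, hfV, norm_mul, norm_mul, hσ', Complex.norm_natCast, one_mul, Complex.norm_real,
        Real.norm_of_nonneg (div_nonneg (sub_nonneg.2 (by exact_mod_cast huR)) (Nat.cast_nonneg _)),
        mul_comm]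
    rw [← h]
    refine (norm_sum_le _ _).trans (le_of_eq (Finset.sum_congr rfl fun x _ => ?_))
    rw [norm_mul, Complex.norm_conj]
  have hn2 : ∑ x ∈ E, ‖V x‖ ^ 2 = Nat.card ↥(fittingHallOf S) * ((u : ℝ)⁻¹ - (R : ℝ)⁻¹) := by
    have h : classInner V V * (Nat.card ↥(fittingHallOf S) : ℂ) = ∑ x, V x * conj (V x) := by
      rw [classInner, mul_comm, ← mul_assoc,
        mul_inv_cancel₀ (Nat.cast_ne_zero.2 Nat.card_pos.ne'), one_mul]
    rw [hsum1 _ (by rw [hV1, zero_mul]), hVV] at h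
    have h' : ((∑ x ∈ E, ‖V x‖ ^ 2 : ℝ) : ℂ) =
        ((((u : ℝ)⁻¹ - (R : ℝ)⁻¹) * Nat.card ↥(fittingHallOf S) : ℝ) : ℂ) := by
      rw [Complex.ofReal_mul, Complex.ofReal_natCast, h, Complex.ofReal_sum]
      exact Finset.sum_congr rfl fun x _ => by rw [Complex.mul_conj', Complex.ofReal_pow]
    rw [Complex.ofReal_inj] at h'
    rw [h', mul_comm]
  have hcs := Finset.sum_mul_sq_le_sq_mul_sq E (fun x => ‖f x‖) fun x => ‖V x‖
  rw [hn2] at hcs
  have hSigma : ∑ x ∈ E, ‖f x‖ ^ 2 = ∑ x ∈ E, Complex.normSq (χ x) :=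
    Finset.sum_congr rfl fun x _ => (Complex.normSq_eq_norm_sq _).symm
  rw [hSigma] at hcs
  set N : ℝ := ∑ x ∈ E, Complex.normSq (χ x)
  have hN0 : 0 ≤ N := Finset.sum_nonneg fun x _ => Complex.normSq_nonneg _
  have hPv : (Nat.card ↥(fittingHallOf S) : ℝ) = (p : ℝ) ^ q := by
    rw [m.card_P, Nat.cast_pow]
  have hSv : (Nat.card S : ℝ) = (p : ℝ) ^ q * u * q := by
    rw [m.card_S]; push_cast; rfl
  have hu0' : (0 : ℝ) < u := by exact_mod_cast hu0
  have hR0' : (0 : ℝ) < R := by exact_mod_cast hR0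
  have hq0 : (0 : ℝ) < q := by exact_mod_cast m.hq.pos
  have hp0 : (0 : ℝ) < (p : ℝ) ^ q := pow_pos (by exact_mod_cast m.hp.pos) q
  have hRu : (0 : ℝ) ≤ (R : ℝ) - u := sub_nonneg.2 (by exact_mod_cast huR)
  rw [hPv] at hn1 hcs
  have h1 : (((R : ℝ) - u) / R * (p : ℝ) ^ q) ^ 2 ≤ N * ((p : ℝ) ^ q * ((u : ℝ)⁻¹ - (R : ℝ)⁻¹)) :=
    le_trans (pow_le_pow_left₀ (by positivity) hn1 2) hcs
  rw [show (1 : ℝ) - (u : ℝ) / R = ((R : ℝ) - u) / R by field_simp, hSv]
  rcases hRu.eq_or_lt with h0 | hpos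
  · rw [← h0, zero_div, zero_div]
    positivity
  have e1 : (u : ℝ)⁻¹ - (R : ℝ)⁻¹ = ((R : ℝ) - u) / (u * R) := by field_simp
  rw [e1] at h1
  have h2 : ((R : ℝ) - u) / R * ((p : ℝ) ^ q) * u ≤ N := by
    have hk : 0 < (p : ℝ) ^ q * (((R : ℝ) - u) / (u * R)) := by positivity
    refine le_of_mul_le_mul_right (le_trans (le_of_eq ?_) h1) hk
    field_simp
  rw [div_le_iff₀ hq0]
  calc ((R : ℝ) - u) / R = (((p : ℝ) ^ q * u * q)⁻¹ * (((R : ℝ) - u) / R * (p : ℝ) ^ q * u)) * q := by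
        field_simp
    _ ≤ ((p : ℝ) ^ q * u * q)⁻¹ * N * q := by gcongr

end Member

end Cfsg.Agent.OddOrder.PF.S14
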