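import Mathlib

/-!
Arithmetic for the last configuration of the odd order theorem (Peterfalvi 14): primes `3 ≤ q < p`,
`M = (p^q - 1)/(p - 1)`, a number `u ≡ 1 (mod q)` dividing `M` or `((p - 1)/2)^(q - 1)`, and the
bounds that force `u = M`.
-/

set_option autoImplicit false

namespace Cfsg.Agent.OddOrder.PF.S14

open Finset

variable {p q u M : ℕ}

theorem geom_eq (hp : 2 ≤ p) (hM : (p - 1) * M = p ^ q - 1) : M = ∑ i ∈ range q, p ^ i := by
  have h : (∑ i ∈ range q, p ^ i) * (p - 1) = p ^ q - 1 := geom_sum_mul_of_one_le (by omega) q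
  refine Nat.eq_of_mul_eq_mul_left (show 0 < p - 1 by omega) ?_
  rw [hM, ← h, mul_comm]

theorem pow_pred_le_geom (hp : 2 ≤ p) (hq : 1 ≤ q) (hM : (p - 1) * M = p ^ q - 1) :
    p ^ (q - 1) ≤ M := by
  rw [geom_eq hp hM]
  exact Finset.single_le_sum (f := fun i => p ^ i) (fun i _ => Nat.zero_le _)
    (mem_range.2 (by omega))

/-- `M` modulo a divisor of `p - 1`. -/
theorem geom_modEq_q {d : ℕ} (hp : 2 ≤ p) (hd : p ≡ 1 [MOD d]) (hM : (p - 1) * M = p ^ q - 1) :
    M ≡ q [MOD d] := by
  rw [geom_eq hp hM]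
  calc ∑ i ∈ range q, p ^ i ≡ ∑ _i ∈ range q, 1 [MOD d] := by
        clear hM
        induction q with
        | zero => rfl
        | succ n ih =>
          rw [sum_range_succ, sum_range_succ]
          exact ih.add (by simpa using hd.pow n)
    _ = q := by simp

theorem geom_modEq_one {d : ℕ} (hp : 2 ≤ p) (hd : d ∣ p) (hq : 1 ≤ q)
    (hM : (p - 1) * M = p ^ q - 1) : M ≡ 1 [MOD d] := by
  obtain ⟨n, rfl⟩ : ∃ n, q = n + 1 := ⟨q - 1, by omega⟩
  rw [geom_eq hp hM, sum_range_succ', pow_zero]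
  have h : ∀ i, p ^ (i + 1) ≡ 0 [MOD d] := fun i =>
    Nat.modEq_zero_iff_dvd.2 (hd.trans (dvd_pow_self p (by omega)))
  have h0 : ∑ i ∈ range n, p ^ (i + 1) ≡ 0 [MOD d] :=
    Nat.modEq_zero_iff_dvd.2 (Finset.dvd_sum fun i _ => Nat.modEq_zero_iff_dvd.1 (h i))
  simpa using h0.add_right 1

theorem geom_odd (hp : Odd p) (hq : Odd q) (hp2 : 2 ≤ p) (hM : (p - 1) * M = p ^ q - 1) : Odd M := by
  have h := geom_modEq_q (d := 2) hp2 (Nat.odd_iff.1 hp) hM
  exact Nat.odd_iff.2 (Eq.trans h (Nat.odd_iff.1 hq))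

/-- `M ≡ 1 (mod q)` unless `p ≡ 1 (mod q)`. -/
theorem geom_modEq_one_q (hp : p.Prime) (hq : q.Prime) (hM : (p - 1) * M = p ^ q - 1)
    (h1 : ¬ p ≡ 1 [MOD q]) : M ≡ 1 [MOD q] := by
  haveI := Fact.mk hq
  have hp1 : ((p : ZMod q) - 1) ≠ 0 := by
    intro h
    refine h1 ((ZMod.natCast_eq_natCast_iff _ _ _).1 ?_)
    push_cast
    exact sub_eq_zero.1 h
  have h := congrArg (Nat.cast (R := ZMod q)) hM
  rw [Nat.cast_mul, Nat.cast_sub hp.one_lt.le, Nat.cast_sub (Nat.one_le_pow _ _ hp.pos),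
    Nat.cast_pow, ZMod.pow_card, Nat.cast_one] at h
  refine (ZMod.natCast_eq_natCast_iff _ _ _).1 ?_
  push_cast
  exact mul_left_cancel₀ hp1 (h.trans (mul_one _).symm)

/-- The two kinds of `U`. -/
abbrev Dich (p q u M : ℕ) : Prop := u ∣ M ∨ u ∣ ((p - 1) / 2) ^ (q - 1)

theorem half_pow_mul_le (hq : 2 ≤ q) : q * ((p - 1) / 2) ^ (q - 1) ≤ (p - 1) ^ (q - 1) := by
  have h2 : q ≤ 2 ^ (q - 1) := by
    obtain ⟨n, rfl⟩ : ∃ n, q = n + 1 := ⟨q - 1, by omega⟩
    simpa using Nat.lt_two_pow_self (n := n)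
  calc q * ((p - 1) / 2) ^ (q - 1) ≤ 2 ^ (q - 1) * ((p - 1) / 2) ^ (q - 1) :=
        Nat.mul_le_mul_right _ h2
    _ = (2 * ((p - 1) / 2)) ^ (q - 1) := (mul_pow _ _ _).symm
    _ ≤ (p - 1) ^ (q - 1) := Nat.pow_le_pow_left (Nat.mul_div_le _ _) _

/-- If `u` is not `M`, then `q u ≤ M`, and even `q (p - 1) u ≤ R`. -/
theorem nonfull_bound {R : ℕ} (hp : p.Prime) (hq : q.Prime) (h3 : 3 ≤ q) (hqp : q < p)
    (hM : (p - 1) * M = p ^ q - 1) (hu1 : u ≡ 1 [MOD q]) (hd : Dich p q u M) (hne : u ≠ M)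
    (hR : (p - 1) ^ q ≤ R) (hR' : u ∣ M → R = p ^ q - 1) :
    q * u ≤ M ∧ q * (p - 1) * u ≤ R := by
  rcases hd with hdvd | hdvd
  · obtain ⟨m, hm⟩ := hdvd
    have hm1 : m ≠ 1 := fun h => hne (by rw [hm, h, mul_one])
    have hm0 : m ≠ 0 := by
      rintro rfl
      have := pow_pred_le_geom hp.two_le (by omega) hM
      have := Nat.one_le_pow (q - 1) p hp.pos
      omega
    have hqm : q ≤ m := by
      have hmM : M ≡ m [MOD q] := by
        rw [hm]; simpa using hu1.mul_right m
      by_cases h1 : p ≡ 1 [MOD q]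
      · have h := (hmM.symm.trans (geom_modEq_q hp.two_le h1 hM)).trans
          (Nat.modEq_zero_iff_dvd.2 (dvd_refl q))
        exact Nat.le_of_dvd (Nat.pos_of_ne_zero hm0) (Nat.modEq_zero_iff_dvd.1 h)
      · have h := hmM.symm.trans (geom_modEq_one_q hp hq hM h1)
        have h' := (Nat.modEq_iff_dvd' (show 1 ≤ m by omega)).1 h.symm
        have := Nat.le_of_dvd (by omega) h'
        omega
    have hle : q * u ≤ M := by rw [hm, mul_comm q u]; exact Nat.mul_le_mul_left u hqm
    refine ⟨hle, ?_⟩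
    rw [hR' ⟨m, hm⟩, ← hM, mul_comm q (p - 1), mul_assoc]
    exact Nat.mul_le_mul_left _ hle
  · have hA : 0 < (p - 1) / 2 := by omega
    have hle := Nat.mul_le_mul_left q (Nat.le_of_dvd (pow_pos hA _) hdvd)
    have hb := hle.trans (half_pow_mul_le (p := p) (by omega))
    refine ⟨hb.trans ((Nat.pow_le_pow_left (by omega) _).trans
      (pow_pred_le_geom hp.two_le (by omega) hM)), le_trans ?_ hR⟩
    calc q * (p - 1) * u = (p - 1) * (q * u) := by ring
      _ ≤ (p - 1) * (p - 1) ^ (q - 1) := Nat.mul_le_mul_left _ hb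
      _ = (p - 1) ^ q := by rw [← pow_succ']; congr 1; omega

/-- `p^q ≤ q^p` for `3 ≤ q ≤ p`. -/
theorem pow_swap_le (h3 : 3 ≤ q) (hqp : q ≤ p) : p ^ q ≤ q ^ p := by
  have hq : (0 : ℝ) < q := by exact_mod_cast (show 0 < q by omega)
  have hp : (0 : ℝ) < p := by exact_mod_cast (show 0 < p by omega)
  have he : Real.exp 1 ≤ (q : ℝ) := le_trans (le_of_lt Real.exp_one_lt_d9)
    (le_trans (by norm_num) (show (3 : ℝ) ≤ q by exact_mod_cast h3))
  have hqp' : (q : ℝ) ≤ p := by exact_mod_cast hqp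
  have h := Real.log_div_self_antitoneOn he (Set.mem_ofPred.2 (he.trans hqp')) hqp'
  rw [div_le_div_iff₀ hp hq] at h
  have h' : ((p : ℝ) ^ q) ≤ (q : ℝ) ^ p := by
    rw [← Real.log_le_log_iff (pow_pos hp q) (pow_pos hq p), Real.log_pow, Real.log_pow]
    linarith
  exact_mod_cast h'

/-- A companion of size `M' = (q^p - 1)/(q - 1)` is too large to be bounded by `u`. -/
theorem companion_too_big {v M' : ℕ} (h3 : 3 ≤ q) (hqp : q + 2 ≤ p)
    (hM : (p - 1) * M = p ^ q - 1) (hM' : (q - 1) * M' = q ^ p - 1) (hu : q * u ≤ M) (hv : v = M')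
    {N e : ℕ} (he : e ≤ p * q) (hN : q * N + 1 ≤ u) (hvN : v ≤ e * N + 1) : False := by
  have h1 : M' ≤ p * u := by
    rw [← hv]
    refine hvN.trans ?_
    have := Nat.mul_le_mul_right N he
    have := Nat.mul_le_mul_left p hN
    nlinarith
  have h2 : q * M' ≤ p * M :=
    calc q * M' ≤ q * (p * u) := Nat.mul_le_mul_left q h1
      _ = p * (q * u) := by ring
      _ ≤ p * M := Nat.mul_le_mul_left p hu
  have h4 : q ^ p + q ^ (p - 1) ≤ q * M' := by
    rw [geom_eq (p := q) (q := p) (by omega) hM']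
    obtain ⟨n, hn⟩ : ∃ n, p = n + 1 + 1 := ⟨p - 2, by omega⟩
    subst hn
    rw [sum_range_succ, sum_range_succ, mul_add, mul_add, show n + 1 + 1 - 1 = n + 1 by omega,
      ← pow_succ', ← pow_succ']
    omega
  have h5 := pow_swap_le (p := p) h3 (by omega)
  have h6 : (p - 1) * (q * M') ≤ p * p ^ q := by
    calc (p - 1) * (q * M') ≤ (p - 1) * (p * M) := Nat.mul_le_mul_left _ h2
      _ = p * (p ^ q - 1) := by rw [← hM]; ring
      _ ≤ p * p ^ q := Nat.mul_le_mul_left p (Nat.sub_le _ _)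
  have h7 : (p - 1) * (q ^ p + q ^ (p - 1)) ≤ p * q ^ p :=
    (Nat.mul_le_mul_left _ h4).trans (h6.trans (Nat.mul_le_mul_left p h5))
  obtain ⟨n, rfl⟩ : ∃ n, p = n + 1 := ⟨p - 1, by omega⟩
  rw [show n + 1 - 1 = n by omega, pow_succ] at h7
  have hpos : 0 < q ^ n := pow_pos (by omega) n
  nlinarith [Nat.mul_le_mul_right (q ^ n) (show q + 1 ≤ n by omega)]

/-- `p² q² ≤ q^(p-1)` outside `(p, q) = (5, 3)`. -/
theorem sq_le_pow (h3 : 3 ≤ q) (hp : 7 ≤ p) (hqp : q < p) : p ^ 2 * q ^ 2 ≤ q ^ (p - 1) := by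
  have key : ∀ n, 7 ≤ n → n ^ 2 ≤ 3 ^ (n - 3) := by
    intro n hn
    induction n, hn using Nat.le_induction with
    | base => norm_num
    | succ n hn ih =>
      obtain ⟨k, rfl⟩ : ∃ k, n = k + 3 := ⟨n - 3, by omega⟩
      rw [show k + 3 + 1 - 3 = k + 1 by omega, pow_succ 3 k]
      rw [show k + 3 - 3 = k by omega] at ih
      nlinarith
  calc p ^ 2 * q ^ 2 ≤ q ^ (p - 3) * q ^ 2 :=
        Nat.mul_le_mul_right _ ((key p hp).trans (Nat.pow_le_pow_left h3 _))
    _ = q ^ (p - 1) := by rw [← pow_add]; congr 1; omega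

theorem five_of_lt (hp : p.Prime) (hq : q.Prime) (h3 : 3 ≤ q) (hqp : q < p) (h : p < 7) :
    p = 5 ∧ q = 3 := by
  have hp6 : p ≠ 6 := fun e => absurd (e ▸ hp) (by norm_num)
  have hp4 : p ≠ 4 := fun e => absurd (e ▸ hp) (by norm_num)
  have hq4 : q ≠ 4 := fun e => absurd (e ▸ hq) (by norm_num)
  omega

theorem companion_small_false {v M' : ℕ} (hp : p.Prime) (hq : q.Prime) (h3 : 3 ≤ q) (hqp : q < p)
    (hM : (p - 1) * M = p ^ q - 1) (hM' : (q - 1) * M' = q ^ p - 1) (hu1 : u ≡ 1 [MOD q])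
    (huodd : Odd u) (hu0 : 1 < u) (hd : Dich p q u M) (hne : u ≠ M) (hv : v = M') {N e : ℕ}
    (he : e ≤ p * q) (hN : N ≤ p * q - 1) (hvN : v ≤ e * N + 1) : False := by
  have h1 : M' < p ^ 2 * q ^ 2 := by
    have h := Nat.mul_le_mul he hN
    have h2 : p * q * (p * q - 1) + p * q = p ^ 2 * q ^ 2 := by
      rw [Nat.mul_sub, mul_one, Nat.sub_add_cancel (Nat.le_mul_of_pos_right _ (by nlinarith))]
      ring
    have : 1 < p * q := by nlinarith
    omega
  rcases lt_or_ge p 7 with hp7 | hp7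
  · obtain ⟨rfl, rfl⟩ := five_of_lt hp hq h3 hqp hp7
    have hM31 : M = 31 := by norm_num at hM; omega
    subst hM31
    rcases hd with hd | hd
    · rcases (Nat.dvd_prime (by norm_num : Nat.Prime 31)).1 hd with h | h <;> omega
    · norm_num at hd
      have := Nat.le_of_dvd (by norm_num) hd
      obtain ⟨j, hj⟩ := huodd
      interval_cases u <;> omega
  · have := sq_le_pow h3 hp7 hqp
    have := pow_pred_le_geom (p := q) (q := p) (by omega) (by omega) hM'
    omega

/-- The inequality `n + NL ≤ p (q - 1)` forces `u = M`. -/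
theorem full_of_bounds {R n NL k : ℕ} (hp : p.Prime) (hq : q.Prime) (h3 : 3 ≤ q) (hqp : q < p)
    (hM : (p - 1) * M = p ^ q - 1) (hu1 : u ≡ 1 [MOD q]) (huodd : Odd u) (hu0 : 1 < u)
    (hd : Dich p q u M) (hR : (p - 1) ^ q ≤ R) (hR' : u ∣ M → R = p ^ q - 1)
    (hn : u * (q * n + (p - 1)) = R) (hb : n + NL ≤ p * (q - 1))
    (hk : u * k = p * q * NL + 1) (hkodd : Odd k) : u = M := by
  by_contra hne
  have hk0 : 1 ≤ k := hkodd.pos
  have huh : u ≤ p * q * NL + 1 := hk ▸ Nat.le_mul_of_pos_right u hk0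
  have hp5 : 5 ≤ p := by
    have : p ≠ 4 := fun e => absurd (e ▸ hp) (by norm_num)
    omega
  have hpodd : Odd p := hp.odd_of_ne_two (by omega)
  have hMo := geom_odd hpodd (hq.odd_of_ne_two (by omega)) hp.two_le hM
  by_cases hq5 : 5 ≤ q
  · have hsmall : 4 * (p - 1) ^ q ≤ p * (p * (q * (q - 1) + 1)) ^ 2 := by
      have hA : u ≤ p * (q * NL + 1) := huh.trans (by nlinarith)
      have h4 : 4 * ((q * NL + 1) * (q * n + (p - 1))) ≤ (p * (q * (q - 1) + 1)) ^ 2 := by
        have hs : (q * NL + 1) + (q * n + (p - 1)) ≤ p * (q * (q - 1) + 1) := by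
          have := Nat.mul_le_mul_left q hb
          have h' : p * (q * (q - 1) + 1) = q * (p * (q - 1)) + p := by ring
          rw [h', mul_add] at *
          omega
        exact le_trans (by have := four_mul_le_sq_add (q * NL + 1) (q * n + (p - 1)); linarith)
          (Nat.pow_le_pow_left hs 2)
      calc 4 * (p - 1) ^ q ≤ 4 * R := Nat.mul_le_mul_left 4 hR
        _ = 4 * (u * (q * n + (p - 1))) := by rw [hn]
        _ ≤ 4 * (p * (q * NL + 1) * (q * n + (p - 1))) :=
          Nat.mul_le_mul_left 4 (Nat.mul_le_mul_right _ hA)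
        _ = p * (4 * ((q * NL + 1) * (q * n + (p - 1)))) := by ring
        _ ≤ _ := Nat.mul_le_mul_left p h4
    obtain ⟨s, hs⟩ : ∃ s, p = s + 1 := ⟨p - 1, by omega⟩
    by_cases hq7 : 7 ≤ q
    · have h1 : p * (p * (q * (q - 1) + 1)) ^ 2 ≤ p ^ 7 := by
        have : q * (q - 1) + 1 ≤ p ^ 2 := by
          have := Nat.mul_le_mul (le_of_lt hqp) (show q - 1 ≤ p - 1 by omega)
          have h' : p * (p - 1) + p = p ^ 2 := by
            rw [Nat.mul_sub, mul_one, Nat.sub_add_cancel (Nat.le_mul_self p), sq]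
          omega
        calc p * (p * (q * (q - 1) + 1)) ^ 2 ≤ p * (p * p ^ 2) ^ 2 := by gcongr
          _ = p ^ 7 := by ring
      have h2 : p ^ 7 < 4 * (p - 1) ^ q := by
        refine lt_of_lt_of_le ?_
          (Nat.mul_le_mul_left 4 (Nat.pow_le_pow_right (show 0 < p - 1 by omega) hq7))
        have hp11 : 11 ≤ p := by
          by_contra h
          have h' := hp
          interval_cases p <;> first | omega | (norm_num at h')
        have h10 : 10 * p ≤ 11 * (p - 1) := by omega
        have h11 := Nat.pow_le_pow_left h10 7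
        rw [mul_pow, mul_pow] at h11
        have : 0 < p ^ 7 := pow_pos hp.pos 7
        nlinarith
      omega
    · have hq6 : q ≠ 6 := fun e => absurd (e ▸ hq) (by norm_num)
      obtain rfl : q = 5 := by omega
      have hp11 : p ≤ 12 := by
        by_contra hbig
        subst hs
        rw [show s + 1 - 1 = s by omega] at hsmall
        norm_num at hsmall
        have h12 : 12 ≤ s := by omega
        nlinarith [Nat.mul_le_mul_left (s ^ 2) (Nat.mul_le_mul h12 h12),
          Nat.mul_le_mul_left (s ^ 3) h12, Nat.mul_le_mul h12 h12]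
      rcases (show p = 7 ∨ p = 11 by
        have h' := hp; interval_cases p <;> first | (norm_num at h'; done) | norm_num) with rfl | rfl
      · have hM' : M = 2801 := by norm_num at hM; omega
        subst hM'
        rcases hd with hd | hd
        · rcases (Nat.dvd_prime (by norm_num : Nat.Prime 2801)).1 hd with h | h <;> omega
        · norm_num at hd hR hb hk hn
          have hu81 : u = 81 := by
            rcases (Nat.dvd_prime_pow (by norm_num : Nat.Prime 3)).1
              (show u ∣ 3 ^ 4 by norm_num; exact hd) with ⟨i, hi, rfl⟩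
            interval_cases i <;> simp_all [Nat.ModEq]
          subst hu81
          omega
      · have hM' : M = 16105 := by norm_num at hM; omega
        subst hM'
        rcases hd with hd | hd
        · have hR'' := hR' hd
          norm_num at hR'' hb hk hn
          subst hR''
          obtain ⟨m, hm⟩ := hd
          have hu1' : u % 5 = 1 := hu1
          have h2 : u ∣ 5 * 3221 := ⟨m, by norm_num [← hm]⟩
          rcases (Nat.dvd_mul).1 h2 with ⟨a, b, ha, hb', rfl⟩
          rcases (Nat.dvd_prime (by norm_num : Nat.Prime 5)).1 ha with rfl | rfl <;>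
            rcases (Nat.dvd_prime (by norm_num : Nat.Prime 3221)).1 hb' with rfl | rfl <;> omega
        · norm_num at hd
          rcases (Nat.dvd_prime_pow (by norm_num : Nat.Prime 5)).1
            (show u ∣ 5 ^ 4 by norm_num; exact hd) with ⟨i, hi, rfl⟩
          interval_cases i <;> simp_all [Nat.ModEq]
  · have hq4 : q ≠ 4 := fun e => absurd (e ▸ hq) (by norm_num)
    obtain rfl : q = 3 := by omega
    norm_num at hb hk hn
    obtain ⟨s, rfl⟩ : ∃ s, p = s + 1 := ⟨p - 1, by omega⟩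
    rw [show s + 1 - 1 = s by omega] at *
    have hMv : M = (s + 1) ^ 2 + (s + 1) + 1 := by
      rw [geom_eq (M := M) (p := s + 1) (q := 3) (by omega) (by rw [show s + 1 - 1 = s by omega]; exact hM)]
      simp [sum_range_succ]; ring
    have hu3 : u % 3 = 1 := hu1
    have hk3 : k % 3 = 1 := by
      have h : (u * k) % 3 = 1 := by
        rw [hk, show (s + 1) * 3 * NL = 3 * ((s + 1) * NL) by ring]; omega
      rw [Nat.mul_mod, hu3] at h
      omega
    have hko : k % 2 = 1 := Nat.odd_iff.1 hkodd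
    have hkp : ∀ z : ℕ, z * u ≡ 1 [MOD s + 1] → k ≡ z [MOD s + 1] := by
      intro z hz
      have h1 : u * k ≡ 1 [MOD s + 1] := by
        rw [hk]
        have : (s + 1) * 3 * NL ≡ 0 [MOD s + 1] :=
          Nat.modEq_zero_iff_dvd.2 (dvd_mul_of_dvd_left (dvd_mul_right _ _) _)
        simpa using this.add_right 1
      have h2 := h1.mul_left z
      have h3 := hz.mul_right k
      rw [mul_one, ← mul_assoc] at h2
      rw [one_mul] at h3
      exact h3.symm.trans h2
    rcases hd with hdvd | hdvd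
    · obtain ⟨m, hm⟩ := hdvd
      have hRv := hR' ⟨m, hm⟩
      rw [← hM, hm] at hRv
      have hnm : 3 * n + s = s * m := Nat.eq_of_mul_eq_mul_left (by omega : 0 < u)
        (by rw [hn, hRv]; ring)
      have hmo : m % 2 = 1 := Nat.odd_iff.1 (Nat.odd_mul.1 (hm ▸ hMo)).2
      have hm1 : m ≠ 1 := fun h => hne (by rw [hm, h, mul_one])
      have hm8 : m ≤ 8 := by
        by_contra h
        have := Nat.mul_le_mul_left s (show 9 ≤ m by omega)
        omega
      rw [hMv] at hm
      have hz : ∀ z, z = m → z * u ≡ 1 [MOD s + 1] := by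
        rintro z rfl
        rw [mul_comm, ← hm]
        exact Nat.modEq_of_dvd ⟨-((s + 1 : ℤ) + 1), by push_cast; ring⟩
      interval_cases m <;> try omega
      · -- `m = 3`
        have hk' := hkp 3 (hz 3 rfl)
        have hk11 : k < 12 := by
          by_contra h
          have := Nat.mul_le_mul_left u (show 12 ≤ k by omega)
          have := Nat.mul_le_mul_left ((s + 1) * 3) (show 3 * NL ≤ 4 * s + 6 by omega)
          nlinarith
        have h' : (k = 1 ∨ k = 7) := by omega
        rcases h' with rfl | rfl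
        · have := Nat.le_of_dvd (by norm_num) ((Nat.modEq_iff_dvd' (by norm_num : (1:ℕ) ≤ 3)).1 hk')
          norm_num at this
          omega
        · have := Nat.le_of_dvd (by norm_num)
            ((Nat.modEq_iff_dvd' (by norm_num : (3:ℕ) ≤ 7)).1 hk'.symm)
          norm_num at this
          omega
      · -- `m = 5`
        have hno : ∀ x : ZMod 5, x ^ 2 + x + 1 ≠ 0 := by decide
        refine absurd ?_ (hno ((s : ZMod 5) + 1))
        have h := congrArg (Nat.cast (R := ZMod 5)) hm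
        push_cast at h
        rw [h, show (5 : ZMod 5) = 0 from rfl, mul_zero]
      · -- `m = 7`
        have hk' := hkp 7 (hz 7 rfl)
        rcases (show k = 1 ∨ 7 ≤ k by omega) with rfl | hk7
        · have h6 := (Nat.modEq_iff_dvd' (by norm_num : (1:ℕ) ≤ 7)).1 hk'
          norm_num at h6
          have := Nat.le_of_dvd (by norm_num) h6
          have hs5 : s ≤ 5 := by omega
          interval_cases s <;> first | (norm_num at hp; done) | simp_all
        · have := Nat.mul_le_mul_left u hk7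
          have h2 : NL ≤ 2 := by omega
          have := Nat.mul_le_mul_left ((s + 1) * 3) h2
          rcases (show s = 4 ∨ 5 ≤ s by omega) with rfl | hs5
          · norm_num at hm
            omega
          · nlinarith [Nat.mul_le_mul_left (s + 1) (show 6 ≤ s + 1 by omega)]
    · norm_num at hdvd
      have hpo : (s + 1) % 2 = 1 := Nat.odd_iff.1 hpodd
      obtain ⟨A, rfl⟩ : ∃ A, s = 2 * A := ⟨s / 2, by omega⟩
      rw [show 2 * A / 2 = A by omega] at hdvd
      obtain ⟨l, hl⟩ := hdvd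
      rw [← hn] at hR
      have hA2 : 2 ≤ A := by omega
      by_cases hl1 : l = 1
      · subst hl1
        rw [mul_one] at hl
        subst hl
        have hn1 : 2 * A ≤ n := by
          have hh : A ^ 2 * (8 * A) ≤ A ^ 2 * (3 * n + 2 * A) := by nlinarith
          have h := Nat.le_of_mul_le_mul_left hh (by positivity)
          omega
        have hNL : NL ≤ 2 * A + 2 := by omega
        have hAo : A % 2 = 1 := Nat.odd_iff.1 (Nat.odd_pow_iff (by norm_num) |>.1 huodd)
        have hA3 : 3 ≤ A := by omega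
        have hk18 : k < 19 := by
          by_contra h
          have := Nat.mul_le_mul_left (A ^ 2) (show 19 ≤ k by omega)
          have := Nat.mul_le_mul_left ((2 * A + 1) * 3) hNL
          nlinarith
        have hk' : k ≡ 4 [MOD 2 * A + 1] := hkp 4 (Nat.modEq_of_dvd ⟨-((2 * A : ℤ) - 1), by
          push_cast; ring⟩)
        have h' : k = 1 ∨ k = 7 ∨ k = 13 := by omega
        rcases h' with rfl | rfl | rfl
        · have := Nat.le_of_dvd (by norm_num) ((Nat.modEq_iff_dvd' (by norm_num : (1:ℕ) ≤ 4)).1 hk')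
          norm_num at this
          omega
        · have := Nat.le_of_dvd (by norm_num)
            ((Nat.modEq_iff_dvd' (by norm_num : (4:ℕ) ≤ 7)).1 hk'.symm)
          norm_num at this
          omega
        · have h9 := (Nat.modEq_iff_dvd' (by norm_num : (4:ℕ) ≤ 13)).1 hk'.symm
          norm_num at h9
          have := Nat.le_of_dvd (by norm_num) h9
          obtain rfl : A = 3 := by omega
          norm_num at h9
      · have hl2 : 2 ≤ l := by
          rcases l with _ | l
          · rw [mul_zero] at hl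
            have := pow_eq_zero_iff (n := 2) (by norm_num) |>.1 hl
            omega
          · omega
        have hu2 : 2 * u ≤ A ^ 2 := by rw [hl, mul_comm 2 u]; exact Nat.mul_le_mul_left u hl2
        have hh : A ^ 2 * (16 * A) ≤ A ^ 2 * (3 * n + 2 * A) := by nlinarith
        have hn1 : 16 * A ≤ 3 * n + 2 * A := Nat.le_of_mul_le_mul_left hh (by positivity)
        have hA3 : A ≤ 3 := by omega
        have hu9 : u ≤ 4 := by
          have := Nat.pow_le_pow_left hA3 2
          omega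
        have : u = 1 ∨ u = 3 := by
          obtain ⟨j, hj⟩ := huodd
          omega
        omega

/-- The variant for a companion conjugate to `L`. -/
theorem full_of_conj {R n : ℕ} (hp : p.Prime) (hq : q.Prime) (hqp : q + 1 < p)
    (hM : (p - 1) * M = p ^ q - 1) (hu1 : u ≡ 1 [MOD q]) (hdM : u ∣ M) (hup : u ≡ 1 [MOD p])
    (hR' : R = p ^ q - 1) (hn : u * (q * n + (p - 1)) = R) (hb : n ≤ p * (q - 1)) : u = M := by
  obtain ⟨m, hm⟩ := hdM
  by_contra hne
  have hm1 : m ≠ 1 := fun h => hne (by rw [hm, h, mul_one])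
  have hu0 : 0 < u := by
    refine Nat.pos_of_ne_zero fun h => ?_
    have := pow_pred_le_geom hp.two_le hq.one_le hM
    have := Nat.one_le_pow (q - 1) p hp.pos
    rw [hm, h] at *
    omega
  have hm0 : m ≠ 0 := by
    intro h
    have := pow_pred_le_geom hp.two_le hq.one_le hM
    have := Nat.one_le_pow (q - 1) p hp.pos
    rw [hm, h] at *
    omega
  have hnm : q * n + (p - 1) = (p - 1) * m := Nat.eq_of_mul_eq_mul_left hu0 (by
    rw [hn, hR', ← hM, hm]; ring)
  have hmp : p ∣ m - 1 := by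
    have h : m ≡ 1 [MOD p] := by
      have h1 := geom_modEq_one (d := p) hp.two_le dvd_rfl hq.one_le hM
      rw [hm] at h1
      exact ((hup.mul_right m).symm.trans (by simpa using h1) |> fun h => by simpa using h)
    exact (Nat.modEq_iff_dvd' (by omega)).1 h.symm
  obtain ⟨t, ht⟩ := hmp
  have hmM : M ≡ m [MOD q] := by rw [hm]; simpa using hu1.mul_right m
  have hqt : q - 1 ≤ t := by
    by_cases h1 : p ≡ 1 [MOD q]
    · have h := (hmM.symm.trans (geom_modEq_q hp.two_le h1 hM)).trans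
        (Nat.modEq_zero_iff_dvd.2 (dvd_refl q))
      have h' : 1 + p * t ≡ 1 + t [MOD q] := by simpa using (h1.mul_right t).add_left 1
      rw [show 1 + p * t = m by omega] at h'
      have := Nat.le_of_dvd (by omega) (Nat.modEq_zero_iff_dvd.1 (h'.symm.trans h))
      omega
    · have h := hmM.symm.trans (geom_modEq_one_q hp hq hM h1)
      have h' := (Nat.modEq_iff_dvd' (show 1 ≤ m by omega)).1 h.symm
      rw [ht] at h'
      have h2 := ((Nat.coprime_primes hq hp).2 (by omega)).dvd_of_dvd_mul_left h'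
      have ht0 : 0 < t := Nat.pos_of_ne_zero fun h => by rw [h] at ht; omega
      have := Nat.le_of_dvd ht0 h2
      omega
  have h1 : q * n + (p - 1) = (p - 1) * (p * t) + (p - 1) := by
    rw [hnm, show m = p * t + 1 by omega]; ring
  have h2 : (p - 1) * (p * (q - 1)) ≤ q * (p * (q - 1)) := by
    calc (p - 1) * (p * (q - 1)) ≤ (p - 1) * (p * t) :=
          Nat.mul_le_mul_left _ (Nat.mul_le_mul_left _ hqt)
      _ = q * n := by omega
      _ ≤ q * (p * (q - 1)) := Nat.mul_le_mul_left q hb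
  have hpos : 0 < p * (q - 1) := Nat.mul_pos hp.pos (by have := hq.two_le; omega)
  have := Nat.le_of_mul_le_mul_right h2 hpos
  omega

/-- `k ≠ 1` with `M k ≡ 1 (mod p q)` is at least `2 p q + 1`. -/
theorem cofactor_ge {k : ℕ} (hp : p.Prime) (hq : q.Prime) (h3 : 3 ≤ q) (hqp : q < p)
    (hM : (p - 1) * M = p ^ q - 1) (h1 : ¬ p ≡ 1 [MOD q]) (hk : M * k ≡ 1 [MOD p * q])
    (hko : Odd k) (hk1 : k ≠ 1) : 2 * (p * q) + 1 ≤ k := by
  have hMpq : M ≡ 1 [MOD p * q] := (Nat.modEq_and_modEq_iff_modEq_mul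
    ((Nat.coprime_primes hp hq).2 (by omega))).1
    ⟨geom_modEq_one hp.two_le dvd_rfl hq.one_le hM, geom_modEq_one_q hp hq hM h1⟩
  have h := (hMpq.mul_right k).symm.trans hk
  rw [one_mul] at h
  obtain ⟨j, hj⟩ := hko
  have hd := (Nat.modEq_iff_dvd' (show 1 ≤ k by omega)).1 h.symm
  have hodd : Odd (p * q) := (hp.odd_of_ne_two (by omega)).mul (hq.odd_of_ne_two (by omega))
  have h2 : 2 * (p * q) ∣ k - 1 :=
    (Nat.coprime_two_left.2 hodd).mul_dvd_of_dvd_of_dvd ⟨j, by omega⟩ hd
  have := Nat.le_of_dvd (by omega) h2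
  omega

/-- The size of a kernel with cofactor `k` exceeds `2 q p^q`. -/
theorem kernel_big {k : ℕ} (hp : p.Prime) (hq : 1 ≤ q) (hM : (p - 1) * M = p ^ q - 1)
    (hk : 2 * (p * q) + 1 ≤ k) : 2 * q * p ^ q < M * k := by
  have h1 := pow_pred_le_geom hp.two_le hq hM
  have h2 : 0 < p ^ (q - 1) := pow_pos hp.pos _
  have h3 : p ^ q = p ^ (q - 1) * p := by rw [← pow_succ]; congr 1; omega
  calc 2 * q * p ^ q = p ^ (q - 1) * (2 * (p * q)) := by rw [h3]; ring
    _ < p ^ (q - 1) * (2 * (p * q) + 1) := by nlinarith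
    _ ≤ M * k := Nat.mul_le_mul h1 hk

theorem cofactor_false_of_small {k X : ℕ} (hp : p.Prime) (h3 : 3 ≤ q) (hqp : q < p)
    (hM : (p - 1) * M = p ^ q - 1) (hk : 2 * (p * q) + 1 ≤ k) (hX : X ≤ p ^ 2 * q ^ 3)
    (h : M * k ≤ X) : False := by
  have h1 := kernel_big hp (by omega) hM hk
  have h2 : p ^ 3 ≤ p ^ q := Nat.pow_le_pow_right hp.pos h3
  rcases (show q = 3 ∨ 4 ≤ q by omega) with rfl | h4
  · have hp4 : p ≠ 4 := fun e => absurd (e ▸ hp) (by norm_num)
    have h5 : 5 * p ^ 2 ≤ p * p ^ 2 := Nat.mul_le_mul_right _ (by omega)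
    nlinarith
  · have h5 : p ^ 4 ≤ p ^ q := Nat.pow_le_pow_right hp.pos h4
    have h6 : q ^ 2 ≤ p ^ 2 := Nat.pow_le_pow_left hqp.le 2
    nlinarith [Nat.mul_le_mul_left (p ^ 2 * q) h6]

end Cfsg.Agent.OddOrder.PF.S14
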