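import Cfsg.Agent.Lib.OddOrder.PF.S14_MemberRegular
import Cfsg.Agent.Lib.OddOrder.PF.S13_Eta

/-!
A bridge whose support misses a member `S` of a pair (Peterfalvi 14): its coefficient `d` on the row
of the cyclic family has the parity opposite to the one of the cross coefficient with `S`, and
Bessel's inequality bounds the weights of the families it meets.
-/

set_option autoImplicit false
set_option linter.style.haveILetI false
set_option linter.unusedSectionVars false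

namespace Cfsg.Agent.OddOrder.PF.S14

open Cfsg Cfsg.Agent.OddOrder Cfsg.Agent
open scoped ComplexConjugate

universe u

variable {G : Type u} [Group G] [Fintype G]

theorem classFunction_bridge {ι : Type*} [Fintype ι] {f : ι → G → ℂ} {st : ι → ι} {Y : Set G}
    {w : ι → ℕ} {z : ι} {β : G → ℂ} {e : ℕ} (hB : Bridge f st Y w z β e) : IsClassFunction G β :=
  Char.IsGeneralizedCharacter.isClassFunction hB.gen

/-- Bessel's inequality against a second family with disjoint support. -/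
theorem Bridge.cross_bound {ι ι' : Type*} [Fintype ι] [Fintype ι'] {f : ι → G → ℂ} {st : ι → ι}
    {Y : Set G} {w : ι → ℕ} {z : ι} {β : G → ℂ} {e : ℕ} {f' : ι' → G → ℂ} {st' : ι' → ι'}
    {Y' : Set G} {w' : ι' → ℕ} (hB : Bridge f st Y w z β e) (hf' : ConjFamily f' st' Y')
    (hd : Disjoint Y Y') {b : ℤ} (hb : ∀ i, classInner β (f' i) = b * w' i)
    (hN : 2 ≤ ∑ i, w i ^ 2) : b ^ 2 * (∑ i, w' i ^ 2 : ℕ) + 1 ≤ (e : ℤ) := by
  classical
  have h := (hB.bessel f' hf'.signed hf'.orth hf'.classInner_one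
    (fun k i => hf'.orth_of_disjoint hB.toConjFamily hd.symm k i) (fun i => b * w' i)
    (fun i => by rw [hb]; push_cast; rfl) hN).1
  refine le_trans (le_of_eq ?_) h
  push_cast
  rw [Finset.mul_sum]
  congr 1
  exact Finset.sum_congr rfl fun i _ => by ring

namespace Member

variable {S W₁ U W₂ : Subgroup G} {p q : ℕ} (m : Member S W₁ U W₂ p q) (B : BGFacts G)
  {η : (↥(W₁ ⊔ W₂) →* ℂˣ) → (G → ℂ)} (hη : IsCyclicTIFamily W₁ W₂ η)
  {ι : Type*} [Fintype ι] {f : ι → G → ℂ} {st : ι → ι} {Y : Set G} {w : ι → ℕ} {z : ι}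
  {β : G → ℂ} {e : ℕ}

include m

omit [Fintype G] in
theorem mem_supp_P {g : G} (hg : g ∈ conjSet ((fittingHallOf S : Set G) \ {1})) :
    g ∈ conjSet m.supp := conjSet_mono Set.subset_union_left hg

omit [Fintype G] in
theorem mem_supp_V {x : G} (hW : x ∈ W₁ ⊔ W₂) (h1 : x ∉ W₁) (h2 : x ∉ W₂) :
    x ∈ conjSet m.supp :=
  subset_conjSet _ (Or.inr ⟨1, one_mem _, x, hW, h1, h2, by simp⟩)

omit [Fintype G] in
theorem hV_of_disjoint (hd : Disjoint Y (conjSet m.supp)) :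
    ∀ x ∈ W₁ ⊔ W₂, x ∉ W₁ → x ∉ W₂ → x ∉ Y := fun _ hW h1 h2 hY =>
  Set.disjoint_left.1 hd hY (m.mem_supp_V hW h1 h2)

variable (hB : Bridge f st Y w z β e) (hd : Disjoint Y (conjSet m.supp))
include B hη hB hd

theorem vanishV_bridge : VanishV W₁ W₂ β :=
  ⟨hB.gen, fun x h1 h2 => hB.vanish x (m.hV_of_disjoint hd x x.2 h1 h2)⟩

theorem orth_eta_bridge (i : ι) (ω : ↥(W₁ ⊔ W₂) →* ℂˣ) : classInner (f i) (η ω) = 0 :=
  hB.toConjFamily.orth_eta m.hW m.hodd hη (m.hV_of_disjoint hd) i ω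

/-- The coefficients on the cyclic family are invariant under inversion. -/
theorem coeff_inv (ω : ↥(W₁ ⊔ W₂) →* ℂˣ) : classInner β (η ω⁻¹) = classInner β (η ω) := by
  obtain ⟨c, hc⟩ := Char.IsGeneralizedCharacter.exists_int_classInner hB.gen
    (eta_isGeneralized hη ω)
  have h1 : conjFun (η ω) = η ω⁻¹ := conj_eta m.hW m.hodd hη ω
  have hcc : ∀ F : G → ℂ, classInner F (conjFun (η ω)) = conj (classInner (conjFun F) (η ω)) :=
    fun F => by rw [← classInner_conjFun, conjFun_conjFun]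
  rw [← h1, hcc, hB.beta_conj, Char.classInner_add_left, Char.classInner_sub_left,
    m.orth_eta_bridge B hη hB hd, m.orth_eta_bridge B hη hB hd, sub_zero, add_zero, hc, map_intCast]

theorem coeff_mul (φ : Ann W₁ W₂ W₂) (ψ : Ann W₁ W₂ W₁) :
    classInner β (η (φ.1 * ψ.1)) = classInner β (η φ.1) + classInner β (η ψ.1) - 1 := by
  rw [coeff_eq hη (classFunction_bridge hB) (m.vanishV_bridge B hη hB hd).zero φ.1 ψ.1 φ.2 ψ.2,
    hη.map_one, hB.beta_one]

open Classical in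
/-- The coefficient on the row, its parity against the member, and its column sums. -/
theorem exists_d [Fintype (Ann W₁ W₂ W₁)] [Fintype (Ann W₁ W₂ W₂)] :
    ∃ d : ℤ, (∀ ψ : Ann W₁ W₂ W₁, ψ ≠ annOne W₁ W₂ W₁ → classInner β (η ψ.1) = d) ∧
      (Even d → q * (∑ i, w i ^ 2) + 1 ≤ Nat.card U) ∧
      (Odd d → ∀ ψ : Ann W₁ W₂ W₁, ψ ≠ annOne W₁ W₂ W₁ →
        ∃ σ : ℤ, Odd σ ∧ classInner β (etaCol η ψ) = σ) := by
  have hpc : Fintype.card (Ann W₁ W₂ W₁) = p := by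
    rw [← Nat.card_eq_fintype_card, (ann_facts m.hW).2.2.1, m.p_eq]
  obtain ⟨z₀, hz₀⟩ : ∃ z : Ann W₁ W₂ W₁, z ≠ annOne W₁ W₂ W₁ :=
    Fintype.exists_ne_of_one_lt_card (by rw [hpc]; exact m.hp.one_lt) _
  haveI : Fintype (Row W₁ W₂) := Fintype.ofFinite _
  let zr : Row W₁ W₂ := ⟨z₀, hz₀⟩
  have hS := m.bridge B hη zr
  obtain ⟨d, hdd⟩ := hB.cross hS hd
  obtain ⟨b, hb⟩ := hS.cross hB hd.symm
  refine ⟨d, fun ψ hψ => by simpa using hdd ⟨ψ, hψ⟩, fun heven => ?_, fun hodd ψ hψ => ?_⟩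
  · have hpar : Odd (d + b) := hB.parity m.odd hS hd (by simpa using hdd zr)
      (by simpa [hB.w_z] using hb z)
    have hb0 : b ≠ 0 := fun h => by
      rw [h, add_zero] at hpar
      exact (Int.not_odd_iff_even.2 heven) hpar
    have hcard : Fintype.card (Row W₁ W₂) = p - 1 := by
      rw [Fintype.card_subtype_compl, Fintype.card_subtype_eq, hpc]
    have hle := hS.cross_bound hB.toConjFamily hd.symm hb (by
      simp only [one_pow, Finset.sum_const, Finset.card_univ, hcard, smul_eq_mul, mul_one]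
      have := m.three_le.1
      omega)
    have hb1 : (1 : ℤ) ≤ b ^ 2 := by
      have : 0 < b ^ 2 := by positivity
      omega
    have h0 : (0 : ℤ) ≤ ((∑ i, w i ^ 2 : ℕ) : ℤ) := Int.natCast_nonneg _
    have h1 : ((∑ i, w i ^ 2 : ℕ) : ℤ) + 1 ≤ (((Nat.card U - 1) / q + 1 : ℕ) : ℤ) := by
      refine le_trans (by nlinarith) hle
    have h2 : ∑ i, w i ^ 2 ≤ (Nat.card U - 1) / q := by
      have h3 := (Int.ofNat_le).1 (le_trans (le_of_eq (by push_cast; rfl)) h1 :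
        ((∑ i, w i ^ 2 + 1 : ℕ) : ℤ) ≤ _)
      omega
    have h3 := (Nat.mul_le_mul_left q h2).trans (Nat.mul_div_le _ q)
    have := Nat.card_pos (α := U)
    omega
  · choose c hc using fun φ : Ann W₁ W₂ W₂ =>
      Char.IsGeneralizedCharacter.exists_int_classInner hB.gen (eta_isGeneralized hη φ.1)
    refine ⟨∑ φ, c φ + (Fintype.card (Ann W₁ W₂ W₂) : ℤ) * (d - 1), ?_, ?_⟩
    · obtain ⟨hi, h1, hfix⟩ := annInv_spec (W₁ := W₁) (W₂ := W₂) m.hodd (U := W₂)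
      have hsym : ∀ φ, c (annInv φ) = c φ := fun φ => by
        have h := m.coeff_inv B hη hB hd φ.1
        rw [hc φ, show φ.1⁻¹ = (annInv φ).1 from rfl, hc (annInv φ)] at h
        exact_mod_cast h
      have hone : c (annOne W₁ W₂ W₂) = 1 := by
        have h := hc (annOne W₁ W₂ W₂)
        rw [show (annOne W₁ W₂ W₂).1 = 1 from rfl, hη.map_one, hB.beta_one] at h
        exact_mod_cast h.symm
      have hoddsum : Odd (∑ φ, c φ) :=
        odd_sum_of_involution annInv hi (annOne W₁ W₂ W₂) h1 hfix c hsym (hone ▸ odd_one)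
      refine hoddsum.add_even (Even.mul_left ?_ _)
      obtain ⟨k, hk⟩ := hodd
      exact ⟨k, by omega⟩
    · rw [etaCol, Char.classInner_sum_right, Finset.sum_congr rfl fun φ _ => by
        rw [m.coeff_mul B hη hB hd φ ψ, hc φ, show classInner β (η ψ.1) = (d : ℂ) from by
          simpa using hdd ⟨ψ, hψ⟩]]
      push_cast
      rw [Finset.sum_sub_distrib, Finset.sum_add_distrib, Finset.sum_const, Finset.sum_const,
        Finset.card_univ, nsmul_eq_mul, nsmul_eq_mul, mul_one]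
      ring

/-- Bessel's inequality against the row, the regular family and a further family. -/
theorem bessel_regular (hG : IsMinSimpleOddOrder G) (hp : p ≠ 3)
    [Fintype (Ann W₁ W₂ W₁)] [Fintype (Ann W₁ W₂ W₂)] {d : ℤ}
    (hrow : ∀ ψ : Ann W₁ W₂ W₁, ψ ≠ annOne W₁ W₂ W₁ → classInner β (η ψ.1) = d) (hodd : Odd d)
    {σ : Ann W₁ W₂ W₁} (hσ : σ ≠ annOne W₁ W₂ W₁) {s : ℤ} (hs : Odd s)
    (hcol : classInner β (etaCol η σ) = s) (hN : 2 ≤ ∑ i, w i ^ 2)
    {ι' : Type*} [Fintype ι'] {f' : ι' → G → ℂ} {st' : ι' → ι'} {Y' : Set G} {w' : ι' → ℕ}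
    (hf' : ConjFamily f' st' Y') (hd' : Disjoint Y Y') (hS' : Disjoint Y' (conjSet m.supp)) {b : ℤ}
    (hb : ∀ i, classInner β (f' i) = b * w' i) :
    ∃ n : ℕ, Nat.card U * (q * n + (p - 1)) =
        Nat.card {a : ↥(fittingHallOf S) →* ℂˣ // RegularChar (fittingHallOf S) U a} ∧
      (n : ℤ) + ((p - 1 : ℕ) : ℤ) + b ^ 2 * (∑ i, w' i ^ 2 : ℕ) + 1 ≤ (e : ℤ) := by
  classical
  obtain ⟨κ, hκ, g, stg, hg, -, hgη, hgθ, hcount⟩ := m.regularFamily B hG hp hη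
  refine ⟨Fintype.card κ, hcount, ?_⟩
  haveI : Fintype (Row W₁ W₂) := Fintype.ofFinite _
  have hYP : Disjoint Y (conjSet ((fittingHallOf S : Set G) \ {1})) :=
    hd.mono_right fun _ h => m.mem_supp_P h
  have hY'P : Disjoint Y' (conjSet ((fittingHallOf S : Set G) \ {1})) :=
    hS'.mono_right fun _ h => m.mem_supp_P h
  have hcg : ∀ k, classInner β (g k) = s := fun k => by
    rw [hgθ k β (fun x hx => hB.vanish x (Set.disjoint_right.1 hYP hx)) σ hσ, hcol]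
  let v : Row W₁ W₂ ⊕ κ ⊕ ι' → G → ℂ := Sum.elim (fun ψ => η ψ.1.1) (Sum.elim g f')
  let c : Row W₁ W₂ ⊕ κ ⊕ ι' → ℤ := Sum.elim (fun _ => d) (Sum.elim (fun _ => s) fun i => b * w' i)
  have hf'η : ∀ i ω, classInner (f' i) (η ω) = 0 :=
    hf'.orth_eta m.hW m.hodd hη (m.hV_of_disjoint hS')
  have hsym : ∀ {a b : G → ℂ}, classInner a b = 0 → classInner b a = 0 := fun {a b} h => by
    rw [← Char.conj_classInner, h, map_zero]
  have hη1 : ∀ ψ : Row W₁ W₂, classInner (η ψ.1.1) (fun _ => (1 : ℂ)) = 0 :=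
    (m.rowFamily B hη).classInner_one
  have h := (hB.bessel v ?_ ?_ ?_ ?_ c ?_ hN).1
  · simp only [Fintype.sum_sum_type, c, Sum.elim_inl, Sum.elim_inr] at h
    have hd1 : (1 : ℤ) ≤ d ^ 2 := by
      obtain ⟨k, hk⟩ := hodd
      have hne : d ≠ 0 := by omega
      have := sq_pos_of_ne_zero hne
      omega
    have hs1 : (1 : ℤ) ≤ s ^ 2 := by
      obtain ⟨k, hk⟩ := hs
      have hne : s ≠ 0 := by omega
      have := sq_pos_of_ne_zero hne
      omega
    have hcard : Fintype.card (Row W₁ W₂) = p - 1 := by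
      rw [Fintype.card_subtype_compl, Fintype.card_subtype_eq, ← Nat.card_eq_fintype_card,
        (ann_facts m.hW).2.2.1, m.p_eq]
    simp only [Finset.sum_const, Finset.card_univ, nsmul_eq_mul, hcard] at h
    have e1 : b ^ 2 * (∑ i, w' i ^ 2 : ℕ) = ∑ i, (b * (w' i : ℤ)) ^ 2 := by
      push_cast
      rw [Finset.mul_sum]
      exact Finset.sum_congr rfl fun i _ => by ring
    rw [e1]
    have h0 : (0 : ℤ) ≤ (Fintype.card κ : ℤ) := Int.natCast_nonneg _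
    have h0' : (0 : ℤ) ≤ ((p - 1 : ℕ) : ℤ) := Int.natCast_nonneg _
    nlinarith [mul_le_mul_of_nonneg_left hd1 h0', mul_le_mul_of_nonneg_left hs1 h0]
  · rintro (k | k | k) <;> simp only [v, Sum.elim_inl, Sum.elim_inr]
    exacts [hη.irr_or_neg _, hg.signed k, hf'.signed k]
  · rintro (k | k | k) (l | l | l) hne <;> simp only [v, Sum.elim_inl, Sum.elim_inr]
    · exact (m.rowFamily B hη).orth k l fun e => hne (congrArg Sum.inl e)
    · exact hsym (hgη l _)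
    · exact hsym (hf'η l _)
    · exact hgη k _
    · exact hg.orth k l fun e => hne (congrArg (Sum.inr ∘ Sum.inl) e)
    · exact hg.orth_of_disjoint hf' hY'P.symm k l
    · exact hf'η k _
    · exact hf'.orth_of_disjoint hg hY'P k l
    · exact hf'.orth k l fun e => hne (congrArg (Sum.inr ∘ Sum.inr) e)
  · rintro (k | k | k) <;> simp only [v, Sum.elim_inl, Sum.elim_inr]
    exacts [hη1 k, hg.classInner_one k, hf'.classInner_one k]
  · rintro (k | k | k) i <;> simp only [v, Sum.elim_inl, Sum.elim_inr]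
    exacts [hsym (m.orth_eta_bridge B hη hB hd i _),
      hg.orth_of_disjoint hB.toConjFamily hYP.symm k i, hf'.orth_of_disjoint hB.toConjFamily hd'.symm k i]
  · rintro (k | k | k) <;> simp only [v, c, Sum.elim_inl, Sum.elim_inr]
    exacts [hrow k.1 k.2, hcg k, by rw [hb]; push_cast; rfl]

open Classical in
/-- Bessel's inequality against the whole cyclic family; in the case of equality with three odd
coefficients `f z` is an odd integer off `Y` at elements of order prime to `p q`. -/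
theorem bessel_eta [Fintype (Ann W₁ W₂ W₁)] [Fintype (Ann W₁ W₂ W₂)] {d d' : ℤ}
    (hrow : ∀ ψ : Ann W₁ W₂ W₁, ψ ≠ annOne W₁ W₂ W₁ → classInner β (η ψ.1) = d)
    (hcolumn : ∀ φ : Ann W₁ W₂ W₂, φ ≠ annOne W₁ W₂ W₂ → classInner β (η φ.1) = d')
    (hN : 2 ≤ ∑ i, w i ^ 2) :
    ((p - 1 : ℕ) : ℤ) * d ^ 2 + ((q - 1 : ℕ) : ℤ) * d' ^ 2 +
        ((p - 1 : ℕ) : ℤ) * ((q - 1 : ℕ) : ℤ) * (d + d' - 1) ^ 2 + 1 ≤ (e : ℤ) ∧
      (Odd d → Odd d' → 3 ≤ ∑ i, w i ^ 2 →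
        ((p - 1 : ℕ) : ℤ) * d ^ 2 + ((q - 1 : ℕ) : ℤ) * d' ^ 2 +
          ((p - 1 : ℕ) : ℤ) * ((q - 1 : ℕ) : ℤ) * (d + d' - 1) ^ 2 + 1 = (e : ℤ) →
        ∀ g, g ∉ Y → (orderOf g).Coprime (p * q) → ∃ n : ℤ, Odd n ∧ f z g = n) := by
  haveI := (ann_facts m.hW).1
  haveI : Fintype (↥(W₁ ⊔ W₂) →* ℂˣ) := Fintype.ofFinite _
  let pr : Ann W₁ W₂ W₂ × Ann W₁ W₂ W₁ ≃ (↥(W₁ ⊔ W₂) →* ℂˣ) :=
    Equiv.ofBijective _ (ann_facts m.hW).2.2.2
  let C : Ann W₁ W₂ W₂ × Ann W₁ W₂ W₁ → ℤ := fun s =>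
    (if s.1 = annOne W₁ W₂ W₂ then 1 else d') + (if s.2 = annOne W₁ W₂ W₁ then 1 else d) - 1
  have hC : ∀ s, classInner β (η (pr s)) = C s := by
    rintro ⟨φ, ψ⟩
    show classInner β (η (φ.1 * ψ.1)) = _
    rw [m.coeff_mul B hη hB hd φ ψ]
    have h1 : classInner β (η (annOne W₁ W₂ W₂).1) = 1 := by
      rw [show (annOne W₁ W₂ W₂).1 = 1 from rfl, hη.map_one, hB.beta_one]
    have h2 : classInner β (η (annOne W₁ W₂ W₁).1) = 1 := by
      rw [show (annOne W₁ W₂ W₁).1 = 1 from rfl, hη.map_one, hB.beta_one]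
    simp only [C]
    split_ifs with ha hb hb
    · subst ha; subst hb; rw [h1, h2]; push_cast; ring
    · subst ha; rw [h1, hrow ψ hb]; push_cast; ring
    · subst hb; rw [hcolumn φ ha, h2]; push_cast; ring
    · rw [hcolumn φ ha, hrow ψ hb]; push_cast; ring
  let c : {ω : ↥(W₁ ⊔ W₂) →* ℂˣ // ω ≠ 1} → ℤ := fun ω => C (pr.symm ω.1)
  have hc : ∀ ω : {ω : ↥(W₁ ⊔ W₂) →* ℂˣ // ω ≠ 1}, classInner β (η ω.1) = c ω := fun ω => by
    conv_lhs => rw [← pr.apply_symm_apply ω.1]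
    exact hC _
  have hsigned : ∀ ω : {ω : ↥(W₁ ⊔ W₂) →* ℂˣ // ω ≠ 1}, IsSignedIrr (η ω.1) :=
    fun ω => hη.irr_or_neg _
  have h := hB.bessel (fun ω : {ω : ↥(W₁ ⊔ W₂) →* ℂˣ // ω ≠ 1} => η ω.1) hsigned
    (fun k l hne => by rw [hη.orthonormal, if_neg fun e => hne (Subtype.ext e)])
    (fun k => by rw [← hη.map_one, hη.orthonormal, if_neg k.2])
    (fun k i => by rw [← Char.conj_classInner, m.orth_eta_bridge B hη hB hd i, map_zero]) c hc hN
  have hC1 : C (pr.symm 1) = 1 := by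
    have := hC (pr.symm 1)
    rw [pr.apply_symm_apply, hη.map_one, hB.beta_one] at this
    exact_mod_cast this.symm
  have hsum : ∑ ω : {ω : ↥(W₁ ⊔ W₂) →* ℂˣ // ω ≠ 1}, c ω ^ 2 + 1 =
      ((p - 1 : ℕ) : ℤ) * d ^ 2 + ((q - 1 : ℕ) : ℤ) * d' ^ 2 +
        ((p - 1 : ℕ) : ℤ) * ((q - 1 : ℕ) : ℤ) * (d + d' - 1) ^ 2 + 1 := by
    have e1 : ∑ ω : {ω : ↥(W₁ ⊔ W₂) →* ℂˣ // ω ≠ 1}, c ω ^ 2 + 1 = ∑ s, C s ^ 2 := by
      rw [← Equiv.sum_comp pr.symm, ← Finset.sum_erase_add _ _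
        (Finset.mem_univ (1 : ↥(W₁ ⊔ W₂) →* ℂˣ)), hC1, one_pow,
        ← Finset.sum_subtype (Finset.univ.erase (1 : ↥(W₁ ⊔ W₂) →* ℂˣ))
          (by simp) (fun ω => C (pr.symm ω) ^ 2)]
    rw [e1, Fintype.sum_prod_type]
    have hq : Fintype.card (Ann W₁ W₂ W₂) = q := by
      rw [← Nat.card_eq_fintype_card, (ann_facts m.hW).2.1, m.q_eq]
    have hp : Fintype.card (Ann W₁ W₂ W₁) = p := by
      rw [← Nat.card_eq_fintype_card, (ann_facts m.hW).2.2.1, m.p_eq]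
    have hin : ∀ φ : Ann W₁ W₂ W₂, ∀ a : ℤ, (if φ = annOne W₁ W₂ W₂ then 1 else d') = a →
        ∑ ψ, C (φ, ψ) ^ 2 = a ^ 2 + ((p - 1 : ℕ) : ℤ) * (a + d - 1) ^ 2 := by
      intro φ a ha
      simp only [C, ha]
      rw [← Finset.add_sum_erase _ _ (Finset.mem_univ (annOne W₁ W₂ W₁)), if_pos rfl,
        Finset.sum_congr rfl fun ψ hψ => by rw [if_neg (Finset.mem_erase.1 hψ).1],
        Finset.sum_const, Finset.card_erase_of_mem (Finset.mem_univ _), Finset.card_univ, hp,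
        nsmul_eq_mul]
      ring
    rw [← Finset.add_sum_erase _ _ (Finset.mem_univ (annOne W₁ W₂ W₂)), hin _ 1 (if_pos rfl),
      Finset.sum_congr rfl fun φ hφ => hin φ d' (if_neg (Finset.mem_erase.1 hφ).1),
      Finset.sum_const, Finset.card_erase_of_mem (Finset.mem_univ _), Finset.card_univ, hq,
      nsmul_eq_mul]
    ring
  refine ⟨hsum ▸ h.1, fun hod hod' h3 heq g hgY hg => ?_⟩
  have hβ := congrFun (h.2 h3 (hsum.trans heq)) g
  rw [hB.vanish g hgY] at hβ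
  simp only [Pi.add_apply, Pi.sub_apply, Finset.sum_apply, Pi.smul_apply, smul_eq_mul] at hβ
  have hint : ∀ ω : ↥(W₁ ⊔ W₂) →* ℂˣ, ∃ n : ℤ, η ω g = n := fun ω =>
    apply_int_of_coprime m.hW m.hodd hη ω (hg.coprime_dvd_right (orderOf_dvd_of_pow_eq_one
      (MonoidHom.ext fun x => by
        rw [MonoidHom.pow_apply, ← map_pow, show p * q = Nat.card ↥(W₁ ⊔ W₂) by
          rw [m.card_W, mul_comm], pow_card_eq_one', map_one, MonoidHom.one_apply])))
  choose n hn using hint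
  have hcodd : ∀ s, Odd (C s) := by
    rintro ⟨φ, ψ⟩
    obtain ⟨k, hk⟩ := hod
    obtain ⟨k', hk'⟩ := hod'
    simp only [C]
    rw [Int.odd_iff]
    split_ifs <;> omega
  have hn_inv : ∀ ω, n ω⁻¹ = n ω := fun ω => by
    have h1 := congrFun (conj_eta m.hW m.hodd hη ω) g
    rw [hn ω, map_intCast, hn ω⁻¹] at h1
    exact_mod_cast h1.symm
  have hc_inv : ∀ ω, C (pr.symm ω⁻¹) = C (pr.symm ω) := fun ω => by
    have h1 := m.coeff_inv B hη hB hd ω
    rw [← pr.apply_symm_apply ω⁻¹, hC, ← pr.apply_symm_apply ω, hC] at h1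
    simpa using h1
  have hn1 : n 1 = 1 := by
    have := hn 1
    rw [hη.map_one] at this
    simp only at this
    exact_mod_cast this.symm
  refine ⟨∑ ω, C (pr.symm ω) * n ω, ?_, ?_⟩
  · refine odd_sum_of_involution (fun ω : ↥(W₁ ⊔ W₂) →* ℂˣ => ω⁻¹) (fun ω => inv_inv_hom ω) 1
      (MonoidHom.ext fun _ => inv_one) (fun ω hω => ?_) _ (fun ω => ?_) ?_
    · obtain ⟨⟨φ, ψ⟩, rfl⟩ := pr.surjective ω
      have e : (annInv φ).1 * (annInv ψ).1 = φ.1 * ψ.1 := by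
        rw [← show (φ.1 * ψ.1)⁻¹ = φ.1 * ψ.1 from hω]
        exact MonoidHom.ext fun x => (mul_inv _ _).symm
      obtain ⟨h1, h2⟩ := mul_inj m.hW e
      show φ.1 * ψ.1 = 1
      rw [(annInv_spec m.hodd).2.2 φ h1, (annInv_spec m.hodd).2.2 ψ h2]
      exact MonoidHom.ext fun _ => one_mul _
    · rw [hc_inv, hn_inv]
    · rw [hC1, hn1, one_mul]; exact odd_one
  · rw [← Finset.sum_erase_add _ _ (Finset.mem_univ (1 : ↥(W₁ ⊔ W₂) →* ℂˣ)), hC1, hn1,
      Finset.sum_subtype (Finset.univ.erase (1 : ↥(W₁ ⊔ W₂) →* ℂˣ)) (p := fun ω => ω ≠ 1) (by simp)]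
    push_cast
    rw [show (∑ ω : {ω : ↥(W₁ ⊔ W₂) →* ℂˣ // ω ≠ 1}, (C (pr.symm ω.1) : ℂ) * (n ω.1 : ℂ)) =
      ∑ ω : {ω : ↥(W₁ ⊔ W₂) →* ℂˣ // ω ≠ 1}, (c ω : ℂ) * η ω.1 g from
      Finset.sum_congr rfl fun ω _ => by rw [hn]]
    linear_combination hβ

end Member

end Cfsg.Agent.OddOrder.PF.S14
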