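import Mathlib
import Cfsg.Prelude.Def_Transfer
import Cfsg.Agent.Lib.Coprime.Basic
import Cfsg.Agent.Lib.Perm.EndField
import Cfsg.Agent.Lib.OddOrder.SingerField
import Cfsg.Agent.Lib.OddOrder.PF.S14_Numeric

/-!
An abelian group `U` of odd order and a group `W` of prime order `q` acting on an elementary abelian
group `P` of order `p ^ q`, with `W` fixed-point-free on `U` and `P` irreducible under both
(Peterfalvi 9.7, 13.15): either `U` is cyclic, fixed-point-free on `P`, of order dividing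
`(p ^ q - 1) / (p - 1)`, or its order divides `((p - 1) / 2) ^ (q - 1)`; in both cases at least
`(p - 1) ^ q` linear characters of `P` have trivial stabiliser in `U`.
-/

set_option autoImplicit false
set_option linter.style.haveILetI false

namespace Cfsg.Agent.OddOrder.PF.S14

open Cfsg Subgroup

variable {G : Type*} [Group G]

/-- Only the identity of `U` fixes the linear character `lam` of `P`. -/
def RegularChar (P U : Subgroup G) (lam : ↥P →* ℂˣ) : Prop :=
  ∀ x ∈ U, (∀ (y : G) (hy : y ∈ P) (hxy : x * y * x⁻¹ ∈ P), lam ⟨x * y * x⁻¹, hxy⟩ = lam ⟨y, hy⟩) →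
    x = 1

/-- `U` and `W` acting on `P`. -/
structure UAct (P U W : Subgroup G) (p q : ℕ) : Prop where
  p_prime : p.Prime
  q_prime : q.Prime
  p_odd : Odd p
  elem : IsElementaryAbelian p P
  card_P : Nat.card P = p ^ q
  UP : U ≤ normalizer (P : Set G)
  WP : W ≤ normalizer (P : Set G)
  WU : W ≤ normalizer (U : Set G)
  U_comm : IsMulCommutative U
  U_ne : U ≠ ⊥
  U_odd : Odd (Nat.card U)
  card_W : Nat.card W = q
  fpf : ∀ w ∈ W, w ≠ 1 → ∀ x ∈ U, w * x = x * w → x = 1
  faithful : ∀ x ∈ U, (∀ y ∈ P, x * y = y * x) → x = 1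
  irred : ∀ A : Subgroup G, A ≤ P → U ≤ normalizer (A : Set G) → W ≤ normalizer (A : Set G) →
    A = ⊥ ∨ A = P

theorem apply_pow_of_conj {P : Subgroup G} {x y : G} {c : ℕ} (lam : ↥P →* ℂˣ) (hy : y ∈ P)
    (hxy : x * y * x⁻¹ ∈ P) (h : x * y * x⁻¹ = y ^ c) :
    lam ⟨x * y * x⁻¹, hxy⟩ = lam ⟨y, hy⟩ ^ c := by
  rw [← map_pow]
  exact congrArg lam (Subtype.ext h)

theorem le_normalizer_of_conj {H A : Subgroup G} (h : ∀ x ∈ H, ∀ a ∈ A, x * a * x⁻¹ ∈ A) :
    H ≤ normalizer (A : Set G) := fun x hx => mem_normalizer_iff.2 fun a => ⟨h x hx a, fun ha => by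
  have := h x⁻¹ (inv_mem hx) _ ha
  simpa [mul_assoc] using this⟩

theorem conj_mem_of_le_normalizer {H A : Subgroup G} (h : H ≤ normalizer (A : Set G)) {x a : G}
    (hx : x ∈ H) (ha : a ∈ A) : x * a * x⁻¹ ∈ A :=
  (mem_normalizer_iff.1 (h hx) a).1 ha

theorem le_normalizer_iSup {H : Subgroup G} {ι : Sort*} {S : ι → Subgroup G}
    (h : ∀ i, H ≤ normalizer (S i : Set G)) : H ≤ normalizer ((⨆ i, S i : Subgroup G) : Set G) :=
  le_normalizer_of_conj fun x hx y hy => by
    refine iSup_induction S (C := fun y => x * y * x⁻¹ ∈ ⨆ i, S i) hy (fun i y hy => ?_) ?_ ?_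
    · exact mem_iSup_of_mem i (conj_mem_of_le_normalizer (h i) hx hy)
    · rw [mul_one, mul_inv_cancel]; exact one_mem _
    · intro a b ha hb
      have := mul_mem ha hb
      simpa [mul_assoc] using this

namespace UAct

variable [Finite G] {P U W : Subgroup G} {p q : ℕ} (h : UAct P U W p q)
include h

theorem W_ne : ∃ w ∈ W, w ≠ 1 := by
  refine W.bot_or_exists_ne_one.resolve_left fun hb => h.q_prime.ne_one ?_
  rw [← h.card_W, hb, card_bot]

theorem card_U_modEq : Nat.card U ≡ 1 [MOD q] := by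
  haveI := Fact.mk h.q_prime
  let act : W →* MulAut U := U.normalizerMonoidHom.comp (inclusion h.WU)
  letI : MulAction W U := MulAction.compHom _ act
  have hW : IsPGroup q W := IsPGroup.of_card (n := 1) (by rw [h.card_W, pow_one])
  have hfix : Nat.card (MulAction.fixedPoints W U) = 1 := by
    rw [Nat.card_eq_one_iff_unique]
    refine ⟨⟨fun a b => Subtype.ext ?_⟩, ⟨⟨1, fun w => map_one (act w)⟩⟩⟩
    have key : ∀ a : MulAction.fixedPoints W U, (a : U) = 1 := fun a => by
      obtain ⟨w, hw, hw1⟩ := h.W_ne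
      have e : w * ((a : U) : G) * w⁻¹ = ((a : U) : G) := congrArg Subtype.val (a.2 ⟨w, hw⟩)
      exact Subtype.ext (h.fpf w hw hw1 _ (a : U).2 (mul_inv_eq_iff_eq_mul.1 e))
    rw [key a, key b]
  have := hW.card_modEq_card_fixedPoints U
  rwa [hfix] at this

theorem one_lt_card_U : 1 < Nat.card U := U.one_lt_card_iff_ne_bot.2 h.U_ne

theorem not_dvd_q : ¬ q ∣ Nat.card U := fun hd => h.q_prime.ne_one (Nat.eq_one_of_dvd_one
  ((Nat.modEq_zero_iff_dvd).1 (h.card_U_modEq.symm.trans (Nat.modEq_zero_iff_dvd.2 hd))))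

/-- An element of `U` acting by a power map is trivial. -/
theorem eq_one_of_scalar {x : G} (hx : x ∈ U) {c : ℕ} (hc : ∀ y ∈ P, x * y * x⁻¹ = y ^ c) : x = 1 := by
  obtain ⟨w, hw, hw1⟩ := h.W_ne
  have hw' := conj_mem_of_le_normalizer h.WU hw hx
  have hz := mul_mem hw' (inv_mem hx)
  have h1 : w * x * w⁻¹ * x⁻¹ = 1 := by
    refine h.faithful _ hz fun y hy => ?_
    have hz' : x⁻¹ * y * x ∈ P := by
      have := conj_mem_of_le_normalizer h.UP (inv_mem hx) hy; simpa using this
    have hv : w⁻¹ * (x⁻¹ * y * x) * w ∈ P := by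
      have := conj_mem_of_le_normalizer h.WP (inv_mem hw) hz'; simpa using this
    rw [← mul_inv_eq_iff_eq_mul]
    calc w * x * w⁻¹ * x⁻¹ * y * (w * x * w⁻¹ * x⁻¹)⁻¹
        = w * (x * (w⁻¹ * (x⁻¹ * y * x) * w) * x⁻¹) * w⁻¹ := by group
      _ = w * (w⁻¹ * (x⁻¹ * y * x) * w) ^ c * w⁻¹ := by rw [hc _ hv]
      _ = (x⁻¹ * y * x) ^ c := by
        rw [← conj_pow (a := w)]
        congr 1
        group
      _ = x * (x⁻¹ * y * x) * x⁻¹ := (hc _ hz').symm
      _ = y := by group
  exact h.fpf w hw hw1 x hx (mul_inv_eq_iff_eq_mul.1 (mul_inv_eq_one.1 h1))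

/-- The irreducible case. -/
theorem of_irreducible
    (hI : ∀ A : Subgroup G, A ≤ P → U ≤ normalizer (A : Set G) → A = ⊥ ∨ A = P) :
    IsCyclic U ∧ (∀ x ∈ U, x ≠ 1 → ∀ y ∈ P, x * y = y * x → y = 1) ∧
      Nat.card U * (p - 1) ∣ p ^ q - 1 := by
  classical
  haveI := Fact.mk h.p_prime
  haveI := h.elem.1
  haveI := h.U_comm
  letI : CommGroup P := { (inferInstance : Group P) with mul_comm := mul_comm' }
  have hfpf : ∀ x ∈ U, x ≠ 1 → ∀ y ∈ P, x * y = y * x → y = 1 := by
    intro x hx hx1 y hy hc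
    rcases hI (P ⊓ centralizer ({x} : Set G)) inf_le_left (le_normalizer_of_conj fun u hu a ha =>
      ⟨conj_mem_of_le_normalizer h.UP hu ha.1, mem_centralizer_singleton_iff.2 (by
        have e : u * x = x * u := congrArg Subtype.val (mul_comm' (⟨u, hu⟩ : U) ⟨x, hx⟩)
        have e' : u⁻¹ * x = x * u⁻¹ := congrArg Subtype.val (mul_comm' (⟨u⁻¹, inv_mem hu⟩ : U) ⟨x, hx⟩)
        have e2 := mem_centralizer_singleton_iff.1 ha.2
        calc u * a * u⁻¹ * x = u * a * (u⁻¹ * x) := by group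
          _ = u * (a * x) * u⁻¹ := by rw [e']; group
          _ = u * (x * a) * u⁻¹ := by rw [e2]
          _ = (u * x) * a * u⁻¹ := by group
          _ = x * (u * a * u⁻¹) := by rw [e]; group)⟩) with h0 | h0
    · have : y ∈ P ⊓ centralizer ({x} : Set G) := ⟨hy, mem_centralizer_singleton_iff.2 hc.symm⟩
      rwa [h0, mem_bot] at this
    · exact absurd (h.faithful x hx fun z hz => by
        have : z ∈ P ⊓ centralizer ({x} : Set G) := h0.ge hz
        exact (mem_centralizer_singleton_iff.1 this.2).symm) hx1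
  let θ : U →* MulAut P := P.normalizerMonoidHom.comp (inclusion h.UP)
  have hθ : ∀ (u : U) (x : P), ((θ u x : P) : G) = (u : G) * x * (u : G)⁻¹ := fun u x => rfl
  have hirr : ∀ L : Subgroup P, (∀ σ ∈ Set.range θ, ∀ x ∈ L, σ x ∈ L) → L = ⊥ ∨ L = ⊤ := by
    intro L hL
    have hle : L.map P.subtype ≤ P := map_subtype_le L
    rcases hI (L.map P.subtype) hle (le_normalizer_of_conj fun u hu a ha => by
      obtain ⟨a, haL, rfl⟩ := ha
      exact ⟨_, hL _ ⟨⟨u, hu⟩, rfl⟩ a haL, rfl⟩) with h0 | h0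
    · exact Or.inl ((map_eq_bot_iff_of_injective L P.subtype_injective).1 h0)
    · refine Or.inr (Subgroup.eq_top_iff' L |>.2 fun x => ?_)
      obtain ⟨a, ha, hax⟩ : (x : G) ∈ L.map P.subtype := h0.ge x.2
      exact P.subtype_injective hax ▸ ha
  have hcomm : ∀ σ ∈ Set.range θ, ∀ τ ∈ Set.range θ, ∀ x, σ (τ x) = τ (σ x) := by
    rintro _ ⟨u, rfl⟩ _ ⟨v, rfl⟩ x
    have e := congrArg (fun φ : MulAut P => φ x) (congrArg θ (mul_comm' u v))
    simpa using e
  haveI : Nontrivial P := (P.nontrivial_iff_ne_bot).2 fun hb => by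
    have := h.card_P
    rw [hb, card_bot] at this
    exact h.p_prime.ne_one (Nat.eq_one_of_dvd_one (this ▸ dvd_pow_self p h.q_prime.ne_zero))
  obtain ⟨e₀, he₀⟩ := exists_ne (1 : P)
  obtain ⟨F, iF, iFt, θF, h0, h1, hadd, hmul⟩ :=
    Cfsg.Agent.Perm.exists_field_of_irreducible (Set.range θ) hcomm hirr he₀
  choose a ha0 ha using fun u : U => hmul (θ u) ⟨u, rfl⟩
  let χ : U →* F :=
    { toFun := a
      map_one' := by
        have e := ha 1 1
        rw [map_one, MulAut.one_apply, mul_one] at e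
        exact (θF.injective e).symm
      map_mul' := fun u v => by
        have e := ha (u * v) 1
        rw [map_mul, MulAut.mul_apply, ha v 1, ha u, mul_one, mul_one] at e
        exact (θF.injective e).symm }
  have hinj : Function.Injective χ := by
    refine (injective_iff_map_eq_one χ).2 fun u hu => Subtype.ext (h.faithful u u.2 fun y hy => ?_)
    have e := ha u (θF.symm ⟨y, hy⟩)
    rw [show a u = 1 from hu, one_mul, Equiv.apply_symm_apply] at e
    exact mul_inv_eq_iff_eq_mul.1 (congrArg Subtype.val e)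
  have hcard : Fintype.card F = p ^ q := by
    rw [← h.card_P, ← Nat.card_eq_fintype_card, Nat.card_congr θF]
  haveI hchar : CharP F p := charP_of_card_eq_prime_pow hcard
  refine ⟨isCyclic_of_subgroup_isDomain χ hinj, hfpf, ?_⟩
  have hdiv : Nat.card U ∣ p ^ q - 1 := by
    rw [← h.card_P]
    refine Singer.card_dvd_pred θ fun u y hy hfix => Subtype.ext ?_
    by_contra hu
    exact hy (Subtype.ext (hfpf u u.2 hu y y.2 (mul_inv_eq_iff_eq_mul.1 (congrArg Subtype.val hfix))))
  -- `|U|` is prime to `p - 1`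
  refine Nat.Coprime.mul_dvd_of_dvd_of_dvd (Nat.coprime_of_dvd fun r hr hrU hrp => ?_) hdiv
    (Nat.sub_one_dvd_pow_sub_one p q)
  haveI := Fact.mk hr
  obtain ⟨u, hu⟩ := exists_prime_orderOf_dvd_card' r hrU
  obtain ⟨c, hc⟩ : ∃ c : ℕ, χ u = (c : F) := by
    have h1 : χ u ^ (p - 1) = 1 := by
      rw [← map_pow, orderOf_dvd_iff_pow_eq_one.1 (hu ▸ hrp), map_one]
    have h2 : χ u ^ p = χ u := by
      conv_lhs => rw [show p = p - 1 + 1 by have := h.p_prime.two_le; omega, pow_succ, h1, one_mul]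
    have hbot : χ u ∈ (⊥ : Subfield F) := (Subfield.mem_bot_iff_pow_eq_self F p).2 h2
    rw [← ZMod.fieldRange_castHom_eq_bot p] at hbot
    obtain ⟨k, hk⟩ := RingHom.mem_fieldRange.1 hbot
    exact ⟨k.val, by rw [← hk, ZMod.castHom_apply, ZMod.natCast_val]⟩
  have hnsmul : ∀ (n : ℕ) (z : F), θF ((n : F) * z) = θF z ^ n := by
    intro n z
    induction n with
    | zero => rw [Nat.cast_zero, zero_mul, h0, pow_zero]
    | succ n ih => rw [Nat.cast_succ, add_one_mul, hadd, ih, pow_succ]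
  have := h.eq_one_of_scalar u.2 (c := c) fun y hy => by
    have e := ha u (θF.symm ⟨y, hy⟩)
    rw [show a u = (c : F) from hc, hnsmul, Equiv.apply_symm_apply] at e
    exact congrArg Subtype.val e
  rw [show u = 1 from Subtype.ext this, orderOf_one] at hu
  exact hr.ne_one hu.symm

/-- In the reducible case `P` is spanned by `q` lines normalised by `U` and permuted by `W`. -/
theorem exists_line (hI : ¬ ∀ A : Subgroup G, A ≤ P → U ≤ normalizer (A : Set G) → A = ⊥ ∨ A = P) :
    ∃ A : Subgroup G, A ≤ P ∧ Nat.card A = p ∧ U ≤ normalizer (A : Set G) ∧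
      ⨆ w : W, A.map (MulAut.conj (w : G)).toMonoidHom = P := by
  classical
  haveI := h.U_comm
  push Not at hI
  obtain ⟨A₁, hA₁P, hA₁U, hA₁0, hA₁1⟩ := hI
  obtain ⟨A, ⟨hAP, hAU, hA0, hA1⟩, hmin⟩ :
      ∃ A, (A ≤ P ∧ U ≤ normalizer (A : Set G) ∧ A ≠ ⊥ ∧ A ≠ P) ∧
        ∀ B, (B ≤ P ∧ U ≤ normalizer (B : Set G) ∧ B ≠ ⊥ ∧ B ≠ P) → B ≤ A → B = A := by
    obtain ⟨A, hA, hmin⟩ := (Set.toFinite {A : Subgroup G | A ≤ P ∧ U ≤ normalizer (A : Set G) ∧
      A ≠ ⊥ ∧ A ≠ P}).exists_minimal ⟨A₁, hA₁P, hA₁U, hA₁0, hA₁1⟩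
    exact ⟨A, hA, fun B hB hle => le_antisymm hle (hmin hB hle)⟩
  set C : W → Subgroup G := fun w => A.map (MulAut.conj (w : G)).toMonoidHom with hC
  have hmem : ∀ (w : W) (y : G), y ∈ C w ↔ (w : G)⁻¹ * y * w ∈ A := by
    intro w y
    rw [hC]
    exact ⟨fun ⟨a, ha, e⟩ => by rw [← e]; simpa [mul_assoc] using ha,
      fun hy => ⟨_, hy, by simp [mul_assoc]⟩⟩
  have hCP : ∀ w, C w ≤ P := fun w => by
    rintro _ ⟨a, ha, rfl⟩
    exact conj_mem_of_le_normalizer h.WP w.2 (hAP ha)
  have hCU : ∀ w, U ≤ normalizer (C w : Set G) := fun w => le_normalizer_of_conj fun x hx y hy => by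
    rw [hmem] at hy ⊢
    have hx' : (w : G)⁻¹ * x * w ∈ U := by
      have := conj_mem_of_le_normalizer h.WU (inv_mem w.2) hx; simpa using this
    have := conj_mem_of_le_normalizer hAU hx' hy
    simpa [mul_assoc] using this
  have hCcard : ∀ w, Nat.card (C w) = Nat.card A := fun w =>
    card_map_of_injective (MulAut.conj (w : G)).injective
  have hPn : ∀ B, B ≤ P → P ≤ normalizer (B : Set G) := fun B hB => le_normalizer_of_conj fun x hx b hb => by
    haveI := h.elem.1
    have e : x * b = b * x := congrArg Subtype.val (mul_comm' (⟨x, hx⟩ : P) ⟨b, hB hb⟩)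
    rwa [e, mul_inv_cancel_right]
  have hsup : ⨆ w : W, C w = P := by
    refine (h.irred _ (iSup_le hCP) ?_ ?_).resolve_left fun hb => hA0 ?_
    · exact le_normalizer_iSup hCU
    · exact le_normalizer_of_conj fun x hx y hy => by
        refine iSup_induction C (C := fun y => x * y * x⁻¹ ∈ ⨆ w : W, C w) hy (fun w y hy => ?_)
          (by rw [mul_one, mul_inv_cancel]; exact one_mem _) fun a b ha hb => by
            have := mul_mem ha hb; simpa [mul_assoc] using this
        refine mem_iSup_of_mem (⟨x, hx⟩ * w) ((hmem _ _).2 ?_)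
        simpa [mul_assoc] using (hmem _ _).1 hy
    · refine le_bot_iff.1 fun a ha => ?_
      rw [← hb]
      exact mem_iSup_of_mem 1 ((hmem _ _).2 (by simpa using ha))
  refine ⟨A, hAP, ?_, hAU, hsup⟩
  -- a maximal independent set of conjugates
  haveI : Fintype W := Fintype.ofFinite _
  obtain ⟨T, -, hT, hTmax⟩ : ∃ T : Finset W, True ∧ Nat.card ↥(T.sup C) = Nat.card A ^ T.card ∧
      ∀ T' : Finset W, Nat.card ↥(T'.sup C) = Nat.card A ^ T'.card → T'.card ≤ T.card := by
    obtain ⟨T, hT, hmax⟩ := Finset.exists_max_image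
      (Finset.univ.filter fun T : Finset W => Nat.card ↥(T.sup C) = Nat.card A ^ T.card) Finset.card
      ⟨∅, Finset.mem_filter.2 ⟨Finset.mem_univ _, by
        rw [Finset.sup_empty, card_bot, Finset.card_empty, pow_zero]⟩⟩
    exact ⟨T, trivial, (Finset.mem_filter.1 hT).2,
      fun T' hT' => hmax T' (Finset.mem_filter.2 ⟨Finset.mem_univ _, hT'⟩)⟩
  have hTP : T.sup C = P := by
    refine le_antisymm (Finset.sup_le fun w _ => hCP w) ?_
    conv_lhs => rw [← hsup]
    refine iSup_le fun w => ?_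
    by_contra hw
    have hwT : w ∉ T := fun hw' => hw (Finset.le_sup hw')
    have hTle : T.sup C ≤ P := Finset.sup_le fun w _ => hCP w
    have hdisj : C w ⊓ T.sup C = ⊥ := by
      by_contra hne
      -- the preimage in `A` of the intersection is all of `A`
      set B := (C w ⊓ T.sup C).map (MulAut.conj (w : G)⁻¹).toMonoidHom with hB
      have hBA : B ≤ A := by
        rintro _ ⟨y, hy, rfl⟩
        simpa using (hmem w y).1 hy.1
      have hBU : U ≤ normalizer (B : Set G) := le_normalizer_of_conj fun x hx _ hy => by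
        obtain ⟨y, hy, rfl⟩ := hy
        have hx' := conj_mem_of_le_normalizer h.WU w.2 hx
        have hTU : U ≤ normalizer ((T.sup C : Subgroup G) : Set G) := by
          rw [Finset.sup_eq_iSup]
          exact le_normalizer_iSup fun w => le_normalizer_iSup fun _ => hCU w
        refine ⟨_, ⟨conj_mem_of_le_normalizer (hCU w) hx' hy.1,
          conj_mem_of_le_normalizer hTU hx' hy.2⟩, ?_⟩
        simp [mul_assoc]
      have hB0 : B ≠ ⊥ := fun hb => hne
        ((map_eq_bot_iff_of_injective _ (MulAut.conj (w : G)⁻¹).injective).1 hb)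
      have hBeq := hmin B ⟨hBA.trans hAP, hBU, hB0, fun e => hA1 (le_antisymm hAP (e ▸ hBA))⟩ hBA
      refine hw fun y hy => ?_
      have hyB : (w : G)⁻¹ * y * w ∈ B := by rw [hBeq]; exact (hmem w y).1 hy
      obtain ⟨z, hz, e⟩ := hyB
      have hzy : z = y := by
        have := congrArg (fun g => (w : G) * g * (w : G)⁻¹) e
        simpa [mul_assoc] using this
      exact hzy ▸ hz.2
    have := hTmax (insert w T) (by
      rw [Finset.sup_insert, Cfsg.Agent.Coprime.card_sup_of_le_normalizer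
        ((hCP w).trans (hPn _ hTle)) hdisj, hT, hCcard, Finset.card_insert_of_notMem hwT,
        pow_succ']
      )
    rw [Finset.card_insert_of_notMem hwT] at this
    omega
  obtain ⟨a, ha, hAc⟩ := (Nat.dvd_prime_pow h.p_prime).1 (h.card_P ▸ card_dvd_of_le hAP)
  have hak : a * T.card = q := by
    have e : p ^ (a * T.card) = p ^ q := by rw [pow_mul, ← hAc, ← hT, hTP, h.card_P]
    exact Nat.pow_right_injective h.p_prime.two_le e
  have haq : a ≠ q := fun e => hA1 (eq_of_le_of_card_ge hAP (by rw [h.card_P, hAc, e]))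
  rcases (Nat.dvd_prime h.q_prime).1 ⟨T.card, hak.symm⟩ with h' | h'
  · rw [hAc, h', pow_one]
  · exact absurd h' haq

/-- The reducible case. -/
theorem of_reducible (hI : ¬ ∀ A : Subgroup G, A ≤ P → U ≤ normalizer (A : Set G) → A = ⊥ ∨ A = P) :
    Nat.card U ∣ ((p - 1) / 2) ^ (q - 1) ∧
      (p - 1) ^ q ≤ Nat.card {lam : ↥P →* ℂˣ // RegularChar P U lam} := by
  classical
  haveI := Fact.mk h.p_prime
  haveI := h.elem.1
  letI : CommGroup P := { (inferInstance : Group P) with mul_comm := mul_comm' }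
  obtain ⟨A, hAP, hAc, hAU, hsup⟩ := h.exists_line hI
  set C : W → Subgroup G := fun w => A.map (MulAut.conj (w : G)).toMonoidHom with hC
  haveI : IsCyclic A := isCyclic_of_prime_card hAc
  obtain ⟨g, hg⟩ := IsCyclic.exists_generator (α := A)
  have hgp : ∀ y ∈ A, ∃ n : ℕ, y = (g : G) ^ n := fun y hy => by
    obtain ⟨n, hn⟩ := mem_powers_iff_mem_zpowers.2 (hg ⟨y, hy⟩)
    exact ⟨n, by simpa using (congrArg Subtype.val hn).symm⟩
  have hpow : ∀ x ∈ U, ∃ c : ℕ, ∀ y ∈ A, x * y * x⁻¹ = y ^ c := fun x hx => by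
    obtain ⟨c, hc⟩ := hgp _ (conj_mem_of_le_normalizer hAU hx g.2)
    refine ⟨c, fun y hy => ?_⟩
    obtain ⟨n, rfl⟩ := hgp y hy
    rw [← conj_pow, hc, ← pow_mul, ← pow_mul, mul_comm]
  choose! c hc using hpow
  have hconjU : ∀ w ∈ W, ∀ x ∈ U, w⁻¹ * x * w ∈ U := fun w hw x hx => by
    have := conj_mem_of_le_normalizer h.WU (inv_mem hw) hx; simpa using this
  have hact : ∀ (w : W) (x : G), x ∈ U → ∀ y ∈ C w,
      x * y * x⁻¹ = y ^ c ((w : G)⁻¹ * x * w) := by
    rintro w x hx _ ⟨a, ha, rfl⟩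
    simp only [MulEquiv.coe_toMonoidHom, MulAut.conj_apply]
    rw [conj_pow, ← hc _ (hconjU w w.2 x hx) a ha]
    group
  -- the ratios of the characters
  haveI : IsCyclic (MulAut A) := by
    haveI : IsCyclic (ZMod (Nat.card A))ˣ := by rw [hAc]; exact ZMod.isCyclic_units_prime h.p_prime
    exact isCyclic_of_surjective _ (IsCyclic.mulAutMulEquiv A).symm.surjective
  letI : CommGroup (MulAut A) := IsCyclic.commGroup
  have hMc : Nat.card (MulAut A) = p - 1 := by
    rw [IsCyclic.card_mulAut, hAc, Nat.totient_prime h.p_prime]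
  let θ : U →* MulAut A := A.normalizerMonoidHom.comp (inclusion hAU)
  let tw : W → (U →* U) := fun w =>
    ((U.normalizerMonoidHom ((inclusion h.WU) w⁻¹)) : U ≃* U).toMonoidHom
  have htw : ∀ (w : W) (x : U), ((tw w x : U) : G) = (w : G)⁻¹ * x * w := fun w x => by
    show ((w⁻¹ : W) : G) * (x : G) * ((w⁻¹ : W) : G)⁻¹ = _
    simp
  let Φ : U →* ({w : W // w ≠ 1} → (powMonoidHom ((p - 1) / 2) : MulAut A →* MulAut A).ker) :=
    MonoidHom.pi fun w => ((θ.comp (tw w.1)) / θ).codRestrict _ fun x => by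
      rw [MonoidHom.mem_ker, powMonoidHom_apply, ← orderOf_dvd_iff_pow_eq_one]
      have h1 := orderOf_map_dvd ((θ.comp (tw w.1)) / θ) x
      have h2 : orderOf (((θ.comp (tw w.1)) / θ) x) ∣ p - 1 := hMc ▸ orderOf_dvd_natCard _
      have h3 : Odd (orderOf (((θ.comp (tw w.1)) / θ) x)) :=
        (h.U_odd.of_dvd_nat (orderOf_dvd_natCard x)).of_dvd_nat h1
      refine (Nat.Coprime.dvd_mul_left (Nat.coprime_two_right.2 h3)).1 (h2.trans (dvd_of_eq ?_))
      have := Nat.odd_iff.1 h.p_odd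
      omega
  have hΦ : Function.Injective Φ := by
    refine (injective_iff_map_eq_one Φ).2 fun x hx => Subtype.ext ?_
    have heq : ∀ w : W, θ (tw w x) = θ x := by
      intro w
      by_cases hw : w = 1
      · subst hw
        exact congrArg θ (Subtype.ext (by rw [htw]; simp))
      · exact div_eq_one.1 (congrArg Subtype.val (congrFun hx ⟨w, hw⟩))
    refine h.eq_one_of_scalar x.2 (c := c x) fun y hy => ?_
    rw [← hsup] at hy
    suffices key : (x : G) * y * (x : G)⁻¹ = y ^ c x ∧ y ∈ P from key.1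
    refine iSup_induction C (C := fun y => (x : G) * y * (x : G)⁻¹ = y ^ c x ∧ y ∈ P) hy
      (fun w y hy => ⟨?_, ?_⟩) ⟨by simp, one_mem P⟩ (fun a b ha hb => ⟨?_, mul_mem ha.2 hb.2⟩)
    · obtain ⟨a, ha, rfl⟩ := hy
      have e := congrArg (fun φ : MulAut A => ((φ ⟨a, ha⟩ : A) : G)) (heq w)
      have e1 : ((θ (tw w x)) ⟨a, ha⟩ : G) = ((tw w x : U) : G) * a * ((tw w x : U) : G)⁻¹ := rfl
      have e2 : ((θ x) ⟨a, ha⟩ : G) = (x : G) * a * (x : G)⁻¹ := rfl
      simp only [e1, e2, htw] at e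
      simp only [MulEquiv.coe_toMonoidHom, MulAut.conj_apply, conj_pow]
      rw [← hc x x.2 a ha, ← e]
      group
    · rw [← hsup]; exact mem_iSup_of_mem w hy
    · have e : a * b = b * a := congrArg Subtype.val (mul_comm' (⟨a, ha.2⟩ : P) ⟨b, hb.2⟩)
      rw [(show Commute a b from e).mul_pow, ← ha.1, ← hb.1]
      group
  refine ⟨?_, ?_⟩
  · have hcard := Subgroup.card_dvd_of_injective Φ hΦ
    haveI : Fintype W := Fintype.ofFinite _
    rw [Nat.card_pi, Finset.prod_const, Finset.card_univ, IsCyclic.card_powMonoidHom_ker, hMc] at hcard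
    have hW : Fintype.card {w : W // w ≠ 1} = q - 1 := by
      rw [Fintype.card_subtype_compl, Fintype.card_subtype_eq, ← Nat.card_eq_fintype_card, h.card_W]
    rw [hW] at hcard
    refine hcard.trans (pow_dvd_pow_of_dvd ?_ _)
    exact Nat.gcd_dvd_right _ _
  · -- characters non-trivial on every line
    haveI : Fintype W := Fintype.ofFinite _
    have hCP : ∀ w, C w ≤ P := fun w => hsup ▸ le_iSup C w
    let r : (↥P →* ℂˣ) → ((w : W) → (↥(C w) →* ℂˣ)) := fun lam w => lam.comp (inclusion (hCP w))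
    have hr : Function.Injective r := by
      intro l l' e
      refine MonoidHom.ext fun y => ?_
      have key : ∀ z ∈ ⨆ w : W, C w, ∃ hz : z ∈ P, l ⟨z, hz⟩ = l' ⟨z, hz⟩ := by
        intro z hz
        refine iSup_induction C (C := fun z => ∃ hz : z ∈ P, l ⟨z, hz⟩ = l' ⟨z, hz⟩) hz
          (fun w z hz => ⟨hCP w hz, DFunLike.congr_fun (congrFun e w) ⟨z, hz⟩⟩)
          ⟨one_mem P, (map_one l).trans (map_one l').symm⟩ ?_
        rintro a b ⟨ha, ea⟩ ⟨hb, eb⟩
        refine ⟨mul_mem ha hb, ?_⟩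
        rw [show (⟨a * b, mul_mem ha hb⟩ : P) = ⟨a, ha⟩ * ⟨b, hb⟩ from rfl, map_mul, map_mul, ea, eb]
      exact (key y (by rw [hsup]; exact y.2)).snd
    have hCc : ∀ w, Nat.card (C w) = p := fun w =>
      (card_map_of_injective (MulAut.conj (w : G)).injective).trans hAc
    have hdual : ∀ B : Subgroup G, IsMulCommutative B → Finite (↥B →* ℂˣ) ∧
        Nat.card (↥B →* ℂˣ) = Nat.card B := by
      intro B hB
      letI : CommGroup B := { (inferInstance : Group B) with mul_comm := mul_comm' }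
      exact ⟨inferInstance, CommGroup.card_monoidHom_of_hasEnoughRootsOfUnity B ℂ⟩
    have hdC : ∀ w, Finite (↥(C w) →* ℂˣ) ∧ Nat.card (↥(C w) →* ℂˣ) = p := fun w => by
      haveI : IsCyclic (C w) := isCyclic_of_prime_card (hCc w)
      obtain ⟨h1, h2⟩ := hdual (C w) ⟨⟨IsCyclic.commGroup.mul_comm⟩⟩
      exact ⟨h1, h2.trans (hCc w)⟩
    haveI := fun w => (hdC w).1
    haveI := (hdual P inferInstance).1
    have hbij : Function.Bijective r := by
      haveI : ∀ w, Fintype (↥(C w) →* ℂˣ) := fun w => Fintype.ofFinite _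
      haveI : Fintype (↥P →* ℂˣ) := Fintype.ofFinite _
      refine (Fintype.bijective_iff_injective_and_card r).2 ⟨hr, ?_⟩
      rw [← Nat.card_eq_fintype_card, ← Nat.card_eq_fintype_card, Nat.card_pi,
        (hdual P inferInstance).2, h.card_P, Finset.prod_congr rfl fun w _ => (hdC w).2,
        Finset.prod_const, Finset.card_univ, ← Nat.card_eq_fintype_card, h.card_W]
    calc (p - 1) ^ q = Nat.card {l : ↥P →* ℂˣ // ∀ w, r l w ≠ 1} := by
          have e1 : Nat.card {l : ↥P →* ℂˣ // ∀ w, r l w ≠ 1} =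
              Nat.card {f : (w : W) → (↥(C w) →* ℂˣ) // ∀ w, f w ≠ 1} :=
            Nat.card_congr ((Equiv.ofBijective r hbij).subtypeEquiv fun l => Iff.rfl)
          rw [e1,
            Nat.card_congr (Equiv.subtypePiEquivPi (p := fun w (f : ↥(C w) →* ℂˣ) => f ≠ 1)),
            Nat.card_pi, Finset.prod_congr rfl (g := fun _ => p - 1) fun w _ => ?_,
            Finset.prod_const, Finset.card_univ, ← Nat.card_eq_fintype_card, h.card_W]
          haveI : Fintype (↥(C w) →* ℂˣ) := Fintype.ofFinite _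
          rw [Nat.card_eq_fintype_card, Fintype.card_subtype_compl, Fintype.card_subtype_eq,
            ← Nat.card_eq_fintype_card, (hdC w).2]
      _ ≤ _ := by
        refine Nat.card_le_card_of_injective (fun l => ⟨l.1, fun x hx hfix => ?_⟩)
          (fun l l' e => Subtype.ext (congrArg (fun z => z.1) e :))
        refine h.faithful x hx fun y hy => ?_
        rw [← hsup] at hy
        refine iSup_induction C (C := fun y => x * y = y * x) hy (fun w y hy => ?_) (by simp)
          fun a b ha hb => by rw [← mul_assoc, ha, mul_assoc, hb, mul_assoc]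
        have e := hact w x hx y hy
        have hxy : x * y * x⁻¹ ∈ P := conj_mem_of_le_normalizer h.UP hx (hCP w hy)
        have e1 := (apply_pow_of_conj l.1 (hCP w hy) hxy e).symm.trans (hfix y (hCP w hy) hxy)
        suffices y ^ c ((w : G)⁻¹ * x * w) = y from mul_inv_eq_iff_eq_mul.1 (e.trans this)
        by_cases hy1 : y = 1
        · rw [hy1, one_pow]
        -- `y` generates the line and the character is faithful there
        have hinj : Function.Injective (r l.1 w) := by
          refine (injective_iff_map_eq_one _).2 fun z hz => ?_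
          by_contra hz1
          refine l.2 w (MonoidHom.ext fun t => ?_)
          obtain ⟨k, hk⟩ := mem_powers_iff_mem_zpowers.2 (mem_zpowers_of_prime_card (hCc w) hz1 (g' := t))
          rw [← hk, map_pow, hz, one_pow, MonoidHom.one_apply]
        have e2 : r l.1 w (⟨y, hy⟩ ^ c ((w : G)⁻¹ * x * w)) = r l.1 w ⟨y, hy⟩ := by
          rw [map_pow]; exact e1
        simpa using congrArg Subtype.val (hinj e2)

/-- Peterfalvi (9.7): the two possibilities for `U`, and the number of regular characters. -/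
theorem dichotomy {M : ℕ} (hM : (p - 1) * M = p ^ q - 1) :
    (Nat.card U ∣ M ∨ Nat.card U ∣ ((p - 1) / 2) ^ (q - 1)) ∧
      (p - 1) ^ q ≤ Nat.card {lam : ↥P →* ℂˣ // RegularChar P U lam} ∧
      (Nat.card U ∣ M → IsCyclic U ∧ (∀ x ∈ U, x ≠ 1 → ∀ y ∈ P, x * y = y * x → y = 1) ∧
        Nat.card {lam : ↥P →* ℂˣ // RegularChar P U lam} = p ^ q - 1) := by
  classical
  haveI := h.elem.1
  by_cases hI : ∀ A : Subgroup G, A ≤ P → U ≤ normalizer (A : Set G) → A = ⊥ ∨ A = P
  · obtain ⟨h1, hfpf, h3⟩ := h.of_irreducible hI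
    letI : CommGroup P := { (inferInstance : Group P) with mul_comm := mul_comm' }
    haveI : Finite (↥P →* ℂˣ) := inferInstance
    haveI : Fintype (↥P →* ℂˣ) := Fintype.ofFinite _
    have hreg : ∀ lam : ↥P →* ℂˣ, RegularChar P U lam ↔ lam ≠ 1 := by
      intro lam
      constructor
      · rintro hl rfl
        exact h.U_ne ((Subgroup.eq_bot_iff_forall _).2 fun x hx => hl x hx fun _ _ _ => rfl)
      · intro hl x hx hfix
        by_contra hx1
        let f : P → P := fun y =>
          ⟨x * y * x⁻¹, conj_mem_of_le_normalizer h.UP hx y.2⟩ * y⁻¹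
        have hf : Function.Surjective f := Finite.surjective_of_injective fun y z e => by
          have e' : x * y * x⁻¹ * (y : G)⁻¹ = x * z * x⁻¹ * (z : G)⁻¹ := congrArg Subtype.val e
          have hmem := hfpf x hx hx1 ((z : G)⁻¹ * y) (mul_mem (inv_mem z.2) y.2) ?_
          · exact Subtype.ext (inv_mul_eq_one.1 hmem).symm
          · have hcm : ∀ a b : P, (a : G) * b = b * a := fun a b => congrArg Subtype.val (mul_comm' a b)
            refine mul_inv_eq_iff_eq_mul.1 ?_
            calc x * ((z : G)⁻¹ * y) * x⁻¹ = (x * z * x⁻¹)⁻¹ * ((x * y * x⁻¹) * (y : G)⁻¹) * y := by group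
              _ = (x * z * x⁻¹)⁻¹ * (x * z * x⁻¹ * (z : G)⁻¹) * y := by rw [e']
              _ = (z : G)⁻¹ * y := by group
        refine hl (MonoidHom.ext fun v => ?_)
        obtain ⟨y, rfl⟩ := hf v
        rw [MonoidHom.one_apply, map_mul, map_inv,
          hfix y y.2 (conj_mem_of_le_normalizer h.UP hx y.2)]
        exact mul_inv_cancel _
    have hR : Nat.card {lam : ↥P →* ℂˣ // RegularChar P U lam} = p ^ q - 1 := by
      rw [Nat.card_congr (Equiv.subtypeEquivRight hreg), Nat.card_eq_fintype_card,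
        Fintype.card_subtype_compl, Fintype.card_subtype_eq, ← Nat.card_eq_fintype_card,
        CommGroup.card_monoidHom_of_hasEnoughRootsOfUnity P ℂ, h.card_P]
    refine ⟨Or.inl ?_, ?_, fun _ => ⟨h1, hfpf, hR⟩⟩
    · rw [← hM, mul_comm] at h3
      exact (Nat.mul_dvd_mul_iff_left (by have := h.p_prime.two_le; omega : 0 < p - 1)).1 h3
    · rw [hR]
      have := Nat.pow_lt_pow_left (show p - 1 < p by have := h.p_prime.pos; omega) h.q_prime.ne_zero
      omega
  · obtain ⟨h1, h2⟩ := h.of_reducible hI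
    refine ⟨Or.inr h1, h2, fun hd => absurd ?_ (Nat.ne_of_gt h.one_lt_card_U)⟩
    by_contra hu
    obtain ⟨r, hr, hru⟩ := Nat.exists_prime_and_dvd hu
    have hr1 : r ∣ p - 1 :=
      (hr.dvd_of_dvd_pow (hru.trans h1)).trans (Dvd.intro_left 2 (by
        have := Nat.odd_iff.1 h.p_odd
        omega))
    have hrq : r = q := by
      have hpr : p ≡ 1 [MOD r] :=
        (Nat.modEq_iff_dvd' h.p_prime.one_lt.le).2 hr1 |>.symm
      have := (geom_modEq_q h.p_prime.two_le hpr hM).symm.trans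
        (Nat.modEq_zero_iff_dvd.2 (hru.trans hd))
      exact (Nat.prime_dvd_prime_iff_eq hr h.q_prime).1 (Nat.modEq_zero_iff_dvd.1 this)
    exact h.not_dvd_q (hrq ▸ hru)

end UAct

end Cfsg.Agent.OddOrder.PF.S14
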