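import Cfsg.Agent.Lib.OddOrder.PF.S9_Structure
import Cfsg.Agent.Lib.Frobenius.FixedPointFree
import Cfsg.Agent.Lib.OddOrder.SingerField

/-!
Peterfalvi (9.7): if `U` is reducible on the factor `H / H₀` there is a line with `a ∣ p - 1` and
`|U : C| ≤ a ^ (q - 1)`; if `U` is irreducible then `U / C` is cyclic, acts fixed-point-freely, and
its order divides `(p ^ q - 1) / (p - 1)` and is prime to `p - 1`.
-/

set_option autoImplicit false
set_option linter.unusedSectionVars false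
set_option linter.style.haveILetI false

namespace Cfsg.Agent.OddOrder.PF

open Cfsg Cfsg.Agent.OddOrder Subgroup
open scoped commutatorElement

section ModCent

variable {L : Type*} [Group L] {U X N : Subgroup L} [hN : N.Normal]

theorem le_normalizer_of_forall_conj {T S : Subgroup L}
    (h : ∀ t ∈ T, ∀ s ∈ S, t * s * t⁻¹ ∈ S) : T ≤ normalizer (S : Set L) := fun t ht =>
  mem_normalizer_iff.2 fun s => ⟨h t ht s, fun hs => by
    have := h t⁻¹ (T.inv_mem ht) _ hs
    rwa [show t⁻¹ * (t * s * t⁻¹) * t⁻¹⁻¹ = s by group] at this⟩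

theorem conj_mem_modCent_of_forall {X' : Subgroup L} {g u : L} (hU : g ∈ normalizer (U : Set L))
    (hX : ∀ x ∈ X', g⁻¹ * x * g ∈ X) (hu : u ∈ modCent U X N) :
    g * u * g⁻¹ ∈ modCent U X' N := by
  rw [mem_modCent] at hu ⊢
  refine ⟨(mem_normalizer_iff.1 hU u).1 hu.1, fun x hx => ?_⟩
  rw [show ⁅g * u * g⁻¹, x⁆ = g * ⁅u, g⁻¹ * x * g⁆ * g⁻¹ by group]
  exact hN.conj_mem _ (hu.2 _ (hX x hx)) g

theorem map_conj_modCent {w : L} (hw : w ∈ normalizer (U : Set L)) :
    (modCent U X N).map (MulAut.conj w).toMonoidHom =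
      modCent U (X.map (MulAut.conj w).toMonoidHom) N := by
  ext y
  constructor
  · rintro ⟨u, hu, rfl⟩
    exact conj_mem_modCent_of_forall hw (fun x ⟨z, hz, hzx⟩ => by
      rw [← hzx]; simpa [mul_assoc] using hz) hu
  · intro hy
    refine ⟨w⁻¹ * y * w⁻¹⁻¹, conj_mem_modCent_of_forall (inv_mem hw) (fun x hx => ?_) hy, ?_⟩
    · exact ⟨x, hx, by simp⟩
    · simp [mul_assoc]

theorem modCent_mono {X' : Subgroup L} (h : X' ≤ X) : modCent U X N ≤ modCent U X' N :=
  fun _ hu => mem_modCent.2 ⟨(mem_modCent.1 hu).1, fun x hx => (mem_modCent.1 hu).2 x (h hx)⟩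

/-- The action of `U` on the image of `X` modulo `N`. -/
noncomputable def actMod (N : Subgroup L) [N.Normal] (hUX : U ≤ normalizer (X : Set L)) :
    U →* MulAut (X.map (QuotientGroup.mk' N) : Subgroup (L ⧸ N)) :=
  (normalizerMonoidHom (X.map (QuotientGroup.mk' N))).comp
    (((QuotientGroup.mk' N).comp U.subtype).codRestrict _ fun u =>
      le_normalizer_map (f := QuotientGroup.mk' N) (mem_map_of_mem _ (hUX u.2)))

theorem actMod_apply (hUX : U ≤ normalizer (X : Set L)) (u : U)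
    (v : (X.map (QuotientGroup.mk' N) : Subgroup (L ⧸ N))) :
    ((actMod N hUX u v : (X.map (QuotientGroup.mk' N) : Subgroup (L ⧸ N))) : L ⧸ N) =
      QuotientGroup.mk' N u * v * (QuotientGroup.mk' N u)⁻¹ := rfl

theorem ker_actMod (hUX : U ≤ normalizer (X : Set L)) :
    (actMod N hUX).ker = (modCent U X N).subgroupOf U := by
  ext u
  rw [MonoidHom.mem_ker, mem_subgroupOf, mem_modCent]
  constructor
  · intro h
    refine ⟨u.2, fun x hx => (QuotientGroup.eq_one_iff _).1 ?_⟩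
    have h1 := congrArg Subtype.val (DFunLike.congr_fun h ⟨_, mem_map_of_mem _ hx⟩)
    rw [actMod_apply] at h1
    rw [← QuotientGroup.mk'_apply, map_commutatorElement, commutatorElement_def]
    rw [h1]
    exact mul_inv_cancel _
  · rintro ⟨-, h⟩
    ext ⟨_, x, hx, rfl⟩
    rw [actMod_apply]
    show _ = QuotientGroup.mk' N x
    rw [mul_inv_eq_iff_eq_mul, ← commutatorElement_eq_one_iff_mul_comm, ← map_commutatorElement]
    exact (QuotientGroup.eq_one_iff _).2 (h x hx)

end ModCent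

namespace Nine

variable {L : Type*} [Group L] [Finite L] {K H U W H₀ C : Subgroup L} [hH₀ : H₀.Normal] {p q : ℕ}
  (D : Nine K H U W H₀ C p q)
include D

theorem U_le_normalizer_H : U ≤ normalizer (H : Set L) := by
  rw [normalizer_eq_top_iff.2 D.H_normal]; exact le_top

theorem W_le_normalizer_H : W ≤ normalizer (H : Set L) := by
  rw [normalizer_eq_top_iff.2 D.H_normal]; exact le_top

theorem C_le : C ≤ U := D.C_lt.le

theorem conj_mem_C {g x : L} (hg : g ∈ normalizer (U : Set L)) (hx : x ∈ C) : g * x * g⁻¹ ∈ C := by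
  rw [D.C_eq] at hx ⊢
  refine conj_mem_modCent_of_forall hg (fun h hh => ?_) hx
  simpa using D.H_normal.conj_mem h hh g⁻¹

theorem comm_mem_C {u v : L} (hu : u ∈ U) (hv : v ∈ U) : ⁅u, v⁆ ∈ C :=
  D.derived_U_le (commutator_mem_commutator hu hv)

/-- An element of `U` fixed by `W` modulo `C` lies in `C`. -/
theorem mem_C_of_fixed {x : L} (hx : x ∈ U) (hfix : ∀ w ∈ W, ⁅w, x⁆ ∈ C) : x ∈ C := by
  obtain ⟨w, hw, hw1⟩ : ∃ w ∈ W, w ≠ 1 := by
    by_contra! h
    have : W = ⊥ := eq_bot_iff.2 fun w hw => mem_bot.2 (h w hw)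
    have hc := D.card_W
    rw [this, card_bot] at hc
    exact D.q_prime.one_lt.ne hc
  have hn := D.W_normalizes hw
  let f : U → U := fun u => ⟨(u : L)⁻¹ * (w * u * w⁻¹),
    U.mul_mem (U.inv_mem u.2) ((mem_normalizer_iff.1 hn u).1 u.2)⟩
  have hinj : Function.Injective f := by
    intro a b h
    have h' : (a : L)⁻¹ * (w * a * w⁻¹) = (b : L)⁻¹ * (w * b * w⁻¹) := congrArg Subtype.val h
    have h1 : (b : L) * (a : L)⁻¹ = 1 :=
      D.W_fpf w hw hw1 _ (U.mul_mem b.2 (U.inv_mem a.2)) <| by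
        calc w * ((b : L) * (a : L)⁻¹)
            = b * ((b : L)⁻¹ * (w * b * w⁻¹)) * w * (a : L)⁻¹ := by group
          _ = b * ((a : L)⁻¹ * (w * a * w⁻¹)) * w * (a : L)⁻¹ := by rw [h']
          _ = b * (a : L)⁻¹ * w := by group
    exact Subtype.ext (mul_inv_eq_one.1 h1).symm
  let g : C → C := fun c => ⟨(c : L)⁻¹ * (w * c * w⁻¹), C.mul_mem (C.inv_mem c.2) (D.conj_mem_C hn c.2)⟩
  have hg : Function.Injective g := fun a b h => Subtype.ext (congrArg (fun z : U => (z : L))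
    (hinj (a₁ := ⟨a, D.C_le a.2⟩) (a₂ := ⟨b, D.C_le b.2⟩)
      (Subtype.ext (congrArg (fun z : C => (z : L)) h))))
  have hmem : x⁻¹ * (w * x * w⁻¹) ∈ C := by
    have h1 := D.conj_mem_C (inv_mem (le_normalizer hx)) (hfix w hw)
    rwa [show x⁻¹ * ⁅w, x⁆ * x⁻¹⁻¹ = x⁻¹ * (w * x * w⁻¹) by group] at h1
  obtain ⟨c, hc⟩ := Finite.surjective_of_injective hg ⟨_, hmem⟩
  have := congrArg Subtype.val (hinj (a₁ := ⟨c, D.C_le c.2⟩) (a₂ := ⟨x, hx⟩)
    (Subtype.ext (congrArg (fun z : C => (z : L)) hc)))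
  exact (show (c : L) = x from this) ▸ c.2

theorem mul_comm_factor {a b : L} (ha : a ∈ H) (hb : b ∈ H) :
    QuotientGroup.mk' H₀ a * QuotientGroup.mk' H₀ b = QuotientGroup.mk' H₀ b * QuotientGroup.mk' H₀ a := by
  rw [← commutatorElement_eq_one_iff_mul_comm, ← map_commutatorElement]
  exact (QuotientGroup.eq_one_iff _).2 (D.factor_comm (commutator_mem_commutator ha hb))

theorem card_factor : Nat.card (H.map (QuotientGroup.mk' H₀)) = p ^ q := by
  rw [card_map_eq_relIndex, D.factor_card]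

/-- Peterfalvi (9.7b): when `U` is reducible on the factor, a line. -/
theorem exists_nineLine (hng : ¬ NineGalois H U H₀) :
    ∃ H₁ U₁ a, NineLine H U W H₀ C H₁ U₁ p q a := by
  classical
  haveI := D.H_normal
  set f := QuotientGroup.mk' H₀ with hf
  set P : Subgroup L → Prop := fun X => H₀ ≤ X ∧ X ≤ H ∧ U ≤ normalizer (X : Set L) ∧ X ≠ H₀ with hP
  unfold NineGalois at hng
  push Not at hng
  obtain ⟨X₀, h1, h2, h3, h4, h5⟩ := hng
  obtain ⟨X, ⟨hX₀, hXH, hUX, hXne⟩, hmin, hXlt⟩ :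
      ∃ X, P X ∧ (∀ Y, P Y → Y ≤ X → Y = X) ∧ X ≠ H := by
    obtain ⟨X, hle, hmin⟩ := (Set.toFinite {X | P X}).exists_le_minimal
      (show X₀ ∈ {X | P X} from ⟨h1, h2, h3, h4⟩)
    exact ⟨X, hmin.prop, fun Y hY hYX => le_antisymm hYX (hmin.2 hY hYX),
      fun e => h5 (le_antisymm h2 (e ▸ hle))⟩
  -- the conjugates of the line
  set cj : L → Subgroup L → Subgroup L := fun w Y => Y.map (MulAut.conj w).toMonoidHom with hcj
  have hmemcj : ∀ w Y y, y ∈ cj w Y ↔ w⁻¹ * y * w ∈ Y := by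
    intro w Y y
    constructor
    · rintro ⟨z, hz, rfl⟩; simpa [mul_assoc] using hz
    · exact fun h => ⟨_, h, by simp [mul_assoc]⟩
  have hcjH₀ : ∀ w, H₀ ≤ cj w X := fun w y hy => (hmemcj w X y).2
    (hX₀ (by simpa using hH₀.conj_mem y hy w⁻¹))
  have hcjH : ∀ w, cj w X ≤ H := fun w y hy => by
    have := D.H_normal.conj_mem _ (hXH ((hmemcj w X y).1 hy)) w
    rwa [show w * (w⁻¹ * y * w) * w⁻¹ = y by group] at this
  have hcjU : ∀ w ∈ W, ∀ u ∈ U, ∀ y ∈ cj w X, u * y * u⁻¹ ∈ cj w X := by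
    intro w hw u hu y hy
    rw [hmemcj] at hy ⊢
    have hu' : w⁻¹ * u * w ∈ U := by
      simpa using (mem_normalizer_iff.1 (D.W_normalizes (W.inv_mem hw)) u).1 hu
    have := (mem_normalizer_iff.1 (hUX hu') _).1 hy
    rwa [show w⁻¹ * u * w * (w⁻¹ * y * w) * (w⁻¹ * u * w)⁻¹ = w⁻¹ * (u * y * u⁻¹) * w by group]
      at this
  have hcjmin : ∀ w ∈ W, ∀ Z, H₀ ≤ Z → Z ≤ cj w X → U ≤ normalizer (Z : Set L) →
      Z = H₀ ∨ Z = cj w X := by
    intro w hw Z hZ₀ hZX hUZ
    have hmem : ∀ y, y ∈ cj w⁻¹ Z ↔ w * y * w⁻¹ ∈ Z := fun y => by rw [hmemcj, inv_inv]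
    by_cases he : cj w⁻¹ Z = H₀
    · left
      refine le_antisymm (fun y hy => ?_) hZ₀
      have h' : w⁻¹ * y * w ∈ cj w⁻¹ Z := (hmem _).2 (by simpa [mul_assoc] using hy)
      rw [he] at h'
      simpa [mul_assoc] using hH₀.conj_mem _ h' w
    · right
      have hPZ : P (cj w⁻¹ Z) := by
        refine ⟨fun y hy => (hmem y).2 (hZ₀ (hH₀.conj_mem y hy w)), fun y hy => ?_,
          le_normalizer_of_forall_conj fun u hu y hy => ?_, he⟩
        · have := hZX ((hmem y).1 hy)
          rw [hmemcj] at this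
          exact hXH (by simpa [mul_assoc] using this)
        · rw [hmem] at hy ⊢
          have hu' : w * u * w⁻¹ ∈ U := (mem_normalizer_iff.1 (D.W_normalizes hw) u).1 hu
          have := (mem_normalizer_iff.1 (hUZ hu') _).1 hy
          rwa [show w * u * w⁻¹ * (w * y * w⁻¹) * (w * u * w⁻¹)⁻¹ = w * (u * y * u⁻¹) * w⁻¹ by group]
            at this
      have heq := hmin _ hPZ fun y hy => by
        have := hZX ((hmem y).1 hy)
        rw [hmemcj] at this
        simpa [mul_assoc] using this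
      refine le_antisymm hZX fun y hy => ?_
      have h' : w⁻¹ * y * w ∈ cj w⁻¹ Z := heq ▸ (hmemcj w X y).1 hy
      simpa [mul_assoc] using (hmem _).1 h'
  set S : Subgroup L := ⨆ w ∈ W, cj w X with hS
  have hSH : S ≤ H := iSup₂_le fun w _ => hcjH w
  have hleS : ∀ w ∈ W, cj w X ≤ S := fun w hw => le_iSup₂_of_le w hw le_rfl
  have h0S : H₀ ≤ S := (hcjH₀ 1).trans (hleS 1 W.one_mem)
  have hXS : X ≤ S := fun y hy => hleS 1 W.one_mem ((hmemcj 1 X y).2 (by simpa using hy))
  have hSn : ∀ T : Subgroup L, (∀ t ∈ T, ∀ w ∈ W, ∃ w' ∈ W, ∀ y ∈ cj w X, t * y * t⁻¹ ∈ cj w' X) →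
      T ≤ normalizer (S : Set L) := fun T hT => le_normalizer_of_forall_conj fun t ht s hs => by
    have : S.map (MulAut.conj t).toMonoidHom ≤ S := by
      rw [hS, Subgroup.map_iSup]
      refine iSup_le fun w => ?_
      rw [Subgroup.map_iSup]
      refine iSup_le fun hw => ?_
      rintro _ ⟨y, hy, rfl⟩
      obtain ⟨w', hw', h⟩ := hT t ht w hw
      exact hleS w' hw' (h y hy)
    exact this ⟨s, hs, rfl⟩
  have hSnormal : S.Normal := by
    refine normalizer_eq_top_iff.1 (top_le_iff.1 ?_)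
    rw [← D.K_sup_W, ← D.H_sup_U]
    refine sup_le (sup_le ?_ (hSn U fun u hu w hw => ⟨w, hw, hcjU w hw u hu⟩))
      (hSn W fun v hv w hw => ⟨v * w, W.mul_mem hv hw, fun y hy => ?_⟩)
    · refine le_normalizer_of_forall_conj fun g hg s hs => ?_
      rw [show g * s * g⁻¹ = ⁅g, s⁆ * s by group]
      exact S.mul_mem (h0S (D.factor_comm (commutator_mem_commutator hg (hSH hs)))) hs
    · rw [hmemcj] at hy ⊢
      simpa [mul_assoc] using hy
  have hSeq : S = H := (D.factor_chief S hSnormal h0S hSH).resolve_left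
    fun h => hXne (le_antisymm (h ▸ hXS) hX₀)
  -- the factor is built from copies of the line
  obtain ⟨d, hd, hpd⟩ : ∃ d, d ≤ q ∧ H₀.relIndex X = p ^ d := by
    refine (Nat.dvd_prime_pow D.p_prime).1 ?_
    rw [← D.factor_card]
    exact ⟨_, (relIndex_mul_relIndex H₀ X H hX₀ hXH).symm⟩
  have hline : ∀ w, H₀.relIndex (cj w X) = p ^ d := fun w => by
    have h0 : H₀.map (MulAut.conj w).toMonoidHom = H₀ := by
      ext y
      exact ⟨by rintro ⟨z, hz, rfl⟩; exact hH₀.conj_mem z hz w,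
        fun hy => ⟨w⁻¹ * y * w⁻¹⁻¹, hH₀.conj_mem y hy w⁻¹, by simp [mul_assoc]⟩⟩
    conv_lhs => rw [← h0]
    rw [hcj, relIndex_map_map_of_injective _ _ (MulAut.conj w).injective, hpd]
  have hpow : ∀ s : Finset L, (∀ w ∈ s, w ∈ W) →
      ∃ m : ℕ, H₀.relIndex (H₀ ⊔ ⨆ w ∈ s, cj w X) = p ^ (d * m) := by
    intro s
    induction s using Finset.induction_on with
    | empty => exact fun _ => ⟨0, by simp⟩
    | @insert w s hws ih =>
      intro hsW
      obtain ⟨m, hm⟩ := ih fun v hv => hsW v (Finset.mem_insert_of_mem hv)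
      have hw := hsW w (Finset.mem_insert_self w s)
      set J := H₀ ⊔ ⨆ v ∈ s, cj v X with hJ
      have hJH : J ≤ H := sup_le D.H₀_le (iSup₂_le fun v _ => hcjH v)
      have hnJ : cj w X ≤ normalizer (J : Set L) := le_normalizer_of_forall_conj fun t ht y hy => by
        rw [show t * y * t⁻¹ = ⁅t, y⁆ * y by group]
        exact J.mul_mem (mem_sup_left (D.factor_comm
          (commutator_mem_commutator (hcjH w ht) (hJH hy)))) hy
      have heq : H₀ ⊔ ⨆ v ∈ insert w s, cj v X = J ⊔ cj w X := by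
        rw [Finset.iSup_insert, hJ, sup_comm (cj w X), sup_assoc]
      have hUJ : ∀ u ∈ U, ∀ y ∈ J, u * y * u⁻¹ ∈ J := by
        intro u hu y hy
        have : J.map (MulAut.conj u).toMonoidHom ≤ J := by
          rw [hJ, Subgroup.map_sup, Subgroup.map_iSup]
          refine sup_le (le_sup_of_le_left ?_) (iSup_le fun v => ?_)
          · rintro _ ⟨z, hz, rfl⟩; exact hH₀.conj_mem z hz u
          rw [Subgroup.map_iSup]
          refine iSup_le fun hv => ?_
          rintro _ ⟨z, hz, rfl⟩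
          exact mem_sup_right ((le_iSup₂_of_le v hv le_rfl : cj v X ≤ ⨆ v ∈ s, cj v X)
            (hcjU v (hsW v (Finset.mem_insert_of_mem hv)) u hu z hz))
        exact this ⟨y, hy, rfl⟩
      rcases hcjmin w hw (J ⊓ cj w X) (le_inf le_sup_left (hcjH₀ w)) inf_le_right
        (le_normalizer_of_forall_conj fun u hu y hy => ⟨hUJ u hu y hy.1, hcjU w hw u hu y hy.2⟩)
        with h | h
      · refine ⟨m + 1, ?_⟩
        have h1 : J.relIndex (J ⊔ cj w X) = p ^ d := by
          rw [SylowJoin.relIndex_sup_of_le_normalizer hnJ, ← inf_relIndex_right, h, hline]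
        rw [heq, ← relIndex_mul_relIndex H₀ J (J ⊔ cj w X) le_sup_left le_sup_left, hm, h1,
          ← pow_add, mul_add, mul_one]
      · exact ⟨m, by rw [heq, sup_eq_left.2 (h.ge.trans inf_le_left), hm]⟩
  obtain ⟨m, hm⟩ := hpow (W : Set L).toFinite.toFinset fun w hw => (Set.Finite.mem_toFinset _).1 hw
  have hall : H₀ ⊔ ⨆ w ∈ (W : Set L).toFinite.toFinset, cj w X = H := by
    rw [← hSeq, sup_eq_right.2]
    · exact le_antisymm (iSup₂_le fun w hw => hleS w ((Set.Finite.mem_toFinset _).1 hw))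
        (iSup₂_le fun w hw => le_iSup₂_of_le w ((Set.Finite.mem_toFinset _).2 hw) le_rfl)
    · exact (hcjH₀ 1).trans (le_iSup₂_of_le 1 ((Set.Finite.mem_toFinset _).2 W.one_mem) le_rfl)
  rw [hall, D.factor_card] at hm
  have hdm : q = d * m := Nat.pow_right_injective D.p_prime.two_le hm
  have hd1 : d = 1 := by
    rcases (Nat.dvd_prime D.q_prime).1 ⟨m, hdm⟩ with h | h
    · exact h
    refine absurd ?_ hXlt
    have h1 := relIndex_mul_relIndex H₀ X H hX₀ hXH
    rw [hpd, h, D.factor_card] at h1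
    exact le_antisymm hXH (relIndex_eq_one.1
      (Nat.eq_of_mul_eq_mul_left (pow_pos D.p_prime.pos q) (h1.trans (mul_one _).symm)))
  rw [hd1, pow_one] at hpd
  -- the stabiliser of the line
  set U₁ := modCent U X H₀ with hU₁
  have hU₁U : U₁ ≤ U := inf_le_left
  have hCU₁ : C ≤ U₁ := by rw [D.C_eq]; exact modCent_mono hXH
  have hall' : ∀ y ∈ U, (∀ w ∈ W, y ∈ modCent U (cj w X) H₀) → y ∈ C := by
    intro y hy h
    rw [D.C_eq, mem_modCent]
    refine ⟨hy, fun x hx => ?_⟩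
    have hle : S ≤ (centralizer ({f y} : Set (L ⧸ H₀))).comap f := by
      refine iSup₂_le fun w hw z hz => ?_
      rw [mem_comap, mem_centralizer_singleton_iff, eq_comm, ← commutatorElement_eq_one_iff_mul_comm,
        ← map_commutatorElement]
      exact (QuotientGroup.eq_one_iff _).2 ((mem_modCent.1 (h w hw)).2 z hz)
    have h' := hle (hSeq.ge hx)
    rw [mem_comap, mem_centralizer_singleton_iff, eq_comm, ← commutatorElement_eq_one_iff_mul_comm,
      ← map_commutatorElement] at h'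
    exact (QuotientGroup.eq_one_iff _).1 h'
  have hcard1 : Nat.card (X.map f) = p := by rw [card_map_eq_relIndex, hpd]
  have hnorm : ∀ w ∈ W, U.map (MulAut.conj w).toMonoidHom = U := fun w hw =>
    mem_normalizer_iff_map_conj_eq.1 (D.W_normalizes hw)
  have hmap : ∀ w ∈ W, modCent U (cj w X) H₀ = U₁.map (MulAut.conj w).toMonoidHom :=
    fun w hw => (map_conj_modCent (D.W_normalizes hw)).symm
  have hidx : ∀ w ∈ W, (modCent U (cj w X) H₀).relIndex U = U₁.relIndex U := fun w hw => by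
    conv_lhs => rw [hmap w hw, ← hnorm w hw]
    exact relIndex_map_map_of_injective _ _ (MulAut.conj w).injective
  refine ⟨X, U₁, U₁.relIndex U, ⟨hX₀, hXH, hUX, hpd, hSeq, rfl, rfl, ?_, ?_, ?_⟩⟩
  · -- `1 < a`
    refine lt_of_le_of_ne (Nat.one_le_iff_ne_zero.2 FiniteIndex.index_ne_zero) fun h => ?_
    refine D.C_lt.ne (le_antisymm D.C_le fun y hy => hall' y hy fun w hw => ?_)
    exact relIndex_eq_one.1 ((hidx w hw).trans h.symm) hy
  · -- `a ∣ p - 1`
    haveI := Fact.mk D.p_prime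
    haveI : IsCyclic (X.map f) := isCyclic_of_prime_card hcard1
    have h := Subgroup.index_ker (actMod H₀ hUX)
    rw [ker_actMod] at h
    have h2 : Nat.card (MulAut (X.map f)) = p - 1 := by
      rw [IsCyclic.card_mulAut, hcard1, Nat.totient_prime D.p_prime]
    show U₁.relIndex U ∣ p - 1
    rw [← h2, relIndex, hU₁, h]
    exact card_subgroup_dvd_card _
  · -- `C` is an intersection of `q - 1` conjugates of `U₁`
    set s : Finset L := (W : Set L).toFinite.toFinset.erase 1 with hs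
    have hscard : s.card = q - 1 := by
      rw [hs, Finset.card_erase_of_mem ((Set.Finite.mem_toFinset _).2 W.one_mem),
        ← Set.ncard_eq_toFinset_card, ← Nat.card_coe_set_eq, SetLike.coe_sort_coe, D.card_W]
    have hsW : ∀ w ∈ s, w ∈ W := fun w hw => (Set.Finite.mem_toFinset _).1 (Finset.mem_of_mem_erase hw)
    have hle : U ⊓ s.inf (fun w => modCent U (cj w X) H₀) ≤ C := by
      rintro y ⟨hyU, hys⟩
      have hys' : ∀ w ∈ W, w ≠ 1 → y ∈ modCent U (cj w X) H₀ := fun w hw hw1 =>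
        Finset.inf_le (f := fun w => modCent U (cj w X) H₀)
          (Finset.mem_erase.2 ⟨hw1, (Set.Finite.mem_toFinset _).2 hw⟩) hys
      refine hall' y hyU fun w hw => ?_
      by_cases hw1 : w = 1
      swap
      · exact hys' w hw hw1
      -- the product of the conjugates of `y` lies in `C`
      have hCn : (C.subgroupOf U).Normal := ⟨fun c hc u => D.conj_mem_C (le_normalizer u.2) hc⟩
      letI : CommGroup (U ⧸ C.subgroupOf U) :=
        { (inferInstance : Group (U ⧸ C.subgroupOf U)) with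
          mul_comm := fun a b => by
            induction a using QuotientGroup.induction_on with | _ a => ?_
            induction b using QuotientGroup.induction_on with | _ b => ?_
            rw [← QuotientGroup.mk_mul, ← QuotientGroup.mk_mul, QuotientGroup.eq,
              show (a * b)⁻¹ * (b * a) = ⁅b⁻¹, a⁻¹⁆ by group]
            exact D.comm_mem_C (U.inv_mem b.2) (U.inv_mem a.2) }
      haveI : Fintype W := Fintype.ofFinite W
      have hconj : ∀ v : W, ∀ u : U, (v : L)⁻¹ * u * v ∈ U := fun v u => by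
        simpa using (mem_normalizer_iff.1 (D.W_normalizes (W.inv_mem v.2)) u).1 u.2
      let cv : W → (U →* U) := fun v =>
        { toFun := fun u => ⟨_, hconj v u⟩
          map_one' := Subtype.ext (by simp)
          map_mul' := fun a b => Subtype.ext (by simp [mul_assoc]) }
      let π := QuotientGroup.mk' (C.subgroupOf U)
      let cq : W → (U ⧸ C.subgroupOf U →* U ⧸ C.subgroupOf U) := fun v =>
        QuotientGroup.map _ _ (cv v) fun c hc => by
          show (v : L)⁻¹ * c * v ∈ C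
          simpa using D.conj_mem_C (inv_mem (D.W_normalizes v.2)) hc
      set y' : U := ⟨y, hyU⟩
      set P := ∏ v : W, π (cv v y') with hP
      have hPfix : ∀ v : W, cq v P = P := fun v => by
        rw [hP, map_prod]
        refine Fintype.prod_equiv (Equiv.mulRight v) _ _ fun x => ?_
        show π (cv v (cv x y')) = π (cv (x * v) y')
        congr 1
        exact Subtype.ext (by simp [cv, mul_assoc])
      obtain ⟨z, hz⟩ := QuotientGroup.mk'_surjective (C.subgroupOf U) P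
      have hP1 : P = 1 := by
        rw [← hz]
        refine (QuotientGroup.eq_one_iff _).2 (D.mem_C_of_fixed z.2 fun v hv => ?_)
        have := hPfix ⟨v⁻¹, W.inv_mem hv⟩
        rw [← hz] at this
        have h' : ((cv ⟨v⁻¹, W.inv_mem hv⟩ z)⁻¹ * z : U) ∈ C.subgroupOf U := QuotientGroup.eq.1 this
        have h'' : (v * z * v⁻¹)⁻¹ * z ∈ C := by simpa [cv, mem_subgroupOf, mul_assoc] using h'
        have h3 := D.conj_mem_C (le_normalizer z.2) h''
        rw [show (z : L) * ((v * z * v⁻¹)⁻¹ * z) * (z : L)⁻¹ = ⁅v, (z : L)⁆⁻¹ by group] at h3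
        exact C.inv_mem_iff.1 h3
      rw [hP, ← Finset.mul_prod_erase _ _ (Finset.mem_univ (1 : W))] at hP1
      have himg : ∏ v ∈ Finset.univ.erase (1 : W), π (cv v y') ∈ (U₁.subgroupOf U).map π := by
        refine Subgroup.prod_mem _ fun v hv => mem_map_of_mem π ?_
        show (v : L)⁻¹ * y * v ∈ U₁
        obtain ⟨hv1, -⟩ := Finset.mem_erase.1 hv
        have h := hys' v v.2 fun e => hv1 (Subtype.ext e)
        rw [hmap v v.2] at h
        obtain ⟨u, hu, hue⟩ := h
        rw [← hue]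
        simpa [mul_assoc] using hu
      have h1 : π (cv 1 y') ∈ (U₁.subgroupOf U).map π := by
        rw [eq_inv_of_mul_eq_one_left hP1]
        exact Subgroup.inv_mem _ himg
      obtain ⟨u, hu, hue⟩ := h1
      have hy1 : y ∈ U₁ := by
        have hq : u⁻¹ * cv 1 y' ∈ C.subgroupOf U := QuotientGroup.eq.1 hue
        have h := U₁.mul_mem (mem_subgroupOf.1 hu) (hCU₁ hq)
        simpa [cv, y'] using h
      rw [hw1, hmap 1 W.one_mem]
      exact ⟨y, hy1, by simp⟩
    have hbound : ∀ t : Finset L, (∀ w ∈ t, w ∈ W) →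
        (U ⊓ t.inf fun w => modCent U (cj w X) H₀).relIndex U ≤ U₁.relIndex U ^ t.card := by
      intro t
      induction t using Finset.induction_on with
      | empty => intro _; simp
      | @insert w t hwt ih =>
        intro ht
        rw [Finset.inf_insert, Finset.card_insert_of_notMem hwt, pow_succ, inf_left_comm, mul_comm]
        exact relIndex_inf_le.trans (Nat.mul_le_mul (hidx w (ht w (Finset.mem_insert_self w t))).le
          (ih fun v hv => ht v (Finset.mem_insert_of_mem hv)))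
    rw [← hscard]
    exact (Nat.le_of_dvd (Nat.pos_of_ne_zero FiniteIndex.index_ne_zero)
      (relIndex_dvd_of_le_left U hle)).trans (hbound s hsW)

section Galois

variable (hgal : NineGalois H U H₀)
include hgal

/-- Peterfalvi (9.7a): `U / C` acts fixed-point-freely on the factor. -/
theorem galois_free {x : L} (hx : x ∈ U) (hxC : x ∉ C) {h : L} (hh : h ∈ H)
    (hc : ⁅x, h⁆ ∈ H₀) : h ∈ H₀ := by
  set f := QuotientGroup.mk' H₀ with hf
  set Z := H ⊓ (centralizer ({f x} : Set (L ⧸ H₀))).comap f with hZ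
  have hmem : ∀ z, z ∈ Z ↔ z ∈ H ∧ ⁅x, z⁆ ∈ H₀ := fun z => by
    rw [hZ, mem_inf, mem_comap, mem_centralizer_singleton_iff, eq_comm,
      ← commutatorElement_eq_one_iff_mul_comm, ← map_commutatorElement]
    exact and_congr Iff.rfl (QuotientGroup.eq_one_iff _)
  have hZ₀ : H₀ ≤ Z := fun z hz => (hmem z).2
    ⟨D.H₀_le hz, H₀.mul_mem (hH₀.conj_mem z hz x) (H₀.inv_mem hz)⟩
  rcases hgal Z hZ₀ inf_le_left (le_normalizer_of_forall_conj fun u hu z hz => by
    rw [hmem] at hz ⊢
    refine ⟨D.H_normal.conj_mem z hz.1 u, ?_⟩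
    have hc' : x⁻¹ * (u⁻¹ * x * u) ∈ C := by
      rw [show x⁻¹ * (u⁻¹ * x * u) = ⁅x⁻¹, u⁻¹⁆ by group]
      exact D.comm_mem_C (U.inv_mem hx) (U.inv_mem hu)
    set c := x⁻¹ * (u⁻¹ * x * u) with hcdef
    rw [D.C_eq] at hc'
    rw [show ⁅x, u * z * u⁻¹⁆ = u * (x * ⁅c, z⁆ * x⁻¹ * ⁅x, z⁆) * u⁻¹ by rw [hcdef]; group]
    exact hH₀.conj_mem _ (H₀.mul_mem (hH₀.conj_mem _ ((mem_modCent.1 hc').2 z hz.1) x) hz.2) u) with e | e
  · exact e.le ((hmem h).2 ⟨hh, hc⟩)
  · refine absurd ?_ hxC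
    rw [D.C_eq]
    exact mem_modCent.2 ⟨hx, fun z hz => ((hmem z).1 (e.ge hz)).2⟩

open scoped IsMulCommutative in
/-- Peterfalvi (9.7a): `U / C` is cyclic, of order dividing `(p ^ q - 1) / (p - 1)` and prime to
`p - 1`. -/
theorem galois_facts :
    (∃ u₀ ∈ U, ∀ u ∈ U, ∃ n : ℕ, (u₀ ^ n)⁻¹ * u ∈ C) ∧ (C.relIndex U).Coprime (p - 1) ∧
      C.relIndex U ∣ (p ^ q - 1) / (p - 1) := by
  classical
  haveI := Fact.mk D.p_prime
  haveI := D.H_normal
  set f := QuotientGroup.mk' H₀ with hf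
  haveI : IsMulCommutative (H.map f) := ⟨⟨by
    rintro ⟨_, a, ha, rfl⟩ ⟨_, b, hb, rfl⟩
    exact Subtype.ext (D.mul_comm_factor ha hb)⟩⟩
  set V := (H.map f) with hV
  have hexp : ∀ v : V, v ^ p = 1 := by
    rintro ⟨_, a, ha, rfl⟩
    exact Subtype.ext (by
      show f a ^ p = 1
      rw [← map_pow]; exact (QuotientGroup.eq_one_iff _).2 (D.factor_pow a ha))
  have hord : ∀ v : V, v ≠ 1 → orderOf v = p := fun v hv => orderOf_eq_prime (hexp v) hv
  -- the scalars
  have hpow_mul : ∀ (a b : (ZMod p)ˣ) (v : V),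
      (v ^ (b : ZMod p).val) ^ (a : ZMod p).val = v ^ ((a * b : (ZMod p)ˣ) : ZMod p).val := by
    intro a b v
    rw [← pow_mul, pow_eq_pow_mod _ (hexp v), Units.val_mul, ZMod.val_mul, mul_comm (b : ZMod p).val]
  have hv1 : ∀ v : V, v ^ ((1 : (ZMod p)ˣ) : ZMod p).val = v := fun v => by
    rw [Units.val_one, ZMod.val_one, pow_one]
  let sc : (ZMod p)ˣ →* MulAut V :=
    { toFun := fun a =>
        { toFun := fun v => v ^ (a : ZMod p).val
          invFun := fun v => v ^ ((a⁻¹ : (ZMod p)ˣ) : ZMod p).val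
          left_inv := fun v => by simp only [hpow_mul, inv_mul_cancel, hv1]
          right_inv := fun v => by simp only [hpow_mul, mul_inv_cancel, hv1]
          map_mul' := fun v w => mul_pow v w _ }
      map_one' := MulEquiv.ext hv1
      map_mul' := fun a b => MulEquiv.ext fun v => (hpow_mul a b v).symm }
  have hUH := D.U_le_normalizer_H
  set A := (actMod H₀ hUH).range with hA
  have hAC : ∀ (a : A) (b : (ZMod p)ˣ), Commute (A.subtype a) (sc b) := fun a b =>
    MulEquiv.ext fun v => map_pow (a : MulAut V) v _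
  let Φ : A × (ZMod p)ˣ →* MulAut V := MonoidHom.noncommCoprod A.subtype sc hAC
  have hVnt : Nontrivial V := by
    refine Finite.one_lt_card_iff_nontrivial.1 ?_
    rw [D.card_factor]
    exact Nat.one_lt_pow D.q_prime.ne_zero D.p_prime.one_lt
  -- an element acting as a scalar on a non-identity element is trivial
  have hfree : Frobenius.Fpf.IsFpf Φ := by
    rintro ⟨⟨_, u, rfl⟩, b⟩ hne v hv
    by_contra hv'
    apply hne
    obtain ⟨_, h, hh, rfl⟩ := v
    have h1 : actMod H₀ hUH u (⟨f h, mem_map_of_mem f hh⟩ : V) =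
        (⟨f h, mem_map_of_mem f hh⟩ : V) ^ ((b⁻¹ : (ZMod p)ˣ) : ZMod p).val := by
      have h0 : actMod H₀ hUH u (sc b ⟨f h, mem_map_of_mem f hh⟩) = ⟨f h, mem_map_of_mem f hh⟩ := hv
      rw [show sc b ⟨f h, mem_map_of_mem f hh⟩ =
        (⟨f h, mem_map_of_mem f hh⟩ : V) ^ (b : ZMod p).val from rfl, map_pow] at h0
      conv_rhs => rw [← h0, hpow_mul, inv_mul_cancel, hv1]
    set k := ((b⁻¹ : (ZMod p)ˣ) : ZMod p).val with hk
    -- the eigenspace is everything
    let Z : Subgroup L :=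
      { carrier := {z | z ∈ H ∧ f u * f z * (f u)⁻¹ = f z ^ k}
        one_mem' := ⟨H.one_mem, by simp⟩
        mul_mem' := fun {x y} hx hy => ⟨H.mul_mem hx.1 hy.1, by
          rw [map_mul, (show Commute (f x) (f y) from D.mul_comm_factor hx.1 hy.1).mul_pow, ← hx.2,
            ← hy.2]
          group⟩
        inv_mem' := fun {x} hx => ⟨H.inv_mem hx.1, by
          rw [map_inv, inv_pow, ← hx.2]; group⟩ }
    have hZ₀ : H₀ ≤ Z := fun z hz => ⟨D.H₀_le hz, by
      rw [hf, QuotientGroup.mk'_apply, QuotientGroup.mk'_apply, (QuotientGroup.eq_one_iff z).2 hz]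
      simp⟩
    have hUZ : U ≤ normalizer (Z : Set L) := le_normalizer_of_forall_conj fun t ht z hz => by
      refine ⟨D.H_normal.conj_mem z hz.1 t, ?_⟩
      have hc : ⁅(u : L)⁻¹, t⁻¹⁆ ∈ C := D.comm_mem_C (U.inv_mem u.2) (U.inv_mem ht)
      rw [D.C_eq] at hc
      set c := ⁅(u : L)⁻¹, t⁻¹⁆ with hcdef
      have hcz : f c * f z * (f c)⁻¹ = f z := by
        rw [mul_inv_eq_iff_eq_mul, ← commutatorElement_eq_one_iff_mul_comm, ← map_commutatorElement]
        exact (QuotientGroup.eq_one_iff _).2 ((mem_modCent.1 hc).2 z hz.1)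
      have h2 : (u : L) * (t * z * t⁻¹) * (u : L)⁻¹ = t * (u * (c * z * c⁻¹) * (u : L)⁻¹) * t⁻¹ := by
        rw [hcdef]; group
      calc f u * f (t * z * t⁻¹) * (f u)⁻¹ = f ((u : L) * (t * z * t⁻¹) * (u : L)⁻¹) := by
            simp only [map_mul, map_inv]
        _ = f t * (f u * (f c * f z * (f c)⁻¹) * (f u)⁻¹) * (f t)⁻¹ := by
            rw [h2]; simp only [map_mul, map_inv]
        _ = f (t * z * t⁻¹) ^ k := by rw [hcz, hz.2, ← conj_pow, map_mul, map_mul, map_inv]
    have hZH : Z = H := by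
      refine (hgal Z hZ₀ (fun z hz => hz.1) hUZ).resolve_left fun e => hv' (Subtype.ext ?_)
      have hhZ : h ∈ Z := ⟨hh, congrArg Subtype.val h1⟩
      rw [e] at hhZ
      exact (QuotientGroup.eq_one_iff _).2 hhZ
    have huC : (u : L) ∈ C := by
      refine D.mem_C_of_fixed u.2 fun w hw => ?_
      have hcU : ⁅w, (u : L)⁆ ∈ U := by
        rw [commutatorElement_def]
        exact U.mul_mem ((mem_normalizer_iff.1 (D.W_normalizes hw) u).1 u.2) (U.inv_mem u.2)
      rw [D.C_eq]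
      refine mem_modCent.2 ⟨hcU, fun z₁ hz₁ => (QuotientGroup.eq_one_iff _).1 ?_⟩
      rw [← QuotientGroup.mk'_apply, ← hf, map_commutatorElement (g₂ := z₁),
        commutatorElement_eq_one_iff_mul_comm]
      have keyall : ∀ z ∈ H, f (w * u * w⁻¹) * f z * (f (w * u * w⁻¹))⁻¹ =
          f (u : L) * f z * (f (u : L))⁻¹ := fun z hz => by
        have hz' := (hZH.ge (D.H_normal.conj_mem z hz w⁻¹)).2
        rw [(hZH.ge hz).2]
        calc f (w * u * w⁻¹) * f z * (f (w * u * w⁻¹))⁻¹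
            = f w * (f u * f (w⁻¹ * z * w⁻¹⁻¹) * (f u)⁻¹) * (f w)⁻¹ := by
              simp only [map_mul, map_inv]; group
          _ = f w * f (w⁻¹ * z * w⁻¹⁻¹) ^ k * (f w)⁻¹ := by rw [hz']
          _ = f z ^ k := by rw [← conj_pow]; simp only [map_mul, map_inv]; group
      have key := keyall ((u : L)⁻¹ * z₁ * u) (by
        simpa using D.H_normal.conj_mem z₁ hz₁ (u : L)⁻¹)
      rw [map_mul f ((u : L)⁻¹ * z₁) u, map_mul f (u : L)⁻¹ z₁, map_inv f (u : L)] at key
      rw [commutatorElement_def, map_mul f (w * u * w⁻¹) ((u : L)⁻¹), map_inv f (u : L)]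
      set α := f (w * u * w⁻¹)
      set β := f (u : L)
      calc α * β⁻¹ * f z₁ = α * (β⁻¹ * f z₁ * β) * α⁻¹ * α * β⁻¹ := by group
        _ = β * (β⁻¹ * f z₁ * β) * β⁻¹ * α * β⁻¹ := by rw [key]
        _ = f z₁ * (α * β⁻¹) := by group
    have hu1 : actMod H₀ hUH u = 1 := by
      rw [← MonoidHom.mem_ker, ker_actMod, mem_subgroupOf, ← D.C_eq]; exact huC
    have hb : b = 1 := by
      rw [hu1, MulAut.one_apply] at h1
      have h3 : k ≡ 1 [MOD p] := by
        have := pow_eq_pow_iff_modEq.1 (h1.symm.trans (pow_one _).symm)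
        rwa [hord _ hv'] at this
      have : ((b⁻¹ : (ZMod p)ˣ) : ZMod p) = 1 := by
        rw [← ZMod.natCast_zmod_val ((b⁻¹ : (ZMod p)ˣ) : ZMod p), ← hk,
          (ZMod.natCast_eq_natCast_iff k 1 p).2 h3, Nat.cast_one]
      exact inv_eq_one.1 (Units.ext this)
    exact Prod.ext (Subtype.ext hu1) hb
  have hUcomm : ∀ x y : U, Commute (actMod H₀ hUH x) (actMod H₀ hUH y) := fun x y => by
    rw [commute_iff_eq, ← map_mul, ← map_mul, ← inv_mul_eq_one, ← map_inv, ← map_mul,
      ← MonoidHom.mem_ker, ker_actMod, mem_subgroupOf, ← D.C_eq,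
      show (x * y)⁻¹ * (y * x) = ⁅y⁻¹, x⁻¹⁆ by group]
    exact D.comm_mem_C (U.inv_mem y.2) (U.inv_mem x.2)
  have hAcomm : ∀ x y : A, Commute x y := by
    rintro ⟨_, x, rfl⟩ ⟨_, y, rfl⟩
    exact Subtype.ext (hUcomm x y)
  haveI hcyc : IsCyclic (A × (ZMod p)ˣ) :=
    Frobenius.Fpf.isCyclic_of_comm hfree fun x y => Prod.ext (hAcomm x.1 y.1) (mul_comm _ _)
  have hAcard : Nat.card A = C.relIndex U := by
    rw [hA, ← Subgroup.index_ker, ker_actMod, ← D.C_eq]; rfl
  have hdvd : Nat.card (A × (ZMod p)ˣ) ∣ p ^ q - 1 := by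
    rw [← D.card_factor]
    exact Singer.card_dvd_pred Φ fun g v hv hg => by_contra fun hg1 => hv (hfree g hg1 v hg)
  rw [Nat.card_prod, hAcard, Nat.card_eq_fintype_card (α := (ZMod p)ˣ), ZMod.card_units] at hdvd
  have hcop : (C.relIndex U).Coprime (p - 1) := by
    rw [← hAcard, ← ZMod.card_units p, ← Nat.card_eq_fintype_card (α := (ZMod p)ˣ)]
    exact coprime_card_of_isCyclic_prod A (ZMod p)ˣ
  refine ⟨?_, hcop, Nat.dvd_div_of_mul_dvd (by rwa [mul_comm])⟩
  haveI : IsCyclic A := isCyclic_of_surjective (MonoidHom.fst A (ZMod p)ˣ) fun a => ⟨(a, 1), rfl⟩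
  obtain ⟨g, hg⟩ := IsCyclic.exists_monoid_generator (α := A)
  obtain ⟨u₀, hu₀⟩ := g.2
  refine ⟨u₀, u₀.2, fun u hu => ?_⟩
  obtain ⟨n, hn⟩ := hg ⟨_, ⟨⟨u, hu⟩, rfl⟩⟩
  refine ⟨n, ?_⟩
  have h1 : actMod H₀ hUH ((u₀ ^ n)⁻¹ * ⟨u, hu⟩) = 1 := by
    rw [map_mul, map_inv, map_pow, hu₀, inv_mul_eq_one]
    exact congrArg Subtype.val hn
  rw [← MonoidHom.mem_ker, ker_actMod, mem_subgroupOf, ← D.C_eq] at h1
  simpa using h1

end Galois

end Nine

end Cfsg.Agent.OddOrder.PF
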