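import Cfsg.Agent.Lib.OddOrder.PF.S9_Data
import Cfsg.Agent.Lib.OddOrder.FittingLocal
import Cfsg.Agent.Lib.Coprime.Quotient
import Cfsg.Agent.Lib.Components.Fitting
import Cfsg.Agent.Lib.Subnormal.SylowJoin
import Cfsg.Agent.S1545

/-!
Peterfalvi (9.1)-(9.3): the chief factor `H / H₀` of a subgroup of type P with `U` non-trivial. It has
order `p ^ q`, `W₁` has exactly `p` fixed points on it, and its centraliser `C` in `U` contains the
derived subgroup of `U` and is proper.
-/

set_option autoImplicit false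
set_option linter.unusedSectionVars false
set_option linter.style.haveILetI false

namespace Cfsg.Agent.OddOrder.PF

open Cfsg Cfsg.Agent.OddOrder Subgroup
open scoped commutatorElement

section Lemmas

variable {L : Type*} [Group L]

theorem card_map_eq_relIndex (N : Subgroup L) [N.Normal] (S : Subgroup L) :
    Nat.card (S.map (QuotientGroup.mk' N)) = N.relIndex S := by
  let f : S →* L ⧸ N := (QuotientGroup.mk' N).comp S.subtype
  have hk : f.ker = N.subgroupOf S := by
    ext x; exact QuotientGroup.eq_one_iff (x : L)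
  have hr : f.range = S.map (QuotientGroup.mk' N) := by
    ext x
    exact ⟨fun ⟨y, hy⟩ => ⟨y, y.2, hy⟩, fun ⟨y, hy, h⟩ => ⟨⟨y, hy⟩, h⟩⟩
  rw [← hr, ← Subgroup.index_ker, hk]
  rfl

/-- In a finite nilpotent group a subgroup supplementing the derived subgroup is everything. -/
theorem eq_top_of_sup_commutator_eq_top {P : Type*} [Group P] [Finite P] [Group.IsNilpotent P]
    {S : Subgroup P} (h : S ⊔ _root_.commutator P = ⊤) : S = ⊤ := by
  by_contra hne
  obtain ⟨M, hM, hSM⟩ := (eq_top_or_exists_le_coatom S).resolve_left hne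
  have hMn : M.Normal := NormalizerCondition.normal_of_coatom M Group.normalizerCondition_of_isNilpotent hM
  refine hM.1 (top_le_iff.1 (h ▸ sup_le hSM ?_))
  have : Group.IsNilpotent (P ⧸ M) := Group.nilpotent_of_surjective _ (QuotientGroup.mk'_surjective M)
  have htop : Subgroup.center (P ⧸ M) = ⊤ := by
    haveI : Nontrivial (P ⧸ M) := QuotientGroup.nontrivial_iff.2 hM.1
    have hbot := Group.IsNilpotent.center_ne_bot (G := P ⧸ M)
    have hle : M ≤ (Subgroup.center (P ⧸ M)).comap (QuotientGroup.mk' M) := fun x hx => by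
      simp [(QuotientGroup.eq_one_iff x).2 hx]
    rcases hM.le_iff.1 hle with h' | h'
    · refine top_le_iff.1 fun x _ => ?_
      obtain ⟨y, rfl⟩ := QuotientGroup.mk'_surjective M x
      exact (h' ▸ mem_top y : y ∈ (Subgroup.center (P ⧸ M)).comap (QuotientGroup.mk' M))
    · refine absurd ((Subgroup.eq_bot_iff_forall _).2 fun x hx => ?_) hbot
      obtain ⟨y, rfl⟩ := QuotientGroup.mk'_surjective M x
      exact (QuotientGroup.eq_one_iff y).2 (h'.le (show y ∈ (Subgroup.center (P ⧸ M)).comap _ from hx))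
  rw [_root_.commutator_def, Subgroup.commutator_le]
  intro a _ b _
  refine (QuotientGroup.eq_one_iff _).1 ?_
  rw [← QuotientGroup.mk'_apply, map_commutatorElement, commutatorElement_eq_one_iff_mul_comm]
  exact (Subgroup.mem_center_iff.1 (htop ▸ mem_top (QuotientGroup.mk' M b)) _)

variable [Finite L]

/-- A group acting coprimely on a nilpotent group and trivially modulo the derived subgroup acts
trivially. -/
theorem le_centralizer_of_trivial_mod_derived {U H : Subgroup L} [H.Normal]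
    (hcop : (Nat.card U).Coprime (Nat.card H)) (hnil : Group.IsNilpotent H)
    (h : ∀ u ∈ U, ∀ x ∈ H, ⁅u, x⁆ ∈ ⁅H, H⁆) : U ≤ centralizer (H : Set L) := by
  haveI := hnil
  haveI : (⁅H, H⁆ : Subgroup L).Normal := Subgroup.commutator_normal H H
  have hUH : U ≤ normalizer (H : Set L) := by
    rw [normalizer_eq_top_iff.2 ‹H.Normal›]; exact le_top
  set S := H ⊓ centralizer (U : Set L) with hS
  have hfix := Coprime.map_mk'_inf_centralizer ⁅H, H⁆ hUH hcop (Or.inr inferInstance)
  have hHS : H ≤ S ⊔ ⁅H, H⁆ := by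
    intro x hx
    have hx' : QuotientGroup.mk' ⁅H, H⁆ x ∈ S.map (QuotientGroup.mk' ⁅H, H⁆) := by
      rw [hS, hfix]
      refine ⟨mem_map_of_mem _ hx, mem_centralizer_iff.2 ?_⟩
      rintro _ ⟨u, hu, rfl⟩
      rw [← commutatorElement_eq_one_iff_mul_comm, ← map_commutatorElement]
      exact (QuotientGroup.eq_one_iff _).2 (h u hu x hx)
    obtain ⟨s, hs, hsx⟩ := hx'
    have hmem : s⁻¹ * x ∈ ⁅H, H⁆ := QuotientGroup.eq.1 hsx
    have := Subgroup.mul_mem (S ⊔ ⁅H, H⁆) (mem_sup_left hs) (mem_sup_right hmem)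
    rwa [mul_inv_cancel_left] at this
  have htop : S.subgroupOf H = ⊤ := by
    refine eq_top_of_sup_commutator_eq_top (top_le_iff.1 fun x _ => ?_)
    have h1 : (⁅H, H⁆ : Subgroup L).subgroupOf H = _root_.commutator H := by
      rw [← map_subtype_commutator]
      exact comap_map_eq_self_of_injective H.subtype_injective _
    rw [← h1, ← subgroupOf_sup inf_le_left (commutator_le_self H)]
    exact hHS x.2
  intro u hu
  refine mem_centralizer_iff.2 fun x hx => ?_
  exact (mem_centralizer_iff.1 ((subgroupOf_eq_top.1 htop hx).2) u hu).symm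

end Lemmas

section Existence

variable {L : Type*} [Group L] [Finite L]

/-- The chief factor of Peterfalvi (9.1)-(9.3) in an abstract configuration. -/
theorem exists_nine_of {K H U W : Subgroup L} {q : ℕ} (hq : q.Prime) (hodd : Odd (Nat.card L))
    (hKn : K.Normal) (hHn : H.Normal) (hW : Nat.card W = q) (hKW : K ⊓ W = ⊥) (hKW' : K ⊔ W = ⊤)
    (hKq : (Nat.card K).Coprime q) (hHall : (Nat.card H).Coprime H.index) (hHU : H ⊓ U = ⊥)
    (hHU' : H ⊔ U = K) (hWU : W ≤ normalizer (U : Set L))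
    (hfpf : ∀ w ∈ W, w ≠ 1 → ∀ u ∈ U, w * u = u * w → u = 1) (hnil : Group.IsNilpotent H)
    (hder : ⁅U, U⁆ ≤ centralizer (H : Set L)) (hnc : ¬ U ≤ centralizer (H : Set L))
    (hcyc : IsCyclic ↥(H ⊓ centralizer (W : Set L))) :
    ∃ (H₀ : Subgroup L) (_ : H₀.Normal) (p : ℕ), Nine K H U W H₀ (modCent U H H₀) p q := by
  classical
  haveI := hKn
  haveI := hHn
  haveI := hnil
  have hUK : U ≤ K := hHU' ▸ le_sup_right
  have hHK : H ≤ K := hHU' ▸ le_sup_left
  have hHUcop : (Nat.card H).Coprime (Nat.card U) := by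
    refine hHall.coprime_dvd_right ?_
    have h1 : H.relIndex U = Nat.card U := by
      rw [← inf_relIndex_right, hHU, relIndex_bot_left]
    exact h1 ▸ relIndex_dvd_index_of_normal H U
  -- the factor: maximal among the normal subgroups on whose factor `U` is non-trivial
  set P : Subgroup L → Prop := fun X => X.Normal ∧ ⁅H, H⁆ ≤ X ∧ X ≤ H ∧
    ¬ ∀ u ∈ U, ∀ h ∈ H, ⁅u, h⁆ ∈ X with hP
  have hP0 : P ⁅H, H⁆ := ⟨Subgroup.commutator_normal H H, le_rfl, commutator_le_self H, fun h =>
    hnc (le_centralizer_of_trivial_mod_derived hHUcop.symm hnil h)⟩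
  obtain ⟨X, ⟨hXn, hXc, hXH, hXU⟩, hXmax⟩ :
      ∃ X, P X ∧ ∀ Y, P Y → X ≤ Y → Y = X := by
    obtain ⟨X, hX, hmax⟩ := (Set.toFinite {X | P X}).exists_maximal ⟨_, hP0⟩
    exact ⟨X, hX, fun Y hY hle => le_antisymm (hmax hY hle) hle⟩
  haveI := hXn
  have hnorm : ∀ S : Subgroup L, U ≤ normalizer (S : Set L) → W ≤ normalizer (S : Set L) →
      H ≤ normalizer (S : Set L) → S.Normal := fun S h1 h2 h3 => normalizer_eq_top_iff.1
    (top_le_iff.1 (by rw [← hKW', ← hHU']; exact sup_le (sup_le h3 h1) h2))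
  have hUH : U ≤ normalizer (H : Set L) := by rw [normalizer_eq_top_iff.2 hHn]; exact le_top
  have hWH : W ≤ normalizer (H : Set L) := by rw [normalizer_eq_top_iff.2 hHn]; exact le_top
  -- `U` has no fixed point on the factor
  set Z : Subgroup L := H ⊓ (centralizer ((U.map (QuotientGroup.mk' X) : Subgroup (L ⧸ X)) :
    Set (L ⧸ X))).comap (QuotientGroup.mk' X) with hZ
  have hmemZ : ∀ h, h ∈ Z ↔ h ∈ H ∧ ∀ u ∈ U, ⁅u, h⁆ ∈ X := by
    intro h
    simp only [hZ, mem_inf, mem_comap, mem_centralizer_iff, coe_map, Set.forall_mem_image,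
      SetLike.mem_coe]
    refine and_congr Iff.rfl (forall₂_congr fun u _ => ?_)
    rw [← QuotientGroup.eq_one_iff (N := X), ← QuotientGroup.mk'_apply, map_commutatorElement,
      commutatorElement_eq_one_iff_mul_comm]
  have hXZ : X ≤ Z := fun x hx => (hmemZ x).2 ⟨hXH hx, fun u _ =>
    X.mul_mem (hXn.conj_mem x hx u) (X.inv_mem hx)⟩
  have hZn : Z.Normal := by
    have hconjU : ∀ g : L, (∀ u ∈ U, g⁻¹ * u * g ∈ U) → ∀ z ∈ Z, g * z * g⁻¹ ∈ Z := by
      intro g hg z hz
      rw [hmemZ] at hz ⊢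
      refine ⟨hHn.conj_mem z hz.1 g, fun u hu => ?_⟩
      have := hXn.conj_mem _ (hz.2 _ (hg u hu)) g
      rwa [show g * ⁅g⁻¹ * u * g, z⁆ * g⁻¹ = ⁅u, g * z * g⁻¹⁆ by group] at this
    refine hnorm Z ?_ ?_ ?_
    · intro g hg
      refine mem_normalizer_iff.2 fun z => ⟨hconjU g (fun u hu =>
        U.mul_mem (U.mul_mem (U.inv_mem hg) hu) hg) z, fun h => ?_⟩
      have := hconjU g⁻¹ (fun u hu => U.mul_mem (U.mul_mem (U.inv_mem (U.inv_mem hg)) hu)
        (U.inv_mem hg)) _ h
      rwa [show g⁻¹ * (g * z * g⁻¹) * g⁻¹⁻¹ = z by group] at this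
    · intro g hg
      have h1 : ∀ g ∈ W, ∀ u ∈ U, g⁻¹ * u * g ∈ U := fun g hg u hu => by
        simpa using (mem_normalizer_iff.1 (hWU (W.inv_mem hg)) u).1 hu
      refine mem_normalizer_iff.2 fun z => ⟨hconjU g (h1 g hg) z, fun h => ?_⟩
      have := hconjU g⁻¹ (h1 _ (W.inv_mem hg)) _ h
      rwa [show g⁻¹ * (g * z * g⁻¹) * g⁻¹⁻¹ = z by group] at this
    · intro g hg
      refine mem_normalizer_iff.2 fun z => ?_
      have key : ∀ g ∈ H, ∀ z ∈ Z, g * z * g⁻¹ ∈ Z := fun g hg z hz => by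
        rw [show g * z * g⁻¹ = ⁅g, z⁆ * z by group]
        exact Z.mul_mem (hXZ (hXc (commutator_mem_commutator hg ((hmemZ z).1 hz).1))) hz
      refine ⟨key g hg z, fun h => ?_⟩
      have := key g⁻¹ (H.inv_mem hg) _ h
      rwa [show g⁻¹ * (g * z * g⁻¹) * g⁻¹⁻¹ = z by group] at this
  have hfixX : ∀ h ∈ H, (∀ u ∈ U, ⁅u, h⁆ ∈ X) → h ∈ X := by
    have hZX : Z = X := by
      by_contra hne
      have hZP : ¬ P Z := fun h => hne (hXmax Z h hXZ)
      have htriv : ∀ u ∈ U, ∀ h ∈ H, ⁅u, h⁆ ∈ Z := by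
        by_contra h
        exact hZP ⟨hZn, hXc.trans hXZ, inf_le_left, h⟩
      set f := QuotientGroup.mk' X
      have hcop' : (Nat.card (U.map f)).Coprime (Nat.card (H.map f)) :=
        (hHUcop.symm.coprime_dvd_left (U.card_map_dvd f)).coprime_dvd_right (H.card_map_dvd f)
      haveI : Group.IsNilpotent (H.map f) :=
        Group.nilpotent_of_surjective _ (f.subgroupMap_surjective H)
      have hUH' : U.map f ≤ normalizer ((H.map f : Subgroup (L ⧸ X)) : Set (L ⧸ X)) := by
        rintro _ ⟨u, hu, rfl⟩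
        haveI : (H.map f).Normal := hHn.map f (QuotientGroup.mk'_surjective X)
        rw [normalizer_eq_top_iff.2 inferInstance]
        exact mem_top _
      have hcent := Coprime.le_centralizer_of_series (N := Z.map f) hUH' hcop' (Or.inr inferInstance)
        (by
          rw [commutator_le]
          rintro _ ⟨h, hh, rfl⟩ _ ⟨u, hu, rfl⟩
          rw [← map_commutatorElement, ← commutatorElement_inv, map_inv]
          exact Subgroup.inv_mem _ (mem_map_of_mem f (htriv u hu h hh)))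
        (by
          rintro _ ⟨u, hu, rfl⟩
          refine mem_centralizer_iff.2 ?_
          rintro _ ⟨z, hz, rfl⟩
          exact (mem_centralizer_iff.1 hz.2 _ (mem_map_of_mem f hu)).symm)
      refine hXU fun u hu h hh => (QuotientGroup.eq_one_iff _).1 ?_
      rw [← QuotientGroup.mk'_apply, map_commutatorElement, commutatorElement_eq_one_iff_mul_comm]
      exact (mem_centralizer_iff.1 (hcent (mem_map_of_mem f hu)) _ (mem_map_of_mem f hh)).symm
    intro h hh hu
    exact hZX ▸ (hmemZ h).2 ⟨hh, hu⟩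
  -- a chief factor
  have hchief : ∀ Y : Subgroup L, Y.Normal → X ≤ Y → Y ≤ H → Y = X ∨ Y = H := by
    intro Y hYn hXY hYH
    refine or_iff_not_imp_left.2 fun hne => le_antisymm hYH ?_
    haveI := hYn
    have htriv : ∀ u ∈ U, ∀ h ∈ H, ⁅u, h⁆ ∈ Y := by
      by_contra h
      exact hne (hXmax Y ⟨hYn, hXc.trans hXY, hYH, h⟩ hXY)
    intro h hh
    have h' : QuotientGroup.mk' Y h ∈ (H ⊓ centralizer (U : Set L)).map (QuotientGroup.mk' Y) := by
      rw [Coprime.map_mk'_inf_centralizer Y hUH hHUcop.symm (Or.inr inferInstance)]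
      refine ⟨mem_map_of_mem _ hh, mem_centralizer_iff.2 ?_⟩
      rintro _ ⟨u, hu, rfl⟩
      rw [← commutatorElement_eq_one_iff_mul_comm, ← map_commutatorElement]
      exact (QuotientGroup.eq_one_iff _).2 (htriv u hu h hh)
    obtain ⟨s, ⟨hsH, hsU⟩, hsh⟩ := h'
    have hsX : s ∈ X := hfixX s hsH fun u hu => by
      rw [commutatorElement_eq_one_iff_mul_comm.2 (mem_centralizer_iff.1 hsU u hu)]
      exact X.one_mem
    have := Y.mul_mem (hXY hsX) (QuotientGroup.eq.1 hsh)
    rwa [mul_inv_cancel_left] at this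
  set f := QuotientGroup.mk' X with hf
  -- exponent `p`
  have hne : X.relIndex H ≠ 1 := fun h => hXU fun u hu x hx =>
    relIndex_eq_one.1 h (H.mul_mem (hHn.conj_mem x hx u) (H.inv_mem hx))
  have hcard : Nat.card (H.map f) = X.relIndex H := card_map_eq_relIndex X H
  obtain ⟨p, hp, hpd⟩ := Nat.exists_prime_and_dvd hne
  haveI := Fact.mk hp
  have hcomm : ∀ a ∈ H, ∀ b ∈ H, f a * f b = f b * f a := fun a ha b hb => by
    rw [← commutatorElement_eq_one_iff_mul_comm, ← map_commutatorElement]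
    exact (QuotientGroup.eq_one_iff _).2 (hXc (commutator_mem_commutator ha hb))
  let Y : Subgroup L :=
    { carrier := {h | h ∈ H ∧ h ^ p ∈ X}
      one_mem' := ⟨H.one_mem, by rw [one_pow]; exact X.one_mem⟩
      mul_mem' := fun {a b} ha hb => ⟨H.mul_mem ha.1 hb.1, (QuotientGroup.eq_one_iff _).1 (by
        rw [← QuotientGroup.mk'_apply, ← hf, map_pow, map_mul, Commute.mul_pow (hcomm a ha.1 b hb.1),
          ← map_pow, ← map_pow, hf, QuotientGroup.mk'_apply, QuotientGroup.mk'_apply,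
          (QuotientGroup.eq_one_iff _).2 ha.2, (QuotientGroup.eq_one_iff _).2 hb.2, one_mul])⟩
      inv_mem' := fun {a} ha => ⟨H.inv_mem ha.1, by rw [inv_pow]; exact X.inv_mem ha.2⟩ }
  have hYn : Y.Normal := ⟨fun h hh g => ⟨hHn.conj_mem h hh.1 g, by
    rw [conj_pow]; exact hXn.conj_mem _ hh.2 g⟩⟩
  have hYX : Y ≠ X := by
    obtain ⟨z, hz⟩ := exists_prime_orderOf_dvd_card' p (G := H.map f) (hcard ▸ hpd)
    obtain ⟨h, hh, hzh⟩ := z.2
    intro e
    have hhY : h ∈ Y := ⟨hh, (QuotientGroup.eq_one_iff _).1 (by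
      rw [← QuotientGroup.mk'_apply, ← hf, map_pow, hzh, ← SubmonoidClass.coe_pow, ← hz,
        pow_orderOf_eq_one]; rfl)⟩
    rw [e] at hhY
    have : z = 1 := Subtype.ext (by rw [← hzh]; exact (QuotientGroup.eq_one_iff _).2 hhY)
    rw [this, orderOf_one] at hz
    exact hp.one_lt.ne hz
  have hYH := (hchief Y hYn (fun x hx => ⟨hXH hx, X.pow_mem hx p⟩) fun x hx => hx.1).resolve_left hYX
  have hpow : ∀ x ∈ H, x ^ p ∈ X := fun x hx => (hYH.ge hx).2
  have hpg : IsPGroup p (H.map f) := by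
    rintro ⟨_, h, hh, rfl⟩
    refine ⟨1, Subtype.ext ?_⟩
    show f h ^ p ^ 1 = 1
    rw [pow_one, ← map_pow]
    exact (QuotientGroup.eq_one_iff _).2 (hpow h hh)
  obtain ⟨n, hn⟩ := hpg.exists_card_eq
  -- the fixed points of `W`
  set A := H ⊓ centralizer (W : Set L) with hA
  have hWcop : (Nat.card W).Coprime (Nat.card H) := by
    rw [hW]; exact (hKq.coprime_dvd_left (card_dvd_of_le hHK)).symm
  have hAmap : A.map f = H.map f ⊓ centralizer ((W.map f : Subgroup (L ⧸ X)) : Set (L ⧸ X)) :=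
    Coprime.map_mk'_inf_centralizer X hWH hWcop (Or.inr inferInstance)
  have hUfix : H.map f ⊓ centralizer ((U.map f : Subgroup (L ⧸ X)) : Set (L ⧸ X)) = ⊥ := by
    rw [← Coprime.map_mk'_inf_centralizer X hUH hHUcop.symm (Or.inr inferInstance), Subgroup.map_eq_bot_iff,
      QuotientGroup.ker_mk']
    rintro h ⟨hh, hc⟩
    exact hfixX h hh fun u hu => by
      rw [commutatorElement_eq_one_iff_mul_comm.2 (mem_centralizer_iff.1 hc u hu)]
      exact X.one_mem
  have hXU' : X ⊓ U = ⊥ := eq_bot_iff.2 ((inf_le_inf_right U hXH).trans hHU.le)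
  have hXW : X ⊓ W = ⊥ := eq_bot_iff.2 ((inf_le_inf_right W (hXH.trans hHK)).trans hKW.le)
  have hinj : ∀ u ∈ U, f u = 1 → u = 1 := fun u hu h => by
    have : u ∈ X ⊓ U := ⟨(QuotientGroup.eq_one_iff _).1 h, hu⟩
    rwa [hXU', mem_bot] at this
  have hsup : Nat.card ↥(U ⊔ W) ∣ Nat.card U * q := by
    have h1 := card_mul_index (U.subgroupOf (U ⊔ W))
    haveI : (U.subgroupOf (U ⊔ W)).Normal :=
      (normal_subgroupOf_iff_le_normalizer le_sup_left).2 (sup_le le_normalizer hWU)
    rw [Nat.card_congr (subgroupOfEquivOfLe (le_sup_left : U ≤ U ⊔ W)).toEquiv] at h1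
    rw [← h1]
    rw [← hW]
    refine mul_dvd_mul_left _ ?_
    show U.relIndex (U ⊔ W) ∣ Nat.card W
    rw [SylowJoin.relIndex_sup_of_le_normalizer hWU]
    exact relIndex_dvd_card U W
  have hcopUW : (Nat.card (H.map f)).Coprime (Nat.card ↥(U.map f ⊔ W.map f)) := by
    rw [← Subgroup.map_sup]
    refine (Nat.Coprime.coprime_dvd_left (H.card_map_dvd f) ?_).coprime_dvd_right
      (((U ⊔ W).card_map_dvd f).trans hsup)
    exact hHUcop.mul_right (hKq.coprime_dvd_left (card_dvd_of_le hHK))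
  have hform := S1545.result (U.map f) (W.map f) (H.map f)
    (fun h => hnc fun u hu => by
      rw [hinj u hu (by simpa [h] using mem_map_of_mem f hu)]
      exact one_mem _)
    (fun h => hq.one_lt.ne' (by
      rw [← hW, card_eq_one]
      refine eq_bot_iff.2 fun w hw => ?_
      have h1 : f w = 1 := by simpa [h] using mem_map_of_mem f hw
      have : w ∈ X ⊓ W := ⟨(QuotientGroup.eq_one_iff _).1 h1, hw⟩
      rwa [hXW] at this))
    (by
      rw [eq_bot_iff]
      rintro _ ⟨⟨u, hu, rfl⟩, w, hw, hwu⟩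
      have h1 : w⁻¹ * u ∈ X := QuotientGroup.eq.1 hwu
      have hwK : w ∈ K := by
        have := K.mul_mem (hUK hu) (K.inv_mem (hHK (hXH h1)))
        rwa [show u * (w⁻¹ * u)⁻¹ = w by group] at this
      have : w ∈ K ⊓ W := ⟨hwK, hw⟩
      rw [hKW, mem_bot] at this
      rw [mem_bot, ← hwu, this, map_one])
    (by
      rintro _ ⟨w, hw, rfl⟩ _ ⟨u, hu, rfl⟩
      rw [← map_inv, ← map_mul, ← map_mul]
      exact mem_map_of_mem f ((mem_normalizer_iff.1 (hWU hw) u).1 hu))
    (by
      rintro _ ⟨w, hw, rfl⟩ hw1 _ ⟨u, hu, rfl⟩ h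
      have hcu : ⁅w, u⁆ ∈ U := by
        rw [commutatorElement_def]
        exact U.mul_mem ((mem_normalizer_iff.1 (hWU hw) u).1 hu) (U.inv_mem hu)
      have h1 : ⁅w, u⁆ = 1 := hinj _ hcu (by
        rw [map_commutatorElement, commutatorElement_eq_one_iff_mul_comm]; exact h)
      rw [hfpf w hw (fun e => hw1 (by rw [e, map_one])) u hu
        (commutatorElement_eq_one_iff_mul_comm.1 h1), map_one])
    (fun x _ h hh => (hHn.map f (QuotientGroup.mk'_surjective X)).conj_mem h hh x)
    (inf_eq_bot_of_coprime hcopUW)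
    (by
      haveI : Group.IsNilpotent (H.map f) :=
        Group.nilpotent_of_surjective _ (f.subgroupMap_surjective H)
      infer_instance)
    hcopUW
  rw [hUfix, ← hAmap] at hform
  have hbot : H.map f ⊓ centralizer ((U.map f ⊔ W.map f : Subgroup (L ⧸ X)) : Set (L ⧸ X)) = ⊥ :=
    eq_bot_iff.2 ((inf_le_inf_left _ (centralizer_le (SetLike.coe_subset_coe.2 le_sup_left))).trans
      hUfix.le)
  rw [hbot, card_bot, one_pow, one_mul, mul_one] at hform
  have hWq : Nat.card (W.map f) = q := by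
    rw [card_map_eq_relIndex, ← inf_relIndex_right, hXW, relIndex_bot_left, hW]
  rw [hWq] at hform
  -- which are cyclic of exponent `p`
  have hAp : Nat.card (A.map f) = p := by
    haveI := hcyc
    haveI : IsCyclic (A.map f) := isCyclic_of_surjective _ (f.subgroupMap_surjective A)
    have hexp : Monoid.exponent (A.map f) ∣ p := by
      rw [Monoid.exponent_dvd_iff_forall_pow_eq_one]
      rintro ⟨_, a, ha, rfl⟩
      refine Subtype.ext ?_
      show f a ^ p = 1
      rw [← map_pow]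
      exact (QuotientGroup.eq_one_iff _).2 (hpow a ha.1)
    rw [IsCyclic.exponent_eq_card] at hexp
    refine ((Nat.dvd_prime hp).1 hexp).resolve_left fun h1 => hne ?_
    rw [← hcard, hform, h1, one_pow]
  have hfac : X.relIndex H = p ^ q := by rw [← hcard, hform, hAp]
  refine ⟨X, hXn, p, hp, hq, hodd, hKn, hHn, hW, hKW, hKW', hKq, hHall, hHU, hHU', hWU, hfpf, hXH,
    hXc, hpow, hfac, hchief, ?_, rfl, ?_, ?_⟩
  · rw [sup_comm, relIndex_sup_right, ← card_map_eq_relIndex, hAp]
  · refine lt_of_le_of_ne inf_le_left fun h => hXU fun u hu x hx => ?_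
    exact (mem_modCent.1 (h.ge hu)).2 x hx
  · intro x hx
    refine mem_modCent.2 ⟨commutator_le_self U hx, fun h hh => ?_⟩
    rw [commutatorElement_eq_one_iff_mul_comm.2 (mem_centralizer_iff.1 (hder hx) h hh).symm]
    exact X.one_mem

end Existence

/-- Peterfalvi (9.1)-(9.3): the configuration of a subgroup of type P with `U` non-trivial and
`W₁` of prime order. -/
theorem exists_nine {G : Type*} [Group G] [Finite G] (hG : IsMinSimpleOddOrder G)
    {M W₁ U W₂ : Subgroup G} (hM : IsCoatom M) (hP : IsTypePWith M W₁ U W₂) (hU : U ≠ ⊥)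
    (hq : (Nat.card W₁).Prime) :
    ∃ (H₀ : Subgroup M) (_ : H₀.Normal) (p : ℕ),
      Nine (_root_.commutator M) (fittingHall M) (U.subgroupOf M) (W₁.subgroupOf M) H₀
        (modCent (U.subgroupOf M) (fittingHall M) H₀) p (Nat.card W₁) := by
  classical
  have hW₁M : W₁ ≤ M := hP.W₁_compl.2.1
  have hUD : U ≤ ⁅M, M⁆ := hP.U_compl.2.1
  have hUM : U ≤ M := hUD.trans M.commutator_le_self
  have hD : (⁅M, M⁆ : Subgroup G).subgroupOf M = _root_.commutator M := by
    rw [← map_subtype_commutator]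
    exact comap_map_eq_self_of_injective M.subtype_injective _
  have hHF : (fittingHallOf M).subgroupOf M = fittingHall M := subgroupOf_fittingHallOf M
  have hW : Nat.card (W₁.subgroupOf M) = Nat.card W₁ :=
    Nat.card_congr (subgroupOfEquivOfLe hW₁M).toEquiv
  have hKq : (Nat.card (_root_.commutator M)).Coprime (Nat.card W₁) := by
    rw [← hD, Nat.card_congr (subgroupOfEquivOfLe M.commutator_le_self).toEquiv]
    have h1 := card_eq_of_isComplIn hP.W₁_compl
    have h3 : W₁.relIndex M * Nat.card W₁ = Nat.card M := by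
      rw [← relIndex_bot_left W₁, mul_comm, ← relIndex_bot_left M]
      exact relIndex_mul_relIndex ⊥ W₁ M bot_le hW₁M
    have h4 : W₁.relIndex M = Nat.card ↥⁅M, M⁆ := Nat.eq_of_mul_eq_mul_right Nat.card_pos (h3.trans h1.symm)
    rw [← h4]
    exact hP.W₁_hall.symm
  haveI hnilF : Group.IsNilpotent (fittingSubgroup M) := Components.fittingSubgroup_isNilpotent M
  have hHleF : fittingHall M ≤ fittingSubgroup M := sSup_le fun N hN =>
    haveI := hN.2.1
    Components.le_fittingSubgroup hN.1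
  have hnilH : Group.IsNilpotent (fittingHall M) :=
    Group.nilpotent_of_mulEquiv (subgroupOfEquivOfLe hHleF)
  have hsub : ∀ {A : Subgroup G} (B : Subgroup G), A ≤ M → A ≤ B → A.subgroupOf M ≤ B.subgroupOf M :=
    fun _ _ h => comap_mono h
  have hmem : ∀ (X : Subgroup G) (x : M), x ∈ centralizer ((X.subgroupOf M : Subgroup M) : Set M) →
      X ≤ M → (x : G) ∈ centralizer (X : Set G) := fun X x hx hX =>
    mem_centralizer_iff.2 fun y hy => congrArg Subtype.val (mem_centralizer_iff.1 hx ⟨y, hX hy⟩ hy)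
  have hmem' : ∀ (X : Subgroup G) (x : M), (x : G) ∈ centralizer (X : Set G) →
      x ∈ centralizer ((X.subgroupOf M : Subgroup M) : Set M) := fun X x hx =>
    mem_centralizer_iff.2 fun y hy => Subtype.ext (mem_centralizer_iff.1 hx y hy)
  have hsup : fittingHall M ⊔ U.subgroupOf M = _root_.commutator M := by
    rw [← hHF, ← hD]
    refine le_antisymm (sup_le (comap_mono hP.U_compl.1) (comap_mono hUD)) fun x hx => ?_
    obtain ⟨h, hh, u, hu, e⟩ := hP.U_compl.2.2.2 x hx
    have : x = (⟨h, fittingHallOf_le M hh⟩ : M) * ⟨u, hUM hu⟩ := Subtype.ext e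
    rw [this]
    exact Subgroup.mul_mem _ (mem_sup_left hh) (mem_sup_right hu)
  refine exists_nine_of hq (hG.1.of_dvd_nat M.card_subgroup_dvd_card) inferInstance inferInstance hW
    ?_ ?_ hKq (fittingHall_coprime_index M) ?_ hsup ?_ ?_ hnilH ?_ ?_ ?_
  · rw [← hD, eq_bot_iff]
    intro x hx
    have : (x : G) ∈ ⁅M, M⁆ ⊓ W₁ := ⟨hx.1, hx.2⟩
    rw [hP.W₁_compl.2.2.1, mem_bot] at this
    exact Subtype.ext this
  · rw [← hD]
    refine top_le_iff.1 fun x _ => ?_
    obtain ⟨d, hd, w, hw, e⟩ := hP.W₁_compl.2.2.2 x x.2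
    have : x = (⟨d, M.commutator_le_self hd⟩ : M) * ⟨w, hW₁M hw⟩ := Subtype.ext e
    rw [this]
    exact Subgroup.mul_mem _ (mem_sup_left hd) (mem_sup_right hw)
  · rw [← hHF, eq_bot_iff]
    intro x hx
    have : (x : G) ∈ fittingHallOf M ⊓ U := ⟨hx.1, hx.2⟩
    rw [hP.U_compl.2.2.1, mem_bot] at this
    exact Subtype.ext this
  · intro w hw
    exact mem_normalizer_iff.2 fun u => mem_normalizer_iff.1 (hP.U_normal hw) (u : G)
  · intro w hw hw1 u hu e
    have h1 : (u : G) ∈ W₂ := hP.W₂_centralizer w hw (fun h => hw1 (Subtype.ext h)) ▸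
      ⟨hUD hu, mem_centralizer_singleton_iff.2 (congrArg Subtype.val e).symm⟩
    have h2 : (u : G) ∈ fittingHallOf M ⊓ U := ⟨(hP.W₂_le h1).1, hu⟩
    rw [hP.U_compl.2.2.1, mem_bot] at h2
    exact Subtype.ext h2
  · intro x hx
    rw [← hHF]
    refine hmem' _ x ?_
    have hxU : (x : G) ∈ ⁅U, U⁆ := by
      have h1 := mem_map_of_mem M.subtype hx
      rw [map_commutator, map_subgroupOf_eq_of_le hUM] at h1
      exact h1
    have hxF : (x : G) ∈ fittingHallOf M ⊔ (U ⊓ centralizer (fittingHallOf M : Set G)) := by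
      rw [← typeP_fitting_eq hP, ← hP.fitting_eq]
      exact hP.derived_two_le (commutator_mono hUD hUD hxU)
    have hcn : U ⊓ centralizer (fittingHallOf M : Set G) ≤
        normalizer (fittingHallOf M : Set G) :=
      inf_le_right.trans (centralizer_le_normalizer _)
    rw [sup_comm] at hxF
    obtain ⟨c, hc, h, hh, e⟩ := (Coprime.mem_sup_iff_of_le_normalizer hcn).1 hxF
    have h1 : h ∈ fittingHallOf M ⊓ U := ⟨hh, by
      have := U.mul_mem (U.inv_mem hc.1) (commutator_le_self U hxU)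
      rwa [← e, inv_mul_cancel_left] at this⟩
    rw [hP.U_compl.2.2.1, mem_bot] at h1
    rw [← e, h1, mul_one]
    exact hc.2
  · intro hle
    -- then `M'` is nilpotent, hence contained in the Hall kernel
    have hKF : _root_.commutator M ≤ fittingSubgroup M := by
      rw [← hsup]
      refine sup_le hHleF fun u hu => ?_
      have hu' : (u : G) ∈ fittingOf M := by
        rw [← hP.fitting_eq]
        exact mem_sup_right ⟨u.2, hmem _ u (hHF.symm ▸ hle hu) (fittingHallOf_le M)⟩
      obtain ⟨y, hy, hyu⟩ := hu'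
      exact Subtype.ext hyu ▸ hy
    have hKH : _root_.commutator M ≤ fittingHall M := by
      refine le_sSup ⟨inferInstance, Group.nilpotent_of_mulEquiv (subgroupOfEquivOfLe hKF), ?_⟩
      have h1 : (_root_.commutator M).index ∣ Nat.card W₁ := by
        have h := card_eq_of_isComplIn hP.W₁_compl
        rw [← Nat.card_congr (subgroupOfEquivOfLe M.commutator_le_self).toEquiv, hD,
          ← (_root_.commutator M).card_mul_index] at h
        exact (Nat.eq_of_mul_eq_mul_left Nat.card_pos h).symm.dvd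
      exact hKq.coprime_dvd_right h1
    refine hU (eq_bot_iff.2 fun u hu => ?_)
    have h2 : (u : G) ∈ fittingHallOf M ⊓ U :=
      ⟨⟨⟨u, hUM hu⟩, hKH (hsup ▸ mem_sup_right hu), rfl⟩, hu⟩
    rwa [hP.U_compl.2.2.1] at h2
  · obtain ⟨w, hw, hw1⟩ : ∃ w ∈ W₁, w ≠ 1 := W₁.ne_bot_iff_exists_ne_one.1 hP.W₁_ne |>
      fun ⟨⟨w, hw⟩, h⟩ => ⟨w, hw, fun e => h (Subtype.ext e)⟩
    have hcy : IsCyclic W₂ := by
      have := hP.selfNormalizing.2.2.2.2.1
      exact isCyclic_of_injective (inclusion (le_sup_right : W₂ ≤ W₁ ⊔ W₂)) (inclusion_injective _)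
    haveI := hcy
    have hle : ∀ h : ↥(fittingHall M ⊓ centralizer ((W₁.subgroupOf M : Subgroup M) : Set M)),
        ((h : M) : G) ∈ W₂ := fun h => by
      rw [← hP.W₂_centralizer w hw hw1]
      refine ⟨hP.U_compl.1 (hHF.ge h.2.1 : (h : M) ∈ (fittingHallOf M).subgroupOf M), ?_⟩
      exact mem_centralizer_singleton_iff.2 (mem_centralizer_iff.1 (hmem _ _ h.2.2 hW₁M) w hw).symm
    exact isCyclic_of_injective
      ({ toFun := fun h => ⟨((h : M) : G), hle h⟩, map_one' := rfl, map_mul' := fun _ _ => rfl } :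
        ↥(fittingHall M ⊓ centralizer ((W₁.subgroupOf M : Subgroup M) : Set M)) →* W₂)
      fun a b h => Subtype.ext (Subtype.ext (congrArg (fun z : W₂ => (z : G)) h))

end Cfsg.Agent.OddOrder.PF
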