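import Cfsg.Agent.Lib.OddOrder.PF.S9_Coherence
import Cfsg.Agent.Lib.OddOrder.PF.S9_Structure
import Cfsg.Agent.Lib.OddOrder.PF.S9_Galois
import Cfsg.Agent.Lib.OddOrder.PF.SubCoherent
import Cfsg.Agent.Lib.OddOrder.CyclicTIExist

/-!
Peterfalvi (9.11) for maximal subgroups of Types II, III and IV, from the data of type P.
-/

set_option autoImplicit false

namespace Cfsg.Agent.OddOrder.PF

open Cfsg Cfsg.Agent.OddOrder

universe u

variable {G : Type u} [Group G] [Fintype G] {M W₁ U W₂ : Subgroup G} [Fintype M]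

/-- (9.11) for any factor `H / H₀` satisfying the conditions of section 9. -/
theorem coherent_of_nine (hG : IsMinSimpleOddOrder G) (B : BGFacts G) (hM : IsCoatom M)
    (hP : IsTypePWith M W₁ U W₂) (hI : ¬ IsOfTypeI' M) {U' W H₀ C : Subgroup M} [H₀.Normal]
    {p q : ℕ} (h : Nine (commutator ↥M) (fittingHall ↥M) U' W H₀ C p q) :
    IsCoherent (calSFAbove M (H₀ ⊔ ⁅C, C⁆)) {1}ᶜ (ftTau M) := by
  classical
  haveI := Fintype.ofFinite (Ann W₁ W₂ W₂)
  obtain ⟨μ, δ, hμ⟩ := (primeDade_typeP hG B hM hP hI (Or.inr rfl)).exists_muFamily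
  obtain ⟨η, hη⟩ := exists_isCyclicTIFamily (G := G) hP.selfNormalizing
    (hG.1.of_dvd_nat (Subgroup.card_subgroup_dvd_card _))
  obtain ⟨Rs, hRs, -, -⟩ := exists_system_typeP hG B hM hP hI (Or.inr rfl) hμ hη
  refine isCoherent_calSFAbove B hM hI h ?_ hRs
  by_cases hgal : NineGalois (fittingHall ↥M) U' H₀
  · exact Or.inl hgal
  · exact Or.inr (h.exists_nineLine hgal)

/-- Peterfalvi (9.11). -/
theorem exists_nine_coherent (hG : IsMinSimpleOddOrder G) (B : BGFacts G) (hM : IsCoatom M)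
    (hP : IsTypePWith M W₁ U W₂) (hI : ¬ IsOfTypeI' M) (hU : U ≠ ⊥) (hq : (Nat.card W₁).Prime) :
    ∃ (H₀ : Subgroup M) (_ : H₀.Normal) (C : Subgroup M) (p : ℕ),
      Nine (commutator ↥M) (fittingHall ↥M) (U.subgroupOf M) (W₁.subgroupOf M) H₀ C p
          (Nat.card W₁) ∧
        IsCoherent (calSFAbove M (H₀ ⊔ ⁅C, C⁆)) {1}ᶜ (ftTau M) := by
  obtain ⟨H₀, hH₀, p, h⟩ := exists_nine hG hM hP hU hq
  exact ⟨H₀, hH₀, _, p, h, coherent_of_nine hG B hM hP hI h⟩

end Cfsg.Agent.OddOrder.PF
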