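import Cfsg.Agent.Lib.OddOrder.PF.S9_Data
import Cfsg.Agent.Lib.OddOrder.FittingHall
import Mathlib.GroupTheory.NoncommCoprod

/-!
Elementary group theory of the configuration of Peterfalvi 9: the normal subgroups `H C` and
`H₀ C'`, the lines of the reducible case and their complements.
-/

set_option autoImplicit false
set_option linter.unusedSectionVars false
set_option linter.style.haveILetI false

namespace Cfsg.Agent.OddOrder.PF

open Cfsg Cfsg.Agent.OddOrder
open scoped commutatorElement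

variable {L : Type*} [Group L]

theorem le_normalizer_of_conj_mem {S X : Subgroup L}
    (h : ∀ g ∈ S, ∀ x ∈ X, g * x * g⁻¹ ∈ X) : S ≤ Subgroup.normalizer (X : Set L) := fun g hg =>
  Subgroup.mem_normalizer_iff.2 fun x => ⟨h g hg x, fun hx => by
    simpa [mul_assoc] using h g⁻¹ (S.inv_mem hg) _ hx⟩

theorem conj_mem_of_le_normalizer {S X : Subgroup L} (h : S ≤ Subgroup.normalizer (X : Set L))
    {g x : L} (hg : g ∈ S) (hx : x ∈ X) : g * x * g⁻¹ ∈ X :=
  (Subgroup.mem_normalizer_iff.1 (h hg) x).1 hx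

theorem map_conj_eq {X : Subgroup L} {g : L} (hg : g ∈ Subgroup.normalizer (X : Set L)) :
    X.map (MulAut.conj g).toMonoidHom = X := by
  ext y
  constructor
  · rintro ⟨x, hx, rfl⟩
    exact (Subgroup.mem_normalizer_iff.1 hg x).1 hx
  · intro hy
    exact ⟨g⁻¹ * y * g, by
      have := (Subgroup.mem_normalizer_iff.1 (inv_mem hg) y).1 hy
      rwa [inv_inv] at this, by simp [mul_assoc]⟩

theorem le_normalizer_sup {S X Y : Subgroup L} (hX : S ≤ Subgroup.normalizer (X : Set L))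
    (hY : S ≤ Subgroup.normalizer (Y : Set L)) : S ≤ Subgroup.normalizer ((X ⊔ Y : Subgroup L) : Set L) := by
  refine le_normalizer_of_conj_mem fun g hg x hx => ?_
  have h : (X ⊔ Y).map (MulAut.conj g).toMonoidHom = X ⊔ Y := by
    rw [Subgroup.map_sup, map_conj_eq (hX hg), map_conj_eq (hY hg)]
  exact h ▸ Subgroup.mem_map_of_mem _ hx

theorem le_normalizer_commutator {S X : Subgroup L} (hX : S ≤ Subgroup.normalizer (X : Set L)) :
    S ≤ Subgroup.normalizer ((⁅X, X⁆ : Subgroup L) : Set L) := by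
  refine le_normalizer_of_conj_mem fun g hg x hx => ?_
  have h : (⁅X, X⁆ : Subgroup L).map (MulAut.conj g).toMonoidHom = ⁅X, X⁆ := by
    rw [Subgroup.map_commutator, map_conj_eq (hX hg)]
  exact h ▸ Subgroup.mem_map_of_mem _ hx

theorem le_normalizer_of_normal (S X : Subgroup L) [X.Normal] :
    S ≤ Subgroup.normalizer (X : Set L) :=
  le_normalizer_of_conj_mem fun g _ x hx => Subgroup.Normal.conj_mem inferInstance x hx g

theorem modCent_le (U X N : Subgroup L) [N.Normal] : modCent U X N ≤ U := inf_le_left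

theorem conj_mem_modCent {U X N : Subgroup L} [N.Normal] {g v : L}
    (hU : g ∈ Subgroup.normalizer (U : Set L)) (hv : v ∈ modCent U X N) :
    g * v * g⁻¹ ∈ modCent U (X.map (MulAut.conj g).toMonoidHom) N := by
  rw [mem_modCent] at hv ⊢
  refine ⟨(Subgroup.mem_normalizer_iff.1 hU v).1 hv.1, ?_⟩
  rintro _ ⟨x, hx, rfl⟩
  rw [show ⁅g * v * g⁻¹, (MulAut.conj g).toMonoidHom x⁆ = g * ⁅v, x⁆ * g⁻¹ by
    simp [commutatorElement_def]; group]
  exact Subgroup.Normal.conj_mem inferInstance _ (hv.2 x hx) g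

theorem modCent_map_conj {U X N : Subgroup L} [N.Normal] {g : L}
    (hU : g ∈ Subgroup.normalizer (U : Set L)) :
    (modCent U X N).map (MulAut.conj g).toMonoidHom =
      modCent U (X.map (MulAut.conj g).toMonoidHom) N := by
  refine le_antisymm ?_ fun v hv => ⟨g⁻¹ * v * g, ?_, by simp [mul_assoc]⟩
  · rintro _ ⟨v, hv, rfl⟩
    exact conj_mem_modCent hU hv
  · have h := conj_mem_modCent (inv_mem hU) hv
    rw [Subgroup.map_map, inv_inv,
      show (MulAut.conj g⁻¹).toMonoidHom.comp (MulAut.conj g).toMonoidHom = MonoidHom.id L from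
        MonoidHom.ext fun x => by simp [mul_assoc], Subgroup.map_id] at h
    exact h

theorem card_sup_le_of_commute [Finite L] {A B : Subgroup L}
    (h : ∀ a ∈ A, ∀ b ∈ B, Commute a b) : Nat.card ↥(A ⊔ B) ≤ Nat.card A * Nat.card B := by
  let f : A × B →* L := MonoidHom.noncommCoprod A.subtype B.subtype fun a b => h a a.2 b b.2
  have hf : f.range = A ⊔ B := by
    refine (MonoidHom.noncommCoprod_range A.subtype B.subtype _).trans ?_
    rw [Subgroup.range_subtype, Subgroup.range_subtype]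
  rw [← hf, ← Nat.card_prod]
  exact Nat.card_le_card_of_surjective f.rangeRestrict f.rangeRestrict_surjective

/-- The `w`-conjugate of the line `H₁`. -/
def nineLineAt (H₁ : Subgroup L) (w : L) : Subgroup L := H₁.map (MulAut.conj w).toMonoidHom

/-- The join of `H₀` and the lines other than the one of `w`. -/
def nineCoLine (W H₀ H₁ : Subgroup L) (w : L) : Subgroup L :=
  H₀ ⊔ ⨆ v ∈ {v | v ∈ W ∧ v ≠ w}, nineLineAt H₁ v

variable {K H U W H₀ C : Subgroup L} [H₀.Normal] {p q : ℕ}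

namespace Nine

variable (h : Nine K H U W H₀ C p q)
include h

theorem H_le_K : H ≤ K := h.H_sup_U ▸ le_sup_left
theorem U_le_K : U ≤ K := h.H_sup_U ▸ le_sup_right
theorem C_le_U : C ≤ U := h.C_lt.le
theorem C_le_K : C ≤ K := h.C_le_U.trans h.U_le_K
theorem A_le_K : H ⊔ C ≤ K := sup_le h.H_le_K h.C_le_K
theorem N_le_A : H₀ ⊔ ⁅C, C⁆ ≤ H ⊔ C :=
  sup_le (h.H₀_le.trans le_sup_left) (C.commutator_le_self.trans le_sup_right)
theorem N_le_D : H₀ ⊔ ⁅C, C⁆ ≤ H₀ ⊔ C := sup_le_sup_left C.commutator_le_self _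
theorem N_le_K : H₀ ⊔ ⁅C, C⁆ ≤ K := h.N_le_A.trans h.A_le_K

theorem comm_mem {c x : L} (hc : c ∈ C) (hx : x ∈ H) : ⁅c, x⁆ ∈ H₀ := by
  rw [h.C_eq, mem_modCent] at hc
  exact hc.2 x hx

theorem comm_mem' {c x : L} (hc : c ∈ C) (hx : x ∈ H) : ⁅x, c⁆ ∈ H₀ := by
  rw [← commutatorElement_inv]
  exact H₀.inv_mem (h.comm_mem hc hx)

theorem mem_K {x : L} : x ∈ K ↔ ∃ a ∈ H, ∃ b ∈ U, x = a * b := by
  haveI := h.H_normal
  constructor
  · intro hx
    rw [← h.H_sup_U, Subgroup.mem_sup_of_normal_left] at hx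
    obtain ⟨a, ha, b, hb, e⟩ := hx
    exact ⟨a, ha, b, hb, e.symm⟩
  · rintro ⟨a, ha, b, hb, rfl⟩
    exact K.mul_mem (h.H_le_K ha) (h.U_le_K hb)

theorem exists_mul (l : L) : ∃ k ∈ K, ∃ w ∈ W, l = k * w := by
  haveI := h.K_normal
  have hl : l ∈ K ⊔ W := h.K_sup_W ▸ Subgroup.mem_top l
  rw [Subgroup.mem_sup_of_normal_left] at hl
  obtain ⟨a, ha, b, hb, e⟩ := hl
  exact ⟨a, ha, b, hb, e.symm⟩

theorem normal_of {X : Subgroup L} (hH : H ≤ Subgroup.normalizer (X : Set L))
    (hU : U ≤ Subgroup.normalizer (X : Set L)) (hW : W ≤ Subgroup.normalizer (X : Set L)) :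
    X.Normal := by
  rw [← Subgroup.normalizer_eq_top_iff, eq_top_iff, ← h.K_sup_W, ← h.H_sup_U]
  exact sup_le (sup_le hH hU) hW

theorem normalizer_C_U : U ≤ Subgroup.normalizer (C : Set L) := by
  refine le_normalizer_of_conj_mem fun g hg c hc => ?_
  rw [show g * c * g⁻¹ = ⁅g, c⁆ * c by simp [commutatorElement_def]]
  exact C.mul_mem (h.derived_U_le (Subgroup.commutator_mem_commutator hg (h.C_le_U hc))) hc

theorem normalizer_C_W : W ≤ Subgroup.normalizer (C : Set L) := by
  haveI := h.H_normal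
  refine le_normalizer_of_conj_mem fun w hw c hc => ?_
  rw [h.C_eq] at hc ⊢
  have h1 := conj_mem_modCent (h.W_normalizes hw) hc
  rwa [map_conj_eq (le_normalizer_of_normal W H hw)] at h1

theorem A_normal : (H ⊔ C).Normal := by
  haveI := h.H_normal
  exact h.normal_of (le_sup_left.trans Subgroup.le_normalizer)
    (le_normalizer_sup (le_normalizer_of_normal U H) h.normalizer_C_U)
    (le_normalizer_sup (le_normalizer_of_normal W H) h.normalizer_C_W)

theorem normalizer_N_H {D : Subgroup L} (hD : D ≤ C) :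
    H ≤ Subgroup.normalizer ((H₀ ⊔ D : Subgroup L) : Set L) := by
  refine le_normalizer_of_conj_mem fun g hg x hx => ?_
  rw [Subgroup.mem_sup_of_normal_left] at hx
  obtain ⟨a, ha, b, hb, rfl⟩ := hx
  rw [show g * (a * b) * g⁻¹ = (g * a * g⁻¹) * ⁅g, b⁆ * b by simp [commutatorElement_def]; group]
  exact Subgroup.mul_mem _ (Subgroup.mem_sup_left (H₀.mul_mem
    (Subgroup.Normal.conj_mem inferInstance a ha g) (h.comm_mem' (hD hb) hg)))
    (Subgroup.mem_sup_right hb)

theorem D_normal : (H₀ ⊔ C).Normal :=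
  h.normal_of (h.normalizer_N_H le_rfl)
    (le_normalizer_sup (le_normalizer_of_normal U H₀) h.normalizer_C_U)
    (le_normalizer_sup (le_normalizer_of_normal W H₀) h.normalizer_C_W)

theorem N_normal : (H₀ ⊔ ⁅C, C⁆).Normal :=
  h.normal_of (h.normalizer_N_H C.commutator_le_self)
    (le_normalizer_sup (le_normalizer_of_normal U H₀) (le_normalizer_commutator h.normalizer_C_U))
    (le_normalizer_sup (le_normalizer_of_normal W H₀) (le_normalizer_commutator h.normalizer_C_W))

theorem commutator_A_le : ⁅H ⊔ C, H ⊔ C⁆ ≤ H₀ ⊔ ⁅C, C⁆ := by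
  haveI := h.H_normal
  haveI := h.N_normal
  rw [Subgroup.commutator_le]
  intro x hx y hy
  rw [Subgroup.mem_sup_of_normal_left] at hx hy
  obtain ⟨a, ha, b, hb, rfl⟩ := hx
  obtain ⟨a', ha', b', hb', rfl⟩ := hy
  have hc : ∀ {s t : L}, ⁅s, t⁆ ∈ H₀ ⊔ ⁅C, C⁆ →
      Commute (QuotientGroup.mk' (H₀ ⊔ ⁅C, C⁆) s) (QuotientGroup.mk' (H₀ ⊔ ⁅C, C⁆) t) := by
    intro s t hst
    rw [← commutatorElement_eq_one_iff_commute, ← map_commutatorElement, QuotientGroup.mk'_apply,
      QuotientGroup.eq_one_iff]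
    exact hst
  rw [← QuotientGroup.eq_one_iff, ← QuotientGroup.mk'_apply, map_commutatorElement,
    commutatorElement_eq_one_iff_commute, map_mul, map_mul]
  refine Commute.mul_left (Commute.mul_right ?_ ?_) (Commute.mul_right ?_ ?_)
  · exact hc (Subgroup.mem_sup_left (h.factor_comm (Subgroup.commutator_mem_commutator ha ha')))
  · exact hc (Subgroup.mem_sup_left (h.comm_mem' hb' ha))
  · exact hc (Subgroup.mem_sup_left (h.comm_mem hb ha'))
  · exact hc (Subgroup.mem_sup_right (Subgroup.commutator_mem_commutator hb hb'))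

theorem commutator_U_le : ⁅U, U⁆ ≤ H ⊔ C := h.derived_U_le.trans le_sup_right

/-- A subgroup between `H₀` and `H` is normalised by `H`. -/
theorem normalizer_between {X : Subgroup L} (h0 : H₀ ≤ X) (hH : X ≤ H) :
    H ≤ Subgroup.normalizer (X : Set L) := by
  refine le_normalizer_of_conj_mem fun g hg x hx => ?_
  rw [show g * x * g⁻¹ = ⁅g, x⁆ * x by simp [commutatorElement_def]]
  exact X.mul_mem (h0 (h.factor_comm (Subgroup.commutator_mem_commutator hg (hH hx)))) hx

/-- In the Galois case the commutators with an element of `U \ C` span the factor. -/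
theorem galois_commutators (hgal : NineGalois H U H₀) {v : L} (hv : v ∈ U) (hvC : v ∉ C) :
    H₀ ⊔ Subgroup.closure {z | ∃ x ∈ H, z = ⁅v, x⁆} = H := by
  haveI := h.H_normal
  set T := {z : L | ∃ x ∈ H, z = ⁅v, x⁆} with hT
  set X := H₀ ⊔ Subgroup.closure T with hX
  have hle : X ≤ H := by
    refine sup_le h.H₀_le ((Subgroup.closure_le _).2 ?_)
    rintro _ ⟨x, hx, rfl⟩
    rw [SetLike.mem_coe, commutatorElement_def]
    exact H.mul_mem (Subgroup.Normal.conj_mem inferInstance x hx v) (H.inv_mem hx)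
  have hU : U ≤ Subgroup.normalizer (X : Set L) := by
    refine le_normalizer_of_conj_mem fun g hg z hz => ?_
    have hmap : X.map (MulAut.conj g).toMonoidHom ≤ X := by
      rw [hX, Subgroup.map_sup, map_conj_eq (le_normalizer_of_normal U H₀ hg), MonoidHom.map_closure]
      refine sup_le le_sup_left ((Subgroup.closure_le _).2 ?_)
      rintro _ ⟨_, ⟨x, hx, rfl⟩, rfl⟩
      have hc : v⁻¹ * (g * v * g⁻¹) ∈ C := by
        have := h.derived_U_le (Subgroup.commutator_mem_commutator (U.inv_mem hv) hg)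
        rw [commutatorElement_def, inv_inv] at this
        simpa [mul_assoc] using this
      have hy : g * x * g⁻¹ ∈ H := Subgroup.Normal.conj_mem inferInstance x hx g
      rw [SetLike.mem_coe, show (MulAut.conj g).toMonoidHom ⁅v, x⁆ =
        v * ⁅v⁻¹ * (g * v * g⁻¹), g * x * g⁻¹⁆ * v⁻¹ * ⁅v, g * x * g⁻¹⁆ by
        simp [commutatorElement_def]; group]
      exact Subgroup.mul_mem _ (Subgroup.mem_sup_left
        (Subgroup.Normal.conj_mem inferInstance _ (h.comm_mem hc hy) v))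
        (Subgroup.mem_sup_right (Subgroup.subset_closure ⟨_, hy, rfl⟩))
    exact hmap (Subgroup.mem_map_of_mem _ hz)
  rcases hgal X le_sup_left hle hU with e | e
  · refine absurd ?_ hvC
    rw [h.C_eq, mem_modCent]
    exact ⟨hv, fun x hx => e ▸ Subgroup.mem_sup_right (Subgroup.subset_closure ⟨x, hx, rfl⟩)⟩
  · exact e

variable [Finite L]

theorem p_dvd : p ∣ Nat.card H :=
  (dvd_pow_self p h.q_prime.ne_zero).trans (h.factor_card ▸ Subgroup.relIndex_dvd_card H₀ H)

theorem p_ne_two : p ≠ 2 := fun e =>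
  Nat.not_even_iff_odd.2 h.odd (even_iff_two_dvd.2 (e ▸ h.p_dvd.trans H.card_subgroup_dvd_card))

theorem q_ne_two : q ≠ 2 := fun e =>
  Nat.not_even_iff_odd.2 h.odd (even_iff_two_dvd.2 (e ▸ h.card_W ▸ W.card_subgroup_dvd_card))

theorem three_le_q : 3 ≤ q := by have := h.q_prime.two_le; have := h.q_ne_two; omega
theorem three_le_p : 3 ≤ p := by have := h.p_prime.two_le; have := h.p_ne_two; omega

theorem index_K : K.index = q := by
  haveI := h.K_normal
  have hc : Nat.card K * Nat.card W = Nat.card (⊤ : Subgroup L) :=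
    card_eq_of_isComplIn ⟨le_top, le_top, h.K_inf_W, fun m _ => by
      obtain ⟨k, hk, w, hw, e⟩ := h.exists_mul m; exact ⟨k, hk, w, hw, e⟩⟩
  rw [Subgroup.card_top, h.card_W, ← K.card_mul_index] at hc
  exact (Nat.eq_of_mul_eq_mul_left Nat.card_pos hc).symm

theorem card_sup {X D : Subgroup L} [X.Normal] (hX : X ≤ H) (hD : D ≤ U) :
    Nat.card ↥(X ⊔ D) = Nat.card X * Nat.card D :=
  (card_eq_of_isComplIn ⟨le_sup_left, le_sup_right,
    le_bot_iff.1 ((inf_le_inf hX hD).trans h.H_inf_U.le), fun m hm => by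
      obtain ⟨a, ha, b, hb, e⟩ := Subgroup.mem_sup_of_normal_left.1 hm
      exact ⟨a, ha, b, hb, e.symm⟩⟩).symm

/-- Indices of the subgroups `X D`, `X ≤ H` normal, `D ≤ U`. -/
theorem relIndex_sup {X X' D D' : Subgroup L} [X.Normal] [X'.Normal] (hX : X ≤ X') (hD : D ≤ D')
    (hX' : X' ≤ H) (hD' : D' ≤ U) :
    (X ⊔ D).relIndex (X' ⊔ D') = X.relIndex X' * D.relIndex D' := by
  have e1 := Subgroup.relIndex_mul_relIndex ⊥ (X ⊔ D) (X' ⊔ D') bot_le (sup_le_sup hX hD)
  have e2 := Subgroup.relIndex_mul_relIndex ⊥ X X' bot_le hX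
  have e3 := Subgroup.relIndex_mul_relIndex ⊥ D D' bot_le hD
  simp only [Subgroup.relIndex_bot_left] at e1 e2 e3
  rw [h.card_sup (hX.trans hX') (hD.trans hD'), h.card_sup hX' hD', ← e2, ← e3] at e1
  apply Nat.eq_of_mul_eq_mul_left (Nat.mul_pos (Nat.card_pos (α := X)) (Nat.card_pos (α := D)))
  rw [e1]; ring

theorem relIndex_A_K : (H ⊔ C).relIndex K = C.relIndex U := by
  haveI := h.H_normal
  conv_lhs => rw [← h.H_sup_U]
  rw [h.relIndex_sup le_rfl h.C_le_U le_rfl le_rfl, Subgroup.relIndex_self, one_mul]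

theorem relIndex_N_K : (H₀ ⊔ ⁅C, C⁆).relIndex K = p ^ q * (⁅C, C⁆ : Subgroup L).relIndex U := by
  haveI := h.H_normal
  conv_lhs => rw [← h.H_sup_U]
  rw [h.relIndex_sup h.H₀_le (C.commutator_le_self.trans h.C_le_U) le_rfl le_rfl, h.factor_card]

theorem C_relIndex_pos : 0 < C.relIndex U := Nat.pos_of_ne_zero Subgroup.index_ne_zero_of_finite

theorem C_relIndex_odd : Odd (C.relIndex U) :=
  h.odd.of_dvd_nat ((Subgroup.relIndex_dvd_card C U).trans U.card_subgroup_dvd_card)

theorem C_relIndex_coprime : (C.relIndex U).Coprime q :=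
  h.K_coprime.coprime_dvd_left ((Subgroup.relIndex_dvd_card C U).trans
    (Subgroup.card_dvd_of_le h.U_le_K))

end Nine

namespace NineLine

variable {H₁ U₁ : Subgroup L} {a : ℕ}
variable (h : Nine K H U W H₀ C p q) (l : NineLine H U W H₀ C H₁ U₁ p q a)
include h l

theorem H₀_le_lineAt (w : L) : H₀ ≤ nineLineAt H₁ w := fun x hx =>
  ⟨w⁻¹ * x * w, l.H₀_le (by simpa using Subgroup.Normal.conj_mem (H := H₀) inferInstance x hx w⁻¹),
    by simp [mul_assoc]⟩

theorem lineAt_le (w : L) : nineLineAt H₁ w ≤ H := by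
  rintro _ ⟨x, hx, rfl⟩
  exact h.H_normal.conj_mem x (l.le_H hx) w

theorem normalizer_lineAt {w : L} (hw : w ∈ W) :
    U ≤ Subgroup.normalizer (nineLineAt H₁ w : Set L) := by
  refine le_normalizer_of_conj_mem ?_
  rintro g hg _ ⟨x, hx, rfl⟩
  have hg' : w⁻¹ * g * w ∈ U := by
    simpa using conj_mem_of_le_normalizer h.W_normalizes (W.inv_mem hw) hg
  exact ⟨_, conj_mem_of_le_normalizer l.U_normalizes hg' hx, by simp [mul_assoc]⟩

theorem lineAt_le_coLine {v w : L} (hv : v ∈ W) (hne : v ≠ w) :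
    nineLineAt H₁ v ≤ nineCoLine W H₀ H₁ w :=
  le_sup_of_le_right (le_iSup₂ (f := fun v (_ : v ∈ {v | v ∈ W ∧ v ≠ w}) => nineLineAt H₁ v) v ⟨hv, hne⟩)

theorem coLine_le (w : L) : nineCoLine W H₀ H₁ w ≤ H :=
  sup_le h.H₀_le (iSup₂_le fun v _ => lineAt_le h l v)

theorem coLine_sup {w : L} (hw : w ∈ W) :
    nineCoLine W H₀ H₁ w ⊔ nineLineAt H₁ w = H := by
  refine le_antisymm (sup_le (coLine_le h l w) (lineAt_le h l w)) ?_
  conv_lhs => rw [← l.span]
  refine iSup₂_le fun v hv => ?_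
  by_cases e : v = w
  · subst e; exact le_sup_right
  · exact le_sup_of_le_left (lineAt_le_coLine h l hv e)

theorem coLine_sup_coLine {v w : L} (hv : v ∈ W) (hw : w ∈ W) (hne : v ≠ w) :
    nineCoLine W H₀ H₁ w ⊔ nineCoLine W H₀ H₁ v = H :=
  le_antisymm (sup_le (coLine_le h l w) (coLine_le h l v))
    ((coLine_sup h l hw).ge.trans (sup_le_sup_left (lineAt_le_coLine h l hw hne.symm) _))

theorem normalizer_coLine_U (w : L) :
    U ≤ Subgroup.normalizer (nineCoLine W H₀ H₁ w : Set L) := by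
  refine le_normalizer_of_conj_mem fun g hg x hx => ?_
  have hmap : (nineCoLine W H₀ H₁ w).map (MulAut.conj g).toMonoidHom = nineCoLine W H₀ H₁ w := by
    rw [nineCoLine, Subgroup.map_sup, map_conj_eq (le_normalizer_of_normal U H₀ hg)]
    congr 1
    simp only [Subgroup.map_iSup]
    exact iSup_congr fun v => iSup_congr fun hv => map_conj_eq (normalizer_lineAt h l hv.1 hg)
  exact hmap ▸ Subgroup.mem_map_of_mem _ hx

theorem normalizer_coLine_H (w : L) :
    H ≤ Subgroup.normalizer (nineCoLine W H₀ H₁ w : Set L) :=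
  h.normalizer_between le_sup_left (coLine_le h l w)

theorem normalizer_coLine (w : L) : K ≤ Subgroup.normalizer (nineCoLine W H₀ H₁ w : Set L) :=
  h.H_sup_U ▸ sup_le (normalizer_coLine_H h l w) (normalizer_coLine_U h l w)

/-- `U_w`, the centraliser in `U` of the line of `w`. -/
theorem modCent_lineAt {w : L} (hw : w ∈ W) :
    modCent U (nineLineAt H₁ w) H₀ = U₁.map (MulAut.conj w).toMonoidHom := by
  rw [l.U₁_eq, modCent_map_conj (h.W_normalizes hw)]; rfl

theorem relIndex_modCent {w : L} (hw : w ∈ W) :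
    (modCent U (nineLineAt H₁ w) H₀).relIndex U = a := by
  rw [modCent_lineAt h l hw]
  conv_lhs => arg 2; rw [← map_conj_eq (h.W_normalizes hw)]
  rw [Subgroup.relIndex_map_map_of_injective _ _ (MulAut.conj w).injective, l.a_eq]

theorem C_le_modCent (w : L) : C ≤ modCent U (nineLineAt H₁ w) H₀ := fun c hc =>
  mem_modCent.2 ⟨h.C_le_U hc, fun _ hx => h.comm_mem hc (lineAt_le h l w hx)⟩

theorem mem_C_of_forall {v : L} (hv : ∀ w ∈ W, v ∈ modCent U (nineLineAt H₁ w) H₀) : v ∈ C := by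
  rw [h.C_eq, mem_modCent]
  refine ⟨modCent_le _ _ _ (hv 1 W.one_mem), ?_⟩
  let T : Subgroup L := (Subgroup.centralizer ({QuotientGroup.mk' H₀ v} : Set (L ⧸ H₀))).comap
    (QuotientGroup.mk' H₀)
  have hmem : ∀ x, x ∈ T ↔ ⁅v, x⁆ ∈ H₀ := fun x => by
    rw [Subgroup.mem_comap, Subgroup.mem_centralizer_singleton_iff, ← QuotientGroup.eq_one_iff,
      ← QuotientGroup.mk'_apply (N := H₀) ⁅v, x⁆, map_commutatorElement,
      commutatorElement_eq_one_iff_mul_comm]
    exact eq_comm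
  have hH : H ≤ T := by
    rw [← l.span]
    exact iSup₂_le fun w hw x hx => (hmem x).2 ((mem_modCent.1 (hv w hw)).2 x hx)
  exact fun x hx => (hmem x).1 (hH hx)

theorem a_dvd_u : a ∣ C.relIndex U := by
  rw [← relIndex_modCent h l W.one_mem, ← Subgroup.relIndex_mul_relIndex C
    (modCent U (nineLineAt H₁ 1) H₀) U (C_le_modCent h l 1) (modCent_le _ _ _)]
  exact dvd_mul_left _ _

variable [Finite L]

theorem two_mul_a_le : 2 * a ≤ p - 1 := by
  have h2 : 2 ∣ p - 1 := by
    obtain ⟨k, hk⟩ := h.p_prime.odd_of_ne_two h.p_ne_two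
    omega
  have ha : Nat.Coprime 2 a :=
    (h.C_relIndex_odd.of_dvd_nat (a_dvd_u h l)).coprime_two_left
  exact Nat.le_of_dvd (by have := h.three_le_p; omega) (ha.mul_dvd_of_dvd_of_dvd h2 l.a_dvd)

theorem card_map_lineAt {w : L} (hw : w ∈ W) :
    Nat.card ↥((nineLineAt H₁ w).map (QuotientGroup.mk' H₀)) = p := by
  rw [← Subgroup.relIndex_ker, QuotientGroup.ker_mk', ← l.line_card]
  conv_lhs => arg 1; rw [← map_conj_eq (le_normalizer_of_normal W H₀ hw)]
  exact Subgroup.relIndex_map_map_of_injective _ _ (MulAut.conj w).injective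

theorem commute_map {x y : L} (hx : x ∈ H) (hy : y ∈ H) :
    Commute (QuotientGroup.mk' H₀ x) (QuotientGroup.mk' H₀ y) := by
  rw [← commutatorElement_eq_one_iff_commute, ← map_commutatorElement, QuotientGroup.mk'_apply,
    QuotientGroup.eq_one_iff]
  exact h.factor_comm (Subgroup.commutator_mem_commutator hx hy)

theorem relIndex_lines_le (s : Finset L) (hs : ∀ v ∈ s, v ∈ W) :
    H₀.relIndex (H₀ ⊔ ⨆ v ∈ s, nineLineAt H₁ v) ≤ p ^ s.card := by
  classical
  induction s using Finset.induction_on with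
  | empty => simp
  | insert v s hv ih =>
    have hs' : ∀ x ∈ s, x ∈ W := fun x hx => hs x (Finset.mem_insert_of_mem hx)
    have ih' := ih hs'
    rw [← QuotientGroup.ker_mk' H₀, Subgroup.relIndex_ker, QuotientGroup.ker_mk'] at ih'
    rw [← QuotientGroup.ker_mk' H₀, Subgroup.relIndex_ker, QuotientGroup.ker_mk',
      Finset.iSup_insert, ← sup_assoc, sup_comm H₀, sup_assoc, Subgroup.map_sup,
      Finset.card_insert_of_notMem hv, pow_succ']
    refine (card_sup_le_of_commute ?_).trans (Nat.mul_le_mul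
      (card_map_lineAt h l (hs v (Finset.mem_insert_self v s))).le ih')
    rintro _ ⟨x, hx, rfl⟩ _ ⟨y, hy, rfl⟩
    exact commute_map h l (lineAt_le h l v hx)
      (sup_le h.H₀_le (iSup₂_le fun z _ => lineAt_le h l z) hy)

theorem relIndex_coLine {w : L} (hw : w ∈ W) : (nineCoLine W H₀ H₁ w).relIndex H = p := by
  classical
  haveI := Fintype.ofFinite W
  set X := nineCoLine W H₀ H₁ w with hX
  set s : Finset L := ((Finset.univ : Finset W).image (fun v : W => (v : L))).erase w with hs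
  have hs' : ∀ v, v ∈ s ↔ v ∈ W ∧ v ≠ w := fun v => by
    simp [hs, and_comm]
  have hcard : s.card = q - 1 := by
    rw [hs, Finset.card_erase_of_mem (a := w) (by simpa using hw),
      Finset.card_image_of_injective _ Subtype.val_injective, Finset.card_univ,
      ← Nat.card_eq_fintype_card, h.card_W]
  have hXs : X = H₀ ⊔ ⨆ v ∈ s, nineLineAt H₁ v := by
    rw [hX, nineCoLine]
    congr 1
    exact iSup_congr fun v => iSup_congr_Prop (hs' v).symm fun _ => rfl
  have h1 : H₀.relIndex X ≤ p ^ (q - 1) := by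
    rw [hXs, ← hcard]; exact relIndex_lines_le h l s fun v hv => ((hs' v).1 hv).1
  have h2 : p ^ q ≤ H₀.relIndex X * p := by
    rw [← h.factor_card]
    conv_lhs => rw [← coLine_sup h l hw]
    rw [← QuotientGroup.ker_mk' H₀, Subgroup.relIndex_ker, Subgroup.relIndex_ker,
      QuotientGroup.ker_mk', Subgroup.map_sup]
    refine (card_sup_le_of_commute ?_).trans (Nat.mul_le_mul le_rfl (card_map_lineAt h l hw).le)
    rintro _ ⟨x, hx, rfl⟩ _ ⟨y, hy, rfl⟩
    exact commute_map h l (coLine_le h l w hx) (lineAt_le h l w hy)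
  have h3 : H₀.relIndex X * X.relIndex H = p ^ q := by
    rw [Subgroup.relIndex_mul_relIndex H₀ X H (le_sup_left : H₀ ≤ X) (coLine_le h l w), h.factor_card]
  have hp := h.p_prime.pos
  have hq : p ^ q = p ^ (q - 1) * p := by
    rw [← pow_succ, Nat.sub_add_cancel h.q_prime.one_le]
  have h4 : H₀.relIndex X = p ^ (q - 1) := by
    refine le_antisymm h1 (Nat.le_of_mul_le_mul_right ?_ hp)
    rw [← hq]; exact h2
  rw [h4, hq] at h3
  exact Nat.eq_of_mul_eq_mul_left (pow_pos hp _) h3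

theorem not_lineAt_le_coLine {w : L} (hw : w ∈ W) :
    ¬ nineLineAt H₁ w ≤ nineCoLine W H₀ H₁ w := fun hle => by
  have h1 : nineCoLine W H₀ H₁ w = H := by rw [← sup_eq_left.2 hle, coLine_sup h l hw]
  have h2 := relIndex_coLine h l hw
  rw [h1, Subgroup.relIndex_self] at h2
  exact h.p_prime.one_lt.ne h2

/-- `U_w` centralises `H` modulo the other lines. -/
theorem comm_mem_coLine {w v x : L} (hw : w ∈ W) (hv : v ∈ modCent U (nineLineAt H₁ w) H₀)
    (hx : x ∈ H) : ⁅v, x⁆ ∈ nineCoLine W H₀ H₁ w := by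
  set X := nineCoLine W H₀ H₁ w
  haveI := h.H_normal
  have hvU := modCent_le _ _ _ hv
  obtain ⟨-, hvl⟩ := mem_modCent.1 hv
  rw [← coLine_sup h l hw] at hx
  have hsub : Subgroup.closure ((X : Set L) ∪ nineLineAt H₁ w) = X ⊔ nineLineAt H₁ w := by
    rw [Subgroup.closure_union, Subgroup.closure_eq, Subgroup.closure_eq]
  rw [← hsub] at hx
  suffices x ∈ H ∧ ⁅v, x⁆ ∈ X from this.2
  induction hx using Subgroup.closure_induction with
  | mem y hy =>
    rcases hy with hy | hy
    · refine ⟨coLine_le h l w hy, ?_⟩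
      rw [commutatorElement_def]
      exact X.mul_mem (conj_mem_of_le_normalizer (normalizer_coLine_U h l w) hvU hy) (X.inv_mem hy)
    · exact ⟨lineAt_le h l w hy, Subgroup.mem_sup_left (hvl y hy)⟩
  | one => exact ⟨H.one_mem, by rw [commutatorElement_one_right]; exact X.one_mem⟩
  | mul y z _ _ iy iz =>
    refine ⟨H.mul_mem iy.1 iz.1, ?_⟩
    rw [show ⁅v, y * z⁆ = ⁅v, y⁆ * (y * ⁅v, z⁆ * y⁻¹) by simp [commutatorElement_def]; group]
    exact X.mul_mem iy.2 (conj_mem_of_le_normalizer (normalizer_coLine_H h l w) iy.1 iz.2)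
  | inv y _ iy =>
    refine ⟨H.inv_mem iy.1, ?_⟩
    rw [show ⁅v, y⁻¹⁆ = y⁻¹ * ⁅v, y⁆⁻¹ * y⁻¹⁻¹ by simp [commutatorElement_def]; group]
    exact conj_mem_of_le_normalizer (normalizer_coLine_H h l w) (H.inv_mem iy.1) (X.inv_mem iy.2)

theorem modCent_sup_normal (w : L) :
    ((H ⊔ modCent U (nineLineAt H₁ w) H₀).subgroupOf K).Normal := by
  haveI := h.H_normal
  rw [Subgroup.normal_subgroupOf_iff_le_normalizer
    (sup_le h.H_le_K ((modCent_le _ _ _).trans h.U_le_K)), ← h.H_sup_U]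
  refine sup_le (le_sup_left.trans Subgroup.le_normalizer)
    (le_normalizer_sup (le_normalizer_of_normal U H) ?_)
  refine le_normalizer_of_conj_mem fun g hg c hc => ?_
  rw [show g * c * g⁻¹ = ⁅g, c⁆ * c by simp [commutatorElement_def]]
  exact Subgroup.mul_mem _ (C_le_modCent h l w
    (h.derived_U_le (Subgroup.commutator_mem_commutator hg (modCent_le _ _ _ hc)))) hc

theorem relIndex_modCent_sup {w : L} (hw : w ∈ W) :
    (H ⊔ modCent U (nineLineAt H₁ w) H₀).relIndex K = a := by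
  haveI := h.H_normal
  conv_lhs => arg 2; rw [← h.H_sup_U]
  rw [h.relIndex_sup le_rfl (modCent_le _ _ _) le_rfl le_rfl, Subgroup.relIndex_self, one_mul,
    relIndex_modCent h l hw]

/-- Every non-identity element of `H U_w` centralises a non-identity element of `H`. -/
theorem exists_commute {w y : L} (hw : w ∈ W) (hy : y ∈ H ⊔ modCent U (nineLineAt H₁ w) H₀) :
    ∃ z ∈ H, z ≠ 1 ∧ y * z = z * y := by
  haveI := h.H_normal
  by_contra! hcon
  set X := nineCoLine W H₀ H₁ w
  have hyX : ∀ z ∈ H, ⁅y, z⁆ ∈ X := by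
    intro z hz
    obtain ⟨b, hb, v, hv, rfl⟩ := Subgroup.mem_sup_of_normal_left.1 hy
    rw [show ⁅b * v, z⁆ = b * ⁅v, z⁆ * b⁻¹ * ⁅b, z⁆ by simp [commutatorElement_def]; group]
    exact X.mul_mem (conj_mem_of_le_normalizer (normalizer_coLine_H h l w) hb
      (comm_mem_coLine h l hw hv hz))
      (Subgroup.mem_sup_left (h.factor_comm (Subgroup.commutator_mem_commutator hb hz)))
  let f : H → H := fun z => ⟨(z : L)⁻¹ * (y * z * y⁻¹),
    H.mul_mem (H.inv_mem z.2) (Subgroup.Normal.conj_mem inferInstance _ z.2 y)⟩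
  have hf : Function.Injective f := by
    intro s t hst
    have e : (s : L)⁻¹ * (y * s * y⁻¹) = (t : L)⁻¹ * (y * t * y⁻¹) := congrArg Subtype.val hst
    have hc : y * ((t : L) * (s : L)⁻¹) = (t : L) * (s : L)⁻¹ * y := by
      calc y * ((t : L) * (s : L)⁻¹) = t * ((t : L)⁻¹ * (y * t * y⁻¹)) * y * (s : L)⁻¹ := by group
        _ = t * ((s : L)⁻¹ * (y * s * y⁻¹)) * y * (s : L)⁻¹ := by rw [e]
        _ = t * (s : L)⁻¹ * y := by group
    by_contra hne
    exact hcon _ (H.mul_mem t.2 (H.inv_mem s.2))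
      (fun e' => hne (Subtype.ext (mul_inv_eq_one.1 e').symm)) hc
  have hle : H ≤ X := by
    intro x hx
    obtain ⟨z, hz⟩ := Finite.surjective_of_injective hf ⟨x, hx⟩
    have e : (z : L)⁻¹ * (y * z * y⁻¹) = x := congrArg Subtype.val hz
    rw [← e, show (z : L)⁻¹ * (y * z * y⁻¹) = (z : L)⁻¹ * ⁅y, (z : L)⁆ * (z : L)⁻¹⁻¹ by
      simp [commutatorElement_def]; group]
    exact conj_mem_of_le_normalizer (normalizer_coLine_H h l w) (H.inv_mem z.2) (hyX z z.2)
  exact not_lineAt_le_coLine h l hw ((lineAt_le h l w).trans hle)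

/-- Outside `K` nothing normalises `H U_w`, unless `U_w = C`. -/
theorem conj_modCent_sup_ne {w g : L} (hw : w ∈ W) (hua : a < C.relIndex U) (hg : g ∉ K) :
    (H ⊔ modCent U (nineLineAt H₁ w) H₀).map (MulAut.conj g).toMonoidHom ≠
      H ⊔ modCent U (nineLineAt H₁ w) H₀ := by
  haveI := h.H_normal
  set Uw := modCent U (nineLineAt H₁ w) H₀ with hUw
  set Y := H ⊔ Uw with hY
  intro he
  obtain ⟨k, hk, v, hv, rfl⟩ := h.exists_mul g
  have hv1 : v ≠ 1 := fun e => hg (by rw [e, mul_one]; exact hk)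
  have hYn := modCent_sup_normal h l w
  rw [Subgroup.normal_subgroupOf_iff_le_normalizer
    (sup_le h.H_le_K ((modCent_le _ _ _).trans h.U_le_K))] at hYn
  have hvY : v ∈ Subgroup.normalizer (Y : Set L) := by
    have hkv : k * v ∈ Subgroup.normalizer (Y : Set L) := Subgroup.mem_normalizer_iff.2 fun x => by
      constructor
      · exact fun hx => he.le ⟨x, hx, rfl⟩
      · intro hx
        obtain ⟨z, hz, e⟩ := he.ge hx
        rwa [(MulAut.conj (k * v)).injective (e : (MulAut.conj (k * v)) z = (MulAut.conj (k * v)) x)] at hz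
    simpa using Subgroup.mul_mem _ (inv_mem (hYn hk)) hkv
  have hinf : ∀ x ∈ Y, x ∈ U → x ∈ Uw := by
    intro x hx hxU
    obtain ⟨b, hb, c, hc, rfl⟩ := Subgroup.mem_sup_of_normal_left.1 hx
    have hb' : b ∈ H ⊓ U := ⟨hb, by simpa using U.mul_mem hxU (U.inv_mem (modCent_le _ _ _ hc))⟩
    rw [h.H_inf_U, Subgroup.mem_bot] at hb'
    rwa [hb', one_mul]
  have hWn : W ≤ Subgroup.normalizer (Uw : Set L) := by
    haveI : Fact q.Prime := ⟨h.q_prime⟩
    have hvn : v ∈ Subgroup.normalizer (Uw : Set L) := by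
      have hle : Uw.map (MulAut.conj v).toMonoidHom ≤ Uw := by
        rintro _ ⟨x, hx, rfl⟩
        exact hinf _ ((Subgroup.mem_normalizer_iff.1 hvY x).1 (Subgroup.mem_sup_right hx))
          (conj_mem_of_le_normalizer h.W_normalizes hv (modCent_le _ _ _ hx))
      have heq : Uw.map (MulAut.conj v).toMonoidHom = Uw := Subgroup.eq_of_le_of_card_ge hle
        (le_of_eq (Nat.card_congr (Uw.equivMapOfInjective _ (MulAut.conj v).injective).toEquiv))
      refine Subgroup.mem_normalizer_iff.2 fun x => ⟨fun hx => hle ⟨x, hx, rfl⟩, fun hx => ?_⟩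
      obtain ⟨z, hz, e⟩ := heq.ge hx
      rwa [(MulAut.conj v).injective (e : (MulAut.conj v) z = (MulAut.conj v) x)] at hz
    intro x hx
    obtain ⟨i, hi⟩ := Subgroup.mem_zpowers_iff.1 (mem_zpowers_of_prime_card (G := W)
      (g := ⟨v, hv⟩) (g' := ⟨x, hx⟩) h.card_W (fun e => hv1 (congrArg Subtype.val e)))
    rw [show x = v ^ i by simpa using congrArg Subtype.val hi.symm]
    exact Subgroup.zpow_mem _ hvn i
  have hall : ∀ z ∈ W, modCent U (nineLineAt H₁ z) H₀ = Uw := by
    intro z hz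
    have hzw : z * w⁻¹ ∈ W := W.mul_mem hz (W.inv_mem hw)
    have := modCent_map_conj (U := U) (X := nineLineAt H₁ w) (N := H₀) (h.W_normalizes hzw)
    rw [map_conj_eq (hWn hzw)] at this
    rw [hUw] at this ⊢
    rw [this]
    congr 1
    simp only [nineLineAt, Subgroup.map_map]
    congr 1
    exact MonoidHom.ext fun x => by simp [mul_assoc]
  have hC : Uw = C := le_antisymm (fun x hx => mem_C_of_forall h l fun z hz => (hall z hz).symm ▸ hx)
    (C_le_modCent h l w)
  rw [← hC, relIndex_modCent h l hw] at hua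
  exact lt_irrefl _ hua

end NineLine

end Cfsg.Agent.OddOrder.PF
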