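import Cfsg.Agent.Lib.OddOrder.PF.S9_Basic
import Cfsg.Agent.Lib.OddOrder.CoherenceCentral
import Cfsg.Agent.Lib.Char.CliffordBetween
import Cfsg.Agent.Lib.Char.Descend

/-!
Peterfalvi (9.8), (9.9): the irreducible characters of `K` that are trivial on `H₀ C'` and not on
`H`, their degrees, and counts of them by the support on the lines of the reducible case.
-/

set_option autoImplicit false
set_option linter.unusedSectionVars false
set_option linter.style.haveILetI false

namespace Cfsg.Agent.OddOrder.PF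

open Cfsg Cfsg.Agent.OddOrder Finset
open scoped commutatorElement

universe u

section Generic

variable {Γ : Type u} [Group Γ] [Fintype Γ]

/-- A character trivial on `D` has degree dividing the index of `B` when `B` is abelian modulo
`D`. -/
theorem charDegree_dvd_index_of_trivOn {D B : Subgroup Γ} [D.Normal] [B.Normal] (hBB : ⁅B, B⁆ ≤ D)
    (θ : IrrCharacter Γ) (hθ : Char.TrivOn D θ.1) : charDegree θ.1 ∣ B.index := by
  classical
  obtain ⟨ψ, hψ⟩ := Char.exists_descend D θ hθ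
  haveI := Fintype.ofFinite (Γ ⧸ D)
  haveI : (B.map (QuotientGroup.mk' D)).Normal :=
    Subgroup.Normal.map inferInstance _ (QuotientGroup.mk'_surjective D)
  have h1 := Char.degree_dvd_index_of_comm (B.map (QuotientGroup.mk' D)) ?_ ψ
  · have e : charDegree θ.1 = Char.degree ψ := by
      apply Nat.cast_injective (R := ℂ)
      rw [Char.charDegree_cast, ← hψ 1, QuotientGroup.mk_one, Char.apply_one_eq_degree]
    rw [e]
    exact h1.trans (Subgroup.index_map_dvd _ (QuotientGroup.mk'_surjective D))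
  · rintro _ ⟨a, ha, rfl⟩ _ ⟨b, hb, rfl⟩
    rw [← commutatorElement_eq_one_iff_mul_comm, ← map_commutatorElement, QuotientGroup.mk'_apply,
      QuotientGroup.eq_one_iff]
    exact hBB (Subgroup.commutator_mem_commutator ha hb)

theorem trivOn_sup_iff (θ : IrrCharacter Γ) (D E : Subgroup Γ) :
    Char.TrivOn (D ⊔ E) θ.1 ↔ Char.TrivOn D θ.1 ∧ Char.TrivOn E θ.1 := by
  refine ⟨fun h => ⟨fun x hx => h x (Subgroup.mem_sup_left hx),
    fun x hx => h x (Subgroup.mem_sup_right hx)⟩, fun h => ?_⟩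
  have hle : D ⊔ E ≤ CharInt.charKernel (Char.irr_isCharacter θ) :=
    sup_le (fun x hx => (CharInt.mem_charKernel _).2 (h.1 x hx))
      (fun x hx => (CharInt.mem_charKernel _).2 (h.2 x hx))
  exact fun x hx => (CharInt.mem_charKernel _).1 (hle hx)

open scoped Classical in
/-- The squares of the degrees of the characters trivial on `D` but not on `E`. -/
theorem sum_trivOn_not_trivOn (D E : Subgroup Γ) [D.Normal] [E.Normal] :
    (∑ θ ∈ univ.filter (fun θ : IrrCharacter Γ => Char.TrivOn D θ.1 ∧ ¬ Char.TrivOn E θ.1),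
      charDegree θ.1 ^ 2) + (D ⊔ E).index = D.index := by
  rw [← Char.sum_trivOn_degree_sq D, ← Char.sum_trivOn_degree_sq (D ⊔ E),
    ← Finset.sum_filter_add_sum_filter_not
      (univ.filter fun θ : IrrCharacter Γ => Char.TrivOn D θ.1) (fun θ => ¬ Char.TrivOn E θ.1),
    Finset.filter_filter, Finset.filter_filter]
  congr 1
  refine Finset.sum_congr (Finset.filter_congr fun θ _ => ?_) fun _ _ => rfl
  rw [trivOn_sup_iff, not_not]

end Generic

theorem coe_commutatorElement {G : Type*} [Group G] (S : Subgroup G) (x y : S) :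
    ((⁅x, y⁆ : S) : G) = ⁅(x : G), (y : G)⁆ := map_commutatorElement S.subtype x y

section Induced

variable {L : Type u} [Group L] [Fintype L] (K : Subgroup L) [K.Normal] [Fintype K]

/-- Irreducible characters of a normal subgroup with equal inductions are conjugate. -/
theorem exists_conjChar_of_indFun_eq {θ η : IrrCharacter K}
    (he : indFun K θ.1 = indFun K η.1) : ∃ g : L, Char.conjChar K η g = θ := by
  have h := Char.card_mul_classInner_indFun_normal K θ.2 η.2
  have hself : classInner (indFun K θ.1) (indFun K θ.1) ≠ 0 := fun h0 => by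
    have := congrFun (Char.classInner_self_eq_zero h0) 1
    rw [Char.indFun_apply_one, Pi.zero_apply] at this
    rcases mul_eq_zero.1 this with h1 | h1
    · exact Subgroup.index_ne_zero_of_finite (by exact_mod_cast h1)
    · exact Char.IsIrrCharacter.apply_one_ne_zero θ.2 h1
  rw [← he] at h
  have hne0 : Nat.card {g : L // Char.conjFun K η.1 g = θ.1} ≠ 0 := fun h0 => by
    rw [h0, Nat.cast_zero, mul_eq_zero] at h
    rcases h with h | h
    · exact Nat.card_pos.ne' (by exact_mod_cast h)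
    · exact hself h
  obtain ⟨⟨g, hg⟩⟩ := (Nat.card_ne_zero.1 hne0).1
  exact ⟨g, Subtype.ext hg⟩

theorem conjChar_trivOn {X : Subgroup L} [X.Normal] (θ : IrrCharacter K)
    (h : Char.TrivOn (X.subgroupOf K) θ.1) (g : L) :
    Char.TrivOn (X.subgroupOf K) (Char.conjChar K θ g).1 := fun x hx => by
  rw [Char.conjChar_coe, Char.conjFun_apply_one]
  exact h _ (Subgroup.mem_subgroupOf.2
    (by simpa using (‹X.Normal›).conj_mem _ (Subgroup.mem_subgroupOf.1 hx) g))

theorem conjChar_not_trivOn {X : Subgroup L} [X.Normal] (θ : IrrCharacter K)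
    (h : ¬ Char.TrivOn (X.subgroupOf K) θ.1) (g : L) :
    ¬ Char.TrivOn (X.subgroupOf K) (Char.conjChar K θ g).1 := fun h' => h <| by
  have e : Char.conjChar K (Char.conjChar K θ g) g⁻¹ = θ := Subtype.ext (by
    rw [Char.conjChar_coe, Char.conjChar_coe, ← Char.conjFun_mul, mul_inv_cancel, Char.conjFun_one])
  exact e ▸ conjChar_trivOn K _ h' g⁻¹

end Induced

section Over

variable {L : Type u} [Group L] [Fintype L] (A : Subgroup L) [A.Normal] {K : Subgroup L}
  [Fintype K] [Fintype A] (hAK : A ≤ K)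

theorem over_trivOn {θ : IrrCharacter K} {η : IrrCharacter A} (hη : Char.Over A hAK θ η)
    {X : Subgroup L} (hθ : Char.TrivOn (X.subgroupOf K) θ.1) :
    Char.TrivOn (X.subgroupOf A) η.1 := by
  classical
  intro x hx
  haveI := Fintype.ofFinite (A.subgroupOf K)
  have hη' : classInner (Char.liftSub A hAK η).1 (fun y : A.subgroupOf K => θ.1 y) ≠ 0 := by
    have h := (Char.over_iff_liftSub A hAK θ η).1 hη
    intro h0
    exact h (by rw [← Char.conj_classInner]; exact (congrArg _ h0).trans (map_zero _))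
  have h1 := constituent_trivOn (A.subgroupOf K) θ (Char.liftSub A hAK η) hη'
    (b := ⟨⟨x, hAK x.2⟩, x.2⟩) (hθ ⟨x, hAK x.2⟩ hx)
  rw [Char.liftSub_apply_one, Char.liftSub_apply] at h1
  exact h1

theorem trivOn_of_over {θ : IrrCharacter K} {η : IrrCharacter A} (hη : Char.Over A hAK θ η)
    {X : Subgroup L} (hXA : X ≤ A) (hXK : K ≤ Subgroup.normalizer (X : Set L))
    (hηX : Char.TrivOn (X.subgroupOf A) η.1) : Char.TrivOn (X.subgroupOf K) θ.1 := by
  classical
  haveI := Fintype.ofFinite (A.subgroupOf K)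
  intro x hx
  have h := Char.resFun_eq_smul_orbitSum (A.subgroupOf K) θ (Char.liftSub A hAK η)
    ((Char.over_iff_liftSub A hAK θ η).1 hη)
  have h1 := congrFun h ⟨x, hXA hx⟩
  have h2 := congrFun h 1
  rw [Char.resFun_apply] at h1 h2
  rw [OneMemClass.coe_one] at h2
  rw [show θ.1 x = θ.1 ((⟨x, hXA hx⟩ : A.subgroupOf K) : K) from rfl, h1, h2, Pi.smul_apply,
    Pi.smul_apply, Char.orbitSum, Finset.sum_apply, Finset.sum_apply]
  congr 1
  refine sum_congr rfl fun η' hη' => ?_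
  obtain ⟨g, rfl⟩ := (Char.mem_orbitFinset (A.subgroupOf K)).1 hη'
  rw [Char.conjChar_coe, Char.conjFun_apply_one, Char.liftSub_apply_one]
  show (Char.liftSub A hAK η).1 _ = _
  rw [Char.liftSub_apply]
  refine hηX _ (Subgroup.mem_subgroupOf.2 ?_)
  simpa [Subgroup.subgroupOfEquivOfLe] using
    conj_mem_of_le_normalizer hXK g.2 (Subgroup.mem_subgroupOf.1 hx)

theorem exists_irr_over (η : IrrCharacter A) : ∃ θ : IrrCharacter K, Char.Over A hAK θ η := by
  classical
  haveI := Fintype.ofFinite (A.subgroupOf K)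
  by_contra! hcon
  have hc : IsClassFunction K (indFun (A.subgroupOf K) (Char.liftSub A hAK η).1) :=
    Char.isClassFunction_indFun _ _
  have h0 : indFun (A.subgroupOf K) (Char.liftSub A hAK η).1 = 0 := by
    refine Char.eq_zero_of_classInner_irr hc fun θ => ?_
    rw [Char.classInner_indFun _ _ (Char.IsCharacter.isClassFunction (Char.irr_isCharacter θ)),
      ← Char.conj_classInner]
    have h := hcon θ
    rw [Char.over_iff_liftSub, not_not] at h
    exact (congrArg _ h).trans (map_zero _)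
  have h1 := congrFun h0 1
  rw [Char.indFun_apply_one, Pi.zero_apply] at h1
  rcases mul_eq_zero.1 h1 with h2 | h2
  · exact Subgroup.index_ne_zero_of_finite (by exact_mod_cast h2)
  · exact Char.IsIrrCharacter.apply_one_ne_zero (Char.liftSub A hAK η).2 h2

end Over

variable {L : Type u} [Group L] [Fintype L] {K H U W H₀ C : Subgroup L} [H₀.Normal] {p q : ℕ}

theorem card_sup_of_normalizer {X D : Subgroup L} (hD : D ≤ Subgroup.normalizer (X : Set L))
    (hdis : X ⊓ D = ⊥) : Nat.card ↥(X ⊔ D) = Nat.card X * Nat.card D :=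
  (card_eq_of_isComplIn ⟨le_sup_left, le_sup_right, hdis, fun m hm => by
    rw [← SetLike.mem_coe, Subgroup.coe_mul_of_right_le_normalizer_left _ _ hD] at hm
    obtain ⟨a, ha, b, hb, e⟩ := Set.mem_mul.1 hm
    exact ⟨a, ha, b, hb, e.symm⟩⟩).symm

variable [Fintype K]

variable (K H H₀ C) in
/-- The characters of `K` inducing the members of `S(H₀ C')`. -/
def IsNineChar (θ : IrrCharacter K) : Prop :=
  ¬ Char.TrivOn (H.subgroupOf K) θ.1 ∧ Char.TrivOn ((H₀ ⊔ ⁅C, C⁆).subgroupOf K) θ.1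

open scoped Classical in
variable (K H H₀ C) in
/-- The set of the characters of `K` inducing the members of `S(H₀ C')`. -/
noncomputable def nineChars : Finset (IrrCharacter K) := univ.filter (IsNineChar K H H₀ C)

theorem mem_nineChars {θ : IrrCharacter K} : θ ∈ nineChars K H H₀ C ↔ IsNineChar K H H₀ C θ := by
  simp [nineChars]

namespace Nine

variable (h : Nine K H U W H₀ C p q)
include h

theorem conjChar_nineChar [K.Normal] {θ : IrrCharacter K} (hθ : IsNineChar K H H₀ C θ) (g : L) :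
    IsNineChar K H H₀ C (Char.conjChar K θ g) :=
  haveI := h.H_normal
  haveI := h.N_normal
  ⟨conjChar_not_trivOn K θ hθ.1 g, conjChar_trivOn K θ hθ.2 g⟩

/-- The members of `S(H₀ C')`. -/
theorem mem_section_iff [K.Normal] {φ : L → ℂ} :
    φ ∈ inducedNonTriv K H ∩ inducedIrrAbove K (H₀ ⊔ ⁅C, C⁆) ↔
      ∃ θ ∈ nineChars K H H₀ C, φ = indFun K θ.1 := by
  haveI := h.H_normal
  haveI := h.N_normal
  constructor
  · rintro ⟨⟨θ, hθ, ⟨z, hz, hne⟩, rfl⟩, ⟨η, hη, -, hηN, he⟩⟩
    obtain ⟨g, hg⟩ := exists_conjChar_of_indFun_eq K (θ := ⟨θ, hθ⟩) (η := ⟨η, hη⟩) he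
    refine ⟨⟨θ, hθ⟩, mem_nineChars.2 ⟨fun h' => hne (h' z hz), ?_⟩, rfl⟩
    rw [← hg]
    exact conjChar_trivOn K _ (fun a ha => hηN a (Subgroup.mem_subgroupOf.1 ha)) g
  · rintro ⟨θ, hθ, rfl⟩
    obtain ⟨hnt, hN⟩ := mem_nineChars.1 hθ
    simp only [Char.TrivOn, not_forall, exists_prop] at hnt
    obtain ⟨z, hz, hne⟩ := hnt
    exact ⟨⟨θ.1, θ.2, ⟨z, hz, hne⟩, rfl⟩,
      ⟨θ.1, θ.2, fun e => hne (by rw [e]), fun a ha => hN a ha, rfl⟩⟩

/-- The degrees divide `|U / C|`. -/
theorem degree_dvd {θ : IrrCharacter K} (hθ : IsNineChar K H H₀ C θ) :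
    charDegree θ.1 ∣ C.relIndex U := by
  haveI := h.N_normal
  haveI := h.A_normal
  have hle : ⁅(H ⊔ C).subgroupOf K, (H ⊔ C).subgroupOf K⁆ ≤ (H₀ ⊔ ⁅C, C⁆).subgroupOf K := by
    rw [Subgroup.commutator_le]
    intro x hx y hy
    rw [Subgroup.mem_subgroupOf] at hx hy ⊢
    rw [coe_commutatorElement]
    exact h.commutator_A_le (Subgroup.commutator_mem_commutator hx hy)
  have := charDegree_dvd_index_of_trivOn hle θ hθ.2
  rwa [← Subgroup.relIndex, h.relIndex_A_K] at this

theorem degree_le {θ : IrrCharacter K} (hθ : IsNineChar K H H₀ C θ) :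
    charDegree θ.1 ≤ C.relIndex U :=
  Nat.le_of_dvd h.C_relIndex_pos (h.degree_dvd hθ)

/-- A constituent on `H C` is a linear character. -/
theorem exists_over_hom [(H ⊔ C).Normal] [Fintype ↥(H ⊔ C)] {θ : IrrCharacter K}
    (hθ : IsNineChar K H H₀ C θ) :
    ∃ (η : IrrCharacter ↥(H ⊔ C)) (f : ↥(H ⊔ C) →* ℂ), Char.Over (H ⊔ C) h.A_le_K θ η ∧ ⇑f = η.1 ∧
      (∀ x : ↥(H ⊔ C), (x : L) ∈ H₀ ⊔ ⁅C, C⁆ → f x = 1) := by
  haveI := h.N_normal
  obtain ⟨η, hη⟩ := Char.exists_over (H ⊔ C) h.A_le_K θ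
  have hN := over_trivOn (H ⊔ C) h.A_le_K hη hθ.2
  have h1 : charDegree η.1 ∣ 1 := by
    rw [← Subgroup.index_top (G := ↥(H ⊔ C))]
    refine charDegree_dvd_index_of_trivOn (D := (H₀ ⊔ ⁅C, C⁆).subgroupOf (H ⊔ C)) ?_ η hN
    rw [Subgroup.commutator_le]
    intro x _ y _
    rw [Subgroup.mem_subgroupOf, coe_commutatorElement]
    exact h.commutator_A_le (Subgroup.commutator_mem_commutator x.2 y.2)
  have h1' : η.1 1 = 1 := by
    rw [← Char.charDegree_cast, Nat.eq_one_of_dvd_one h1, Nat.cast_one]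
  obtain ⟨f, hf⟩ := Char.IsCharacter.exists_monoidHom (Char.irr_isCharacter η) h1'
  exact ⟨η, f, hη, hf, fun x hx => by rw [hf, hN x hx, h1']⟩

omit h in
/-- An element of the inertia group fixes the values. -/
theorem hom_commutator {A : Subgroup L} [A.Normal] {η : IrrCharacter A} {f : A →* ℂ} (hf : ⇑f = η.1)
    {g : L} (hg : g ∈ Char.inertia A η.1) {x : L} (hx : x ∈ A) (hc : ⁅g, x⁆ ∈ A) :
    f ⟨⁅g, x⁆, hc⟩ = 1 := by
  have h1 := (Char.mem_inertia_iff A).1 hg ⟨x, hx⟩
    ⟨g * x * g⁻¹, (‹A.Normal›).conj_mem x hx g⟩ rfl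
  rw [← hf] at h1
  rw [show (⟨⁅g, x⁆, hc⟩ : A) = ⟨g * x * g⁻¹, (‹A.Normal›).conj_mem x hx g⟩ * (⟨x, hx⟩ : A)⁻¹ from
    Subtype.ext (by simp [commutatorElement_def]), map_mul, h1, ← map_mul, mul_inv_cancel, map_one]

/-- The part in `U` of an element of the inertia group lies in it. -/
theorem inertia_part [(H ⊔ C).Normal] (η : IrrCharacter ↥(H ⊔ C)) {g : L}
    (hg : g ∈ Char.inertia (H ⊔ C) η.1 ⊓ K) :
    ∃ a ∈ H, ∃ b ∈ U, g = a * b ∧ b ∈ Char.inertia (H ⊔ C) η.1 := by
  obtain ⟨a, ha, b, hb, rfl⟩ := h.mem_K.1 hg.2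
  refine ⟨a, ha, b, hb, rfl, ?_⟩
  have ha' : a ∈ Char.inertia (H ⊔ C) η.1 :=
    Char.le_inertia (H ⊔ C) (Char.IsCharacter.isClassFunction (Char.irr_isCharacter η))
      (Subgroup.mem_sup_left ha)
  simpa using Subgroup.mul_mem _ (Subgroup.inv_mem _ ha') hg.1

/-- In the Galois case every degree is `|U / C|`. -/
theorem degree_galois (hgal : NineGalois H U H₀) {θ : IrrCharacter K}
    (hθ : IsNineChar K H H₀ C θ) : charDegree θ.1 = C.relIndex U := by
  classical
  haveI := h.A_normal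
  haveI := h.H_normal
  obtain ⟨η, f, hη, hf, hN⟩ := h.exists_over_hom hθ
  have hη1 : η.1 1 = 1 := by rw [← hf, map_one]
  set k : Subgroup L := f.ker.map (H ⊔ C).subtype with hk
  have hI : Char.inertia (H ⊔ C) η.1 ⊓ K ≤ H ⊔ C := by
    intro g hg
    obtain ⟨a, ha, b, hb, rfl, hbI⟩ := h.inertia_part η hg
    by_cases hbC : b ∈ C
    · exact Subgroup.mul_mem _ (Subgroup.mem_sup_left ha) (Subgroup.mem_sup_right hbC)
    exfalso
    have hkle : H₀ ⊔ Subgroup.closure {z | ∃ x ∈ H, z = ⁅b, x⁆} ≤ k := by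
      refine sup_le (fun x hx => ⟨⟨x, Subgroup.mem_sup_left (h.H₀_le hx)⟩,
        hN _ (Subgroup.mem_sup_left hx), rfl⟩) ((Subgroup.closure_le _).2 ?_)
      rintro _ ⟨x, hx, rfl⟩
      have hc : ⁅b, x⁆ ∈ H ⊔ C := by
        rw [commutatorElement_def]
        exact Subgroup.mem_sup_left (H.mul_mem (h.H_normal.conj_mem x hx b) (H.inv_mem hx))
      exact ⟨⟨⁅b, x⁆, hc⟩, hom_commutator hf hbI (Subgroup.mem_sup_left hx) hc, rfl⟩
    rw [h.galois_commutators hgal hb hbC] at hkle
    refine hθ.1 (trivOn_of_over (H ⊔ C) h.A_le_K hη le_sup_left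
      (le_normalizer_of_normal K H) fun x hx => ?_)
    obtain ⟨y, hy, e⟩ := hkle (Subgroup.mem_subgroupOf.1 hx)
    obtain rfl : y = x := Subtype.ext e
    rw [hη1, ← hf]; exact hy
  refine Nat.dvd_antisymm (h.degree_dvd hθ) ?_
  rw [← h.relIndex_A_K]
  refine ((Subgroup.relIndex_dvd_of_le_left K hI).trans ?_)
  rw [Subgroup.inf_relIndex_right]
  exact (dvd_mul_right _ _).trans (Char.relIndex_inertia_mul_dvd (H ⊔ C) h.A_le_K hη)

theorem nineChars_nonempty : (nineChars K H H₀ C).Nonempty := by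
  classical
  haveI := h.N_normal
  haveI := h.H_normal
  have hs := sum_trivOn_not_trivOn ((H₀ ⊔ ⁅C, C⁆).subgroupOf K) (H.subgroupOf K)
  by_contra hcon
  rw [Finset.not_nonempty_iff_eq_empty] at hcon
  rw [show univ.filter (fun θ : IrrCharacter K =>
      Char.TrivOn ((H₀ ⊔ ⁅C, C⁆).subgroupOf K) θ.1 ∧ ¬ Char.TrivOn (H.subgroupOf K) θ.1) =
      nineChars K H H₀ C from Finset.filter_congr fun θ _ => and_comm, hcon, Finset.sum_empty,
    zero_add, ← Subgroup.subgroupOf_sup h.N_le_K h.H_le_K, ← Subgroup.relIndex, ← Subgroup.relIndex,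
    sup_right_comm, sup_eq_right.2 h.H₀_le, h.relIndex_N_K] at hs
  have e1 : (H ⊔ ⁅C, C⁆ : Subgroup L).relIndex K = (⁅C, C⁆ : Subgroup L).relIndex U := by
    conv_lhs => arg 2; rw [← h.H_sup_U]
    rw [h.relIndex_sup le_rfl (C.commutator_le_self.trans h.C_le_U) le_rfl le_rfl,
      Subgroup.relIndex_self, one_mul]
  rw [e1] at hs
  exact (Nat.one_lt_pow h.q_prime.ne_zero h.p_prime.one_lt).ne
    (Nat.eq_of_mul_eq_mul_right (Nat.pos_of_ne_zero Subgroup.index_ne_zero_of_finite)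
      ((one_mul _).trans hs))

end Nine

namespace NineLine

variable {H₁ U₁ : Subgroup L} {a : ℕ}
variable (h : Nine K H U W H₀ C p q) (l : NineLine H U W H₀ C H₁ U₁ p q a)
include h l

/-- A character not trivial on a line has its inertia group inside `H U_w`. -/
theorem inertia_le_line [(H ⊔ C).Normal] [Fintype ↥(H ⊔ C)] {η : IrrCharacter ↥(H ⊔ C)}
    {f : ↥(H ⊔ C) →* ℂ} (hf : ⇑f = η.1) (hN : ∀ x : ↥(H ⊔ C), (x : L) ∈ H₀ → f x = 1)
    {w : L} (hw : w ∈ W) (hnt : ¬ Char.TrivOn ((nineLineAt H₁ w).subgroupOf (H ⊔ C)) η.1)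
    {b : L} (hb : b ∈ U) (hbI : b ∈ Char.inertia (H ⊔ C) η.1) :
    b ∈ modCent U (nineLineAt H₁ w) H₀ := by
  haveI := h.H_normal
  set ln := nineLineAt H₁ w with hl
  set k : Subgroup L := ln ⊓ f.ker.map (H ⊔ C).subtype with hk
  rw [mem_modCent]
  refine ⟨hb, fun x hx => by_contra fun hc0 => hnt ?_⟩
  have hxA : x ∈ H ⊔ C := Subgroup.mem_sup_left (lineAt_le h l w hx)
  have hcl : ⁅b, x⁆ ∈ ln := by
    rw [commutatorElement_def]
    exact ln.mul_mem (conj_mem_of_le_normalizer (normalizer_lineAt h l hw) hb hx) (ln.inv_mem hx)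
  have hcA : ⁅b, x⁆ ∈ H ⊔ C := Subgroup.mem_sup_left (lineAt_le h l w hcl)
  have hck : ⁅b, x⁆ ∈ k := ⟨hcl, ⟨_, hcA⟩, Nine.hom_commutator hf hbI hxA hcA, rfl⟩
  have h0k : H₀ ≤ k := fun y hy => ⟨H₀_le_lineAt h l w hy,
    ⟨⟨y, Subgroup.mem_sup_left (h.H₀_le hy)⟩, hN _ hy, rfl⟩⟩
  have hcard : H₀.relIndex ln = p := by
    rw [← card_map_lineAt h l hw, ← Subgroup.relIndex_ker, QuotientGroup.ker_mk']
  have hd : H₀.relIndex k ∣ p := by
    rw [← hcard, ← Subgroup.relIndex_mul_relIndex H₀ k ln h0k inf_le_left]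
    exact dvd_mul_right _ _
  have heq : k = ln := by
    rcases (Nat.dvd_prime h.p_prime).1 hd with e | e
    · exact absurd (Subgroup.relIndex_eq_one.1 e hck) hc0
    · refine le_antisymm inf_le_left (Subgroup.relIndex_eq_one.1 ?_)
      have e2 := Subgroup.relIndex_mul_relIndex H₀ k ln h0k inf_le_left
      rw [e, hcard] at e2
      exact (mul_eq_left₀ h.p_prime.ne_zero).1 e2
  intro y hy
  have hy' : (y : L) ∈ k := heq.ge (Subgroup.mem_subgroupOf.1 hy)
  obtain ⟨z, hz, e⟩ := hy'.2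
  obtain rfl : z = y := Subtype.ext e
  rw [← hf, map_one]; exact hz

theorem not_trivOn_of_lines {θ : IrrCharacter K}
    (hall : ∀ w ∈ W, Char.TrivOn ((nineLineAt H₁ w).subgroupOf K) θ.1) :
    Char.TrivOn (H.subgroupOf K) θ.1 := by
  have hle : H ≤ (CharInt.charKernel (Char.irr_isCharacter θ)).map K.subtype := by
    rw [← l.span]
    exact iSup₂_le fun w hw x hx => ⟨⟨x, h.H_le_K (lineAt_le h l w hx)⟩,
      (CharInt.mem_charKernel _).2 (hall w hw _ hx), rfl⟩
  intro x hx
  obtain ⟨y, hy, e⟩ := hle (Subgroup.mem_subgroupOf.1 hx)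
  obtain rfl : y = x := Subtype.ext e
  exact (CharInt.mem_charKernel _).1 hy

theorem normalizer_lineAt_K {w : L} (hw : w ∈ W) :
    K ≤ Subgroup.normalizer (nineLineAt H₁ w : Set L) :=
  h.H_sup_U ▸ sup_le (h.normalizer_between (H₀_le_lineAt h l w) (lineAt_le h l w))
    (normalizer_lineAt h l hw)

theorem a_dvd_degree {θ : IrrCharacter K} (hθ : IsNineChar K H H₀ C θ) : a ∣ charDegree θ.1 := by
  classical
  haveI := h.A_normal
  haveI := h.H_normal
  obtain ⟨η, f, hη, hf, hN⟩ := h.exists_over_hom hθ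
  obtain ⟨w, hw, hnt⟩ : ∃ w ∈ W, ¬ Char.TrivOn ((nineLineAt H₁ w).subgroupOf K) θ.1 := by
    by_contra! hcon
    exact hθ.1 (not_trivOn_of_lines h l hcon)
  have hnt' : ¬ Char.TrivOn ((nineLineAt H₁ w).subgroupOf (H ⊔ C)) η.1 := fun h' => hnt
    (trivOn_of_over (H ⊔ C) h.A_le_K hη ((lineAt_le h l w).trans le_sup_left)
      (normalizer_lineAt_K h l hw) h')
  have hI : Char.inertia (H ⊔ C) η.1 ⊓ K ≤ H ⊔ modCent U (nineLineAt H₁ w) H₀ := by
    intro g hg
    obtain ⟨x, hx, b, hb, rfl, hbI⟩ := h.inertia_part η hg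
    exact Subgroup.mul_mem _ (Subgroup.mem_sup_left hx) (Subgroup.mem_sup_right
      (inertia_le_line h l hf (fun y hy => hN y (Subgroup.mem_sup_left hy)) hw hnt' hb hbI))
  rw [← relIndex_modCent_sup h l hw]
  refine ((Subgroup.relIndex_dvd_of_le_left K hI).trans ?_)
  rw [Subgroup.inf_relIndex_right]
  exact (dvd_mul_right _ _).trans (Char.relIndex_inertia_mul_dvd (H ⊔ C) h.A_le_K hη)

/-- A character not trivial on any line has degree `|U / C|`; its constituents on `H C` are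
`|U / C|` in number. -/
theorem full_spec [(H ⊔ C).Normal] [Fintype ↥(H ⊔ C)] {θ : IrrCharacter K}
    (hθ : IsNineChar K H H₀ C θ)
    (hall : ∀ w ∈ W, ¬ Char.TrivOn ((nineLineAt H₁ w).subgroupOf K) θ.1)
    {η : IrrCharacter ↥(H ⊔ C)} (hη : Char.Over (H ⊔ C) h.A_le_K θ η) :
    charDegree θ.1 = C.relIndex U ∧
      Nat.card {η' // Char.Over (H ⊔ C) h.A_le_K θ η'} = C.relIndex U := by
  classical
  haveI := h.H_normal
  haveI := h.N_normal
  have hN := over_trivOn (H ⊔ C) h.A_le_K hη hθ.2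
  obtain ⟨η₀, f₀, hη₀, hf₀, -⟩ := h.exists_over_hom hθ
  obtain ⟨g, hg, e⟩ := Char.over_conjugate (H ⊔ C) h.A_le_K hη₀ hη
  have h1 : η.1 1 = 1 := by
    rw [e, Char.conjChar_coe, Char.conjFun_apply_one, ← hf₀, map_one]
  obtain ⟨f, hf⟩ := Char.IsCharacter.exists_monoidHom (Char.irr_isCharacter η) h1
  have hI : Char.inertia (H ⊔ C) η.1 ⊓ K ≤ H ⊔ C := by
    intro g hg
    obtain ⟨x, hx, b, hb, rfl, hbI⟩ := h.inertia_part η hg
    refine Subgroup.mul_mem _ (Subgroup.mem_sup_left hx) (Subgroup.mem_sup_right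
      (mem_C_of_forall h l fun w hw => ?_))
    refine inertia_le_line h l hf (fun y hy => ?_) hw (fun h' => hall w hw ?_) hb hbI
    · rw [hf, hN y (Subgroup.mem_sup_left (Subgroup.mem_subgroupOf.1 hy)), h1]
    · exact trivOn_of_over (H ⊔ C) h.A_le_K hη ((lineAt_le h l w).trans le_sup_left)
        (normalizer_lineAt_K h l hw) h'
  have hidx : (Char.inertia (H ⊔ C) η.1).relIndex K = C.relIndex U := by
    refine Nat.dvd_antisymm ?_ ?_
    · rw [← h.relIndex_A_K]
      exact Subgroup.relIndex_dvd_of_le_left K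
        (Char.le_inertia (H ⊔ C) (Char.IsCharacter.isClassFunction (Char.irr_isCharacter η)))
    · rw [← h.relIndex_A_K, ← Subgroup.inf_relIndex_right (Char.inertia (H ⊔ C) η.1) K]
      exact Subgroup.relIndex_dvd_of_le_left K hI
  refine ⟨Nat.dvd_antisymm (h.degree_dvd hθ) ?_, ?_⟩
  · rw [← hidx]
    exact (dvd_mul_right _ _).trans (Char.relIndex_inertia_mul_dvd (H ⊔ C) h.A_le_K hη)
  · rw [Char.card_over (H ⊔ C) h.A_le_K hη, hidx]

/-- Only characters of degree `|U / C|` are fixed outside `K`. -/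
theorem isIrrCharacter_indFun [K.Normal] {θ : IrrCharacter K} (hθ : IsNineChar K H H₀ C θ)
    (hne : charDegree θ.1 ≠ C.relIndex U) : IsIrrCharacter L (indFun K θ.1) := by
  classical
  haveI := h.A_normal
  haveI := h.H_normal
  haveI : Fact q.Prime := ⟨h.q_prime⟩
  refine Char.isIrrCharacter_indFun_inertia K K le_rfl θ (e := 1) (fun g hg => ?_) one_ne_zero
    (fun n => by simp)
  by_contra hgK
  obtain ⟨k, hk, v, hv, rfl⟩ := h.exists_mul g
  have hv1 : v ≠ 1 := fun e => hgK (by rw [e, mul_one]; exact hk)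
  have hvI : v ∈ Char.inertia K θ.1 := by
    have hk' := Char.le_inertia K (Char.IsCharacter.isClassFunction (Char.irr_isCharacter θ)) hk
    have hg' : k * v ∈ Char.inertia K θ.1 := hg
    simpa using Subgroup.mul_mem _ (Subgroup.inv_mem _ hk') hg'
  have hWI : ∀ x ∈ W, x ∈ Char.inertia K θ.1 := by
    intro x hx
    obtain ⟨i, hi⟩ := Subgroup.mem_zpowers_iff.1 (mem_zpowers_of_prime_card (G := W)
      (g := ⟨v, hv⟩) (g' := ⟨x, hx⟩) h.card_W (fun e => hv1 (congrArg Subtype.val e)))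
    rw [show x = v ^ i by simpa using congrArg Subtype.val hi.symm]
    exact Subgroup.zpow_mem _ hvI i
  refine hne ?_
  obtain ⟨η, hη⟩ := Char.exists_over (H ⊔ C) h.A_le_K θ
  refine (full_spec h l hθ (fun w hw hw' => hθ.1 (not_trivOn_of_lines h l fun v' hv' => ?_)) hη).1
  intro x hx
  obtain ⟨z, hz, e⟩ := Subgroup.mem_subgroupOf.1 hx
  have hy : v' * w⁻¹ ∈ Char.inertia K θ.1 :=
    Subgroup.mul_mem _ (hWI v' hv') (Subgroup.inv_mem _ (hWI w hw))
  have hzl : w * z * w⁻¹ ∈ nineLineAt H₁ w := ⟨z, hz, rfl⟩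
  have h1 := (Char.mem_inertia_iff K).1 hy ⟨w * z * w⁻¹, h.H_le_K (lineAt_le h l w hzl)⟩ x
    (by rw [← e]; simp [mul_assoc])
  rw [h1]
  exact hw' _ (Subgroup.mem_subgroupOf.2 hzl)

/-- Many characters of degree `a`. -/
theorem le_card_degree_a :
    q * (2 * a * C.relIndex U) ≤
      ∑ θ ∈ (nineChars K H H₀ C).filter (fun θ => charDegree θ.1 = a), charDegree θ.1 ^ 2 := by
  classical
  haveI := h.H_normal
  haveI := h.N_normal
  haveI := Fintype.ofFinite W
  set F : W → Finset (IrrCharacter K) := fun w => univ.filter fun θ : IrrCharacter K =>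
    Char.TrivOn ((nineCoLine W H₀ H₁ (w : L) ⊔ ⁅U, U⁆).subgroupOf K) θ.1 ∧
      ¬ Char.TrivOn (H.subgroupOf K) θ.1 with hF
  have hU'K : ⁅U, U⁆ ≤ K := (U.commutator_le_self).trans h.U_le_K
  have hU'C : ⁅U, U⁆ ≤ C := h.derived_U_le
  have hX : ∀ w : L, nineCoLine W H₀ H₁ w ⊔ ⁅U, U⁆ ≤ K := fun w =>
    sup_le ((coLine_le h l w).trans h.H_le_K) hU'K
  have hDn : ∀ w : L, ((nineCoLine W H₀ H₁ w ⊔ ⁅U, U⁆).subgroupOf K).Normal := by
    intro w
    rw [Subgroup.normal_subgroupOf_iff_le_normalizer (hX w), ← h.H_sup_U]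
    refine sup_le (le_normalizer_of_conj_mem fun g hg x hx => ?_)
      (le_normalizer_sup (normalizer_coLine_U h l w) (le_normalizer_commutator Subgroup.le_normalizer))
    rw [← SetLike.mem_coe, Subgroup.coe_mul_of_right_le_normalizer_left _ _
      ((U.commutator_le_self).trans (normalizer_coLine_U h l w))] at hx
    obtain ⟨y, hy, c, hc, rfl⟩ := Set.mem_mul.1 hx
    rw [show g * (y * c) * g⁻¹ = (g * y * g⁻¹) * ⁅g, c⁆ * c by simp [commutatorElement_def]; group]
    exact Subgroup.mul_mem _ (Subgroup.mem_sup_left ((nineCoLine W H₀ H₁ w).mul_mem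
      (conj_mem_of_le_normalizer (normalizer_coLine_H h l w) hg hy)
      (Subgroup.mem_sup_left (h.comm_mem' (hU'C hc) hg)))) (Subgroup.mem_sup_right hc)
  have hsub : ∀ w : W, F w ⊆ (nineChars K H H₀ C).filter (fun θ => charDegree θ.1 = a) := by
    intro w θ hθ
    simp only [hF, Finset.mem_filter, Finset.mem_univ, true_and] at hθ
    obtain ⟨hD, hnt⟩ := hθ
    have hle : H₀ ⊔ ⁅C, C⁆ ≤ nineCoLine W H₀ H₁ (w : L) ⊔ ⁅U, U⁆ :=
      sup_le_sup le_sup_left (Subgroup.commutator_mono h.C_le_U h.C_le_U)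
    have hP : IsNineChar K H H₀ C θ := ⟨hnt, fun x hx => hD x (hle hx)⟩
    refine Finset.mem_filter.2 ⟨mem_nineChars.2 hP, Nat.dvd_antisymm ?_ (a_dvd_degree h l hP)⟩
    haveI := hDn (w : L)
    haveI := modCent_sup_normal h l (w : L)
    set X := nineCoLine W H₀ H₁ (w : L)
    have hB : ⁅(H ⊔ modCent U (nineLineAt H₁ (w : L)) H₀).subgroupOf K,
        (H ⊔ modCent U (nineLineAt H₁ (w : L)) H₀).subgroupOf K⁆ ≤
        (X ⊔ ⁅U, U⁆).subgroupOf K := by
      rw [Subgroup.commutator_le]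
      intro x hx y hy
      rw [Subgroup.mem_subgroupOf, Subgroup.mem_sup_of_normal_left] at hx hy
      obtain ⟨b, hb, c, hc, e⟩ := hx
      obtain ⟨b', hb', c', hc', e'⟩ := hy
      have hcomm : ∀ {s t : K}, ⁅(s : L), (t : L)⁆ ∈ X ⊔ ⁅U, U⁆ →
          Commute (QuotientGroup.mk' ((X ⊔ ⁅U, U⁆).subgroupOf K) s)
            (QuotientGroup.mk' ((X ⊔ ⁅U, U⁆).subgroupOf K) t) := by
        intro s t hst
        rw [← commutatorElement_eq_one_iff_commute, ← map_commutatorElement,
          QuotientGroup.mk'_apply, QuotientGroup.eq_one_iff, Subgroup.mem_subgroupOf,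
          coe_commutatorElement]
        exact hst
      have ex : x = ⟨b, h.H_le_K hb⟩ * ⟨c, h.U_le_K (modCent_le _ _ _ hc)⟩ := Subtype.ext e.symm
      have ey : y = ⟨b', h.H_le_K hb'⟩ * ⟨c', h.U_le_K (modCent_le _ _ _ hc')⟩ :=
        Subtype.ext e'.symm
      rw [← QuotientGroup.eq_one_iff, ← QuotientGroup.mk'_apply, map_commutatorElement,
        commutatorElement_eq_one_iff_commute, ex, ey, map_mul, map_mul]
      have h1 : ∀ {s t : L}, s ∈ H → t ∈ modCent U (nineLineAt H₁ (w : L)) H₀ → ⁅t, s⁆ ∈ X ⊔ ⁅U, U⁆ :=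
        fun hs ht => Subgroup.mem_sup_left (comm_mem_coLine h l w.2 ht hs)
      refine Commute.mul_left (Commute.mul_right (hcomm ?_) (hcomm ?_).symm)
        (Commute.mul_right (hcomm ?_) (hcomm ?_))
      · exact Subgroup.mem_sup_left (Subgroup.mem_sup_left
          (h.factor_comm (Subgroup.commutator_mem_commutator hb hb')))
      · exact h1 hb hc'
      · exact h1 hb' hc
      · exact Subgroup.mem_sup_right
          (Subgroup.commutator_mem_commutator (modCent_le _ _ _ hc) (modCent_le _ _ _ hc'))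
    have := charDegree_dvd_index_of_trivOn hB θ hD
    rwa [← Subgroup.relIndex, relIndex_modCent_sup h l w.2] at this
  have hdisj : ∀ w ∈ (univ : Finset W), ∀ v ∈ (univ : Finset W), w ≠ v → Disjoint (F w) (F v) := by
    intro w _ v _ hwv
    rw [Finset.disjoint_left]
    intro θ h1 h2
    simp only [hF, Finset.mem_filter, Finset.mem_univ, true_and] at h1 h2
    refine h1.2 ?_
    have h3 := (trivOn_sup_iff θ _ _).2 ⟨h1.1, h2.1⟩
    intro x hx
    refine h3 x ?_
    rw [← Subgroup.subgroupOf_sup (hX _) (hX _), Subgroup.mem_subgroupOf]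
    have hle : H ≤ (nineCoLine W H₀ H₁ (w : L) ⊔ ⁅U, U⁆) ⊔ (nineCoLine W H₀ H₁ (v : L) ⊔ ⁅U, U⁆) :=
      (coLine_sup_coLine h l v.2 w.2 fun e => hwv (Subtype.ext e.symm)).ge.trans
        (sup_le_sup le_sup_left le_sup_left)
    exact hle (Subgroup.mem_subgroupOf.1 hx)
  have hsum : ∀ w : W, 2 * a * C.relIndex U ≤ ∑ θ ∈ F w, charDegree θ.1 ^ 2 := by
    intro w
    haveI := hDn (w : L)
    set X := nineCoLine W H₀ H₁ (w : L) with hXdef
    have hs := sum_trivOn_not_trivOn ((X ⊔ ⁅U, U⁆).subgroupOf K) (H.subgroupOf K)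
    rw [← Subgroup.subgroupOf_sup (hX _) h.H_le_K, ← Subgroup.relIndex, ← Subgroup.relIndex,
      sup_right_comm, sup_eq_right.2 (coLine_le h l (w : L))] at hs
    have e1 : (H ⊔ ⁅U, U⁆ : Subgroup L).relIndex K = (⁅U, U⁆ : Subgroup L).relIndex U := by
      conv_lhs => arg 2; rw [← h.H_sup_U]
      rw [h.relIndex_sup le_rfl U.commutator_le_self le_rfl le_rfl, Subgroup.relIndex_self, one_mul]
    have e2 : (X ⊔ ⁅U, U⁆).relIndex (H ⊔ ⁅U, U⁆) = p := by
      have c1 := card_sup_of_normalizer ((U.commutator_le_self).trans (normalizer_coLine_U h l (w : L)))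
        (le_bot_iff.1 ((inf_le_inf (coLine_le h l (w : L)) U.commutator_le_self).trans h.H_inf_U.le))
      have c2 := h.card_sup (X := H) le_rfl (U.commutator_le_self)
      have c3 := Subgroup.relIndex_mul_relIndex ⊥ (X ⊔ ⁅U, U⁆) (H ⊔ ⁅U, U⁆) bot_le
        (sup_le_sup_right (coLine_le h l (w : L)) _)
      have c4 := Subgroup.relIndex_mul_relIndex ⊥ X H bot_le (coLine_le h l (w : L))
      simp only [Subgroup.relIndex_bot_left] at c3 c4
      rw [c1, c2, ← c4, hXdef, relIndex_coLine h l w.2, ← hXdef] at c3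
      apply Nat.eq_of_mul_eq_mul_left (Nat.mul_pos (Nat.card_pos (α := X))
        (Nat.card_pos (α := (⁅U, U⁆ : Subgroup L))))
      rw [c3]; ring
    have e3 := Subgroup.relIndex_mul_relIndex (X ⊔ ⁅U, U⁆) (H ⊔ ⁅U, U⁆) K
      (sup_le_sup_right (coLine_le h l (w : L)) _) (sup_le h.H_le_K hU'K)
    rw [e2, e1] at e3
    rw [← e3, e1] at hs
    have hu : C.relIndex U ≤ (⁅U, U⁆ : Subgroup L).relIndex U :=
      Nat.le_of_dvd (Nat.pos_of_ne_zero Subgroup.index_ne_zero_of_finite)
        (Subgroup.relIndex_dvd_of_le_left U hU'C)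
    have ha := two_mul_a_le h l
    have h3 := h.three_le_p
    have : 2 * a * C.relIndex U ≤ (p - 1) * (⁅U, U⁆ : Subgroup L).relIndex U :=
      Nat.mul_le_mul ha hu
    rw [Nat.sub_mul, one_mul] at this
    simp only [hF, ← hXdef]
    omega
  calc q * (2 * a * C.relIndex U) = ∑ _w : W, 2 * a * C.relIndex U := by
        rw [Finset.sum_const, Finset.card_univ, ← Nat.card_eq_fintype_card, h.card_W, smul_eq_mul]
    _ ≤ ∑ w : W, ∑ θ ∈ F w, charDegree θ.1 ^ 2 := Finset.sum_le_sum fun w _ => hsum w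
    _ = ∑ θ ∈ (univ : Finset W).biUnion F, charDegree θ.1 ^ 2 :=
        (Finset.sum_biUnion fun w hw v hv hne => hdisj w hw v hv hne).symm
    _ ≤ _ := Finset.sum_le_sum_of_subset (Finset.biUnion_subset.2 fun w _ => hsub w)

/-- Many characters not trivial on any line. -/
theorem le_card_degree_u :
    (p - 1) ^ q ≤
      C.relIndex U * ((nineChars K H H₀ C).filter fun θ => charDegree θ.1 = C.relIndex U).card := by
  classical
  haveI := h.A_normal
  haveI := h.H_normal
  haveI := h.N_normal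
  haveI := Fintype.ofFinite W
  set A := H ⊔ C with hA
  set E : W → Subgroup A := fun w => (nineCoLine W H₀ H₁ (w : L) ⊔ C).subgroupOf A with hE
  have hXA : ∀ w : L, nineCoLine W H₀ H₁ w ⊔ C ≤ A := fun w => sup_le_sup_right (coLine_le h l w) C
  have hND : H₀ ⊔ ⁅C, C⁆ ≤ H₀ ⊔ C := h.N_le_D
  have hcomm : ∀ w : W, ⁅(⊤ : Subgroup A), ⊤⁆ ≤ E w := by
    intro w
    rw [Subgroup.commutator_le]
    intro x _ y _
    have := h.commutator_A_le (Subgroup.commutator_mem_commutator x.2 y.2)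
    rw [hE, Subgroup.mem_subgroupOf, coe_commutatorElement]
    have hle : H₀ ⊔ ⁅C, C⁆ ≤ nineCoLine W H₀ H₁ (w : L) ⊔ C :=
      sup_le_sup le_sup_left C.commutator_le_self
    exact hle this
  haveI hEn : ∀ w : W, (E w).Normal := fun w =>
    ⟨fun x hx g => by
      have := hcomm w (Subgroup.commutator_mem_commutator (Subgroup.mem_top g) (Subgroup.mem_top x))
      have h2 := (E w).mul_mem this hx
      rwa [commutatorElement_def, inv_mul_cancel_right] at h2⟩
  have hEidx : ∀ w : W, (E w).index = p := by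
    intro w
    show (nineCoLine W H₀ H₁ (w : L) ⊔ C).relIndex (H ⊔ C) = p
    have c1 := card_sup_of_normalizer (h.C_le_U.trans (normalizer_coLine_U h l (w : L)))
      (le_bot_iff.1 ((inf_le_inf (coLine_le h l (w : L)) h.C_le_U).trans h.H_inf_U.le))
    have c2 := h.card_sup (X := H) le_rfl h.C_le_U
    have c3 := Subgroup.relIndex_mul_relIndex ⊥ (nineCoLine W H₀ H₁ (w : L) ⊔ C) (H ⊔ C) bot_le
      (sup_le_sup_right (coLine_le h l (w : L)) _)
    have c4 := Subgroup.relIndex_mul_relIndex ⊥ (nineCoLine W H₀ H₁ (w : L)) H bot_le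
      (coLine_le h l (w : L))
    simp only [Subgroup.relIndex_bot_left] at c3 c4
    rw [c1, c2, ← c4, relIndex_coLine h l w.2] at c3
    apply Nat.eq_of_mul_eq_mul_left (Nat.mul_pos
      (Nat.card_pos (α := nineCoLine W H₀ H₁ (w : L))) (Nat.card_pos (α := C)))
    rw [c3]; ring
  have hcount : ∀ w : W, Nat.card ((A ⧸ E w) →* ℂ) = p := by
    intro w
    rw [Char.card_monoidHom_complex, ← hEidx w]
    have : commutator (A ⧸ E w) = ⊥ := by
      rw [commutator_def, ← Subgroup.map_top_of_surjective _ (QuotientGroup.mk'_surjective (E w)),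
        ← Subgroup.map_commutator, Subgroup.map_eq_bot_iff, QuotientGroup.ker_mk']
      exact hcomm w
    rw [this, Subgroup.index_bot]; rfl
  haveI : ∀ w : W, Finite ((A ⧸ E w) →* ℂ) := fun w =>
    Nat.finite_of_card_ne_zero (by rw [hcount w]; exact h.p_prime.ne_zero)
  -- the products of one non-trivial character for each line
  let T := ∀ w : W, {g : (A ⧸ E w) →* ℂ // g ≠ 1}
  haveI : ∀ w : W, Fintype {g : (A ⧸ E w) →* ℂ // g ≠ 1} := fun w => Fintype.ofFinite _
  have hT : Fintype.card T = (p - 1) ^ q := by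
    rw [Fintype.card_pi, Finset.prod_congr rfl (g := fun _ => p - 1) fun w _ => ?_,
      Finset.prod_const, Finset.card_univ, ← Nat.card_eq_fintype_card, h.card_W]
    haveI : Fintype ((A ⧸ E w) →* ℂ) := Fintype.ofFinite _
    rw [Fintype.card_subtype_compl, Fintype.card_subtype_eq, ← Nat.card_eq_fintype_card, hcount w]
  let P : T → (A →* ℂ) := fun g => ∏ w : W, (g w).1.comp (QuotientGroup.mk' (E w))
  have hon : ∀ (g : T) (v : W) (x : A), (x : L) ∈ nineLineAt H₁ (v : L) →
      P g x = (g v).1 (QuotientGroup.mk' (E v) x) := by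
    intro g v x hx
    simp only [P, MonoidHom.finsetProd_apply, MonoidHom.comp_apply]
    refine Finset.prod_eq_single v (fun w _ hne => ?_) fun h' => absurd (Finset.mem_univ v) h'
    rw [show QuotientGroup.mk' (E w) x = 1 from (QuotientGroup.eq_one_iff x).2
      (Subgroup.mem_subgroupOf.2 (Subgroup.mem_sup_left
        (lineAt_le_coLine h l v.2 (fun e => hne (Subtype.ext e.symm)) hx))), map_one]
  have hdet : ∀ (v : W) (f f' : (A ⧸ E v) →* ℂ), (∀ x : A, (x : L) ∈ nineLineAt H₁ (v : L) →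
      f (QuotientGroup.mk' (E v) x) = f' (QuotientGroup.mk' (E v) x)) → f = f' := by
    intro v f f' he
    refine MonoidHom.ext fun z => ?_
    obtain ⟨x, rfl⟩ := QuotientGroup.mk'_surjective (E v) z
    have hle : A ≤ ((MonoidHom.eqLocus (f.comp (QuotientGroup.mk' (E v)))
        (f'.comp (QuotientGroup.mk' (E v))))).map A.subtype := by
      refine sup_le ?_ ?_
      · refine (coLine_sup h l v.2).ge.trans (sup_le
          (fun y hy => ⟨⟨y, hXA _ (Subgroup.mem_sup_left hy)⟩, ?_, rfl⟩)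
          (fun y hy => ⟨⟨y, Subgroup.mem_sup_left (lineAt_le h l v hy)⟩, he _ hy, rfl⟩))
        show f (QuotientGroup.mk' (E v) _) = f' (QuotientGroup.mk' (E v) _)
        rw [show QuotientGroup.mk' (E v) (⟨y, hXA _ (Subgroup.mem_sup_left hy)⟩ : A) = 1 from
          (QuotientGroup.eq_one_iff _).2 (Subgroup.mem_subgroupOf.2 (Subgroup.mem_sup_left hy)),
          map_one, map_one]
      · intro y hy
        refine ⟨⟨y, Subgroup.mem_sup_right hy⟩, ?_, rfl⟩
        show f (QuotientGroup.mk' (E v) _) = f' (QuotientGroup.mk' (E v) _)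
        rw [show QuotientGroup.mk' (E v) (⟨y, Subgroup.mem_sup_right hy⟩ : A) = 1 from
          (QuotientGroup.eq_one_iff _).2 (Subgroup.mem_subgroupOf.2 (Subgroup.mem_sup_right hy)),
          map_one, map_one]
    obtain ⟨y, hy, e⟩ := hle x.2
    obtain rfl : y = x := Subtype.ext e
    exact hy
  have hinj : Function.Injective P := fun g g' he => funext fun v => Subtype.ext
    (hdet v _ _ fun x hx => by rw [← hon g v x hx, ← hon g' v x hx, he])
  have htriv : ∀ (g : T) (x : A), (x : L) ∈ H₀ ⊔ C → P g x = 1 := by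
    intro g x hx
    simp only [P, MonoidHom.finsetProd_apply, MonoidHom.comp_apply]
    refine Finset.prod_eq_one fun w _ => ?_
    have hle : H₀ ⊔ C ≤ nineCoLine W H₀ H₁ (w : L) ⊔ C := sup_le_sup_right le_sup_left C
    rw [show QuotientGroup.mk' (E w) x = 1 from (QuotientGroup.eq_one_iff x).2
      (Subgroup.mem_subgroupOf.2 (hle hx)), map_one]
  choose θf hθf using fun g : T => exists_irr_over A h.A_le_K (Char.linIrr (P g))
  have hline : ∀ (g : T) (v : W),
      ¬ Char.TrivOn ((nineLineAt H₁ (v : L)).subgroupOf K) (θf g).1 := by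
    intro g v hc
    have h1 := over_trivOn A h.A_le_K (hθf g) hc
    refine (g v).2 (hdet v (g v).1 1 fun x hx => ?_)
    rw [← hon g v x hx]
    exact (h1 x hx).trans (map_one _)
  have hnine : ∀ g : T, IsNineChar K H H₀ C (θf g) := fun g =>
    ⟨fun hc => hline g ⟨1, W.one_mem⟩ fun x hx => hc x (lineAt_le h l _ hx),
    trivOn_of_over A h.A_le_K (hθf g) h.N_le_A (le_normalizer_of_normal K _) fun x hx => by
      show P g x = P g 1
      rw [map_one, htriv g x (hND hx)]⟩
  have hfull : ∀ g : T, charDegree (θf g).1 = C.relIndex U ∧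
      Nat.card {η' // Char.Over A h.A_le_K (θf g) η'} = C.relIndex U := fun g =>
    full_spec h l (hnine g) (fun w hw => hline g ⟨w, hw⟩) (hθf g)
  rw [← hT, ← Finset.card_univ]
  refine Finset.card_le_mul_card_image_of_maps_to (f := θf) (fun g _ => Finset.mem_filter.2
    ⟨mem_nineChars.2 (hnine g), (hfull g).1⟩) _ fun θ hθ => ?_
  by_cases hne : (univ.filter fun g => θf g = θ).Nonempty
  · obtain ⟨g₀, hg₀⟩ := hne
    rw [Finset.mem_filter] at hg₀
    rw [← (hfull g₀).2, Nat.card_eq_fintype_card, Fintype.card_subtype]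
    refine Finset.card_le_card_of_injOn (fun g => Char.linIrr (P g)) (fun g hg => ?_)
      fun g _ g' _ e => hinj (Char.linIrr_injective e)
    rw [Finset.mem_coe, Finset.mem_filter] at hg ⊢
    exact ⟨Finset.mem_univ _, by rw [hg₀.2, ← hg.2]; exact hθf g⟩
  · rw [Finset.not_nonempty_iff_eq_empty.1 hne]; simp

end NineLine

end Cfsg.Agent.OddOrder.PF
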