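import Cfsg.Agent.Lib.OddOrder.Coherence

/-!
The extension step of Peterfalvi (5.6) from the value of the coefficients alone: a coherent set
extends by a conjugate pair as soon as `τ (χ - a χ₁)` has on the images of the set the coefficients
it would have if the extension existed.
-/

set_option autoImplicit false
set_option linter.unusedSectionVars false

namespace Cfsg.Agent.OddOrder

open scoped ComplexConjugate
open Finset Char

universe u v

variable {L : Type u} [Group L] [Fintype L] {G : Type v} [Group G] [Fintype G]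
variable {S : Set (L → ℂ)} {τ : (L → ℂ) → (G → ℂ)} {R : (L → ℂ) → Finset (G → ℂ)}

open scoped Classical in
theorem isCoherent_extend_of_coeff (hS : IsCoherenceSystem S τ R) (d n : (L → ℂ) → ℕ)
    (hd : ∀ φ ∈ S, φ 1 = (d φ : ℂ)) (hn : ∀ φ ∈ S, classInner φ φ = (n φ : ℂ))
    (S₁ : Finset (L → ℂ)) (hS₁ : ↑S₁ ⊆ S) (hS₁c : ∀ φ ∈ S₁, conjFun φ ∈ S₁)
    {σ : (L → ℂ) → (G → ℂ)}
    (hσ : IsLinearIsometryOn (zspan (↑S₁ : Set (L → ℂ))) σ)
    (hσA : ∀ α ∈ zspanOn (↑S₁ : Set (L → ℂ)) {1}ᶜ, σ α = τ α)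
    {χ : L → ℂ} (hχ : χ ∈ S) (hχ₁ : χ ∉ S₁) (hχ₂ : conjFun χ ∉ S₁)
    {χ₁ : L → ℂ} (hχ₁S : χ₁ ∈ S₁) {a : ℕ} (ha : d χ = d χ₁ * a)
    (hcoef : ∀ φ ∈ S₁, classInner (τ (χ - (a : ℤ) • χ₁)) (σ φ) =
      -((if φ = χ₁ then (a : ℤ) * n χ₁ else 0 : ℤ) : ℂ)) :
    IsCoherent (↑S₁ ∪ {χ, conjFun χ} : Set (L → ℂ)) {1}ᶜ τ := by
  classical
  have hpos : ∀ φ ∈ S, 0 < n φ := fun φ hφ => by
    obtain ⟨m, hm0, hm⟩ := system_exists_norm hS hφ
    rw [hn φ hφ] at hm
    have : n φ = m := by exact_mod_cast hm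
    omega
  have hdpos : ∀ φ ∈ S, 0 < d φ := fun φ hφ => by
    obtain ⟨m, ρ, hρ⟩ := hS.isCharacter φ hφ
    by_contra h
    have h1 := hd φ hφ
    rw [show φ 1 = (m : ℂ) by rw [← congrFun hρ 1, ρ.char_one]; simp, show d φ = 0 by omega] at h1
    have hm : m = 0 := by simpa using h1
    subst hm
    exact system_ne_zero hS hφ (hρ ▸ funext fun g => by
      simp [Representation.character, Subsingleton.elim (ρ g) 0])
  have hχ₁m := hS₁ hχ₁S
  have hd1 := hdpos χ₁ hχ₁m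
  have hsub : ∀ β ∈ zspan (↑S₁ : Set (L → ℂ)), β ∈ zspan S := fun β hβ => Submodule.span_mono hS₁ hβ
  have hne : ∀ φ ∈ S₁, φ ≠ χ ∧ φ ≠ conjFun χ := fun φ hφ =>
    ⟨fun h => hχ₁ (h ▸ hφ), fun h => hχ₂ (h ▸ hφ)⟩
  have horth1 : ∀ φ ∈ S₁, classInner χ φ = 0 := fun φ hφ =>
    hS.orthogonal χ hχ φ (hS₁ hφ) (hne φ hφ).1.symm
  have horth2 : ∀ φ ∈ S₁, classInner (conjFun χ) φ = 0 := fun φ hφ =>
    hS.orthogonal _ (hS.conj_mem χ hχ) φ (hS₁ hφ) (hne φ hφ).2.symm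
  have hmem1 : ∀ φ ∈ S₁, φ ∈ zspan (↑S₁ : Set (L → ℂ)) := fun φ hφ => Submodule.subset_span hφ
  -- the images of `S₁` are orthogonal to `R χ`
  have himg : ∀ φ ∈ S₁, ∀ α ∈ R χ, classInner (σ φ) α = 0 := by
    intro φ hφ α hα
    obtain ⟨b, hb, hbsum⟩ := exists_coeff hS (hS₁ hφ) (hσ.2.2.2 φ (hmem1 φ hφ))
    obtain ⟨c, hc⟩ := Char.IsGeneralizedCharacter.exists_int_classInner
      (hσ.2.2.2 φ (hmem1 φ hφ)) (hS.virtual χ hχ α hα)
    have hE : φ - conjFun φ ∈ zspanOn (↑S₁ : Set (L → ℂ)) {1}ᶜ := mem_zspanOn_compl_one.2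
      ⟨Submodule.sub_mem _ (hmem1 φ hφ) (hmem1 _ (hS₁c φ hφ)),
        by simp [conjFun_apply_one hS (hS₁ hφ)]⟩
    rw [← hσA _ hE, hσ.2.2.1 _ (hmem1 φ hφ) _ hE.1, classInner_sub_right, hn φ (hS₁ hφ),
      (system_conj_inner hS (hS₁ hφ)).1, sub_zero] at hbsum
    have hbsum' : (n φ : ℤ) = ∑ β ∈ R φ, b β := by exact_mod_cast hbsum
    have hT : classInner (σ φ) (σ φ) = ((n φ : ℤ) : ℂ) := by
      rw [hσ.2.2.1 _ (hmem1 φ hφ) _ (hmem1 φ hφ), hn φ (hS₁ hφ), Int.cast_natCast]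
    have h := bessel_int ((R φ).disjSum ({α} : Finset (G → ℂ))) (Sum.elim id id) (fun _ => 1)
      (fun _ _ => Nat.one_pos) (fun i hi j hj => ?_) (σ φ) _ hT (Sum.elim b fun _ => c) (fun i hi => ?_)
    · rw [Finset.sum_disjSum, Finset.sum_singleton] at h
      simp only [Sum.elim_inl, Sum.elim_inr, Nat.cast_one, div_one] at h
      have h' : ∑ x ∈ R φ, b x ^ 2 + c ^ 2 ≤ (n φ : ℤ) := by exact_mod_cast h
      have h1 := le_sq_of_sum (R φ) b
      have h3 : c ^ 2 = 0 := le_antisymm (by linarith) (sq_nonneg c)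
      rw [hc, pow_eq_zero_iff two_ne_zero |>.1 h3, Int.cast_zero]
    · simp only [Finset.mem_disjSum, Finset.mem_singleton] at hi hj
      rcases hi with ⟨x, hx, rfl⟩ | ⟨x, rfl, rfl⟩ <;> rcases hj with ⟨y, hy, rfl⟩ | ⟨y, rfl, rfl⟩ <;>
        simp only [Sum.elim_inl, Sum.elim_inr, id, Sum.inl.injEq, Sum.inr.injEq, reduceCtorEq, if_false,
          Nat.cast_one]
      · exact hS.orthonormal φ (hS₁ hφ) x hx y hy
      · exact R_orth hS hχ (hS₁ hφ) (hne φ hφ).1 (hne φ hφ).2 hx hα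
      · rw [← Char.conj_classInner, R_orth hS hχ (hS₁ hφ) (hne φ hφ).1 (hne φ hφ).2 hy hα, map_zero]
      · rw [if_pos trivial, hS.orthonormal χ hχ _ hα _ hα, if_pos rfl]
    · simp only [Finset.mem_disjSum, Finset.mem_singleton] at hi
      rcases hi with ⟨x, hx, rfl⟩ | ⟨x, rfl, rfl⟩
      · exact hb x hx
      · exact hc
  -- `T = τ (χ - a χ₁)`
  have hE : χ - (a : ℤ) • χ₁ ∈ zspanOn S {1}ᶜ := mem_zspanOn_compl_one.2
    ⟨Submodule.sub_mem _ (Submodule.subset_span hχ)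
      (Submodule.smul_mem _ _ (Submodule.subset_span hχ₁m)),
      by simp [hd χ hχ, hd χ₁ hχ₁m, ha, mul_comm]⟩
  set T := τ (χ - (a : ℤ) • χ₁) with hT
  have hTv := hS.isometry.2.2.2 _ hE
  have h10 : classInner χ₁ χ = 0 := by rw [← Char.conj_classInner, horth1 χ₁ hχ₁S, map_zero]
  have h10' : classInner χ₁ (conjFun χ) = 0 := by
    rw [← Char.conj_classInner, horth2 χ₁ hχ₁S, map_zero]
  have hTT : classInner T T = ((n χ + a ^ 2 * n χ₁ : ℕ) : ℤ) := by
    rw [hT, hS.isometry.2.2.1 _ hE _ hE]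
    simp only [classInner_sub_left, classInner_sub_right, classInner_zsmul_left,
      classInner_zsmul_right, horth1 χ₁ hχ₁S, h10, hn χ hχ, hn χ₁ hχ₁m]
    push_cast; ring
  have hbφ : ∀ φ ∈ S₁, classInner T (σ φ) = -((if φ = χ₁ then (a : ℤ) * n χ₁ else 0 : ℤ) : ℂ) :=
    hcoef
  set X := T + (a : ℤ) • σ χ₁ with hX
  set X' := X - τ (χ - conjFun χ) with hX'
  have hXv : IsGeneralizedCharacter G X := Char.IsGeneralizedCharacter.add hTv
    (by rw [← Int.cast_smul_eq_zsmul ℂ]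
        exact Char.IsGeneralizedCharacter.intCast_smul (hσ.2.2.2 _ (hmem1 χ₁ hχ₁S)) _)
  have hX'v : IsGeneralizedCharacter G X' :=
    Char.IsGeneralizedCharacter.sub hXv (hS.isometry.2.2.2 _ (sub_conj_mem hS hχ))
  have hXσ : ∀ φ ∈ S₁, classInner X (σ φ) = 0 := by
    intro φ hφ
    rw [hX, classInner_add_left, classInner_zsmul_left, hbφ φ hφ,
      hσ.2.2.1 _ (hmem1 χ₁ hχ₁S) _ (hmem1 φ hφ)]
    by_cases h : φ = χ₁
    · subst h; rw [if_pos rfl, hn φ (hS₁ hφ)]; push_cast; ring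
    · rw [if_neg h, hS.orthogonal χ₁ hχ₁m φ (hS₁ hφ) (Ne.symm h)]; simp
  have hσR : ∀ φ ∈ S₁, classInner (σ φ) (τ (χ - conjFun χ)) = 0 := fun φ hφ => by
    rw [hS.sum_eq χ hχ, classInner_sum_right]
    exact Finset.sum_eq_zero (himg φ hφ)
  have hXX : classInner X X = classInner χ χ := by
    have h1 : classInner (σ χ₁) T = -(((a : ℤ) * n χ₁ : ℤ) : ℂ) := by
      rw [← Char.conj_classInner, hbφ χ₁ hχ₁S, if_pos rfl, map_neg, map_intCast]
    rw [hX]
    simp only [classInner_add_left, classInner_add_right, classInner_zsmul_left,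
      classInner_zsmul_right, hTT, hbφ χ₁ hχ₁S, if_pos, h1,
      hσ.2.2.1 _ (hmem1 χ₁ hχ₁S) _ (hmem1 χ₁ hχ₁S), hn χ₁ hχ₁m, hn χ hχ]
    push_cast; ring
  have hXR : classInner X (τ (χ - conjFun χ)) = classInner χ χ := by
    rw [hX, classInner_add_left, classInner_zsmul_left, hσR χ₁ hχ₁S, mul_zero, add_zero, hT,
      hS.isometry.2.2.1 _ hE _ (sub_conj_mem hS hχ)]
    simp only [classInner_sub_left, classInner_sub_right, classInner_zsmul_left, h10, h10',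
      (system_conj_inner hS hχ).1, mul_zero, sub_zero]
  have hτR : classInner (τ (χ - conjFun χ)) (τ (χ - conjFun χ)) = 2 * classInner χ χ := by
    rw [hS.isometry.2.2.1 _ (sub_conj_mem hS hχ) _ (sub_conj_mem hS hχ)]
    obtain ⟨g1, g2, g3⟩ := system_conj_inner hS hχ
    simp only [classInner_sub_left, classInner_sub_right, g1, g2, g3]
    ring
  have hXR' : classInner (τ (χ - conjFun χ)) X = classInner χ χ := by
    rw [← Char.conj_classInner, hXR, hn χ hχ, Complex.conj_natCast]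
  have hXX' : classInner X X' = 0 := by
    rw [hX', classInner_sub_right, hXX, hXR, sub_self]
  have hX'X' : classInner X' X' = classInner χ χ := by
    rw [hX', classInner_sub_left, classInner_sub_right, classInner_sub_right, hXX, hXR, hXR', hτR]
    ring
  have hX'σ : ∀ φ ∈ S₁, classInner X' (σ φ) = 0 := fun φ hφ => by
    rw [hX', classInner_sub_left, hXσ φ hφ, ← Char.conj_classInner (σ φ), hσR φ hφ, map_zero, sub_zero]
  have hcc : conjFun χ ≠ χ := hS.conj_ne χ hχ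
  set P : Finset (L → ℂ) := {χ, conjFun χ} with hP
  obtain ⟨g1, g2, g3⟩ := system_conj_inner hS hχ
  obtain ⟨σ', hσ', hσ'v⟩ := exists_isometry_of_images P (fun _ => n χ) (fun _ _ => hpos χ hχ)
    (fun x hx y hy => by
      simp only [hP, Finset.mem_insert, Finset.mem_singleton] at hx hy
      rcases hx with rfl | rfl <;> rcases hy with rfl | rfl <;>
        simp [g1, g2, g3, hn _ hχ, hcc, hcc.symm])
    (fun φ => if φ = χ then X else X')
    (fun x _ => by split_ifs; exacts [hXv, hX'v])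
    (fun x hx y hy => by
      simp only [hP, Finset.mem_insert, Finset.mem_singleton] at hx hy
      rcases hx with rfl | rfl <;> rcases hy with rfl | rfl <;>
        simp only [if_pos, if_neg hcc, hXX, hX'X', hXX', g1, g2, g3]
      rw [← Char.conj_classInner, hXX', map_zero])
  have horth : ∀ x ∈ (↑S₁ : Set (L → ℂ)), ∀ y ∈ (↑P : Set (L → ℂ)), classInner x y = 0 := by
    intro x hx y hy
    simp only [hP, Finset.coe_insert, Finset.coe_singleton, Set.mem_insert_iff,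
      Set.mem_singleton_iff] at hy
    rcases hy with rfl | rfl
    · rw [← Char.conj_classInner, horth1 x hx, map_zero]
    · rw [← Char.conj_classInner, horth2 x hx, map_zero]
  have himg' : ∀ x ∈ (↑S₁ : Set (L → ℂ)), ∀ y ∈ (↑P : Set (L → ℂ)),
      classInner (σ x) (σ' y) = 0 := by
    intro x hx y hy
    rw [hσ'v y hy, ← Char.conj_classInner]
    split_ifs
    · rw [hXσ x hx, map_zero]
    · rw [hX'σ x hx, map_zero]
  obtain ⟨τ₁, hτ₁, hτ₁v⟩ := exists_glue horth hσ hσ' himg'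
  rw [show (↑S₁ ∪ {χ, conjFun χ} : Set (L → ℂ)) = ↑S₁ ∪ ↑P by simp [hP]]
  refine ⟨⟨χ - conjFun χ, mem_zspanOn_compl_one.2
    ⟨Submodule.sub_mem _ (Submodule.subset_span (Or.inr (by simp [hP])))
      (Submodule.subset_span (Or.inr (by simp [hP]))), by simp [conjFun_apply_one hS hχ]⟩,
    sub_ne_zero.2 hcc.symm⟩, τ₁, hτ₁, fun α hα => ?_⟩
  obtain ⟨hα1, hα0⟩ := mem_zspanOn_compl_one.1 hα
  have hα1' : α ∈ Submodule.span ℤ ((↑S₁ : Set (L → ℂ)) ∪ ↑P) := hα1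
  rw [Submodule.span_union, Submodule.mem_sup] at hα1'
  obtain ⟨s, hs, t, ht, rfl⟩ := hα1'
  rw [hτ₁v s hs t ht]
  have ht' : t ∈ Submodule.span ℤ ({χ, conjFun χ} : Set (L → ℂ)) := by simpa [hP] using ht
  obtain ⟨m, m', rfl⟩ := Submodule.mem_span_pair.1 ht'
  set s' := s + ((m + m') * a) • χ₁ with hs'
  have hs'E : s' ∈ zspanOn (↑S₁ : Set (L → ℂ)) {1}ᶜ := mem_zspanOn_compl_one.2
    ⟨Submodule.add_mem _ hs (Submodule.smul_mem _ _ (hmem1 χ₁ hχ₁S)), by
      have h0 := hα0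
      simp only [Pi.add_apply, zsmul_eq_mul, Pi.mul_apply, Pi.intCast_apply, conjFun_apply_one hS hχ, hd χ hχ, ha] at h0
      push_cast at h0
      simp only [hs', Pi.add_apply, zsmul_eq_mul, Pi.mul_apply, Pi.intCast_apply, hd χ₁ hχ₁m]
      push_cast
      linear_combination h0⟩
  have hs'S : s' ∈ zspanOn S {1}ᶜ := ⟨hsub _ hs'E.1, hs'E.2⟩
  have hsplit : s + (m • χ + m' • conjFun χ) =
      s' + ((m + m') • (χ - (a : ℤ) • χ₁) + (-m') • (χ - conjFun χ)) := by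
    rw [hs', smul_sub, smul_sub, smul_smul, add_smul, neg_smul, neg_smul]; abel
  rw [hsplit, hS.isometry.1 _ hs'S _ (Submodule.add_mem (zspanOnSub S {1}ᶜ)
      (Submodule.smul_mem (zspanOnSub S {1}ᶜ) _ hE)
      (Submodule.smul_mem (zspanOnSub S {1}ᶜ) _ (sub_conj_mem hS hχ))),
    hS.isometry.1 _ (Submodule.smul_mem (zspanOnSub S {1}ᶜ) _ hE) _
      (Submodule.smul_mem (zspanOnSub S {1}ᶜ) _ (sub_conj_mem hS hχ)),
    hS.isometry.2.1 _ hE, hS.isometry.2.1 _ (sub_conj_mem hS hχ), ← hσA _ hs'E, hs',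
    hσ.1 _ hs _ (Submodule.smul_mem (Submodule.span ℤ (↑S₁ : Set (L → ℂ))) _ (hmem1 χ₁ hχ₁S)),
    hσ.2.1 _ (hmem1 χ₁ hχ₁S)]
  have hP1 : χ ∈ zspan (↑P : Set (L → ℂ)) := Submodule.subset_span (by simp [hP])
  have hP2 : conjFun χ ∈ zspan (↑P : Set (L → ℂ)) := Submodule.subset_span (by simp [hP])
  rw [hσ'.1 _ (Submodule.smul_mem (Submodule.span ℤ (↑P : Set (L → ℂ))) _ hP1) _
      (Submodule.smul_mem (Submodule.span ℤ (↑P : Set (L → ℂ))) _ hP2),
    hσ'.2.1 _ hP1, hσ'.2.1 _ hP2, hσ'v χ (by simp [hP]), hσ'v _ (by simp [hP]), if_pos rfl,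
    if_neg hcc, hX', ← hT, hX, smul_sub, smul_add, smul_smul, smul_add, smul_smul, add_smul, neg_smul,
    add_mul, add_smul]
  abel


end Cfsg.Agent.OddOrder
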