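import Cfsg.Agent.Lib.OddOrder.CoherenceFrobenius
import Cfsg.Agent.Lib.OddOrder.PF.S9_Extend

/-!
A coherence criterion for the borderline case of Peterfalvi (5.6), used for (9.11).

`S₁` consists of characters of norm `1` and degree `e`, every member of `U` has degree a multiple of
`e` and at most `c e`, and `2 c ≤ |S₁|`. When `2 c = |S₁|` a single test function `β`, whose norm is
smaller than what the characters of degree `c e` would force, is enough for coherence of `U`.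
-/

set_option autoImplicit false
set_option linter.unusedSectionVars false

namespace Cfsg.Agent.OddOrder

open scoped ComplexConjugate
open Finset Cfsg.Agent.Char

universe u v

variable {L : Type u} [Group L] [Fintype L] {G : Type v} [Group G] [Fintype G]
variable {S : Set (L → ℂ)} {τ : (L → ℂ) → (G → ℂ)} {R : (L → ℂ) → Finset (G → ℂ)}

open scoped Classical in
/-- The test function of the borderline case. -/
structure BorderTest (S : Set (L → ℂ)) (τ : (L → ℂ) → (G → ℂ)) (d n : (L → ℂ) → ℕ)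
    (S₁ : Finset (L → ℂ)) (U : Set (L → ℂ)) (m : ℕ) : Prop where
  exists_test : ∃ χ₁ ∈ S₁, ∃ (T : Finset (L → ℂ)) (β : L → ℂ) (N : ℕ),
    IsGeneralizedCharacter G (τ β) ∧ classInner (τ β) (τ β) = (N : ℂ) ∧
    (∀ α ∈ zspanOn S {1}ᶜ, classInner (τ α) (τ β) = classInner α β) ∧
    (∀ φ ∈ S₁, classInner φ β = if φ = χ₁ then -1 else 0) ∧
    (↑T ⊆ U) ∧ (∀ χ ∈ T, χ ∉ S₁ ∧ d χ = m ∧ classInner χ β = 0) ∧
    (N : ℝ) < 1 + ∑ χ ∈ T, (1 : ℝ) / n χ

theorem isCoherent_of_borderTest (hS : IsCoherenceSystem S τ R) (d n : (L → ℂ) → ℕ)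
    (hd : ∀ φ ∈ S, φ 1 = (d φ : ℂ)) (hn : ∀ φ ∈ S, classInner φ φ = (n φ : ℂ))
    (S₁ : Finset (L → ℂ)) (U : Set (L → ℂ)) (hU : U ⊆ S) (h₁U : ↑S₁ ⊆ U)
    (hS₁c : ∀ φ ∈ S₁, Cfsg.conjFun φ ∈ S₁) (hUc : ∀ φ ∈ U, Cfsg.conjFun φ ∈ U) (hne : S₁.Nonempty)
    {e c : ℕ} (he : ∀ φ ∈ S₁, d φ = e) (hn1 : ∀ φ ∈ S₁, n φ = 1) (hcard : 2 * c ≤ S₁.card)
    (hdeg : ∀ χ ∈ U, e ∣ d χ ∧ d χ ≤ e * c)
    (htest : 2 ≤ c → 2 * c = S₁.card → BorderTest (G := G) S τ d n S₁ U (e * c)) :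
    IsCoherent U {1}ᶜ τ := by
  classical
  have h₁S : ↑S₁ ⊆ S := h₁U.trans hU
  have hpos : ∀ φ ∈ S, 0 < n φ := fun φ hφ => by
    obtain ⟨k, hk0, hk⟩ := system_exists_norm hS hφ
    rw [hn φ hφ] at hk
    have : n φ = k := by exact_mod_cast hk
    omega
  have hdpos : ∀ φ ∈ S, 0 < d φ := fun φ hφ => by
    obtain ⟨m, ρ, hρ⟩ := hS.isCharacter φ hφ
    by_contra h
    have h1 := hd φ hφ
    rw [show φ 1 = (m : ℂ) by rw [← congrFun hρ 1, ρ.char_one]; simp, show d φ = 0 by omega] at h1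
    have hm : m = 0 := by simpa using h1
    subst hm
    exact system_ne_zero hS hφ (hρ ▸ funext fun g => by
      simp [Representation.character, Subsingleton.elim (ρ g) 0])
  obtain ⟨φ₀, hφ₀⟩ := hne
  have hepos : 0 < e := he φ₀ hφ₀ ▸ hdpos φ₀ (h₁S hφ₀)
  rcases Nat.lt_or_ge c 2 with hc | hc
  · -- one degree
    refine isCoherent_of_const_degree (system_subset hS hU ⟨φ₀, h₁U hφ₀⟩ hUc) fun φ hφ ψ hψ => ?_
    have key : ∀ χ ∈ U, d χ = e := fun χ hχ => by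
      obtain ⟨h1, h2⟩ := hdeg χ hχ
      have h3 := Nat.le_of_dvd (hdpos χ (hU hχ)) h1
      have h4 : e * c ≤ e * 1 := Nat.mul_le_mul_left e (by omega)
      omega
    rw [hd φ (hU hφ), hd ψ (hU hψ), key φ hφ, key ψ hψ]
  obtain ⟨hne₁, σ, hσ, hσA⟩ := isCoherent_of_const_degree
    (system_subset hS h₁S ⟨φ₀, hφ₀⟩ hS₁c) (fun φ hφ ψ hψ => by
      rw [hd φ (h₁S hφ), hd ψ (h₁S hψ), he φ hφ, he ψ hψ])
  have hcoh : IsCoherent (↑S₁ : Set (L → ℂ)) {1}ᶜ τ := ⟨hne₁, σ, hσ, hσA⟩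
  have hsum₁ : ∑ φ ∈ S₁, ((d φ : ℝ) ^ 2 / (n φ : ℝ)) = S₁.card * (e : ℝ) ^ 2 := by
    rw [sum_congr rfl fun φ hφ => by rw [he φ hφ, hn1 φ hφ, Nat.cast_one, div_one], sum_const,
      nsmul_eq_mul]
  have hdle : ∀ χ ∈ U, (2 * d χ * e : ℝ) ≤ 2 * c * (e : ℝ) ^ 2 := fun χ hχ => by
    have : (d χ : ℝ) ≤ e * c := by exact_mod_cast (hdeg χ hχ).2
    have he0 : (0 : ℝ) ≤ e := Nat.cast_nonneg _
    nlinarith
  have he2 : (0 : ℝ) < (e : ℝ) ^ 2 := pow_pos (Nat.cast_pos.2 hepos) 2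
  rcases lt_or_eq_of_le hcard with hlt | heq
  · refine isCoherent_of_ineq hS d n hd hn S₁ U hU h₁U hS₁c hUc hcoh fun χ hχ _ =>
      ⟨φ₀, hφ₀, he φ₀ hφ₀ ▸ (hdeg χ hχ).1, ?_⟩
    have h : (2 * c : ℝ) < S₁.card := by exact_mod_cast hlt
    rw [he φ₀ hφ₀, hsum₁]
    exact lt_of_le_of_lt (hdle χ hχ) (mul_lt_mul_of_pos_right h he2)
  obtain ⟨χ₁, hχ₁, T, β, N, hβv, hNN, hβiso, hβ₁, hTU, hT, hlt⟩ := (htest hc heq).exists_test
  have hmem1 : ∀ φ ∈ S₁, φ ∈ zspan (↑S₁ : Set (L → ℂ)) := fun φ hφ => Submodule.subset_span hφ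
  have hσσ : ∀ φ ∈ S₁, ∀ ψ ∈ S₁, classInner (σ φ) (σ ψ) = if φ = ψ then 1 else 0 := by
    intro φ hφ ψ hψ
    rw [hσ.2.2.1 _ (hmem1 φ hφ) _ (hmem1 ψ hψ)]
    split_ifs with h
    · subst h; rw [hn φ (h₁S hφ), hn1 φ hφ, Nat.cast_one]
    · exact hS.orthogonal φ (h₁S hφ) ψ (h₁S hψ) h
  have hχS : ∀ χ ∈ T, χ ∈ S := fun χ hχ => hU (hTU hχ)
  have hE : ∀ χ ∈ T, χ - (c : ℤ) • χ₁ ∈ zspanOn S {1}ᶜ := fun χ hχ => mem_zspanOn_compl_one.2
    ⟨Submodule.sub_mem _ (Submodule.subset_span (hχS χ hχ))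
      (Submodule.smul_mem _ _ (Submodule.subset_span (h₁S hχ₁))),
      by simp [hd χ (hχS χ hχ), hd χ₁ (h₁S hχ₁), (hT χ hχ).2.1, he χ₁ hχ₁, mul_comm]⟩
  have hne₂ : ∀ χ ∈ T, ∀ φ ∈ S₁, φ ≠ χ ∧ φ ≠ Cfsg.conjFun χ := fun χ hχ φ hφ =>
    ⟨fun h => (hT χ hχ).1 (h ▸ hφ), fun h => (hT χ hχ).1 (by
      have := hS₁c φ hφ; rwa [h, conjFun_conjFun] at this)⟩
  have hsub : ∀ φ ∈ S₁, φ - χ₁ ∈ zspanOn (↑S₁ : Set (L → ℂ)) {1}ᶜ := fun φ hφ =>
    mem_zspanOn_compl_one.2 ⟨Submodule.sub_mem _ (hmem1 φ hφ) (hmem1 χ₁ hχ₁),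
      by simp [hd φ (h₁S hφ), hd χ₁ (h₁S hχ₁), he φ hφ, he χ₁ hχ₁]⟩
  have hsubS : ∀ φ ∈ S₁, φ - χ₁ ∈ zspanOn S {1}ᶜ := fun φ hφ =>
    ⟨Submodule.span_mono h₁S (hsub φ hφ).1, (hsub φ hφ).2⟩
  have hστ : ∀ φ ∈ S₁, τ (φ - χ₁) = σ φ - σ χ₁ := fun φ hφ => by
    rw [← hσA _ (hsub φ hφ), iso_map_sub (E := Submodule.span ℤ (↑S₁ : Set (L → ℂ))) hσ
      (hmem1 φ hφ) (hmem1 χ₁ hχ₁)]
  by_cases hext : ∃ χ ∈ T, IsCoherent (↑S₁ ∪ {χ, Cfsg.conjFun χ} : Set (L → ℂ)) {1}ᶜ τ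
  · obtain ⟨χ, hχ, hcoh'⟩ := hext
    set S₂ : Finset (L → ℂ) := insert χ (insert (Cfsg.conjFun χ) S₁) with hS₂
    have hins : (↑S₁ ∪ {χ, Cfsg.conjFun χ} : Set (L → ℂ)) = ↑S₂ := by
      rw [hS₂]; push_cast; ext; simp
    rw [hins] at hcoh'
    refine isCoherent_of_ineq hS d n hd hn S₂ U hU ?_ ?_ hUc hcoh' fun ψ hψ _ =>
      ⟨φ₀, by simp [hS₂, hφ₀], he φ₀ hφ₀ ▸ (hdeg ψ hψ).1, ?_⟩
    · rw [← hins]
      exact Set.union_subset h₁U (Set.insert_subset (hTU hχ) (Set.singleton_subset_iff.2 (hUc χ (hTU hχ))))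
    · intro φ hφ
      simp only [hS₂, Finset.mem_insert] at hφ ⊢
      rcases hφ with rfl | rfl | hφ
      · exact Or.inr (Or.inl rfl)
      · exact Or.inl (conjFun_conjFun χ)
      · exact Or.inr (Or.inr (hS₁c φ hφ))
    · have hnot : χ ∉ S₁ := (hT χ hχ).1
      have hp : 0 < (d χ : ℝ) ^ 2 / n χ := div_pos
        (pow_pos (Nat.cast_pos.2 (hdpos χ (hχS χ hχ))) 2) (Nat.cast_pos.2 (hpos χ (hχS χ hχ)))
      have hle : ∑ φ ∈ insert χ S₁, ((d φ : ℝ) ^ 2 / (n φ : ℝ)) ≤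
          ∑ φ ∈ S₂, ((d φ : ℝ) ^ 2 / (n φ : ℝ)) :=
        sum_le_sum_of_subset_of_nonneg (insert_subset_insert χ (subset_insert _ _))
          fun φ _ _ => div_nonneg (sq_nonneg _) (Nat.cast_nonneg _)
      rw [sum_insert hnot, hsum₁, ← heq] at hle
      push_cast at hle
      have := hdle ψ hψ
      rw [he φ₀ hφ₀]
      linarith
  exfalso
  push Not at hext
  -- the coefficients on the images of `S₁`
  have hcoef : ∀ χ ∈ T, ∀ φ ∈ S₁, classInner (τ (χ - (c : ℤ) • χ₁)) (σ φ) =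
      ((1 - if φ = χ₁ then (c : ℤ) else 0 : ℤ) : ℂ) := by
    intro χ hχ
    obtain ⟨b₁, hb₁⟩ := IsGeneralizedCharacter.exists_int_classInner
      (hS.isometry.2.2.2 _ (hE χ hχ)) (hσ.2.2.2 χ₁ (hmem1 χ₁ hχ₁))
    set t : ℤ := b₁ + c with ht
    have hb : ∀ φ ∈ S₁, classInner (τ (χ - (c : ℤ) • χ₁)) (σ φ) =
        ((t - if φ = χ₁ then (c : ℤ) else 0 : ℤ) : ℂ) := by
      intro φ hφ
      by_cases h : φ = χ₁
      · subst h; rw [if_pos rfl, hb₁, ht, add_sub_cancel_right]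
      · rw [if_neg h, sub_zero]
        have h1 := hS.isometry.2.2.1 _ (hE χ hχ) _ (hsubS φ hφ)
        rw [hστ φ hφ, classInner_sub_right, hb₁] at h1
        simp only [classInner_sub_left, classInner_sub_right, classInner_zsmul_left] at h1
        rw [hS.orthogonal χ (hχS χ hχ) φ (h₁S hφ) (hne₂ χ hχ φ hφ).1.symm,
          hS.orthogonal χ (hχS χ hχ) χ₁ (h₁S hχ₁) (hne₂ χ hχ χ₁ hχ₁).1.symm,
          hS.orthogonal χ₁ (h₁S hχ₁) φ (h₁S hφ) (Ne.symm h), hn χ₁ (h₁S hχ₁), hn1 χ₁ hχ₁] at h1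
        rw [ht]; push_cast at h1 ⊢
        linear_combination h1
    suffices t = 1 by intro φ hφ; rw [hb φ hφ, this]
    by_cases h0 : t = 0
    · refine absurd ?_ (hext χ hχ)
      refine isCoherent_extend_of_coeff hS d n hd hn S₁ h₁S hS₁c hσ hσA (hχS χ hχ)
        (hT χ hχ).1 (fun h => (hne₂ χ hχ _ h).2 rfl) hχ₁ (a := c)
        (by rw [(hT χ hχ).2.1, he χ₁ hχ₁]) fun φ hφ => ?_
      rw [hb φ hφ, h0, hn1 χ₁ hχ₁]
      split_ifs <;> simp
    -- Bessel on `R χ` and the images of `S₁`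
    have hTv := hS.isometry.2.2.2 _ (hE χ hχ)
    have h10 : classInner χ₁ χ = 0 :=
      hS.orthogonal χ₁ (h₁S hχ₁) χ (hχS χ hχ) (hne₂ χ hχ χ₁ hχ₁).1
    have h01 : classInner χ χ₁ = 0 :=
      hS.orthogonal χ (hχS χ hχ) χ₁ (h₁S hχ₁) (hne₂ χ hχ χ₁ hχ₁).1.symm
    have h10' : classInner χ₁ (Cfsg.conjFun χ) = 0 := hS.orthogonal χ₁ (h₁S hχ₁) _
      (hS.conj_mem χ (hχS χ hχ)) (hne₂ χ hχ χ₁ hχ₁).2
    have hTT : classInner (τ (χ - (c : ℤ) • χ₁)) (τ (χ - (c : ℤ) • χ₁)) =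
        (((n χ + c ^ 2 : ℕ) : ℤ) : ℂ) := by
      rw [hS.isometry.2.2.1 _ (hE χ hχ) _ (hE χ hχ)]
      simp only [classInner_sub_left, classInner_sub_right, classInner_zsmul_left,
        classInner_zsmul_right, h10, h01, hn χ (hχS χ hχ), hn χ₁ (h₁S hχ₁), hn1 χ₁ hχ₁]
      push_cast; ring
    obtain ⟨r, hr, hrsum⟩ := exists_coeff hS (hχS χ hχ) hTv
    rw [hS.isometry.2.2.1 _ (hE χ hχ) _ (sub_conj_mem hS (hχS χ hχ))] at hrsum
    simp only [classInner_sub_left, classInner_sub_right, classInner_zsmul_left, h10, h10',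
      (system_conj_inner hS (hχS χ hχ)).1, hn χ (hχS χ hχ), mul_zero, sub_zero] at hrsum
    have hrsum' : (n χ : ℤ) = ∑ α ∈ R χ, r α := by exact_mod_cast hrsum
    have himg : ∀ φ ∈ S₁, ∀ α ∈ R χ, classInner (σ φ) α = 0 := by
      intro φ hφ α hα
      obtain ⟨b, hb', hbsum⟩ := exists_coeff hS (h₁S hφ) (hσ.2.2.2 φ (hmem1 φ hφ))
      obtain ⟨k, hk⟩ := IsGeneralizedCharacter.exists_int_classInner
        (hσ.2.2.2 φ (hmem1 φ hφ)) (hS.virtual χ (hχS χ hχ) α hα)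
      have hF : φ - Cfsg.conjFun φ ∈ zspanOn (↑S₁ : Set (L → ℂ)) {1}ᶜ := mem_zspanOn_compl_one.2
        ⟨Submodule.sub_mem _ (hmem1 φ hφ) (hmem1 _ (hS₁c φ hφ)),
          by simp [conjFun_apply_one hS (h₁S hφ)]⟩
      rw [← hσA _ hF, hσ.2.2.1 _ (hmem1 φ hφ) _ hF.1, classInner_sub_right, hn φ (h₁S hφ),
        (system_conj_inner hS (h₁S hφ)).1, sub_zero, hn1 φ hφ] at hbsum
      have hbsum' : (1 : ℤ) = ∑ β ∈ R φ, b β := by exact_mod_cast hbsum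
      have hdisj : ∀ x ∈ R φ, classInner x α = 0 := fun x hx =>
        R_orth hS (hχS χ hχ) (h₁S hφ) (hne₂ χ hχ φ hφ).1 (hne₂ χ hχ φ hφ).2 hx hα
      have h := bessel_int ((R φ).disjSum ({α} : Finset (G → ℂ))) (Sum.elim id id) (fun _ => 1)
        (fun _ _ => Nat.one_pos) (fun i hi j hj => ?_) (σ φ) 1
        (by rw [hσσ φ hφ φ hφ, if_pos rfl, Int.cast_one]) (Sum.elim b fun _ => k) (fun i hi => ?_)
      · rw [Finset.sum_disjSum, Finset.sum_singleton] at h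
        simp only [Sum.elim_inl, Sum.elim_inr, Nat.cast_one, div_one] at h
        have h' : ∑ x ∈ R φ, b x ^ 2 + k ^ 2 ≤ 1 := by exact_mod_cast h
        have h1 := le_sq_of_sum (R φ) b
        have h3 : k ^ 2 = 0 := le_antisymm (by linarith) (sq_nonneg k)
        rw [hk, pow_eq_zero_iff two_ne_zero |>.1 h3, Int.cast_zero]
      · simp only [Finset.mem_disjSum, Finset.mem_singleton] at hi hj
        rcases hi with ⟨x, hx, rfl⟩ | ⟨x, rfl, rfl⟩ <;> rcases hj with ⟨y, hy, rfl⟩ | ⟨y, rfl, rfl⟩ <;>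
          simp only [Sum.elim_inl, Sum.elim_inr, id, Sum.inl.injEq, reduceCtorEq, if_false,
            Nat.cast_one]
        · exact hS.orthonormal φ (h₁S hφ) x hx y hy
        · exact hdisj x hx
        · rw [← conj_classInner, hdisj y hy, map_zero]
        · rw [if_pos trivial, hS.orthonormal χ (hχS χ hχ) _ hα _ hα, if_pos rfl]
      · simp only [Finset.mem_disjSum, Finset.mem_singleton] at hi
        rcases hi with ⟨x, hx, rfl⟩ | ⟨x, rfl, rfl⟩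
        · exact hb' x hx
        · exact hk
    have hBes := bessel_int ((R χ).disjSum S₁) (Sum.elim id σ) (fun _ => 1) (fun _ _ => Nat.one_pos)
      (fun i hi j hj => ?_) _ _ hTT
      (Sum.elim r fun φ => t - if φ = χ₁ then (c : ℤ) else 0) (fun i hi => ?_)
    rotate_left
    · simp only [Finset.mem_disjSum] at hi hj
      rcases hi with ⟨x, hx, rfl⟩ | ⟨x, hx, rfl⟩ <;> rcases hj with ⟨y, hy, rfl⟩ | ⟨y, hy, rfl⟩ <;>
        simp only [Sum.elim_inl, Sum.elim_inr, id, Sum.inl.injEq, Sum.inr.injEq, reduceCtorEq,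
          if_false, Nat.cast_one]
      · exact hS.orthonormal χ (hχS χ hχ) x hx y hy
      · rw [← conj_classInner, himg y hy x hx, map_zero]
      · exact himg x hx y hy
      · exact hσσ x hx y hy
    · simp only [Finset.mem_disjSum] at hi
      rcases hi with ⟨x, hx, rfl⟩ | ⟨x, hx, rfl⟩
      · exact hr x hx
      · exact hb x hx
    rw [Finset.sum_disjSum] at hBes
    simp only [Sum.elim_inl, Sum.elim_inr, Nat.cast_one, div_one] at hBes
    have hB : ∑ x ∈ R χ, r x ^ 2 + ∑ φ ∈ S₁, (t - if φ = χ₁ then (c : ℤ) else 0) ^ 2 ≤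
        ((n χ + c ^ 2 : ℕ) : ℤ) := by exact_mod_cast hBes
    have h1 := le_sq_of_sum (R χ) r
    have h2 : ∑ φ ∈ S₁, (t - if φ = χ₁ then (c : ℤ) else 0) ^ 2 =
        S₁.card * t ^ 2 + ((c : ℤ) ^ 2 - 2 * t * c) := by
      rw [sum_congr rfl fun φ _ => show (t - if φ = χ₁ then (c : ℤ) else 0) ^ 2 =
        t ^ 2 + if φ = χ₁ then (c : ℤ) ^ 2 - 2 * t * c else 0 by split_ifs <;> ring,
        sum_add_distrib, sum_const, nsmul_eq_mul, Finset.sum_ite_eq', if_pos hχ₁]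
    rw [h2] at hB
    rw [← hrsum'] at h1
    rw [← heq] at hB
    push_cast at hB
    have hcpos : (0 : ℤ) < c := by exact_mod_cast (show 0 < c by omega)
    have ht1 : t * (t - 1) ≤ 0 := by nlinarith
    rcases lt_trichotomy t 1 with h | h | h
    · exfalso
      have : t < 0 := lt_of_le_of_ne (by omega) h0
      nlinarith
    · exact h
    · exfalso; nlinarith
  -- the part of `τ (χ - c χ₁)` off the images of `S₁`
  set Y : G → ℂ := ∑ φ ∈ S₁, ((1 - if φ = χ₁ then (c : ℤ) else 0 : ℤ) : ℂ) • σ φ with hY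
  set X : (L → ℂ) → (G → ℂ) := fun χ => τ (χ - (c : ℤ) • χ₁) - Y with hX
  have hYσ : ∀ φ ∈ S₁, classInner Y (σ φ) = ((1 - if φ = χ₁ then (c : ℤ) else 0 : ℤ) : ℂ) := by
    intro φ hφ
    rw [hY, classInner_sum_left, Finset.sum_eq_single φ, classInner_smul_left, hσσ φ hφ φ hφ,
      if_pos rfl, mul_one]
    · intro ψ hψ hne'
      rw [classInner_smul_left, hσσ ψ hψ φ hφ, if_neg hne', mul_zero]
    · exact fun h => absurd hφ h
  have hXσ : ∀ χ ∈ T, ∀ φ ∈ S₁, classInner (X χ) (σ φ) = 0 := fun χ hχ φ hφ => by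
    rw [hX, classInner_sub_left, hcoef χ hχ φ hφ, hYσ φ hφ, sub_self]
  have hXY : ∀ χ ∈ T, classInner (X χ) Y = 0 := fun χ hχ => by
    rw [hY, classInner_sum_right]
    exact Finset.sum_eq_zero fun φ hφ => by rw [classInner_smul_right, hXσ χ hχ φ hφ, mul_zero]
  have hYY : classInner Y Y = (c : ℂ) ^ 2 := by
    conv_lhs => arg 2; rw [hY]
    rw [classInner_sum_right, sum_congr rfl fun φ hφ => by rw [classInner_smul_right, hYσ φ hφ],
      sum_congr rfl fun φ _ => show conj ((1 - if φ = χ₁ then (c : ℤ) else 0 : ℤ) : ℂ) *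
        ((1 - if φ = χ₁ then (c : ℤ) else 0 : ℤ) : ℂ) =
        1 + if φ = χ₁ then (c : ℂ) ^ 2 - 2 * c else 0 by
          rw [map_intCast]; split_ifs <;> push_cast <;> ring,
      sum_add_distrib, sum_const, nsmul_eq_mul, mul_one, Finset.sum_ite_eq', if_pos hχ₁, ← heq]
    push_cast; ring
  have hXX : ∀ χ ∈ T, ∀ ψ ∈ T, classInner (X χ) (X ψ) = if χ = ψ then (n χ : ℂ) else 0 := by
    intro χ hχ ψ hψ
    have e : ∀ χ, τ (χ - (c : ℤ) • χ₁) = X χ + Y := fun χ => (sub_add_cancel _ _).symm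
    have h := hS.isometry.2.2.1 _ (hE χ hχ) _ (hE ψ hψ)
    rw [e χ, e ψ, classInner_add_left, classInner_add_right, classInner_add_right, hXY χ hχ,
      ← conj_classInner (X ψ) Y, hXY ψ hψ, map_zero, hYY, add_zero, zero_add] at h
    simp only [classInner_sub_left, classInner_sub_right, classInner_zsmul_left,
      classInner_zsmul_right] at h
    rw [hS.orthogonal χ (hχS χ hχ) χ₁ (h₁S hχ₁) (hne₂ χ hχ χ₁ hχ₁).1.symm,
      hS.orthogonal χ₁ (h₁S hχ₁) ψ (hχS ψ hψ) (hne₂ ψ hψ χ₁ hχ₁).1, hn χ₁ (h₁S hχ₁),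
      hn1 χ₁ hχ₁] at h
    split_ifs with he'
    · subst he'; rw [hn χ (hχS χ hχ)] at h; push_cast at h; linear_combination h
    · rw [hS.orthogonal χ (hχS χ hχ) ψ (hχS ψ hψ) he'] at h; push_cast at h; linear_combination h
  -- the coefficients of the test function
  obtain ⟨s₁, hs₁⟩ := IsGeneralizedCharacter.exists_int_classInner hβv (hσ.2.2.2 χ₁ (hmem1 χ₁ hχ₁))
  set s : (L → ℂ) → ℤ := fun φ => if φ = χ₁ then s₁ else s₁ + 1 with hs
  have hβσ : ∀ φ ∈ S₁, classInner (τ β) (σ φ) = s φ := by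
    intro φ hφ
    simp only [hs]
    by_cases h : φ = χ₁
    · subst h; rw [if_pos rfl]; exact hs₁
    · rw [if_neg h]
      have h1 := hβiso _ (hsubS φ hφ)
      rw [classInner_sub_left, hβ₁ φ hφ, hβ₁ χ₁ hχ₁, if_neg h, if_pos rfl] at h1
      have h2 : classInner (τ β) (τ (φ - χ₁)) = 1 := by rw [← conj_classInner, h1]; simp
      rw [hστ φ hφ, classInner_sub_right, hs₁] at h2
      push_cast; linear_combination h2
  set x : ℤ := 1 - c * (1 + s₁) with hx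
  have hβX : ∀ χ ∈ T, classInner (τ β) (X χ) = x := by
    intro χ hχ
    have h1 := hβiso _ (hE χ hχ)
    rw [classInner_sub_left, classInner_zsmul_left, (hT χ hχ).2.2, hβ₁ χ₁ hχ₁, if_pos rfl] at h1
    have h2 : classInner (τ β) (τ (χ - (c : ℤ) • χ₁)) = c := by
      rw [← conj_classInner, h1]; simp
    have h3 : classInner (τ β) Y = ((c * s₁ + 2 * c - 1 : ℤ) : ℂ) := by
      rw [hY, classInner_sum_right, sum_congr rfl fun φ hφ => by
        rw [classInner_smul_right, hβσ φ hφ, map_intCast],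
        sum_congr rfl fun φ _ => show ((1 - if φ = χ₁ then (c : ℤ) else 0 : ℤ) : ℂ) * (s φ : ℂ) =
          ((s₁ : ℂ) + 1) + if φ = χ₁ then -((c : ℂ) * s₁) - 1 else 0 by
            rw [hs]; split_ifs <;> simp_all <;> ring,
        sum_add_distrib, sum_const, nsmul_eq_mul, Finset.sum_ite_eq', if_pos hχ₁, ← heq]
      push_cast; ring
    rw [hX, classInner_sub_right, h2, h3, hx]
    push_cast; ring
  have hx0 : (1 : ℝ) ≤ (x : ℝ) ^ 2 := by
    have hx' : x ≠ 0 := fun h => by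
      have h' : (c : ℤ) * (1 + s₁) = 1 := by rw [hx] at h; linarith
      rcases Int.eq_one_or_neg_one_of_mul_eq_one h' with h2 | h2 <;> omega
    have : (1 : ℤ) ≤ x ^ 2 := by rcases lt_or_gt_of_ne hx' with h | h <;> nlinarith
    exact_mod_cast this
  have hs0 : (1 : ℝ) ≤ ∑ φ ∈ S₁, (s φ : ℝ) ^ 2 := by
    obtain ⟨φ, hφ, hφ1⟩ := Finset.exists_mem_ne (s := S₁) (by omega) χ₁
    have : (1 : ℤ) ≤ s χ₁ ^ 2 + s φ ^ 2 := by
      simp only [hs, if_neg hφ1, ↓reduceIte]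
      by_cases h : s₁ = 0
      · subst h; norm_num
      · rcases lt_or_gt_of_ne h with h | h <;> nlinarith
    have h' : (1 : ℝ) ≤ (s χ₁ : ℝ) ^ 2 + (s φ : ℝ) ^ 2 := by exact_mod_cast this
    refine h'.trans ?_
    rw [← sum_pair (f := fun ψ => (s ψ : ℝ) ^ 2) hφ1.symm]
    exact sum_le_sum_of_subset_of_nonneg (by simp [insert_subset_iff, hχ₁, hφ])
      fun _ _ _ => sq_nonneg _
  have hfin := bessel_int (S₁.disjSum T) (Sum.elim σ X) (Sum.elim (fun _ => 1) n)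
    (fun i hi => ?_) (fun i hi j hj => ?_) (τ β) N (by rw [hNN, Int.cast_natCast])
    (Sum.elim s fun _ => x) (fun i hi => ?_)
  rotate_left
  · simp only [Finset.mem_disjSum] at hi
    rcases hi with ⟨y, hy, rfl⟩ | ⟨y, hy, rfl⟩
    · exact Nat.one_pos
    · exact hpos y (hχS y hy)
  · simp only [Finset.mem_disjSum] at hi hj
    rcases hi with ⟨y, hy, rfl⟩ | ⟨y, hy, rfl⟩ <;> rcases hj with ⟨z, hz, rfl⟩ | ⟨z, hz, rfl⟩ <;>
      simp only [Sum.elim_inl, Sum.elim_inr, Sum.inl.injEq, Sum.inr.injEq, reduceCtorEq, if_false,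
        Nat.cast_one]
    · exact hσσ y hy z hz
    · rw [← conj_classInner, hXσ z hz y hy, map_zero]
    · exact hXσ y hy z hz
    · exact hXX y hy z hz
  · simp only [Finset.mem_disjSum] at hi
    rcases hi with ⟨y, hy, rfl⟩ | ⟨y, hy, rfl⟩
    · exact hβσ y hy
    · exact hβX y hy
  rw [Finset.sum_disjSum] at hfin
  simp only [Sum.elim_inl, Sum.elim_inr, Nat.cast_one, div_one, Int.cast_natCast] at hfin
  have hT1 : ∑ χ ∈ T, (1 : ℝ) / n χ ≤ ∑ χ ∈ T, (x : ℝ) ^ 2 / n χ :=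
    sum_le_sum fun χ _ => div_le_div_of_nonneg_right hx0 (Nat.cast_nonneg _)
  linarith

end Cfsg.Agent.OddOrder
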