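import Cfsg.Agent.Lib.OddOrder.PF.S9_Characters
import Cfsg.Agent.Lib.OddOrder.PF.S9_Test
import Cfsg.Agent.Lib.OddOrder.PF.TypeOneCoherence

/-!
Peterfalvi (9.11): the members of `S(H₀ C')` form a coherent set.
-/

set_option autoImplicit false
set_option linter.unusedSectionVars false
set_option linter.style.haveILetI false

namespace Cfsg.Agent.OddOrder.PF

open Cfsg Cfsg.Agent.OddOrder Finset
open scoped commutatorElement ComplexConjugate

universe u

theorem mul_add_two_lt_pow {q : ℕ} (hq : 3 ≤ q) : q * (q + 2) < 3 * 2 ^ q := by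
  induction q, hq using Nat.le_induction with
  | base => norm_num
  | succ n hn ih => rw [pow_succ]; nlinarith

section Abstract

variable {L : Type u} [Group L] [Fintype L]

/-- The permutation character is orthogonal to what is induced from characters not trivial on a
normal subgroup inside the point stabiliser. -/
theorem classInner_indFun_one_eq_zero (K H Y : Subgroup L) [K.Normal] [H.Normal] [Fintype K]
    [Fintype Y] (hHY : H ≤ Y) (θ : IrrCharacter K)
    (hθ : ¬ Char.TrivOn (H.subgroupOf K) θ.1) :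
    classInner (indFun K θ.1) (indFun Y fun _ => (1 : ℂ)) = 0 := by
  classical
  haveI := Fintype.ofFinite (H.subgroupOf K)
  set f := indFun Y fun _ => (1 : ℂ) with hf
  rw [Char.classInner_indFun K θ.1 (Char.isClassFunction_indFun Y _)]
  have hinv : ∀ (k : L) {h : L}, h ∈ H → f (k * h) = f k := by
    intro k h hh
    simp only [hf, indFun]
    congr 1
    refine Finset.sum_congr rfl fun g _ => ?_
    have hg : g⁻¹ * h * g ∈ Y := hHY (by simpa using (‹H.Normal›).conj_mem h hh g⁻¹)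
    have e : g⁻¹ * (k * h) * g = g⁻¹ * k * g * (g⁻¹ * h * g) := by group
    by_cases hk : g⁻¹ * k * g ∈ Y
    · rw [Char.extendByZero_of_mem _ _ hk, Char.extendByZero_of_mem _ _ (e ▸ Y.mul_mem hk hg)]
    · rw [Char.extendByZero_of_notMem _ _ hk, Char.extendByZero_of_notMem _ _ fun h' => hk (by
        rw [e] at h'
        have h'' := Y.mul_mem h' (Y.inv_mem hg)
        rwa [mul_inv_cancel_right] at h'')]
  have key : (Nat.card (H.subgroupOf K) : ℂ) * ∑ k : K, θ.1 k * conj (f k) = 0 := by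
    calc (Nat.card (H.subgroupOf K) : ℂ) * ∑ k : K, θ.1 k * conj (f k)
        = ∑ h : H.subgroupOf K, ∑ k : K, θ.1 (k * h) * conj (f (k * (h : K) : K)) := by
          have e : ∀ h : H.subgroupOf K, ∑ k : K, θ.1 (k * h) * conj (f (k * (h : K) : K)) =
              ∑ k : K, θ.1 k * conj (f k) := fun h =>
            Fintype.sum_equiv (Equiv.mulRight (h : K)) _ _ fun k => rfl
          rw [Finset.sum_congr rfl fun h _ => e h, Finset.sum_const,
            Finset.card_univ, nsmul_eq_mul, Nat.card_eq_fintype_card]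
      _ = ∑ k : K, (∑ h : H.subgroupOf K, θ.1 (k * h)) * conj (f k) := by
          rw [Finset.sum_comm]
          refine Finset.sum_congr rfl fun k _ => ?_
          rw [Finset.sum_mul]
          refine Finset.sum_congr rfl fun h _ => ?_
          rw [show ((k * (h : K) : K) : L) = (k : L) * ((h : K) : L) from rfl,
            hinv k (Subgroup.mem_subgroupOf.1 h.2)]
      _ = 0 := Finset.sum_eq_zero fun k _ => by
          rw [Char.sum_coset_eq_zero_of_not_trivOn _ θ hθ k, zero_mul]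
  rw [classInner, (mul_eq_zero.1 key).resolve_left (Nat.cast_ne_zero.2 Nat.card_pos.ne'), mul_zero]

/-- The norm of a permutation character, by counting. -/
theorem classInner_indFun_one_self (Y : Subgroup L) [Fintype Y] :
    classInner (indFun Y fun _ => (1 : ℂ)) (indFun Y fun _ => (1 : ℂ)) * (Nat.card Y : ℂ) ^ 2 =
      ((∑ g : L, Nat.card ↥(Y ⊓ Y.map (MulAut.conj g).toMonoidHom) : ℕ) : ℂ) := by
  classical
  have hY : (Nat.card Y : ℂ) ≠ 0 := Nat.cast_ne_zero.2 Nat.card_pos.ne'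
  rw [Char.classInner_indFun Y _ (Char.isClassFunction_indFun Y _)]
  have hval : ∀ y : Y, conj (indFun Y (fun _ => (1 : ℂ)) (y : L)) =
      (Nat.card Y : ℂ)⁻¹ * ∑ g : L, if g⁻¹ * y * g ∈ Y then (1 : ℂ) else 0 := by
    intro y
    simp only [indFun, map_mul, map_inv₀, map_natCast, map_sum]
    congr 1
    refine Finset.sum_congr rfl fun g _ => ?_
    split_ifs with hg
    · rw [Char.extendByZero_of_mem _ _ hg, map_one]
    · rw [Char.extendByZero_of_notMem _ _ hg, map_zero]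
  simp only [classInner, one_mul, hval, ← Finset.mul_sum]
  have hcount : ∀ g : L, ∑ y : Y, (if g⁻¹ * y * g ∈ Y then (1 : ℂ) else 0) =
      (Nat.card ↥(Y ⊓ Y.map (MulAut.conj g).toMonoidHom) : ℂ) := by
    intro g
    rw [Finset.sum_boole, ← Fintype.card_subtype, ← Nat.card_eq_fintype_card]
    congr 1
    refine Nat.card_congr
      { toFun := fun y => ⟨y.1.1, y.1.2, g⁻¹ * y.1.1 * g, y.2, by simp [mul_assoc]⟩
        invFun := fun x => ⟨⟨x.1, x.2.1⟩, by
          obtain ⟨z, hz, e⟩ := x.2.2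
          rw [show (x : L) = g * z * g⁻¹ from e.symm]
          simpa [mul_assoc] using hz⟩
        left_inv := fun _ => rfl
        right_inv := fun _ => rfl }
  rw [Finset.sum_comm, Finset.sum_congr rfl fun g _ => hcount g]
  push_cast
  field_simp

end Abstract

namespace NineLine

variable {L : Type u} [Group L] [Fintype L] {K H U W H₀ C : Subgroup L} [H₀.Normal] {p q : ℕ}
  [Fintype K]
variable {H₁ U₁ : Subgroup L} {a : ℕ}
variable (h : Nine K H U W H₀ C p q) (l : NineLine H U W H₀ C H₁ U₁ p q a)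
include h l

/-- A character not trivial on the line of `w` vanishes off `H U_w`. -/
theorem apply_eq_zero {θ : IrrCharacter K} (hθ : IsNineChar K H H₀ C θ) {w : L} (hw : w ∈ W)
    (hnt : ¬ Char.TrivOn ((nineLineAt H₁ w).subgroupOf K) θ.1) {x : K}
    (hx : (x : L) ∉ H ⊔ modCent U (nineLineAt H₁ w) H₀) : θ.1 x = 0 := by
  classical
  haveI := h.A_normal
  haveI := h.H_normal
  obtain ⟨η, f, hη, hf, hN⟩ := h.exists_over_hom hθ
  have hnt' : ¬ Char.TrivOn ((nineLineAt H₁ w).subgroupOf (H ⊔ C)) η.1 := fun h' => hnt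
    (trivOn_of_over (H ⊔ C) h.A_le_K hη ((lineAt_le h l w).trans le_sup_left)
      (normalizer_lineAt_K h l hw) h')
  haveI := Fintype.ofFinite ((H ⊔ C).subgroupOf K)
  haveI := Fintype.ofFinite (Char.inertia ((H ⊔ C).subgroupOf K) (Char.liftSub (H ⊔ C) h.A_le_K η).1)
  obtain ⟨ψ, e, -, -, hind⟩ := Char.exists_inertia_character ((H ⊔ C).subgroupOf K) θ
    (Char.liftSub (H ⊔ C) h.A_le_K η) ((Char.over_iff_liftSub _ _ _ _).1 hη)
  rw [← hind]
  refine Char.indFun_eq_zero_of_forall_notMem _ _ fun g hg => hx ?_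
  haveI := modCent_sup_normal h l w
  set Y := H ⊔ modCent U (nineLineAt H₁ w) H₀
  have hI : ∀ k : K, k ∈ Char.inertia ((H ⊔ C).subgroupOf K) (Char.liftSub (H ⊔ C) h.A_le_K η).1 →
      (k : L) ∈ Y := by
    intro k hk
    rw [Char.mem_inertia, ← Char.conjChar_coe, ← Subtype.ext_iff, Char.liftSub_conjChar,
      (Char.liftSub (H ⊔ C) h.A_le_K).injective.eq_iff] at hk
    obtain ⟨b, hb, c, hc, ek, hcI⟩ := h.inertia_part η
      (⟨congrArg Subtype.val hk, k.2⟩ : (k : L) ∈ Char.inertia (H ⊔ C) η.1 ⊓ K)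
    rw [ek]
    exact Subgroup.mul_mem _ (Subgroup.mem_sup_left hb) (Subgroup.mem_sup_right
      (inertia_le_line h l hf (fun y hy => hN y (Subgroup.mem_sup_left hy)) hw hnt' hc hcI))
  have hn : (Y.subgroupOf K).Normal := inferInstance
  have h1 := hn.conj_mem _
    (Subgroup.mem_subgroupOf.2 (hI _ hg)) g
  simpa [Subgroup.mem_subgroupOf, mul_assoc] using h1

end NineLine

variable {G : Type u} [Group G] [Fintype G] {M : Subgroup G} [Fintype M]

/-- Peterfalvi (9.11). -/
theorem Nine.isCoherent {A : Set G} {R : G → Subgroup G} (hD : DadeHypothesis A M R)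
    {K H U W H₀ C : Subgroup M} [H₀.Normal] {p q : ℕ} (h : Nine K H U W H₀ C p q)
    (hcases : NineGalois H U H₀ ∨ ∃ H₁ U₁ a, NineLine H U W H₀ C H₁ U₁ p q a)
    (hA : ∀ x : M, x ∈ K → x ≠ 1 → (∃ z ∈ H, z ≠ 1 ∧ x * z = z * x) → (x : G) ∈ A)
    {Rs : (M → ℂ) → Finset (G → ℂ)}
    (hS : IsCoherenceSystem (inducedNonTriv K H) (dadeIsometry A M R) Rs) :
    IsCoherent (inducedNonTriv K H ∩ inducedIrrAbove K (H₀ ⊔ ⁅C, C⁆)) {1}ᶜ
      (dadeIsometry A M R) := by
  classical
  haveI := h.K_normal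
  haveI := h.H_normal
  haveI := h.N_normal
  haveI : Fintype K := Fintype.ofFinite _
  set S := inducedNonTriv K H
  set U₀ := S ∩ inducedIrrAbove K (H₀ ⊔ ⁅C, C⁆) with hU₀
  set τ := dadeIsometry A M R
  set u := C.relIndex U with hu
  have hUS : U₀ ⊆ S := Set.inter_subset_left
  have hUc : ∀ φ ∈ U₀, Cfsg.conjFun φ ∈ U₀ := fun φ hφ =>
    ⟨hS.conj_mem φ hφ.1, conj_mem_inducedIrrAbove K hφ.2⟩
  have hmemP : ∀ {φ}, φ ∈ U₀ ↔ ∃ θ ∈ nineChars K H H₀ C, φ = indFun K θ.1 := fun {φ} =>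
    h.mem_section_iff
  obtain ⟨d, n, hd, hn⟩ := system_natural hS
  have hU_of : ∀ {θ : IrrCharacter K}, θ ∈ nineChars K H H₀ C → indFun K θ.1 ∈ U₀ := fun hθ =>
    hmemP.2 ⟨_, hθ, rfl⟩
  have hdθ : ∀ {θ : IrrCharacter K}, θ ∈ nineChars K H H₀ C →
      d (indFun K θ.1) = q * charDegree θ.1 := by
    intro θ hθ
    apply Nat.cast_injective (R := ℂ)
    rw [← hd _ (hUS (hU_of hθ)), Char.indFun_apply_one, h.index_K, Nat.cast_mul, Char.charDegree_cast]
  have hUne : U₀.Nonempty := by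
    obtain ⟨θ, hθ⟩ := h.nineChars_nonempty
    exact ⟨_, hU_of hθ⟩
  have hconst : (∀ θ ∈ nineChars K H H₀ C, charDegree θ.1 = u) → IsCoherent U₀ {1}ᶜ τ := by
    intro hall
    refine isCoherent_of_const_degree (system_subset hS hUS hUne hUc) fun φ hφ ψ hψ => ?_
    obtain ⟨θ, hθ, rfl⟩ := hmemP.1 hφ
    obtain ⟨θ', hθ', rfl⟩ := hmemP.1 hψ
    rw [hd _ (hUS hφ), hd _ (hUS hψ), hdθ hθ, hdθ hθ', hall θ hθ, hall θ' hθ']
  rcases hcases with hgal | ⟨H₁, U₁, a, l⟩
  · exact hconst fun θ hθ => h.degree_galois hgal (mem_nineChars.1 hθ)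
  have hapos : 0 < a := by have := l.one_lt_a; omega
  have hupos : 0 < u := h.C_relIndex_pos
  obtain ⟨c, hc⟩ := NineLine.a_dvd_u h l
  change u = a * c at hc
  by_cases hua : u = a
  · refine hconst fun θ hθ => Nat.dvd_antisymm (h.degree_dvd (mem_nineChars.1 hθ)) ?_
    exact hua.symm ▸ NineLine.a_dvd_degree h l (mem_nineChars.1 hθ)
  have hau : a < u := lt_of_le_of_ne (Nat.le_of_dvd hupos ⟨c, hc⟩) (Ne.symm hua)
  have hqpos : 0 < q := h.q_prime.pos
  -- the members of degree `q a`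
  set P₁ := (nineChars K H H₀ C).filter fun θ => charDegree θ.1 = a with hP₁
  set S₁ : Finset (M → ℂ) := P₁.image fun θ => indFun K θ.1 with hS₁
  have hPconj : ∀ k : ℕ, ∀ θ ∈ (nineChars K H H₀ C).filter (fun θ => charDegree θ.1 = k), ∀ g,
      Char.conjChar K θ g ∈ (nineChars K H H₀ C).filter (fun θ => charDegree θ.1 = k) := by
    intro k θ hθ g
    rw [Finset.mem_filter] at hθ ⊢
    refine ⟨mem_nineChars.2 (h.conjChar_nineChar (mem_nineChars.1 hθ.1) g), ?_⟩
    rw [← hθ.2]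
    apply Nat.cast_injective (R := ℂ)
    rw [Char.charDegree_cast, Char.charDegree_cast, Char.conjChar_coe, Char.conjFun_apply_one]
  have hS₁mem : ∀ φ, φ ∈ S₁ ↔ φ ∈ U₀ ∧ d φ = q * a := by
    intro φ
    rw [hS₁, Finset.mem_image]
    constructor
    · rintro ⟨θ, hθ, rfl⟩
      rw [hP₁, Finset.mem_filter] at hθ
      exact ⟨hU_of hθ.1, by rw [hdθ hθ.1, hθ.2]⟩
    · rintro ⟨hφ, hdφ⟩
      obtain ⟨θ, hθ, rfl⟩ := hmemP.1 hφ
      rw [hdθ hθ] at hdφ
      exact ⟨θ, Finset.mem_filter.2 ⟨hθ, Nat.eq_of_mul_eq_mul_left hqpos hdφ⟩, rfl⟩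
  have h₁U : ↑S₁ ⊆ U₀ := fun φ hφ => ((hS₁mem φ).1 hφ).1
  have hd₁ : ∀ φ ∈ S₁, d φ = q * a := fun φ hφ => ((hS₁mem φ).1 hφ).2
  have hS₁c : ∀ φ ∈ S₁, Cfsg.conjFun φ ∈ S₁ := by
    intro φ hφ
    have hU' := h₁U hφ
    refine (hS₁mem _).2 ⟨hUc φ hU', ?_⟩
    rw [← hd₁ φ hφ]
    apply Nat.cast_injective (R := ℂ)
    rw [← hd _ (hUS (hUc φ hU')), ← hd _ (hUS hU'), conjFun_apply_one hS (hUS hU')]
  have hirr₁ : ∀ θ ∈ P₁, IsIrrCharacter M (indFun K θ.1) := fun θ hθ => by
    rw [hP₁, Finset.mem_filter] at hθ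
    exact NineLine.isIrrCharacter_indFun h l (mem_nineChars.1 hθ.1) (by rw [hθ.2]; exact hau.ne)
  have hn₁ : ∀ φ ∈ S₁, n φ = 1 := by
    intro φ hφ
    obtain ⟨θ, hθ, rfl⟩ := Finset.mem_image.1 hφ
    have h1 := hn _ (hUS (h₁U hφ))
    rw [Char.classInner_irr_self (hirr₁ θ hθ)] at h1
    exact_mod_cast h1.symm
  have hsumP : ∀ k : ℕ, ∑ φ ∈ ((nineChars K H H₀ C).filter (fun θ => charDegree θ.1 = k)).image
      (fun θ => indFun K θ.1), ((d φ : ℝ) ^ 2 / (n φ : ℝ)) =
      (q : ℝ) * ((((nineChars K H H₀ C).filter (fun θ => charDegree θ.1 = k)).card : ℝ) * k ^ 2) := by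
    intro k
    rw [sum_sq_div_norm K _ (hPconj k) d n
      (fun θ hθ => hd _ (hUS (hU_of (Finset.mem_filter.1 hθ).1)))
      (fun θ hθ => hn _ (hUS (hU_of (Finset.mem_filter.1 hθ).1))), h.index_K,
      Finset.sum_congr rfl fun θ hθ => by rw [(Finset.mem_filter.1 hθ).2], Finset.sum_const,
      nsmul_eq_mul]
  have hcard : 2 * c ≤ S₁.card := by
    have h1 := hsumP a
    rw [← hP₁, ← hS₁, Finset.sum_congr rfl fun φ hφ => by rw [hd₁ φ hφ, hn₁ φ hφ, Nat.cast_one, div_one],
      Finset.sum_const, nsmul_eq_mul] at h1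
    have h2 := NineLine.le_card_degree_a h l
    rw [← hP₁, Finset.sum_congr rfl fun θ hθ => by rw [(Finset.mem_filter.1 hθ).2],
      Finset.sum_const, smul_eq_mul] at h2
    have h1' : S₁.card * (q * a) ^ 2 = q * (P₁.card * a ^ 2) := by exact_mod_cast h1
    change q * (2 * a * u) ≤ P₁.card * a ^ 2 at h2
    have hpos : 0 < q * q * a * a := by positivity
    refine Nat.le_of_mul_le_mul_right ?_ hpos
    rw [hc] at h2
    calc 2 * c * (q * q * a * a) = q * (q * (2 * a * (a * c))) := by ring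
      _ ≤ q * (P₁.card * a ^ 2) := Nat.mul_le_mul_left q h2
      _ = S₁.card * (q * q * a * a) := by rw [← h1']; ring
  have hcpos : 0 < c := Nat.pos_of_ne_zero fun e => hupos.ne' (by rw [hc, e, mul_zero])
  have hS₁ne : S₁.Nonempty := Finset.card_pos.1 (by omega)
  refine isCoherent_of_borderTest hS d n hd hn S₁ U₀ hUS h₁U hS₁c hUc hS₁ne (e := q * a) (c := c)
    hd₁ hn₁ hcard ?_ fun _ _ => ?_
  · intro χ hχ
    obtain ⟨θ, hθ, rfl⟩ := hmemP.1 hχ
    rw [hdθ hθ, mul_assoc, ← hc]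
    exact ⟨Nat.mul_dvd_mul_left q (NineLine.a_dvd_degree h l (mem_nineChars.1 hθ)),
      Nat.mul_le_mul_left q (h.degree_le (mem_nineChars.1 hθ))⟩
  -- the test function
  obtain ⟨φ₁, hφ₁⟩ := hS₁ne
  obtain ⟨θ₁, hθ₁, rfl⟩ := Finset.mem_image.1 hφ₁
  have hθ₁' := mem_nineChars.1 (Finset.mem_filter.1 hθ₁).1
  obtain ⟨w, hw, hnt⟩ : ∃ w ∈ W, ¬ Char.TrivOn ((nineLineAt H₁ w).subgroupOf K) θ₁.1 := by
    by_contra! hcon
    exact hθ₁'.1 (NineLine.not_trivOn_of_lines h l hcon)
  set Y := H ⊔ modCent U (nineLineAt H₁ w) H₀ with hY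
  haveI : Fintype Y := Fintype.ofFinite _
  have hYK : Y ≤ K := sup_le h.H_le_K ((modCent_le _ _ _).trans h.U_le_K)
  set f₁ := indFun Y (fun _ => (1 : ℂ)) with hf₁
  set χ₁ := indFun K θ₁.1 with hχ₁
  set β : M → ℂ := f₁ - χ₁ with hβ
  have hf₁c : IsCharacter M f₁ := Char.isCharacter_indFun Y
    (Char.irr_isCharacter (Char.trivialChar Y))
  have hχ₁c : IsCharacter M χ₁ := Char.isCharacter_indFun K (Char.irr_isCharacter θ₁)
  have hβgen : IsGeneralizedCharacter M β := Char.IsGeneralizedCharacter.sub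
    (Char.IsCharacter.isGeneralized hf₁c) (Char.IsCharacter.isGeneralized hχ₁c)
  have hYidx : Y.index = q * a := by
    rw [← Subgroup.relIndex_mul_index hYK, NineLine.relIndex_modCent_sup h l hw, h.index_K, mul_comm]
  have hβA : ∀ x : M, (x : G) ∉ A → β x = 0 := by
    intro x hx
    by_cases hx1 : x = 1
    · subst hx1
      rw [hβ, Pi.sub_apply, hf₁, hχ₁, Char.indFun_apply_one, Char.indFun_apply_one, hYidx, h.index_K,
        ← Char.charDegree_cast, (Finset.mem_filter.1 hθ₁).2, mul_one, Nat.cast_mul, sub_self]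
    have hconj : ∀ g : M, g⁻¹ * x * g ∉ Y := by
      intro g hg
      obtain ⟨z, hz, hz1, hzc⟩ := NineLine.exists_commute h l hw hg
      refine hx (hA x ?_ hx1 ⟨g * z * g⁻¹, h.H_normal.conj_mem z hz g,
        fun e => hz1 (conj_eq_one_iff.1 e), ?_⟩)
      · simpa [mul_assoc] using h.K_normal.conj_mem _ (hYK hg) g
      · calc x * (g * z * g⁻¹) = g * (g⁻¹ * x * g * z) * g⁻¹ := by group
          _ = g * (z * (g⁻¹ * x * g)) * g⁻¹ := by rw [hzc]
          _ = g * z * g⁻¹ * x := by group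
    rw [hβ, Pi.sub_apply, hf₁, Char.indFun_eq_zero_of_forall_notMem _ _ hconj, zero_sub, neg_eq_zero,
      hχ₁]
    simp only [indFun]
    refine mul_eq_zero_of_right _ (Finset.sum_eq_zero fun g _ => ?_)
    by_cases hgK : g⁻¹ * x * g ∈ K
    · rw [Char.extendByZero_of_mem _ _ hgK]
      exact NineLine.apply_eq_zero h l hθ₁' hw hnt (x := ⟨_, hgK⟩) (hconj g)
    · exact Char.extendByZero_of_notMem _ _ hgK
  have hβclass : IsClassFunction M β := Char.IsGeneralizedCharacter.isClassFunction hβgen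
  have horth : ∀ θ ∈ nineChars K H H₀ C, classInner (indFun K θ.1) f₁ = 0 := fun θ hθ =>
    classInner_indFun_one_eq_zero K H Y le_sup_left θ (mem_nineChars.1 hθ).1
  obtain ⟨m, hm⟩ := Char.IsCharacter.exists_nat_classInner hf₁c hf₁c
  have hmle : 3 * m ≤ a * (q + 2) := by
    have h1 := classInner_indFun_one_self Y
    rw [← hf₁, hm] at h1
    have h1' : m * Nat.card Y ^ 2 = ∑ g : M, Nat.card ↥(Y ⊓ Y.map (MulAut.conj g).toMonoidHom) := by
      exact_mod_cast h1
    have hb : ∀ g : M, 3 * Nat.card ↥(Y ⊓ Y.map (MulAut.conj g).toMonoidHom) ≤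
        Nat.card Y * if g ∈ K then 3 else 1 := by
      intro g
      split_ifs with hg
      · rw [mul_comm]; exact Nat.mul_le_mul_right 3 (Subgroup.card_le_of_le inf_le_left)
      · set D := Y ⊓ Y.map (MulAut.conj g).toMonoidHom with hD'
        have hDY : D ≤ Y := inf_le_left
        have hmul := Subgroup.relIndex_mul_relIndex ⊥ D Y bot_le hDY
        simp only [Subgroup.relIndex_bot_left] at hmul
        have hne : D.relIndex Y ≠ 1 := fun e => by
          have hle : Y ≤ Y.map (MulAut.conj g).toMonoidHom :=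
            (Subgroup.relIndex_eq_one.1 e).trans inf_le_right
          exact NineLine.conj_modCent_sup_ne h l hw hau hg (Subgroup.eq_of_le_of_card_ge hle
            (le_of_eq (Nat.card_congr (Y.equivMapOfInjective _
              (MulAut.conj g).injective).toEquiv).symm)).symm
        have hodd : Odd (D.relIndex Y) := h.odd.of_dvd_nat
          ((Subgroup.relIndex_dvd_card D Y).trans Y.card_subgroup_dvd_card)
        have h3 : 3 ≤ D.relIndex Y := by obtain ⟨k, hk⟩ := hodd; omega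
        calc 3 * Nat.card D ≤ D.relIndex Y * Nat.card D := Nat.mul_le_mul_right _ h3
          _ = Nat.card Y * 1 := by rw [mul_one, mul_comm]; exact hmul
    have h2 : 3 * (m * Nat.card Y ^ 2) ≤ Nat.card Y * ∑ g : M, if g ∈ K then 3 else 1 := by
      rw [h1', Finset.mul_sum, Finset.mul_sum]
      exact Finset.sum_le_sum fun g _ => hb g
    have hKc : (Finset.univ.filter fun g : M => g ∈ K).card = Nat.card K := by
      rw [Nat.card_eq_fintype_card, Fintype.card_subtype]
    have hKc' : (Finset.univ.filter fun g : M => g ∉ K).card = Nat.card K * (q - 1) := by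
      have := Finset.card_filter_add_card_filter_not (s := (Finset.univ : Finset M)) (fun g => g ∈ K)
      rw [hKc, Finset.card_univ, ← Nat.card_eq_fintype_card, ← K.card_mul_index, h.index_K] at this
      rw [Nat.mul_sub, mul_one]; omega
    rw [Finset.sum_ite, Finset.sum_const, Finset.sum_const, hKc, hKc', smul_eq_mul, smul_eq_mul] at h2
    have hKY : Nat.card K = Nat.card Y * a := by
      have := Subgroup.relIndex_mul_relIndex ⊥ Y K bot_le hYK
      simp only [Subgroup.relIndex_bot_left] at this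
      rw [← this, NineLine.relIndex_modCent_sup h l hw]
    rw [hKY, mul_one] at h2
    refine Nat.le_of_mul_le_mul_right ?_
      (Nat.mul_pos (Nat.card_pos (α := Y)) (Nat.card_pos (α := Y)))
    calc 3 * m * (Nat.card Y * Nat.card Y) = 3 * (m * Nat.card Y ^ 2) := by ring
      _ ≤ Nat.card Y * (Nat.card Y * a * 3 + Nat.card Y * a * (q - 1)) := h2
      _ = a * (3 + (q - 1)) * (Nat.card Y * Nat.card Y) := by ring
      _ = a * (q + 2) * (Nat.card Y * Nat.card Y) := by rw [show 3 + (q - 1) = q + 2 by omega]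
  set P₂ := (nineChars K H H₀ C).filter fun θ => charDegree θ.1 = u with hP₂
  set T : Finset (M → ℂ) := P₂.image fun θ => indFun K θ.1 with hT
  have hTmem : ∀ χ ∈ T, χ ∈ U₀ ∧ d χ = q * a * c := by
    intro χ hχ
    obtain ⟨θ, hθ, rfl⟩ := Finset.mem_image.1 hχ
    rw [hP₂, Finset.mem_filter] at hθ
    exact ⟨hU_of hθ.1, by rw [hdθ hθ.1, hθ.2, hc, mul_assoc]⟩
  have hTS₁ : ∀ χ ∈ T, χ ∉ S₁ := fun χ hχ h' => by
    have e1 := (hTmem χ hχ).2
    rw [hd₁ χ h', mul_assoc] at e1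
    exact hua (hc ▸ (Nat.eq_of_mul_eq_mul_left hqpos e1).symm)
  refine ⟨⟨χ₁, hφ₁, T, β, m + 1, ?_, ?_, ?_, ?_, fun χ hχ => (hTmem χ hχ).1, ?_, ?_⟩⟩
  · exact isGeneralizedCharacter_dadeIsometry hD hβgen hβA
  · rw [classInner_dade_dade hD hβclass hβA hβclass, hβ]
    simp only [Char.classInner_sub_left, Char.classInner_sub_right]
    have e1 : classInner f₁ χ₁ = 0 := by
      rw [← Char.conj_classInner, horth θ₁ (Finset.mem_filter.1 hθ₁).1, map_zero]
    rw [hm, e1, horth θ₁ (Finset.mem_filter.1 hθ₁).1, Char.classInner_irr_self (hirr₁ θ₁ hθ₁)]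
    push_cast; ring
  · intro α hα
    have hgen : IsGeneralizedCharacter M α := by
      have h0 := hα.1
      clear hα
      induction h0 using Submodule.span_induction with
      | mem y hy => exact Char.IsCharacter.isGeneralized (hS.isCharacter y hy)
      | zero => exact Char.IsGeneralizedCharacter.zero
      | add s t _ _ hs ht => exact Char.IsGeneralizedCharacter.add hs ht
      | smul k s _ hs =>
        rw [← Int.cast_smul_eq_zsmul ℂ]
        exact Char.IsGeneralizedCharacter.intCast_smul hs k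
    rw [← Char.conj_classInner, classInner_dade_dade hD hβclass hβA
      (Char.IsGeneralizedCharacter.isClassFunction hgen), Char.conj_classInner]
  · intro φ hφ
    obtain ⟨θ, hθ, rfl⟩ := Finset.mem_image.1 hφ
    rw [hβ, Char.classInner_sub_right, horth θ (Finset.mem_filter.1 hθ).1]
    split_ifs with he
    · rw [he, hχ₁, Char.classInner_irr_self (hirr₁ θ₁ hθ₁), zero_sub]
    · rw [Char.classInner_irr_of_ne (hirr₁ θ hθ) (hirr₁ θ₁ hθ₁) he, sub_zero]
  · intro χ hχ
    refine ⟨hTS₁ χ hχ, (hTmem χ hχ).2, ?_⟩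
    obtain ⟨θ, hθ, rfl⟩ := Finset.mem_image.1 hχ
    rw [hβ, Char.classInner_sub_right, horth θ (Finset.mem_filter.1 hθ).1,
      hS.orthogonal _ (hUS (hTmem _ hχ).1) χ₁ (hUS (h₁U hφ₁)) fun e => hTS₁ _ hχ (e ▸ hφ₁), sub_zero]
  · have h1 := hsumP u
    rw [← hP₂, ← hT] at h1
    have h1' : ∑ φ ∈ T, (1 : ℝ) / n φ = (P₂.card : ℝ) / q := by
      have e : ∑ φ ∈ T, (d φ : ℝ) ^ 2 / n φ = ((q : ℝ) * u) ^ 2 * ∑ φ ∈ T, (1 : ℝ) / n φ := by
        rw [Finset.mul_sum]
        refine Finset.sum_congr rfl fun φ hφ => ?_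
        rw [(hTmem φ hφ).2, mul_assoc, ← hc]
        push_cast; ring
      rw [e] at h1
      have hq0 : (q : ℝ) ≠ 0 := Nat.cast_ne_zero.2 hqpos.ne'
      have hu0 : (u : ℝ) ≠ 0 := Nat.cast_ne_zero.2 hupos.ne'
      field_simp at h1 ⊢
      linear_combination h1
    have hP₂card : 2 ^ q * a ≤ P₂.card := by
      have h2 := NineLine.le_card_degree_u h l
      change (p - 1) ^ q ≤ u * P₂.card at h2
      have h3 : (2 * a) ^ q ≤ (p - 1) ^ q := Nat.pow_le_pow_left (NineLine.two_mul_a_le h l) q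
      have h4 : u * P₂.card ≤ a ^ (q - 1) * P₂.card := Nat.mul_le_mul_right _ l.U_mod_C_le
      refine Nat.le_of_mul_le_mul_left ?_ (pow_pos hapos (q - 1))
      calc a ^ (q - 1) * (2 ^ q * a) = 2 ^ q * (a ^ (q - 1) * a) := by ring
        _ = (2 * a) ^ q := by rw [← pow_succ, Nat.sub_add_cancel h.q_prime.one_le, mul_pow]
        _ ≤ _ := (h3.trans h2).trans h4
    rw [h1', Nat.cast_add, Nat.cast_one, add_comm, add_lt_add_iff_left,
      lt_div_iff₀ (Nat.cast_pos.2 hqpos)]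
    have hlt : 3 * (m * q) < 3 * P₂.card := by
      calc 3 * (m * q) = 3 * m * q := by ring
        _ ≤ a * (q + 2) * q := Nat.mul_le_mul_right q hmle
        _ = a * (q * (q + 2)) := by ring
        _ < a * (3 * 2 ^ q) := Nat.mul_lt_mul_of_pos_left (mul_add_two_lt_pow h.three_le_q) hapos
        _ = 3 * (2 ^ q * a) := by ring
        _ ≤ 3 * P₂.card := Nat.mul_le_mul_left 3 hP₂card
    exact_mod_cast Nat.lt_of_mul_lt_mul_left hlt

/-- Peterfalvi (9.11) for a maximal subgroup not of Type I. -/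
theorem isCoherent_calSFAbove (B : BGFacts G) (hM : IsCoatom M) (hI : ¬ IsOfTypeI' M)
    {U W H₀ C : Subgroup M} [H₀.Normal] {p q : ℕ}
    (h : Nine (commutator ↥M) (fittingHall ↥M) U W H₀ C p q)
    (hcases : NineGalois (fittingHall ↥M) U H₀ ∨
      ∃ H₁ U₁ a, NineLine (fittingHall ↥M) U W H₀ C H₁ U₁ p q a)
    {Rs : (M → ℂ) → Finset (G → ℂ)} (hS : IsCoherenceSystem (calSF M) (ftTau M) Rs) :
    IsCoherent (calSFAbove M (H₀ ⊔ ⁅C, C⁆)) {1}ᶜ (ftTau M) :=
  Nine.isCoherent (A := typeA0' M) (R := supportR M)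
    (dadeHypothesis_typeSet B hM (Or.inr (Or.inr rfl))) h hcases
    (fun x hx hx1 hz => by
      obtain ⟨z, hz, hz1, hzc⟩ := hz
      refine typeA_subset_typeA0 ?_
      rw [typeA', if_neg hI]
      refine ⟨?_, fun e => hx1 (Subtype.ext e), (z : G),
        fittingHallOf_le_typeCore B hM (Subgroup.mem_map_of_mem _ hz),
        fun e => hz1 (Subtype.ext e), congrArg Subtype.val hzc⟩
      rw [← Subgroup.map_subtype_commutator]
      exact Subgroup.mem_map_of_mem _ hx)
    hS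

end Cfsg.Agent.OddOrder.PF
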