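import Cfsg.Agent.Lib.OddOrder.PF.Setting

/-!
The configuration of Peterfalvi 9 for a subgroup of Type II, III or IV, stated inside an abstract
finite group `L`: a chief factor `H / H₀` of order `p ^ q` below the Hall kernel `H`, the centraliser
`C` of this factor in the complement `U`, and, in the case where `U` does not act irreducibly, the
line `H₁ / H₀` whose conjugates under `W` span the factor.
-/

set_option autoImplicit false

namespace Cfsg.Agent.OddOrder.PF

open Cfsg Cfsg.Agent.OddOrder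

variable {L : Type*} [Group L]

/-- The elements of `U` centralising `X` modulo the normal subgroup `N`. -/
def modCent (U X N : Subgroup L) [N.Normal] : Subgroup L :=
  U ⊓ (Subgroup.centralizer (X.map (QuotientGroup.mk' N) : Set (L ⧸ N))).comap (QuotientGroup.mk' N)

open scoped commutatorElement in
theorem mem_modCent {U X N : Subgroup L} [N.Normal] {u : L} :
    u ∈ modCent U X N ↔ u ∈ U ∧ ∀ x ∈ X, ⁅u, x⁆ ∈ N := by
  simp only [modCent, Subgroup.mem_inf, Subgroup.mem_comap, Subgroup.mem_centralizer_iff,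
    Subgroup.coe_map, Set.forall_mem_image, SetLike.mem_coe]
  refine and_congr Iff.rfl (forall₂_congr fun x _ => ?_)
  rw [← QuotientGroup.eq_one_iff (N := N), ← QuotientGroup.mk'_apply, map_commutatorElement,
    commutatorElement_eq_one_iff_mul_comm]
  exact eq_comm

/-- The configuration of Peterfalvi 9: `L = K ⋊ W`, `K = H ⋊ U`, and a factor `H / H₀` of order
`p ^ q`, on which `W` has exactly `p` fixed points, with centraliser `C` in `U`. -/
structure Nine (K H U W H₀ C : Subgroup L) [H₀.Normal] (p q : ℕ) : Prop where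
  p_prime : p.Prime
  q_prime : q.Prime
  odd : Odd (Nat.card L)
  K_normal : K.Normal
  H_normal : H.Normal
  card_W : Nat.card W = q
  K_inf_W : K ⊓ W = ⊥
  K_sup_W : K ⊔ W = ⊤
  K_coprime : (Nat.card K).Coprime q
  H_hall : (Nat.card H).Coprime H.index
  H_inf_U : H ⊓ U = ⊥
  H_sup_U : H ⊔ U = K
  W_normalizes : W ≤ Subgroup.normalizer (U : Set L)
  W_fpf : ∀ w ∈ W, w ≠ 1 → ∀ u ∈ U, w * u = u * w → u = 1
  H₀_le : H₀ ≤ H
  factor_comm : ⁅H, H⁆ ≤ H₀
  factor_pow : ∀ x ∈ H, x ^ p ∈ H₀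
  factor_card : H₀.relIndex H = p ^ q
  factor_chief : ∀ Y : Subgroup L, Y.Normal → H₀ ≤ Y → Y ≤ H → Y = H₀ ∨ Y = H
  factor_fixed : H₀.relIndex (H₀ ⊔ (H ⊓ Subgroup.centralizer (W : Set L))) = p
  C_eq : C = modCent U H H₀
  C_lt : C < U
  derived_U_le : ⁅U, U⁆ ≤ C

/-- `U` acts irreducibly on the factor `H / H₀` ("Galois"). -/
def NineGalois (H U H₀ : Subgroup L) : Prop :=
  ∀ X : Subgroup L, H₀ ≤ X → X ≤ H → U ≤ Subgroup.normalizer (X : Set L) → X = H₀ ∨ X = H

/-- The case where `U` is reducible on `H / H₀`: a line `H₁ / H₀` stabilised by `U`, with centraliser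
`U₁` of index `a`, whose `W`-conjugates span the factor. -/
structure NineLine (H U W H₀ C H₁ U₁ : Subgroup L) [H₀.Normal] (p q a : ℕ) : Prop where
  H₀_le : H₀ ≤ H₁
  le_H : H₁ ≤ H
  U_normalizes : U ≤ Subgroup.normalizer (H₁ : Set L)
  line_card : H₀.relIndex H₁ = p
  span : ⨆ w ∈ W, H₁.map (MulAut.conj w).toMonoidHom = H
  U₁_eq : U₁ = modCent U H₁ H₀
  a_eq : U₁.relIndex U = a
  one_lt_a : 1 < a
  a_dvd : a ∣ p - 1
  U_mod_C_le : C.relIndex U ≤ a ^ (q - 1)

end Cfsg.Agent.OddOrder.PF
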